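import Cfsg.Statements.S0600
import Cfsg.Agent.Lib.Hall.Basic

set_option autoImplicit false
open Cfsg Subgroup
open scoped Pointwise commutatorElement

namespace Cfsg.Agent.S0600

/-- A normal elementary abelian p-subgroup generated by the fixed points of the Sylow p-subgroups admits no nontrivial normal p-subgroup of G modulo its centralizer. -/
theorem result {G : Type*} [Group G] [Finite G] {p : ℕ} [Fact p.Prime] (V : Subgroup G) [V.Normal] (hV : Cfsg.IsElementaryAbelian p V) (hgen : V = ⨆ S : Sylow p G, V ⊓ Subgroup.centralizer ((S : Subgroup G) : Set G)) : Cfsg.pCore p (G ⧸ Subgroup.centralizer (V : Set G)) = ⊥ := by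
  rw [eq_bot_iff]
  intro q hq
  obtain ⟨g, rfl⟩ := QuotientGroup.mk'_surjective _ q
  rw [mem_bot, QuotientGroup.mk'_apply, QuotientGroup.eq_one_iff]
  refine mem_centralizer_iff.mpr fun v hv => ?_
  have hle : V ≤ centralizer ({g} : Set G) := by
    refine hgen.le.trans (iSup_le fun S w hw => ?_)
    have hS := Cfsg.Agent.Lib.Hall.pCore_le_sylow
      (S.mapSurjective (QuotientGroup.mk'_surjective (centralizer (V : Set G)))) hq
    obtain ⟨s, hs, hsg⟩ := hS
    obtain ⟨c, hc, rfl⟩ : ∃ c ∈ centralizer (V : Set G), s * c = g :=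
      ⟨s⁻¹ * g, (QuotientGroup.eq).mp hsg, mul_inv_cancel_left s g⟩
    rw [mem_centralizer_singleton_iff]
    have h1 : Commute s w := mem_centralizer_iff.mp hw.2 s hs
    have h2 : Commute c w := (mem_centralizer_iff.mp hc w hw.1).symm
    exact (h1.mul_left h2).symm.eq
  exact mem_centralizer_singleton_iff.mp (hle hv)

end Cfsg.Agent.S0600
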