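import Cfsg.Statements.S0601
import Cfsg.Agent.Lib.Hall.Basic
import Cfsg.Agent.Lib.Thompson.Elementary
import Cfsg.Agent.S0600

set_option autoImplicit false
open Cfsg Subgroup
open scoped Pointwise commutatorElement

namespace Cfsg.Agent.S0601

universe u

theorem conj_omega {G : Type u} [Group G] {p : ℕ} (g : G) (P : Subgroup G) :
    (omegaOne p (P ⊓ centralizer (P : Set G))).map (MulAut.conj g).toMonoidHom ≤
      omegaOne p (P.map (MulAut.conj g).toMonoidHom ⊓
        centralizer ((P.map (MulAut.conj g).toMonoidHom : Subgroup G) : Set G)) := by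
  rw [omegaOne, MonoidHom.map_closure]
  refine closure_mono ?_
  rintro _ ⟨y, ⟨⟨hy, hyc⟩, hyp⟩, rfl⟩
  refine ⟨⟨mem_map_of_mem _ hy, mem_centralizer_iff.mpr ?_⟩, by rw [← map_pow, hyp, map_one]⟩
  rintro _ ⟨w, hw, rfl⟩
  exact (congrArg (MulAut.conj g).toMonoidHom (mem_centralizer_iff.mp hyc w hw)
    |> fun h => by rwa [map_mul, map_mul] at h)

/-- When O_p(G) contains its centralizer, the normal closure of Ω₁(Z(S)) is elementary abelian and G has no nontrivial normal p-subgroup modulo its centralizer. -/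
theorem result {G : Type*} [Group G] [Finite G] {p : ℕ} [Fact p.Prime] (hc : Subgroup.centralizer (Cfsg.pCore p G : Set G) ≤ Cfsg.pCore p G) : (⨆ S : Sylow p G, Cfsg.omegaOne p (((S : Subgroup G)) ⊓ Subgroup.centralizer ((S : Subgroup G) : Set G))).Normal ∧ Cfsg.IsElementaryAbelian p (⨆ S : Sylow p G, Cfsg.omegaOne p (((S : Subgroup G)) ⊓ Subgroup.centralizer ((S : Subgroup G) : Set G))) ∧ ∀ D : Subgroup G, D.Normal → Subgroup.centralizer ((⨆ S : Sylow p G, Cfsg.omegaOne p (((S : Subgroup G)) ⊓ Subgroup.centralizer ((S : Subgroup G) : Set G)) : Subgroup G) : Set G) ≤ D → (∃ k : ℕ, (Subgroup.centralizer ((⨆ S : Sylow p G, Cfsg.omegaOne p (((S : Subgroup G)) ⊓ Subgroup.centralizer ((S : Subgroup G) : Set G)) : Subgroup G) : Set G)).relIndex D = p ^ k) → D = Subgroup.centralizer ((⨆ S : Sylow p G, Cfsg.omegaOne p (((S : Subgroup G)) ⊓ Subgroup.centralizer ((S : Subgroup G) : Set G)) : Subgroup G) : Set G) := by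
  generalize hVdef : (⨆ S : Sylow p G, omegaOne p (((S : Subgroup G)) ⊓
    centralizer ((S : Subgroup G) : Set G))) = V
  have hΩ : ∀ S : Sylow p G, omegaOne p (((S : Subgroup G)) ⊓ centralizer ((S : Subgroup G) : Set G)) ≤
      (S : Subgroup G) ⊓ centralizer ((S : Subgroup G) : Set G) := fun S =>
    (closure_le _).mpr fun x hx => hx.1
  have hΩV : ∀ S : Sylow p G, omegaOne p (((S : Subgroup G)) ⊓ centralizer ((S : Subgroup G) : Set G)) ≤ V :=
    fun S => hVdef ▸ le_iSup (fun S : Sylow p G => omegaOne p (((S : Subgroup G)) ⊓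
      centralizer ((S : Subgroup G) : Set G))) S
  have hcore : ∀ S : Sylow p G,
      omegaOne p (((S : Subgroup G)) ⊓ centralizer ((S : Subgroup G) : Set G)) ≤ pCore p G := fun S =>
    ((hΩ S).trans inf_le_right).trans ((centralizer_le (SetLike.coe_subset_coe.mpr
      (Cfsg.Agent.Lib.Hall.pCore_le_sylow S))).trans hc)
  have hV : IsElementaryAbelian p V := by
    have e : V = closure (⋃ S : Sylow p G,
        {x : G | x ∈ (S : Subgroup G) ⊓ centralizer ((S : Subgroup G) : Set G) ∧ x ^ p = 1}) := by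
      rw [← hVdef, Subgroup.closure_iUnion]; rfl
    rw [e]
    refine Lib.Thompson.isElementaryAbelian_closure ?_ ?_
    · intro x hx y hy
      obtain ⟨S, hxS⟩ := Set.mem_iUnion.mp hx
      obtain ⟨T, hyT⟩ := Set.mem_iUnion.mp hy
      exact mem_centralizer_iff.mp hyT.1.2 x
        (Cfsg.Agent.Lib.Hall.pCore_le_sylow T (hcore S (subset_closure hxS)))
    · intro x hx
      obtain ⟨S, hxS⟩ := Set.mem_iUnion.mp hx
      exact hxS.2
  have hn : V.Normal := by
    refine ⟨fun x hx g => ?_⟩
    have hle : V ≤ V.comap (MulAut.conj g).toMonoidHom := by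
      conv_lhs => rw [← hVdef]
      refine iSup_le fun S => map_le_iff_le_comap.mp ?_
      exact (conj_omega g _).trans (hΩV (g • S))
    exact hle hx
  refine ⟨hn, hV, fun D hD hCD ⟨k, hk⟩ => le_antisymm ?_ hCD⟩
  have hgen : V = ⨆ S : Sylow p G, V ⊓ centralizer ((S : Subgroup G) : Set G) := by
    refine le_antisymm ?_ (iSup_le fun S => inf_le_left)
    conv_lhs => rw [← hVdef]
    exact iSup_mono fun S => le_inf (hΩV S) ((hΩ S).trans inf_le_right)
  have h0 := S0600.result (p := p) V hV hgen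
  let π := QuotientGroup.mk' (centralizer (V : Set G))
  have hDn : (D.map π).Normal := hD.map π (QuotientGroup.mk'_surjective _)
  have hp' : IsPGroup p (D.map π) := by
    refine IsPGroup.of_card (n := k) ?_
    rw [← hk, relIndex, subgroupOf]
    have h1 := index_ker (π.comp D.subtype)
    rw [← MonoidHom.comap_ker, QuotientGroup.ker_mk', MonoidHom.range_eq_map, ← Subgroup.map_map,
      ← MonoidHom.range_eq_map, range_subtype] at h1
    exact h1.symm
  have h2 := (Cfsg.Agent.Lib.Hall.le_pCore hp').trans h0.le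
  rw [le_bot_iff, Subgroup.map_eq_bot_iff, QuotientGroup.ker_mk'] at h2
  exact h2

end Cfsg.Agent.S0601
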