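import Cfsg.Statements.S0604
import Cfsg.Agent.Lib.Thompson.Elementary

set_option autoImplicit false
open Cfsg Subgroup
open scoped Pointwise commutatorElement

namespace Cfsg.Agent.S0604

/-- The Thompson subgroup of G is the join of the Thompson subgroups of its Sylow p-subgroups. -/
theorem result {G : Type*} [Group G] [Finite G] {p : ℕ} [Fact p.Prime] : Cfsg.thompsonSubgroup p G = ⨆ S : Sylow p G, Cfsg.thompsonSubgroupOf p (S : Subgroup G) := by
  refine le_antisymm (sSup_le fun A hA => ?_) (iSup_le fun S => ?_)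
  · obtain ⟨S, hS⟩ := (Lib.Thompson.isPGroup_of_elementary hA.1).exists_le_sylow
    refine le_trans ?_ (le_iSup (fun S : Sylow p G => thompsonSubgroupOf p (S : Subgroup G)) S)
    rw [Lib.Thompson.thompsonSubgroupOf_eq hA hS]
    exact le_sSup ⟨hA, hS⟩
  · obtain ⟨A, hA, hAS⟩ := Lib.Thompson.exists_maxElementary_le_sylow S
    rw [Lib.Thompson.thompsonSubgroupOf_eq hA hAS]
    exact sSup_le_sSup fun B hB => hB.1

end Cfsg.Agent.S0604
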