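import Cfsg.Statements.S0606
import Cfsg.Agent.Lib.Thompson.Elementary

set_option autoImplicit false
open Cfsg Subgroup
open scoped Pointwise commutatorElement

namespace Cfsg.Agent.S0606

/-- Elementary abelian p-subgroups of maximal order are best offenders on any normal elementary abelian p-subgroup. -/
theorem result {G : Type*} [Group G] [Finite G] {p : ℕ} [Fact p.Prime] (V : Subgroup G) [V.Normal] (hV : Cfsg.IsElementaryAbelian p V) (A : Subgroup G) (hA : A ∈ Cfsg.maxElementaryAbelianSubgroups p G) : Cfsg.IsBestOffenderOn p V A := by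
  obtain ⟨⟨hAc, hAp⟩, hmax⟩ := hA
  have hAC : A ≤ centralizer (A : Set G) := le_centralizer_iff_isMulCommutative.mpr hAc
  refine ⟨fun B hB => ?_, ?_, fun a ha => by rw [hAp a ha]; exact one_mem _⟩
  · have hBn : B ≤ normalizer ((V ⊓ centralizer (B : Set G) : Subgroup G) : Set G) := by
      refine le_trans ?_ (centralizer_le_normalizer _)
      exact fun b hb => mem_centralizer_iff.mpr fun v hv => (mem_centralizer_iff.mp hv.2 b hb).symm
    have hE : IsElementaryAbelian p (B ⊔ (V ⊓ centralizer (B : Set G))) :=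
      Lib.Thompson.isElementaryAbelian_sup (Lib.Thompson.isElementaryAbelian_le ⟨hAc, hAp⟩ hB)
        (Lib.Thompson.isElementaryAbelian_le hV inf_le_left)
        (fun b hb v hv => mem_centralizer_iff.mp hv.2 b hb)
    have h1 := Cfsg.Agent.Lib.Coprime.card_sup_mul_card_inf_of_le_normalizer hBn
    have h2 : Nat.card ↥(B ⊓ (V ⊓ centralizer (B : Set G))) ≤ Nat.card ↥(V ⊓ centralizer (A : Set G)) :=
      card_le_of_le fun x hx => ⟨hx.2.1, hAC (hB hx.1)⟩
    calc Nat.card B * Nat.card ↥(V ⊓ centralizer (B : Set G))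
        = Nat.card ↥(B ⊔ (V ⊓ centralizer (B : Set G))) * Nat.card ↥(B ⊓ (V ⊓ centralizer (B : Set G))) :=
          h1.symm
      _ ≤ _ := Nat.mul_le_mul (hmax _ hE) h2
  · rw [commutator_le]
    intro a ha b hb
    rw [commutatorElement_eq_one_iff_commute.mpr (mem_centralizer_iff.mp (hAC hb) a ha)]
    exact one_mem _

end Cfsg.Agent.S0606
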