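import Cfsg.Statements.S0608
import Cfsg.Agent.S0604
import Cfsg.Agent.Lib.Thompson.Stable
import Cfsg.Agent.Lib.FPF.Thompson
import Cfsg.Agent.Lib.Thompson.ZJ

set_option autoImplicit false
open Cfsg Subgroup
open scoped Pointwise commutatorElement

namespace Cfsg.Agent.S0608

universe u

theorem conj_omega {G : Type u} [Group G] {p : ℕ} (g : G) (S : Subgroup G) {x : G}
    (hx : x ∈ Cfsg.omegaOne p (S ⊓ centralizer (S : Set G))) :
    g * x * g⁻¹ ∈ Cfsg.omegaOne p (S.map (MulAut.conj g).toMonoidHom ⊓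
      centralizer (S.map (MulAut.conj g).toMonoidHom : Set G)) := by
  induction hx using closure_induction with
  | mem x hx =>
    refine subset_closure ⟨⟨mem_map_of_mem (MulAut.conj g).toMonoidHom hx.1.1, mem_centralizer_iff.mpr ?_⟩, by
      rw [conj_pow, hx.2, mul_one, mul_inv_cancel]⟩
    rintro _ ⟨y, hy, rfl⟩
    show g * y * g⁻¹ * (g * x * g⁻¹) = g * x * g⁻¹ * (g * y * g⁻¹)
    have h := mem_centralizer_iff.mp hx.1.2 y hy
    calc g * y * g⁻¹ * (g * x * g⁻¹) = g * (y * x) * g⁻¹ := by group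
      _ = g * (x * y) * g⁻¹ := by rw [h]
      _ = _ := by group
  | one => simp
  | mul a b _ _ iha ihb =>
    rw [show g * (a * b) * g⁻¹ = g * a * g⁻¹ * (g * b * g⁻¹) by group]
    exact mul_mem iha ihb
  | inv a _ iha =>
    rw [show g * a⁻¹ * g⁻¹ = (g * a * g⁻¹)⁻¹ by group]
    exact inv_mem iha

theorem omega_commute {G : Type u} [Group G] {p : ℕ} (S : Subgroup G) {x j : G}
    (hx : x ∈ Cfsg.omegaOne p (S ⊓ centralizer (S : Set G))) (hj : j ∈ S) : j * x = x * j := by
  have hle : Cfsg.omegaOne p (S ⊓ centralizer (S : Set G)) ≤ centralizer (S : Set G) :=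
    (closure_le _).mpr fun y hy => hy.1.2
  exact mem_centralizer_iff.mp (hle hx) j hj


/-- With trivial p'-core, Thompson factorizability is equivalent to J(G) centralizing the subgroup generated by all Ω₁(Z(S)), S Sylow. -/
theorem result {G : Type*} [Group G] [Finite G] {p : ℕ} [Fact p.Prime] (hO : Cfsg.pPrimeCore p G = ⊥) : Cfsg.IsThompsonFactorizable p G ↔ Cfsg.thompsonSubgroup p G ≤ Subgroup.centralizer ((⨆ S : Sylow p G, Cfsg.omegaOne p (((S : Subgroup G)) ⊓ Subgroup.centralizer ((S : Subgroup G) : Set G)) : Subgroup G) : Set G) := by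
  set V := ⨆ S : Sylow p G, Cfsg.omegaOne p (((S : Subgroup G)) ⊓ centralizer ((S : Subgroup G) : Set G))
  constructor
  · intro h
    rw [S0604.result, iSup_le_iff]
    intro S
    refine le_centralizer_iff.mp (iSup_le fun T => ?_)
    intro z hz
    obtain ⟨g, hg⟩ := MulAction.exists_smul_eq G T S
    obtain ⟨x, hx, c, hc, n, hn, he⟩ := h S g
    rw [hO, mem_bot] at hx
    subst hx
    rw [one_mul] at he
    refine mem_centralizer_iff.mpr fun j hj => ?_
    have hz' := conj_omega g (T : Subgroup G) hz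
    have e : (T : Subgroup G).map (MulAut.conj g).toMonoidHom = (S : Subgroup G) :=
      congrArg (fun R : Sylow p G => (R : Subgroup G)) hg
    rw [e] at hz'
    have hz'' : c * (g * z * g⁻¹) = g * z * g⁻¹ * c := (mem_centralizer_iff.mp hc _ hz').symm
    have hj' : n * j * n⁻¹ ∈ thompsonSubgroupOf p (S : Subgroup G) := (mem_normalizer_iff.mp hn j).mp hj
    have hcomm := omega_commute (S : Subgroup G) hz' (map_subtype_le _ hj')
    have hg' : n * z * n⁻¹ = g * z * g⁻¹ := by
      calc n * z * n⁻¹ = c⁻¹ * (g * z * g⁻¹ * c) := by rw [he]; group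
        _ = c⁻¹ * (c * (g * z * g⁻¹)) := by rw [hz'']
        _ = _ := by group
    rw [← hg'] at hcomm
    calc j * z = n⁻¹ * (n * j * n⁻¹ * (n * z * n⁻¹)) * n := by group
      _ = n⁻¹ * (n * z * n⁻¹ * (n * j * n⁻¹)) * n := by rw [hcomm]
      _ = _ := by group
  · intro h S g
    set C := centralizer (V : Set G)
    have hCn : C.Normal := by
      refine ⟨fun c hc g => ?_⟩
      suffices hle : V ≤ centralizer ({g * c * g⁻¹} : Set G) from
        mem_centralizer_iff.mpr fun v hv => mem_centralizer_singleton_iff.mp (hle hv)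
      refine iSup_le fun T => fun z hz => mem_centralizer_singleton_iff.mpr ?_
      have hz' := conj_omega g⁻¹ (T : Subgroup G) hz
      have hle : Cfsg.omegaOne p ((T : Subgroup G).map (MulAut.conj g⁻¹).toMonoidHom ⊓
          centralizer (((T : Subgroup G).map (MulAut.conj g⁻¹).toMonoidHom : Subgroup G) : Set G)) ≤ V :=
        le_iSup (fun R : Sylow p G => Cfsg.omegaOne p ((R : Subgroup G) ⊓ centralizer ((R : Subgroup G) : Set G)))
          (g⁻¹ • T)
      have h1 := mem_centralizer_iff.mp hc _ (hle hz')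
      calc z * (g * c * g⁻¹) = g * (g⁻¹ * z * g⁻¹⁻¹ * c) * g⁻¹ := by group
        _ = g * (c * (g⁻¹ * z * g⁻¹⁻¹)) * g⁻¹ := by rw [h1]
        _ = _ := by group
    obtain ⟨A₀, hA₀, hA₀S⟩ := Lib.Thompson.exists_maxElementary_le_sylow (p := p) S
    obtain ⟨R, hR⟩ := Lib.Thompson.exists_sylow_inf_normal S C
    have htop := Sylow.normalizer_sup_eq_top R
    rw [hR] at htop
    obtain ⟨n, hn, c, hc, rfl⟩ := mem_sup_of_normal_right.mp (htop ▸ mem_top g)
    refine ⟨1, one_mem _, n * c * n⁻¹, ?_, n, ?_, by group⟩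
    · exact centralizer_le (SetLike.coe_subset_coe.mpr (le_iSup (fun R : Sylow p G =>
        Cfsg.omegaOne p ((R : Subgroup G) ⊓ centralizer ((R : Subgroup G) : Set G))) S)) (hCn.conj_mem c hc n)
    · rw [Lib.Thompson.thompsonSubgroupOf_eq hA₀ hA₀S]
      refine Lib.Thompson.mem_normalizer_of_forall_conj ?_
      intro x hx
      suffices hle : sSup {A | A ∈ maxElementaryAbelianSubgroups p G ∧ A ≤ (S : Subgroup G)} ≤
          (sSup {A | A ∈ maxElementaryAbelianSubgroups p G ∧ A ≤ (S : Subgroup G)}).comap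
            (MulAut.conj n).toMonoidHom from hle hx
      refine sSup_le fun A hA => map_le_iff_le_comap.mp (le_sSup ⟨?_, ?_⟩)
      · exact Lib.Thompson.map_mem_maxElementary (MulAut.conj n) hA.1
      · have hAT : A ≤ (S : Subgroup G) ⊓ C := le_inf hA.2 ((le_sSup hA.1).trans h)
        rintro _ ⟨a, ha, rfl⟩
        exact ((mem_normalizer_iff.mp hn a).mp (hAT ha)).1

end Cfsg.Agent.S0608
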