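import Cfsg.Statements.S5103
import Cfsg.Agent.Lib.Fusion.Model
import Cfsg.Agent.Lib.Fusion.Realized

set_option autoImplicit false
open Cfsg Cfsg.FusionSystem Cfsg.Agent.Lib.Fusion
open scoped commutatorElement

namespace Cfsg.Agent.S5103

/-- A fusion system over a finite p-group that has a model (a finite group realizing it on a Sylow p-subgroup with self-centralizing largest normal p-subgroup) is constrained. -/
theorem result {Ω : Type*} [Group Ω] {S : Subgroup Ω} [Finite S] (p : ℕ) [Fact p.Prime] (hS : IsPGroup p S) (F : Cfsg.FusionSystem S) {G : Type*} [Group G] (ι : S →* G) (hG : F.IsModel p G ι) : F.IsConstrained p := by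
  have hG' := hG
  obtain ⟨hfin, hr, ⟨T, hT⟩, hC⟩ := hG'
  have hR := pCore_le_range hG
  refine ⟨isSaturated_of_realized hr (hT ▸ isSylowIn_top T), ((pCore p G).comap ι).map S.subtype, ?_⟩
  set Q := ((pCore p G).comap ι).map S.subtype with hQdef
  have hQS : Q ≤ S := by rintro _ ⟨x, -, rfl⟩; exact x.2
  have hQm : ∀ x : S, (x : Ω) ∈ Q ↔ ι x ∈ pCore p G := fun x =>
    ⟨fun ⟨y, hy, hyx⟩ => (Subtype.ext hyx : y = x) ▸ hy, fun h => ⟨x, h, rfl⟩⟩
  have hnorm : F.IsNormal Q := by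
    refine ⟨hQS, fun P φ hφ => ?_⟩
    obtain ⟨g, hg⟩ := (hr.2 P (src_le hφ) φ (val_mem hφ)).1 hφ
    have hPD : P ≤ conjDom ι g := fun x hx =>
      (mem_conjDom (x := ⟨x, src_le hφ hx⟩)).2 ⟨_, hg ⟨x, hx⟩⟩
    have hQD : Q ≤ conjDom ι g := fun x hx =>
      (mem_conjDom (x := ⟨x, hQS hx⟩)).2
        (hR ((Cfsg.Agent.Lib.Hall.pCore_normal p).conj_mem _ ((hQm ⟨x, hQS hx⟩).1 hx) g))
    obtain ⟨P', hP', e, he, heq⟩ := exists_iso_conjDom hr g
    have hle : P ⊔ Q ≤ conjDom ι g := sup_le hPD hQD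
    refine ⟨_, restrict_mem hle he, fun x => ?_, ?_⟩
    · have h1 := hg x
      have h2 := heq ⟨x, hPD x.2⟩
      rw [← h1] at h2
      exact congrArg Subtype.val (hr.1 h2)
    · ext y
      constructor
      · rintro ⟨x, hx, rfl⟩
        show (e ⟨x, hle x.2⟩ : Ω) ∈ Q
        refine (hQm ⟨_, hP' (e ⟨x, hle x.2⟩).2⟩).2 ?_
        rw [heq]
        exact (Cfsg.Agent.Lib.Hall.pCore_normal p).conj_mem _ ((hQm ⟨x, hQS hx⟩).1 hx) g
      · intro hy
        have h1 := (Cfsg.Agent.Lib.Hall.pCore_normal p).conj_mem _ ((hQm ⟨y, hQS hy⟩).1 hy) g⁻¹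
        rw [inv_inv] at h1
        obtain ⟨x, hx⟩ := hR h1
        have hxQ : (x : Ω) ∈ Q := (hQm x).2 (hx ▸ h1)
        refine ⟨⟨x, Subgroup.mem_sup_right hxQ⟩, hxQ, ?_⟩
        show (e ⟨x, hQD hxQ⟩ : Ω) = y
        have h2 := heq ⟨x, hQD hxQ⟩
        rw [show (⟨((⟨x, hQD hxQ⟩ : conjDom ι g) : Ω), conjDom_le ι g (hQD hxQ)⟩ : S) = x from rfl,
          hx, show g * (g⁻¹ * ι ⟨y, hQS hy⟩ * g) * g⁻¹ = ι ⟨y, hQS hy⟩ by group] at h2
        exact congrArg Subtype.val (hr.1 h2)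
  refine ⟨hnorm, hQS, fun R hR' => ?_⟩
  have hfin := finite_of_realized hr
  obtain ⟨e, he⟩ := isConj_iff_iso.1 hR'
  have hRQ : R = Q := by
    have := finite_of_le hQS
    refine eq_of_le_card (fun y hy => ?_) (Nat.card_congr e.toEquiv).le
    have h1 := (stronglyClosed_of_isNormal hnorm).2 Q le_rfl _ he (e.symm ⟨y, hy⟩)
    simpa using h1
  subst hRQ
  intro x hx
  refine (hQm ⟨x, (mem_centralizerIn.1 hx).1⟩).2 (hC (Subgroup.mem_centralizer_iff.2 fun y hy => ?_))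
  obtain ⟨z, rfl⟩ := hR hy
  rw [← map_mul, ← map_mul]
  exact congrArg ι (Subtype.ext ((mem_centralizerIn.1 hx).2 _ ((hQm z).2 hy)))

end Cfsg.Agent.S5103
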