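import Cfsg.Statements.S4399

import Cfsg.Agent.Lib.Thompson.MaxClassTwo
set_option autoImplicit false
open Cfsg

namespace Cfsg.Agent.S4399


open scoped commutatorElement

/-- A group with a cyclic subgroup of index two inverted by `b`, with `b ^ 2` given. -/
theorem inverted_cyclic_iso {X : Type*} [Group X] [Finite X] {H : Type*} [Group H] [Finite H] (N : ℕ) [NeZero N]
    (a b : X) (ha : orderOf a = N) (hb : b ∉ Subgroup.zpowers a) (hcard : Nat.card X = 2 * N) (s : ZMod N)
    (hb2 : b * b = a ^ s.val) (hab : b * a * b⁻¹ = a⁻¹)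
    (r x : ZMod N → H) (hH : ∀ h : H, (∃ i, h = r i) ∨ ∃ i, h = x i) (hcardH : Nat.card H = 2 * N)
    (hrr : ∀ i j, r i * r j = r (i + j)) (hrx : ∀ i j, r i * x j = x (j - i))
    (hxr : ∀ i j, x i * r j = x (i + j)) (hxx : ∀ i j, x i * x j = r (s + j - i))
    (f : H → X) (hfr : ∀ i, f (r i) = a ^ i.val) (hfx : ∀ i, f (x i) = b * a ^ i.val) :
    Nonempty (X ≃* H) := by
  have hN : a ^ N = 1 := ha ▸ pow_orderOf_eq_one a
  set e : ZMod N → X := fun i => a ^ i.val with he
  have hadd : ∀ i j, e (i + j) = e i * e j := fun i j => by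
    simp only [e]
    rw [ZMod.val_add, ← pow_eq_pow_mod _ hN, pow_add]
  have hsub : ∀ i j, e (i - j) = e i * (e j)⁻¹ := fun i j =>
    eq_mul_inv_of_mul_eq (by rw [← hadd, sub_add_cancel])
  have hflip : ∀ i, b * e i = (e i)⁻¹ * b := fun i => by
    simp only [e]
    rw [← inv_pow, ← hab, conj_pow, inv_mul_cancel_right]
  have hcomm : ∀ i j, Commute (e i) (e j) := fun i j => (Commute.refl a).pow_pow _ _
  have hflip' : ∀ i, e i * b = b * (e i)⁻¹ := fun i => by
    have h7 := congrArg (fun v => e i * v * (e i)⁻¹) (hflip i)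
    simpa [mul_assoc] using h7
  let φ : H →* X := MonoidHom.mk' f (by
    intro g h
    rcases hH g with ⟨i, rfl⟩ | ⟨i, rfl⟩ <;> rcases hH h with ⟨j, rfl⟩ | ⟨j, rfl⟩
    · rw [hrr, hfr, hfr, hfr]
      exact hadd i j
    · rw [hrx, hfx, hfr, hfx]
      show b * e (j - i) = e i * (b * e j)
      rw [hsub, ← mul_assoc (e i), hflip', mul_assoc b, ((hcomm j i).inv_right).eq]
    · rw [hxr, hfx, hfx, hfr]
      show b * e (i + j) = b * e i * e j
      rw [hadd, mul_assoc]
    · rw [hxx, hfr, hfx, hfx]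
      show e (s + j - i) = b * e i * (b * e j)
      have hinv : b * e i * b = (e i)⁻¹ * (b * b) := by rw [hflip, mul_assoc]
      rw [← mul_assoc, hinv, hb2]
      show e (s + j - i) = (e i)⁻¹ * e s * e j
      rw [hsub, hadd, ((hcomm s i).inv_right).eq.symm, mul_assoc (e s), mul_assoc (e s),
        ((hcomm j i).inv_right).eq])
  have hinj : Function.Injective φ := by
    rw [injective_iff_map_eq_one]
    intro g hg
    rcases hH g with ⟨i, rfl⟩ | ⟨i, rfl⟩
    · have h1 : a ^ i.val = 1 := (hfr i).symm.trans hg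
      have h2 := orderOf_dvd_of_pow_eq_one h1
      rw [ha] at h2
      rcases eq_or_ne i 0 with rfl | hi
      · have := hrr 0 0
        rw [add_zero] at this
        exact mul_eq_left.1 this
      · exact absurd (Nat.eq_zero_of_dvd_of_lt h2 i.val_lt) ((ZMod.val_ne_zero i).2 hi)
    · refine absurd ?_ hb
      rw [show b = (a ^ i.val)⁻¹ from eq_inv_of_mul_eq_one_left ((hfx i).symm.trans hg)]
      exact Subgroup.inv_mem _ (Subgroup.pow_mem _ (Subgroup.mem_zpowers a) _)
  exact ⟨(MulEquiv.ofBijective φ ((Nat.bijective_iff_injective_and_card _).2 ⟨hinj, hcardH.trans hcard.symm⟩)).symm⟩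

theorem dihedral_iso {X : Type*} [Group X] [Finite X] (N : ℕ) [NeZero N] (a b : X) (ha : orderOf a = N)
    (hb : b ∉ Subgroup.zpowers a) (hcard : Nat.card X = 2 * N) (hb2 : b * b = 1) (hab : b * a * b⁻¹ = a⁻¹) :
    Nonempty (X ≃* DihedralGroup N) :=
  inverted_cyclic_iso N a b ha hb hcard 0 (by rw [hb2, ZMod.val_zero, pow_zero]) hab
    DihedralGroup.r DihedralGroup.sr
    (fun h => by cases h with | r i => exact Or.inl ⟨i, rfl⟩ | sr i => exact Or.inr ⟨i, rfl⟩)
    DihedralGroup.nat_card (fun _ _ => rfl) (fun _ _ => rfl) (fun _ _ => rfl)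
    (fun i j => by rw [zero_add]; rfl)
    (fun g => match g with | .r i => a ^ i.val | .sr i => b * a ^ i.val) (fun _ => rfl) (fun _ => rfl)

theorem quaternion_iso {X : Type*} [Group X] [Finite X] (n : ℕ) [NeZero n] (a b : X) (ha : orderOf a = 2 * n)
    (hb : b ∉ Subgroup.zpowers a) (hcard : Nat.card X = 4 * n) (hb2 : b * b = a ^ n) (hab : b * a * b⁻¹ = a⁻¹) :
    Nonempty (X ≃* QuaternionGroup n) :=
  haveI : NeZero (2 * n) := ⟨by have := NeZero.ne n; omega⟩
  inverted_cyclic_iso (2 * n) a b ha hb (by rw [hcard]; ring) (n : ZMod (2 * n))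
    (by rw [hb2, ZMod.val_natCast, Nat.mod_eq_of_lt (by have := NeZero.ne n; omega)]) hab
    QuaternionGroup.a QuaternionGroup.xa
    (fun h => by cases h with | a i => exact Or.inl ⟨i, rfl⟩ | xa i => exact Or.inr ⟨i, rfl⟩)
    (by rw [Nat.card_eq_fintype_card, QuaternionGroup.card]; ring) (fun _ _ => rfl) (fun _ _ => rfl) (fun _ _ => rfl)
    (fun i j => rfl)
    (fun g => match g with | .a i => a ^ i.val | .xa i => b * a ^ i.val) (fun _ => rfl) (fun _ => rfl)


/-- Let S be a finite 2-group whose commutator quotient S/[S,S] is a Klein four-group (order 4 and exponent 2). Then S itself has order 4, or S is dihedral of order at least 8, semidihedral of order at least 16 (order 2^(k+4) with an element a of order 2^(k+3) and an involution b with b a b⁻¹ = a^(2^(k+2)−1)), or generalized quaternion of order at least 8. -/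
theorem result {S : Type*} [Group S] [Finite S] (h2 : IsPGroup 2 S) (hab : Nat.card (Abelianization S) = 4)
    (hexp : ∀ x : Abelianization S, x ^ 2 = 1) :
    Nat.card S = 4 ∨
    ((∃ k : ℕ, Nonempty (S ≃* DihedralGroup (2 ^ (k + 2)))) ∨
      (∃ k : ℕ, Nat.card S = 2 ^ (k + 4) ∧ ∃ a b : S, orderOf a = 2 ^ (k + 3) ∧ orderOf b = 2 ∧ b * a * b⁻¹ = a ^ (2 ^ (k + 2) - 1)) ∨
      (∃ k : ℕ, Nonempty (S ≃* QuaternionGroup (2 ^ (k + 1))))) := by
  classical
  haveI : Fact (Nat.Prime 2) := ⟨Nat.prime_two⟩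
  obtain ⟨n, hn⟩ := IsPGroup.iff_card.1 h2
  have h4 : (commutator S).index = 4 := hab
  by_cases hn2 : n ≤ 2
  · left
    have hdvd : 4 ∣ Nat.card S := h4 ▸ Subgroup.index_dvd_card _
    have hle : Nat.card S ≤ 4 := hn ▸ Nat.pow_le_pow_right (by norm_num) hn2
    exact le_antisymm hle (Nat.le_of_dvd Nat.card_pos hdvd)
  right
  obtain ⟨k, rfl⟩ : ∃ k, n = k + 3 := ⟨n - 3, by omega⟩
  obtain ⟨a, b, r, ha, hb, hb2, hr, hr1, hidx, hr4⟩ :=
    Lib.Thompson.maxClassTwo_structure (m := k + 2) (by omega) hn h4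
  rw [show k + 2 - 1 = k + 1 from rfl] at hb2 hr1
  set z := a ^ 2 ^ (k + 1) with hz
  have hz2 : z * z = 1 := by
    rw [hz, ← pow_add, ← two_mul, ← pow_succ', ← ha]
    exact pow_orderOf_eq_one a
  obtain ⟨i, hi⟩ := Subgroup.mem_zpowers_iff.1 hb2
  have hbz : b * b = 1 ∨ b * b = z := by
    rw [← pow_two, ← hi]
    rcases Int.even_or_odd i with ⟨t, rfl⟩ | ⟨t, rfl⟩
    · left; rw [← two_mul, zpow_mul, zpow_two, hz2, one_zpow]
    · right; rw [zpow_add_one, zpow_mul, zpow_two, hz2, one_zpow, one_mul]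
  obtain ⟨t, ht⟩ := hr1
  rcases Int.even_or_odd t with ⟨u, rfl⟩ | ⟨u, rfl⟩
  · have har : b * a * b⁻¹ = a⁻¹ := by
      rw [hr, ← zpow_neg_one, zpow_eq_zpow_iff_modEq, ha, Int.modEq_iff_dvd]
      exact ⟨-u, by push_cast; rw [pow_succ (2 : ℤ) (k + 1)]; linarith⟩
    rcases hbz with hbb | hbb
    · refine Or.inl ⟨k, ?_⟩
      exact dihedral_iso _ a b ha hb (by rw [hn, pow_succ']) hbb har
    · refine Or.inr (Or.inr ⟨k, ?_⟩)
      exact quaternion_iso _ a b (by rw [ha, pow_succ']) hb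
        (by rw [hn, pow_succ' 2 (k + 2), pow_succ' 2 (k + 1)]; ring) (by rw [hbb]) har
  · -- semidihedral
    have hk : 1 ≤ k := by
      rcases Nat.eq_zero_or_pos k with rfl | h
      · norm_num at ht
        omega
      · exact h
    obtain ⟨j, rfl⟩ : ∃ j, k = j + 1 := ⟨k - 1, by omega⟩
    have har : b * a * b⁻¹ = a ^ (2 ^ (j + 2) - 1) := by
      rw [hr, ← zpow_natCast, zpow_eq_zpow_iff_modEq, ha, Int.modEq_iff_dvd]
      refine ⟨-u, ?_⟩
      have : 1 ≤ 2 ^ (j + 2) := Nat.one_le_two_pow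
      push_cast [this]
      rw [pow_succ (2 : ℤ) (j + 1 + 1)]
      linarith
    have hzb : b * z * b⁻¹ = z := by
      rw [hz, ← conj_pow, har, ← pow_mul, Nat.sub_mul, one_mul]
      have hd : orderOf a ∣ 2 ^ (j + 2) * 2 ^ (j + 1 + 1) := by
        rw [ha, ← pow_add]
        exact pow_dvd_pow 2 (by omega)
      have hle : 2 ^ (j + 1 + 1) ≤ 2 ^ (j + 2) * 2 ^ (j + 1 + 1) := Nat.le_mul_of_pos_left _ (pow_pos (by norm_num) _)
      rw [pow_sub _ hle, orderOf_dvd_iff_pow_eq_one.1 hd, one_mul, inv_eq_iff_mul_eq_one]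
      exact hz2
    obtain ⟨c, hc2, hca, hc⟩ : ∃ c : S, c * c = 1 ∧ c * a * c⁻¹ = a ^ (2 ^ (j + 2) - 1) ∧ c ∉ Subgroup.zpowers a := by
      rcases hbz with hbb | hbb
      · exact ⟨b, hbb, har, hb⟩
      · refine ⟨b * a, ?_, ?_, fun h => hb ?_⟩
        · calc b * a * (b * a) = (b * a * b⁻¹) * (b * b) * a := by group
            _ = a ^ (2 ^ (j + 2) - 1) * (z * a) := by rw [har, hbb, mul_assoc]
            _ = 1 := by
              rw [show z * a = a * z from ((Commute.refl a).pow_left _).eq, ← mul_assoc, ← pow_succ,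
                Nat.sub_add_cancel Nat.one_le_two_pow]
              exact hz2
        · calc b * a * a * (b * a)⁻¹ = b * a * b⁻¹ := by group
            _ = _ := har
        · simpa using (Subgroup.zpowers a).mul_mem h ((Subgroup.zpowers a).inv_mem (Subgroup.mem_zpowers a))
    refine Or.inr (Or.inl ⟨j, ?_, a, c, ?_, ?_, hca⟩)
    · rw [hn]
    · rw [ha]
    · exact orderOf_eq_prime (by rw [pow_two, hc2]) (fun h => hc (h ▸ Subgroup.one_mem _))

end Cfsg.Agent.S4399
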