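import Cfsg.Statements.S4492
import Cfsg.Agent.Lib.Block.OverPPrime
import Cfsg.Agent.Lib.Components.Extended
import Cfsg.Agent.Lib.Hall.Basic
import Cfsg.Agent.Lib.GenStruct.PHall
import Cfsg.Agent.S0629
-- import your own Cfsg.Agent.* helpers here

set_option autoImplicit false
open Cfsg

open Cfsg Cfsg.Agent.Lib.Block
open Cfsg.Agent.Lib

namespace Cfsg.Agent.S4492

/-- Let G be a finite p-solvable group, N = O_{p'}(G) its largest normal subgroup of order prime to p, and θ an irreducible character of N invariant under conjugation by G; fix a maximal ideal M of the algebraic integers containing p. Then the irreducible characters of G lying over θ (those whose restriction to N contains θ) form a single p-block of G, and the defect groups of that block are exactly the Sylow p-subgroups of G. -/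
theorem result {G : Type*} [Group G] [Fintype G] (p : ℕ) [Fact p.Prime] (M : Ideal Cfsg.AlgInt) (hM : Cfsg.IsPModular p M) (hsolv : Cfsg.IsPSolvable p G) (N : Subgroup G) [hN : N.Normal] [Fintype N] (hNdef : N = Cfsg.pPrimeCore p G) (θ : Cfsg.IrrCharacter N) (hinv : ∀ (g : G) (n : N), (θ : N → ℂ) ⟨g * n * g⁻¹, hN.conj_mem n n.2 g⟩ = (θ : N → ℂ) n) : ∃ B : Set (Cfsg.IrrCharacter G), Cfsg.IsPBlock M B ∧ (∀ χ : Cfsg.IrrCharacter G, χ ∈ B ↔ Cfsg.classInner (fun n : N => (χ : G → ℂ) n) (θ : N → ℂ) ≠ 0) ∧ (∀ P : Sylow p G, Cfsg.IsDefectGroup p M B (P : Subgroup G)) ∧ ∀ D : Subgroup G, Cfsg.IsDefectGroup p M B D → ∃ P : Sylow p G, D = (P : Subgroup G) := by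
  haveI := hM.2.1.isPrime
  classical
  set H := Cfsg.pPrimePCore p G with hH
  haveI : H.Normal := Lib.Components.pPrimePCore_normal p
  have hp : ¬ p ∣ Nat.card N := hNdef ▸ Lib.Hall.not_dvd_card_pPrimeCore hM.1
  have hNH : N ≤ H := by
    subst hNdef
    intro x hx
    refine Subgroup.mem_comap.2 ?_
    rw [show QuotientGroup.mk' (Cfsg.pPrimeCore p G) x = 1 from (QuotientGroup.eq_one_iff _).2 hx]
    exact one_mem _
  obtain ⟨k, hk⟩ : ∃ k, (N.subgroupOf H).index = p ^ k := by
    subst hNdef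
    have hk : ((QuotientGroup.mk' (Cfsg.pPrimeCore p G)).comp H.subtype).ker =
        (Cfsg.pPrimeCore p G).subgroupOf H := by
      rw [← MonoidHom.comap_ker, QuotientGroup.ker_mk']; rfl
    rw [← hk, Subgroup.index_ker, MonoidHom.range_comp, Subgroup.range_subtype, hH, pPrimePCore,
      Subgroup.map_comap_eq_self_of_surjective (QuotientGroup.mk'_surjective _)]
    exact IsPGroup.iff_card.1 (Lib.Hall.isPGroup_pCore p)
  have hC : ∀ Q : Sylow p H,
      Subgroup.centralizer ((Q : Subgroup H).map H.subtype : Set G) ≤ H := fun Q =>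
    Cfsg.Agent.S0629.result Q (Lib.GenStruct.PHall.isPSolvable_subgroup hsolv _) Q
  have hθinv : ∀ g : G, Lib.Block.conjIrr N g θ = θ := fun g => Subtype.ext (funext fun n => by
    exact (Lib.Char.conjChar_apply N g _ n).trans (hinv g n))
  set b := Cfsg.blockOf M (θ : N → ℂ) with hbdef
  have hb : Cfsg.IsPBlock M b := Lib.Block.isPBlock_blockOf θ
  have hmem : ∀ φ ∈ b, φ = θ := fun φ hφ => (Lib.Block.eq_of_sameBlock_pPrime hM hp hφ).symm
  obtain ⟨B, hB, hcov, hd⟩ := Lib.Block.exists_defect_ge N hM hb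
    (fun g φ hφ => by rw [hmem φ hφ, hθinv g]; exact Lib.Block.mem_blockOf_self θ)
  obtain ⟨χ₀, hχ₀, φ, hφ, hne⟩ := (Lib.BrauerPairs.covers_iff N hM hB hb).2 hcov
  rw [hmem φ hφ] at hne
  have hd' : (Nat.card G).factorization p ≤ Cfsg.blockDefect p B := by
    rw [← Subgroup.index_mul_card N,
      Nat.factorization_mul Subgroup.index_ne_zero_of_finite Nat.card_pos.ne', Finsupp.add_apply,
      Nat.factorization_eq_zero_of_not_dvd hp]
    omega
  have hcard : ∀ D : Subgroup G, Cfsg.IsDefectGroup p M B D →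
      IsPGroup p D ∧ Nat.card D = p ^ (Nat.card G).factorization p := fun D hD => by
    obtain ⟨h1, h2, -⟩ := Lib.Block.IsDefectGroup.props hM hB hD
    refine ⟨h1, h2.trans (congrArg _ (le_antisymm ?_ hd'))⟩
    exact Nat.sub_le _ _
  refine ⟨B, hB, fun χ => ⟨fun hχ => ?_, fun hχ => ?_⟩, fun P => ?_, fun D hD => ?_⟩
  · exact Lib.Block.constituent_of_sameBlock N hM hp (Lib.Block.sameBlock_of_mem hB hχ₀ hχ) hne
  · have hB' := Lib.Block.isPBlock_blockOf (M := M) χ
    rw [Lib.Block.eq_of_cover_pPrime hM N H hNH hp hk θ hθinv hC hB hB' hcov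
      ((Lib.BrauerPairs.covers_iff N hM hB' hb).1
        ⟨χ, Lib.Block.mem_blockOf_self χ, θ, Lib.Block.mem_blockOf_self θ, hχ⟩)]
    exact Lib.Block.mem_blockOf_self χ
  · obtain ⟨D, hD⟩ := Lib.Block.exists_isDefectGroup hM hB
    obtain ⟨hDp, hDc⟩ := hcard D hD
    obtain ⟨g, hg⟩ := MulAction.exists_smul_eq G (Sylow.ofCard D hDc) P
    have h := Lib.Block.IsDefectGroup.map_conj hM hB hD g
    rw [← hg, Sylow.coe_subgroup_smul, Sylow.coe_ofCard]
    exact h
  · exact ⟨Sylow.ofCard D (hcard D hD).2, (Sylow.coe_ofCard _ _).symm⟩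

end Cfsg.Agent.S4492
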