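import Cfsg.Statements.S0942
import Cfsg.Agent.Lib.Block.Parts
import Cfsg.Agent.Lib.Block.Principal
import Cfsg.Agent.Lib.Hall.Basic
-- import your own Cfsg.Agent.* helpers here

set_option autoImplicit false
open Cfsg

open Cfsg Cfsg.Agent.Lib.Block
open Cfsg.Agent.Lib

namespace Cfsg.Agent.S0942

/-- Let u be a p-element of the finite group G, let v lie in the largest normal subgroup of C_G(u) of order prime to p, and let χ belong to the principal block (relative to a maximal ideal M of the algebraic integers containing p). Then χ (u * v) = χ u. -/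
theorem result {G : Type*} [Group G] [Finite G] (p : ℕ) [Fact p.Prime] (M : Ideal Cfsg.AlgInt) (hM : Cfsg.IsPModular p M) (u : G) (hu : ∃ k : ℕ, orderOf u = p ^ k) (v : G) (hv : v ∈ Cfsg.centralizerPPrimeCore p u) (χ : Cfsg.IrrCharacter G) (hχ : χ ∈ Cfsg.principalBlock M G) : (χ : G → ℂ) (u * v) = (χ : G → ℂ) u := by
  haveI := hM.2.1
  classical
  obtain ⟨v', hv', rfl⟩ := hv
  haveI := Fintype.ofFinite (Subgroup.centralizer ({u} : Set G))
  haveI := Fintype.ofFinite G
  have hv'reg : ¬ p ∣ orderOf v' := fun h =>
    Hall.not_dvd_card_pPrimeCore (G := Subgroup.centralizer ({u} : Set G)) hM.1 (h.trans (by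
      rw [show orderOf v' = orderOf (⟨v', hv'⟩ : pPrimeCore p (Subgroup.centralizer ({u} : Set G))) from Subgroup.orderOf_coe (⟨v', hv'⟩ : pPrimeCore p (Subgroup.centralizer ({u} : Set G)))]
      exact orderOf_dvd_natCard _))
  have key : ∀ y : Subgroup.centralizer ({u} : Set G), ¬ p ∣ orderOf y →
      blockPart (principalBlock M (Subgroup.centralizer ({u} : Set G))) (fun c : Subgroup.centralizer ({u} : Set G) => (χ : G → ℂ) (u * (c : G))) y =
        (χ : G → ℂ) (u * (y : G)) := by
    intro y hy
    have h := sum_induced_blockPart hM hu (principalBlock M G) isPBlock_principalBlock χ hy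
    rw [if_pos hχ] at h
    rw [← h, Finset.sum_eq_single (principalBlock M (Subgroup.centralizer ({u} : Set G)))]
    · intro b hb hne
      exact absurd ((induced_principal_iff hM (Finset.mem_filter.1 hb).2).1 rfl) hne
    · intro hn
      refine absurd (Finset.mem_filter.2 ⟨mem_blocks.2 isPBlock_principalBlock, ?_⟩) hn
      obtain ⟨B', hB'⟩ := inducedBlockDefined_centralizer (x := u) hM hu
        (b := principalBlock M (Subgroup.centralizer ({u} : Set G))) isPBlock_principalBlock
      rwa [(induced_principal_iff hM hB').2 rfl] at hB'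
  have h1 := key 1 regular_one
  rw [Subgroup.coe_one, mul_one] at h1
  rw [Subgroup.coe_subtype, ← key v' hv'reg, ← h1, blockPart_apply, blockPart_apply]
  refine Finset.sum_congr rfl fun φ _ => ?_
  split_ifs with hφ
  · rw [trivial_on_of_sameBlock (pPrimeCore p (Subgroup.centralizer ({u} : Set G))) hM (Hall.not_dvd_card_pPrimeCore hM.1)
      (show SameBlock M (oneIrr (Subgroup.centralizer ({u} : Set G)) : Subgroup.centralizer ({u} : Set G) → ℂ) (φ : Subgroup.centralizer ({u} : Set G) → ℂ) from hφ) (fun _ _ => rfl) hv']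
  · rfl

end Cfsg.Agent.S0942
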