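import Cfsg.Statements.S0947
import Cfsg.Agent.Lib.Block.Orth
import Cfsg.Agent.Lib.Block.Normal
import Cfsg.Agent.Lib.Hall.Basic
-- import your own Cfsg.Agent.* helpers here

set_option autoImplicit false
open Cfsg

open Cfsg Cfsg.Agent.Lib.Block
open Cfsg.Agent.Lib

namespace Cfsg.Agent.S0947

/-- Let z ≠ 1 be a p-element of the finite group G with centralizer H, and fix a maximal ideal M of the algebraic integers containing p. (i) For every y ∈ H of order prime to p, the sum over ζ in the principal block of G of |ζ (z * y)|² equals the sum over χ in the principal block of H of |χ y|². (ii) If moreover H has a normal p-complement (its largest normal subgroup of order prime to p has p-power index), that common value is the largest power of p dividing the order of H. -/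
theorem result {G : Type*} [Group G] [Finite G] (p : ℕ) [Fact p.Prime] (M : Ideal Cfsg.AlgInt) (hM : Cfsg.IsPModular p M) (z : G) (hz : ∃ k : ℕ, orderOf z = p ^ k) (hz1 : z ≠ 1) (y : Subgroup.centralizer ({z} : Set G)) (hy : ¬ p ∣ orderOf y) : (∑ᶠ ζ ∈ Cfsg.principalBlock M G, ‖(ζ : G → ℂ) (z * (y : G))‖ ^ 2 = ∑ᶠ χ ∈ Cfsg.principalBlock M (Subgroup.centralizer ({z} : Set G)), ‖(χ : Subgroup.centralizer ({z} : Set G) → ℂ) y‖ ^ 2) ∧ ((∃ k : ℕ, (Cfsg.pPrimeCore p (Subgroup.centralizer ({z} : Set G))).index = p ^ k) → ∑ᶠ ζ ∈ Cfsg.principalBlock M G, ‖(ζ : G → ℂ) (z * (y : G))‖ ^ 2 = ((p ^ (Nat.card (Subgroup.centralizer ({z} : Set G))).factorization p : ℕ) : ℝ)) := by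
  haveI := hM.2.1
  classical
  haveI := Fintype.ofFinite G
  haveI := Fintype.ofFinite (Subgroup.centralizer ({z} : Set G))
  have key : (∑ ζ : IrrCharacter G, if ζ ∈ principalBlock M G then
        ‖(ζ : G → ℂ) (z * (y : G))‖ ^ 2 else 0 : ℝ) =
      ∑ χ : IrrCharacter (Subgroup.centralizer ({z} : Set G)),
        if χ ∈ principalBlock M (Subgroup.centralizer ({z} : Set G)) then
          ‖(χ : Subgroup.centralizer ({z} : Set G) → ℂ) y‖ ^ 2 else 0 := by
    have h := sum_principal_section_eq hM hz hy hy
    simp only [Complex.mul_conj'] at h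
    apply Complex.ofReal_injective
    simp only [Complex.ofReal_sum, apply_ite (Complex.ofReal), Complex.ofReal_pow, Complex.ofReal_zero]
    convert h using 2
  have hfin : ∀ {α : Type u_1} [Fintype α] (S : Set α) (f : α → ℝ),
      ∑ᶠ a ∈ S, f a = ∑ a, if a ∈ S then f a else 0 := by
    intro α _ S f
    rw [finsum_mem_def, finsum_eq_sum_of_fintype]
    exact Finset.sum_congr rfl fun a _ => Set.indicator_apply _ _ _
  refine ⟨by rw [hfin, hfin]; exact key, ?_⟩
  rintro ⟨k, hk⟩
  rw [hfin, key]
  set K := pPrimeCore p (Subgroup.centralizer ({z} : Set G)) with hK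
  haveI := Fintype.ofFinite (↥(Subgroup.centralizer ({z} : Set G)) ⧸ K)
  have hpK : ¬ p ∣ Nat.card K := Hall.not_dvd_card_pPrimeCore hM.1
  have hblock : ∀ χ : IrrCharacter (Subgroup.centralizer ({z} : Set G)),
      χ ∈ principalBlock M (Subgroup.centralizer ({z} : Set G)) ↔
        ∀ n ∈ K, (χ : Subgroup.centralizer ({z} : Set G) → ℂ) n =
          (χ : Subgroup.centralizer ({z} : Set G) → ℂ) 1 := by
    intro χ
    haveI := Fintype.ofFinite K
    constructor
    · intro h n hn
      exact trivial_on_of_sameBlock K hM hpK (χ := oneIrr _) h (fun _ _ => rfl) hn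
    · intro h
      exact sameBlock_of_constituent K hM hk
        (θ := oneIrr K) (θ' := oneIrr K)
        (constituent_one_of_trivial_on K (oneIrr _) fun _ _ => rfl)
        (constituent_one_of_trivial_on K χ h) (sameBlock_refl _)
  have hyK : y ∈ K := mem_of_regular_of_index K hM hk hy
  have h2 : ((∑ χ : IrrCharacter (Subgroup.centralizer ({z} : Set G)),
      if χ ∈ principalBlock M (Subgroup.centralizer ({z} : Set G)) then
        ‖(χ : Subgroup.centralizer ({z} : Set G) → ℂ) y‖ ^ 2 else 0 : ℝ) : ℂ) =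
      ((Nat.card (↥(Subgroup.centralizer ({z} : Set G)) ⧸ K) : ℕ) : ℂ) := by
    rw [← Char.sum_degree_sq (G := ↥(Subgroup.centralizer ({z} : Set G)) ⧸ K), Complex.ofReal_sum]
    rw [Fintype.sum_equiv (Char.inflateEquiv K) (fun ψ => (ψ : ↥(Subgroup.centralizer ({z} : Set G)) ⧸ K → ℂ) 1 ^ 2)
      (fun χ => (χ.1 : Subgroup.centralizer ({z} : Set G) → ℂ) 1 ^ 2)
      (fun ψ => by rw [Char.inflateEquiv_apply, QuotientGroup.mk_one]),
      ← Finset.sum_subtype (Finset.univ.filter fun χ : IrrCharacter (Subgroup.centralizer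
          ({z} : Set G)) => χ ∈ principalBlock M (Subgroup.centralizer ({z} : Set G)))
        (fun χ => by simp [hblock])
        (fun χ => (χ : Subgroup.centralizer ({z} : Set G) → ℂ) 1 ^ 2),
      Finset.sum_filter]
    refine Finset.sum_congr rfl fun χ _ => ?_
    split_ifs with h
    · rw [(hblock χ).1 h y hyK, irr_one_eq_natCast χ]
      simp
    · simp
  have hcard : Nat.card (↥(Subgroup.centralizer ({z} : Set G)) ⧸ K) =
      p ^ (Nat.card (Subgroup.centralizer ({z} : Set G))).factorization p := by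
    have h3 := K.card_mul_index
    rw [hk] at h3
    rw [← Subgroup.index, hk, ← h3, Nat.factorization_mul Nat.card_pos.ne' (pow_ne_zero _ hM.1.ne_zero),
      Finsupp.add_apply, Nat.factorization_eq_zero_of_not_dvd hpK, hM.1.factorization_pow,
      Finsupp.single_eq_same, zero_add]
  apply Complex.ofReal_injective
  rw [h2, hcard]
  push_cast
  rfl

end Cfsg.Agent.S0947
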