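import Cfsg.Statements.S0971
import Cfsg.Agent.Lib.Block.FirstMain
import Cfsg.Agent.Lib.Block.Normal
-- import your own Cfsg.Agent.* helpers here

set_option autoImplicit false
open Cfsg

open Cfsg Cfsg.Agent.Lib.Block
open Cfsg.Agent.Lib

namespace Cfsg.Agent.S0971

/-- Let Q be a normal p-subgroup of the finite group G, let N = Q ⊔ C_G(Q) (a normal subgroup) and let b be a block of N relative to a maximal ideal M of the algebraic integers containing p. Then b induces some block of G, and every block B of G containing a character whose restriction to N has a constituent in b is induced by b. -/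
theorem result {G : Type*} [Group G] [Fintype G] (p : ℕ) [Fact p.Prime] (M : Ideal Cfsg.AlgInt) (hM : Cfsg.IsPModular p M) (Q : Subgroup G) [Q.Normal] (hQ : IsPGroup p Q) [Fintype ↥(Q ⊔ Subgroup.centralizer (Q : Set G))] (b : Set (Cfsg.IrrCharacter ↥(Q ⊔ Subgroup.centralizer (Q : Set G)))) (hb : Cfsg.IsPBlock M b) : Cfsg.InducedBlockDefined M (Q ⊔ Subgroup.centralizer (Q : Set G)) b ∧ ∀ B : Set (Cfsg.IrrCharacter G), Cfsg.IsPBlock M B → (∃ χ ∈ B, ∃ θ ∈ b, Cfsg.classInner (fun n : ↥(Q ⊔ Subgroup.centralizer (Q : Set G)) => (χ : G → ℂ) n) (θ : ↥(Q ⊔ Subgroup.centralizer (Q : Set G)) → ℂ) ≠ 0) → Cfsg.IsInducedBlock M (Q ⊔ Subgroup.centralizer (Q : Set G)) b B := by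
  classical
  haveI := hM.2.1
  haveI : Fact p.Prime := ⟨hM.1⟩
  haveI hNn : (Q ⊔ Subgroup.centralizer (Q : Set G)).Normal := inferInstance
  have hHN : Q ⊔ Subgroup.centralizer (Q : Set G) ≤ Subgroup.normalizer (Q : Set G) := by
    rw [Subgroup.normalizer_eq_top]
    exact le_top
  refine ⟨inducedBlockDefined_of_brauer hM hQ le_sup_left le_sup_right hHN hb, ?_⟩
  rintro B hB ⟨χ, hχ, θ, hθ, hne⟩
  refine isInducedBlock_iff.2 ⟨hb, hB, fun ξ hξ ψ hψ g => ?_⟩
  have h1 : redC M (inducedCentralChar (Q ⊔ Subgroup.centralizer (Q : Set G))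
      (ξ : ↥(Q ⊔ Subgroup.centralizer (Q : Set G)) → ℂ) g) =
      redC M (inducedCentralChar (Q ⊔ Subgroup.centralizer (Q : Set G))
      (θ : ↥(Q ⊔ Subgroup.centralizer (Q : Set G)) → ℂ) g) := by
    rw [inducedCentralChar_eq, inducedCentralChar_eq]
    exact redC_omega_eq_of_sameBlock (sameBlock_of_mem hb hξ hθ)
      (isClassCoeff_toSub (isClassCoeff_classSum g)) (intR_toSub (intR_classSum g))
  rw [h1, sameBlock_iff.1 (sameBlock_of_mem hB hψ hχ) g]
  by_cases hg : g ∈ Q ⊔ Subgroup.centralizer (Q : Set G)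
  · rw [centralChar_eq_of_constituent _ hne ⟨g, hg⟩]
  · have h0 : toSub (Q ⊔ Subgroup.centralizer (Q : Set G)) (classSum ℂ g) = 0 := by
      refine alg_ext fun n => ?_
      rw [coeff_toSub, coeff_classSum, if_neg, MonoidAlgebra.coeff_zero, Finsupp.zero_apply]
      intro hc
      obtain ⟨c, hc⟩ := isConj_iff.1 hc.symm
      exact hg (hc ▸ hNn.conj_mem _ n.2 c)
    rw [inducedCentralChar_eq, h0, omega_zero, redC_zero]
    by_contra hne'
    exact hg (Subgroup.mem_sup_right (mem_centralizer_of_lambda hM hQ χ (Ne.symm hne')))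

end Cfsg.Agent.S0971
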