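import Cfsg.Statements.S0039
import Cfsg.Agent.Lib.Coprime.Basic

set_option autoImplicit false
open scoped Pointwise commutatorElement
open Cfsg

namespace Cfsg.Agent.S0039

/-- In a finite group that is a semidirect product of a normal subgroup K by a nontrivial subgroup H, H is a Frobenius complement exactly when each nonidentity element of H acts without nonidentity fixed points on K by conjugation. -/
theorem result {G : Type*} [Group G] [Finite G] (K H : Subgroup G) [K.Normal]
    (hc : Subgroup.IsComplement' K H) (hK : K ≠ ⊥) (hH : H ≠ ⊥) :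
    Cfsg.IsFrobeniusComplement H ↔ ∀ h ∈ H, h ≠ 1 → K ⊓ Subgroup.centralizer {h} = ⊥ := by
  have hd : ∀ z, z ∈ K → z ∈ H → z = 1 := fun z hzK hzH => Subgroup.disjoint_def.mp hc.disjoint hzK hzH
  constructor
  · intro hF h hh hh1
    rw [eq_bot_iff]
    rintro k ⟨hk, hkc⟩
    rw [Subgroup.mem_bot]
    by_contra hk1
    have : h ∈ H ⊓ MulAut.conj k • H := by
      refine ⟨hh, Lib.Coprime.mem_conj_smul.mpr ?_⟩
      rw [mul_assoc, ← Subgroup.mem_centralizer_singleton_iff.mp hkc, inv_mul_cancel_left]
      exact hh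
    rw [hF.2.2 k fun hkH => hk1 (hd k hk hkH), Subgroup.mem_bot] at this
    exact hh1 this
  · intro hfpf
    refine ⟨hH, fun h => hK ?_, fun g hg => ?_⟩
    · subst h
      exact Subgroup.isComplement'_top_right.mp hc
    · rw [eq_bot_iff]
      rintro x ⟨hx, hxg⟩
      rw [Subgroup.mem_bot]
      by_contra hx1
      obtain ⟨⟨⟨k, hk⟩, ⟨h, hh⟩⟩, rfl⟩ := hc.2 g
      replace hxg : x ∈ MulAut.conj k • MulAut.conj h • H := Lib.Coprime.conj_smul_mul k h H ▸ hxg
      rw [Lib.Coprime.conj_smul_eq_self (Subgroup.le_normalizer hh), Lib.Coprime.mem_conj_smul] at hxg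
      have h1 : x⁻¹ * (k⁻¹ * x * k) = 1 := by
        refine hd _ ?_ (H.mul_mem (H.inv_mem hx) hxg)
        have h2 := K.mul_mem (Subgroup.Normal.conj_mem inferInstance _ (K.inv_mem hk) x⁻¹) hk
        simpa [mul_assoc] using h2
      have hkc : k ∈ K ⊓ Subgroup.centralizer {x} := by
        refine ⟨hk, Subgroup.mem_centralizer_singleton_iff.mpr ?_⟩
        calc k * x = k * (x * (x⁻¹ * (k⁻¹ * x * k))) := by rw [h1, mul_one]
          _ = x * k := by group
      rw [hfpf x hx hx1, Subgroup.mem_bot] at hkc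
      subst hkc
      exact hg (by simpa using hh)

end Cfsg.Agent.S0039
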