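import Cfsg.Statements.S0040
import Cfsg.Agent.Lib.UniqueInvolution
import Cfsg.Agent.Lib.Coprime.Abelian

set_option autoImplicit false
open Cfsg

namespace Cfsg.Agent.S0040

theorem result {G : Type*} [Group G] [Finite G] (K H : Subgroup G) [K.Normal]
    (hc : Subgroup.IsComplement' K H) (hK : K ≠ ⊥) (hfpf : ∀ h ∈ H, h ≠ 1 → K ⊓ Subgroup.centralizer {h} = ⊥)
    (p : ℕ) [Fact p.Prime] (P : Sylow p H) :
    IsCyclic P ∨ ∃ n : ℕ, Nonempty (P ≃* QuaternionGroup (2 ^ n)) := by
  classical
  have hp : p.Prime := Fact.out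
  suffices huniq : ∀ A B : Subgroup P, Nat.card A = p → Nat.card B = p → A = B by
    rcases Cfsg.Agent.Lib.UniqueInvolution.isCyclic_or_quaternion P.isPGroup' huniq with h | ⟨-, n, -, h⟩
    · exact Or.inl h
    · exact Or.inr ⟨n, h⟩
  intro A B hA hB
  have : Nontrivial (P : Subgroup H) := by
    rw [← Finite.one_lt_card_iff_nontrivial]
    refine lt_of_lt_of_le ?_ (Nat.le_of_dvd Nat.card_pos (Subgroup.card_subgroup_dvd_card A))
    rw [hA]; exact hp.one_lt
  have hcentre : Nontrivial (Subgroup.center (P : Subgroup H)) := P.isPGroup'.center_nontrivial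
  obtain ⟨k, hk, hk'⟩ := (P.isPGroup'.to_subgroup _).nontrivial_iff_card.1 hcentre
  obtain ⟨z, hz⟩ := exists_prime_orderOf_dvd_card' (G := Subgroup.center (P : Subgroup H)) p
    (hk'.symm ▸ dvd_pow_self p hk.ne')
  set y : (P : Subgroup H) := (z : (P : Subgroup H)) with hy
  have hyo : orderOf y = p := by rw [hy, Subgroup.orderOf_coe, hz]
  suffices key : ∀ C : Subgroup P, Nat.card C = p → C = Subgroup.zpowers y by
    rw [key A hA, key B hB]
  intro C hC
  by_contra hne
  obtain ⟨x, hxC, hxy⟩ : ∃ x ∈ C, x ∉ Subgroup.zpowers y := by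
    by_contra hcon
    push Not at hcon
    exact hne (Subgroup.eq_of_le_of_card_ge hcon (by rw [Nat.card_zpowers, hyo, hC]))
  have hxy' : Commute x y := (Subgroup.mem_center_iff.1 z.2 x)
  let E : Subgroup P := Subgroup.zpowers y ⊔ Subgroup.zpowers x
  have hEc : IsMulCommutative E := by
    rw [show E = Subgroup.closure {y, x} by
      simp only [E, Subgroup.zpowers_eq_closure, ← Subgroup.closure_union, Set.singleton_union]]
    refine Subgroup.isMulCommutative_closure fun a ha b hb => ?_
    simp only [Set.mem_insert_iff, Set.mem_singleton_iff] at ha hb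
    rcases ha with rfl | rfl <;> rcases hb with rfl | rfl
    · rfl
    · exact hxy'.symm.eq
    · exact hxy'.eq
    · rfl
  let φ : (P : Subgroup H) →* G := H.subtype.comp (P : Subgroup H).subtype
  have hφ : Function.Injective φ := Subtype.val_injective.comp Subtype.val_injective
  let A₀ : Subgroup G := E.map φ
  have hA₀H : A₀ ≤ H := by
    rintro _ ⟨u, -, rfl⟩
    exact u.1.2
  have : IsMulCommutative A₀ := Subgroup.map_isMulCommutative _ _
  have hnc : ¬IsCyclic A₀ := by
    intro hcyc
    have : IsCyclic E :=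
      isCyclic_of_surjective (E.equivMapOfInjective φ hφ).symm.toMonoidHom
        (E.equivMapOfInjective φ hφ).symm.surjective
    obtain ⟨g, hg⟩ := this.exists_generator
    have hx1 : x ≠ 1 := fun h => hxy (h ▸ Subgroup.one_mem _)
    have hxo : orderOf x = p := by
      have h := orderOf_dvd_natCard (⟨x, hxC⟩ : C)
      rw [hC, Subgroup.orderOf_mk] at h
      exact ((Nat.dvd_prime hp).1 h).resolve_left (by simpa using hx1)
    have := Fintype.ofFinite E
    let y' : E := ⟨y, Subgroup.mem_sup_left (Subgroup.mem_zpowers y)⟩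
    let x' : E := ⟨x, Subgroup.mem_sup_right (Subgroup.mem_zpowers x)⟩
    have hy' : orderOf y' = p := by rw [Subgroup.orderOf_mk, hyo]
    have hsub : insert x' (Finset.univ.filter fun e : E => e ∈ Subgroup.zpowers y') ⊆
        Finset.univ.filter fun e : E => e ^ p = 1 := by
      intro e he
      rcases Finset.mem_insert.1 he with rfl | he
      · simp only [Finset.mem_filter, Finset.mem_univ, true_and]
        exact orderOf_dvd_iff_pow_eq_one.1 (by rw [Subgroup.orderOf_mk, hxo])
      · simp only [Finset.mem_filter, Finset.mem_univ, true_and] at he ⊢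
        exact orderOf_dvd_iff_pow_eq_one.1 ((orderOf_dvd_of_mem_zpowers he).trans hy'.dvd)
    have h2 := (Finset.card_le_card hsub).trans (IsCyclic.card_pow_eq_one_le hp.pos)
    rw [Finset.card_insert_of_notMem (by
        simp only [Finset.mem_filter, Finset.mem_univ, true_and]
        intro hmem
        obtain ⟨j, hj⟩ := Subgroup.mem_zpowers_iff.1 hmem
        exact hxy ⟨j, congrArg Subtype.val hj⟩)] at h2
    rw [show (Finset.univ.filter fun e : E => e ∈ Subgroup.zpowers y').card = p by
      rw [← Fintype.card_subtype, ← Nat.card_eq_fintype_card]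
      exact (Nat.card_zpowers y').trans hy'] at h2
    omega
  -- coprimality: an element of order `p` fixes only the identity
  have hpK : ¬p ∣ Nat.card K := by
    intro hdvd
    let c : Subgroup.zpowers (φ y) →* MulAut K :=
      MulAut.conjNormal.comp (Subgroup.zpowers (φ y)).subtype
    let act : MulAction (Subgroup.zpowers (φ y)) K := MulAction.compHom K c
    have hpg : IsPGroup p (Subgroup.zpowers (φ y)) := IsPGroup.of_card (n := 1) (by
      rw [Nat.card_zpowers, orderOf_injective φ hφ, hyo, pow_one])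
    obtain ⟨k, hk1, hk2⟩ : ∃ k : K, k ≠ 1 ∧ k ∈ MulAction.fixedPoints (Subgroup.zpowers (φ y)) K := by
      obtain ⟨b, hb, hb'⟩ := hpg.exists_fixed_point_of_prime_dvd_card_of_fixed_point K hdvd
        (a := (1 : K)) (fun g => map_one (c g))
      exact ⟨b, fun h => hb' h.symm, hb⟩
    have hk3 := hk2 ⟨φ y, Subgroup.mem_zpowers _⟩
    have hk4 : φ y * (k : G) * (φ y)⁻¹ = k := congrArg Subtype.val hk3
    have hmem : (k : G) ∈ K ⊓ Subgroup.centralizer {φ y} :=
      ⟨k.2, Subgroup.mem_centralizer_singleton_iff.2 (mul_inv_eq_iff_eq_mul.1 hk4).symm⟩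
    rw [hfpf (φ y) (y.1.2) (fun h => by
      have := orderOf_eq_one_iff.2 h
      rw [orderOf_injective φ hφ, hyo] at this
      exact hp.one_lt.ne' this)] at hmem
    exact hk1 (Subtype.ext (Subgroup.mem_bot.1 hmem))
  have hcop : (Nat.card A₀).Coprime (Nat.card K) := by
    obtain ⟨j, hj⟩ := IsPGroup.iff_card.1 ((P.isPGroup'.to_subgroup E).map φ)
    rw [hj]
    exact (hp.coprime_iff_not_dvd.2 hpK).pow_left j
  have hgen := Cfsg.Agent.Lib.Coprime.fixGen_eq hnc (le_top.trans (Subgroup.normalizer_eq_top (H := K)).ge) hcop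
  refine hK (hgen ▸ ?_)
  refine eq_bot_iff.2 (iSup₂_le fun a ha => ?_)
  rw [hfpf a (hA₀H ha.1) ha.2]

end Cfsg.Agent.S0040
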