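import Cfsg.Statements.S0041
import Cfsg.Agent.Lib.Coprime.Abelian
import Cfsg.Agent.Lib.FitHeight.Operators
import Mathlib.GroupTheory.IndexNormal
import Mathlib.GroupTheory.Sylow

set_option autoImplicit false
open Cfsg

namespace Cfsg.Agent.S0041

/-- A group acting on a nontrivial abelian group so that no nonidentity element has a nonidentity fixed point is cyclic, provided it is abelian or its order is a product of two (possibly equal) primes. -/
theorem result {G : Type*} [Group G] [Finite G] (A V : Subgroup G) [IsMulCommutative V]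
    (hV : V ≠ ⊥) (hAV : A ≤ Subgroup.normalizer (V : Set G)) (hfpf : ∀ a ∈ A, a ≠ 1 → V ⊓ Subgroup.centralizer {a} = ⊥)
    (hA : IsMulCommutative A ∨ ∃ p q : ℕ, p.Prime ∧ q.Prime ∧ Nat.card A = p * q) : IsCyclic A := by
  classical
  let Γ := ↥(Subgroup.normalizer (V : Set G))
  have hcop : (Nat.card A).Coprime (Nat.card V) := by
    refine Nat.coprime_of_dvd fun r hr hrA hrV => ?_
    haveI := Fact.mk hr
    obtain ⟨a, ha⟩ := exists_prime_orderOf_dvd_card' r hrA
    have ha1 : (a : G) ≠ 1 := fun h => hr.ne_one (by rw [← ha, ← Subgroup.orderOf_coe, h, orderOf_one])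
    let Z : Subgroup Γ := Subgroup.zpowers ⟨a, hAV a.2⟩
    letI : MulAction Γ V := MulAction.compHom V V.normalizerMonoidHom
    have hZ : IsPGroup r Z := IsPGroup.of_card (n := 1) (by
      rw [Nat.card_zpowers, Subgroup.orderOf_mk, Subgroup.orderOf_coe, ha, pow_one])
    have h := hZ.card_modEq_card_fixedPoints V
    have hs : MulAction.fixedPoints Z V = {1} := Set.ext fun v => ⟨fun hv => by
      have h1 : (a : G) * v * (a : G)⁻¹ = v :=
        congrArg Subtype.val (hv ⟨_, Subgroup.mem_zpowers _⟩)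
      have h2 : (v : G) ∈ V ⊓ Subgroup.centralizer {(a : G)} :=
        ⟨v.2, Subgroup.mem_centralizer_singleton_iff.mpr (mul_inv_eq_iff_eq_mul.mp h1).symm⟩
      rw [hfpf a a.2 ha1, Subgroup.mem_bot] at h2
      exact Subtype.ext h2, fun hv g => by
        rw [Set.mem_singleton_iff.mp hv]; exact map_one (V.normalizerMonoidHom (g : Γ))⟩
    rw [hs, Nat.card_coe_set_eq, Set.ncard_singleton, Nat.ModEq, Nat.mod_eq_of_lt hr.one_lt,
      Nat.mod_eq_zero_of_dvd hrV] at h
    exact zero_ne_one h
  have habel : IsMulCommutative A → IsCyclic A := fun hc => by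
    by_contra hcy
    refine hV (eq_bot_iff.mpr ?_)
    rw [← Lib.Coprime.fixGen_eq hcy hAV hcop]
    exact iSup₂_le fun a ha => (hfpf a ha.1 ha.2).le
  by_cases hc : IsMulCommutative A
  · exact habel hc
  obtain ⟨p, q, hp, hq, hpq⟩ := hA.resolve_left hc
  exfalso
  by_cases hne : p = q
  · haveI := Fact.mk hp
    exact hc (IsPGroup.isMulCommutative_of_card_eq_prime_sq (p := p) (by rw [hpq, ← hne, pow_two]))
  wlog hlt : p < q generalizing p q
  · exact this q p hq hp (by rw [hpq, mul_comm]) (Ne.symm hne) (by omega)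
  haveI := Fact.mk hp
  haveI := Fact.mk hq
  obtain ⟨y, hy⟩ := exists_prime_orderOf_dvd_card' (G := A) q ⟨p, by rw [hpq, mul_comm]⟩
  obtain ⟨t, ht⟩ := exists_prime_orderOf_dvd_card' (G := A) p ⟨q, hpq⟩
  have hQn : (Subgroup.zpowers y).Normal := by
    refine Subgroup.normal_of_index_eq_minFac_card ?_
    have h1 := (Subgroup.zpowers y).card_mul_index
    rw [Nat.card_zpowers, hy, hpq, mul_comm p q] at h1
    rw [Nat.eq_of_mul_eq_mul_left hq.pos h1, hpq]
    have h2 := Nat.minFac_le_of_dvd hp.two_le (dvd_mul_right p q)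
    have hne1 : p * q ≠ 1 := fun h => hp.ne_one (Nat.eq_one_of_mul_eq_one_right h)
    have h3 := Nat.minFac_prime hne1
    rcases h3.dvd_mul.mp (Nat.minFac_dvd (p * q)) with h | h
    · exact ((Nat.prime_dvd_prime_iff_eq h3 hp).mp h).symm
    · have := (Nat.prime_dvd_prime_iff_eq h3 hq).mp h; omega
  have hgen : Subgroup.closure {y, t} = ⊤ := by
    refine Subgroup.eq_top_of_card_eq _ (Nat.dvd_antisymm (Subgroup.card_subgroup_dvd_card _) ?_)
    rw [hpq]
    exact Nat.Coprime.mul_dvd_of_dvd_of_dvd ((Nat.coprime_primes hp hq).mpr hne)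
      (ht ▸ Nat.card_zpowers t ▸ Subgroup.card_dvd_of_le
        (Subgroup.zpowers_le.mpr (Subgroup.subset_closure (Set.mem_insert_of_mem _ rfl))))
      (hy ▸ Nat.card_zpowers y ▸ Subgroup.card_dvd_of_le
        (Subgroup.zpowers_le.mpr (Subgroup.subset_closure (Set.mem_insert _ _))))
  letI : CommGroup V := { (inferInstance : Group V) with mul_comm := fun a b => mul_comm' a b }
  letI : MulDistribMulAction Γ V := MulDistribMulAction.compHom V V.normalizerMonoidHom
  let ι : A →* Γ := Subgroup.inclusion hAV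
  have hcomm : ¬ (t * y = y * t) := fun h => hc ⟨⟨fun a b => by
    have hcc : Subgroup.closure {y, t} ≤ Subgroup.centralizer (Subgroup.closure ({y, t} : Set A) : Set A) := by
      rw [Subgroup.centralizer_closure, Subgroup.closure_le]
      rintro x (rfl | rfl) <;> refine Subgroup.mem_centralizer_iff.mpr ?_ <;> rintro z (rfl | rfl)
      · rfl
      · exact h
      · exact h.symm
      · rfl
    rw [hgen] at hcc
    exact (Subgroup.mem_centralizer_iff.mp (hcc (Subgroup.mem_top a)) b (Subgroup.mem_top b)).symm⟩⟩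
  have hy1 : y ≠ 1 := fun h => hq.ne_one (by rw [← hy, h, orderOf_one])
  have key : ∀ v : V, ι y • v = v := fun v => by
    refine Lib.FitHeight.smul_eq_self_of_fpf (Γ := Γ) (V := V) (Q := (Subgroup.zpowers y).map ι) (t := ι t) hp
      (by rw [← map_pow, ← ht, pow_orderOf_eq_one, map_one])
      (Subgroup.le_normalizer_map _ (Subgroup.mem_map_of_mem _ (by
        rw [Subgroup.normalizer_eq_top]; exact Subgroup.mem_top t))) ?_ ?_ ?_
      (Subgroup.mem_map_of_mem _ (Subgroup.mem_zpowers y)) v
    · rintro _ ⟨z, hz, rfl⟩ hzt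
      rw [← map_mul, ← map_mul] at hzt
      have hzt' : t * z = z * t := Subgroup.inclusion_injective hAV hzt
      by_contra hz1
      have hzy : Subgroup.zpowers z = Subgroup.zpowers y := Subgroup.eq_of_le_of_card_ge
        (Subgroup.zpowers_le.mpr hz) (le_of_eq (by
          rw [Nat.card_zpowers, Nat.card_zpowers, hy]
          exact (((Nat.dvd_prime hq).mp (hy ▸ orderOf_dvd_of_mem_zpowers hz)).resolve_left fun h =>
            hz1 (by rw [orderOf_eq_one_iff.mp h, map_one])).symm))
      apply hcomm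
      obtain ⟨i, hi⟩ := Subgroup.mem_zpowers_iff.mp (hzy.symm ▸ Subgroup.mem_zpowers y : y ∈ Subgroup.zpowers z)
      rw [← hi]
      exact (Commute.zpow_right hzt' i).eq
    · intro v hv
      have h1 : ((t : A) : G) * v * ((t : A) : G)⁻¹ = v := congrArg Subtype.val hv
      have h2 : (v : G) ∈ V ⊓ Subgroup.centralizer {((t : A) : G)} :=
        ⟨v.2, Subgroup.mem_centralizer_singleton_iff.mpr (mul_inv_eq_iff_eq_mul.mp h1).symm⟩
      rw [hfpf _ t.2 (fun h => hp.ne_one (by rw [← ht, show t = 1 from Subtype.ext h, orderOf_one])),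
        Subgroup.mem_bot] at h2
      exact Subtype.ext h2
    · rw [Subgroup.card_map_of_injective (Subgroup.inclusion_injective hAV), Nat.card_zpowers, hy]
      exact hcop.coprime_dvd_left ⟨p, by rw [hpq, mul_comm]⟩
  obtain ⟨w, hw, hw1⟩ := (V.bot_or_exists_ne_one).resolve_left hV
  have h1 : ((y : A) : G) * w * ((y : A) : G)⁻¹ = w := congrArg Subtype.val (key ⟨w, hw⟩)
  have h2 : w ∈ V ⊓ Subgroup.centralizer {((y : A) : G)} :=
    ⟨hw, Subgroup.mem_centralizer_singleton_iff.mpr (mul_inv_eq_iff_eq_mul.mp h1).symm⟩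
  rw [hfpf _ y.2 (fun h => hy1 (Subtype.ext h)), Subgroup.mem_bot] at h2
  exact hw1 h2

end Cfsg.Agent.S0041
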