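import Cfsg.Statements.S0069
import Cfsg.Agent.S0040
import Cfsg.Agent.S0041
import Cfsg.Agent.Lib.FPF.FrobeniusKernel
import Cfsg.Agent.Lib.Coprime.Action
import Cfsg.Agent.Lib.OddLocal.CyclicSub

set_option autoImplicit false
open Cfsg

namespace Cfsg.Agent.S0069

open Subgroup

theorem commute_of_prime_fixed {G : Type*} [Group G] [Finite G] (C : Subgroup G) [C.Normal]
    (hC : ∀ a ∈ C, ∀ b ∈ C, a * b = b * a) (y : G) (hy : (orderOf y).Coprime (Nat.card C))
    (hfix : ∀ w ∈ C, (orderOf w).Prime → y * w = w * y) : ∀ c ∈ C, y * c = c * y := by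
  intro c hc
  by_contra hne
  let f : C →* C :=
    { toFun := fun v => ⟨y * (v : G) * y⁻¹ * (v : G)⁻¹,
        mul_mem (Normal.conj_mem inferInstance _ v.2 y) (inv_mem v.2)⟩
      map_one' := by simp
      map_mul' := fun u v => Subtype.ext (by
        show y * ((u : G) * v) * y⁻¹ * ((u : G) * v)⁻¹ = y * u * y⁻¹ * (u : G)⁻¹ * (y * v * y⁻¹ * (v : G)⁻¹)
        have h1 := hC ((y * u * y⁻¹) * (u : G)⁻¹)
          (mul_mem (Normal.conj_mem inferInstance _ u.2 y) (inv_mem u.2)) (y * (v : G) * y⁻¹)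
          (Normal.conj_mem inferInstance _ v.2 y)
        rw [show y * u * y⁻¹ * (u : G)⁻¹ * (y * v * y⁻¹ * (v : G)⁻¹)
            = y * u * y⁻¹ * (u : G)⁻¹ * (y * v * y⁻¹) * (v : G)⁻¹ by group, h1,
          show y * ((u : G) * v) * y⁻¹ * ((u : G) * v)⁻¹
            = (y * u * y⁻¹) * (y * v * y⁻¹) * (v : G)⁻¹ * (u : G)⁻¹ by group,
          show y * (v : G) * y⁻¹ * (y * u * y⁻¹ * (u : G)⁻¹) * (v : G)⁻¹
            = (y * v * y⁻¹) * (y * u * y⁻¹) * ((u : G)⁻¹ * (v : G)⁻¹) by group,
          hC _ (Normal.conj_mem inferInstance _ v.2 y) _ (Normal.conj_mem inferInstance _ u.2 y),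
          hC _ (inv_mem u.2) _ (inv_mem v.2)]
        group) }
  have hr : f.range ≠ ⊥ := fun e => hne (by
    have h1 : f ⟨c, hc⟩ = 1 := mem_bot.mp (e ▸ ⟨⟨c, hc⟩, rfl⟩)
    have h2 : y * c * y⁻¹ * c⁻¹ = 1 := congrArg Subtype.val h1
    have h3 := eq_of_mul_inv_eq_one h2
    exact mul_inv_eq_iff_eq_mul.mp h3)
  obtain ⟨s, hs, hsd⟩ := Nat.exists_prime_and_dvd (fun h => hr (card_eq_one.mp h) : Nat.card f.range ≠ 1)
  have := Fact.mk hs
  obtain ⟨w, hw⟩ := exists_prime_orderOf_dvd_card' (G := f.range) s hsd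
  obtain ⟨⟨v, hv⟩, hvw⟩ := w.2
  let z : G := ((w : C) : G)
  have hz : orderOf z = s := by rw [orderOf_coe, orderOf_coe, hw]
  have hzv : y * v * y⁻¹ * v⁻¹ = z := congrArg Subtype.val hvw
  have hyz : y * z = z * y := hfix z (w : C).2 (hz.symm ▸ hs)
  have hpow : ∀ n : ℕ, y ^ n * v * (y ^ n)⁻¹ = z ^ n * v := by
    intro n
    induction n with
    | zero => simp
    | succ n ih =>
      rw [pow_succ' y, show y * y ^ n * v * (y * y ^ n)⁻¹ = y * (y ^ n * v * (y ^ n)⁻¹) * y⁻¹ by group, ih]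
      rw [show y * (z ^ n * v) * y⁻¹ = (y * z ^ n) * y⁻¹ * (y * v * y⁻¹ * v⁻¹) * v by group, hzv,
        ((show Commute y z from hyz).pow_right n).eq, pow_succ]
      group
  have h1 := hpow (orderOf y)
  rw [pow_orderOf_eq_one, one_mul, inv_one, mul_one] at h1
  have h2 : s ∣ orderOf y := hz ▸ orderOf_dvd_of_pow_eq_one (right_eq_mul.mp h1)
  exact hs.ne_one (Nat.eq_one_of_dvd_coprimes hy h2 (hz ▸ Subgroup.orderOf_dvd_natCard C (w : C).2))

theorem aux {G : Type*} [Group G] [Finite G] (K H : Subgroup G) [K.Normal]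
    (hc : IsComplement' K H) (hK : K ≠ ⊥) (hH : H ≠ ⊥)
    (hfpf : ∀ h ∈ H, h ≠ 1 → K ⊓ centralizer {h} = ⊥) : center H ≠ ⊥ := by
  classical
  have hnil : Group.IsNilpotent K := by
    obtain ⟨r, hr, hrd⟩ := Nat.exists_prime_and_dvd (fun h => hH (card_eq_one.1 h) : Nat.card H ≠ 1)
    have := Fact.mk hr
    obtain ⟨h, hh⟩ := exists_prime_orderOf_dvd_card' (G := H) r hrd
    have hh1 : (h : G) ≠ 1 := fun e => hr.ne_one (by rw [← hh, ← orderOf_coe, e, orderOf_one])
    refine Lib.FPF.isNilpotent_of_prime_element hr (h := (h : G))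
      (by rw [← hh, ← orderOf_coe, pow_orderOf_eq_one]) fun n hn e => ?_
    exact mem_bot.mp (hfpf h h.2 hh1 ▸ mem_inf.mpr ⟨hn, mem_centralizer_singleton_iff.mpr e.symm⟩)
  haveI := hnil
  haveI : Nontrivial K := (nontrivial_iff_ne_bot K).mpr hK
  let V : Subgroup G := (center K).map K.subtype
  haveI : V.Normal := inferInstance
  have hV1 : V ≠ ⊥ := fun e => Group.IsNilpotent.center_ne_bot (G := K)
    ((map_eq_bot_iff_of_injective _ K.subtype_injective).mp e)
  have hVc : ∀ a ∈ V, ∀ b ∈ V, a * b = b * a := by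
    rintro _ ⟨a, ha, rfl⟩ _ ⟨b, -, rfl⟩
    exact (congrArg Subtype.val (mem_center_iff.mp ha b)).symm
  haveI : IsMulCommutative V := ⟨⟨fun a b => Subtype.ext (hVc a a.2 b b.2)⟩⟩
  have hVfpf : ∀ h ∈ H, ∀ v ∈ V, h ≠ 1 → h * v = v * h → v = 1 := fun h hh v hv h1 e =>
    mem_bot.mp (hfpf h hh h1 ▸ mem_inf.mpr ⟨map_subtype_le _ hv, mem_centralizer_singleton_iff.mpr e.symm⟩)
  by_cases h2 : 2 ∣ Nat.card H
  · haveI := Fact.mk Nat.prime_two
    obtain ⟨t, ht⟩ := exists_prime_orderOf_dvd_card' (G := H) 2 h2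
    have hinv : ∀ s : H, orderOf s = 2 → ∀ v ∈ V, (s : G) * v * (s : G)⁻¹ = v⁻¹ := by
      intro s hs v hv
      have hs1 : (s : G) ≠ 1 := fun e => by
        have : orderOf (s : G) = 1 := by rw [e, orderOf_one]
        rw [orderOf_coe, hs] at this; omega
      have hss : (s : G) * s = 1 := by rw [← pow_two, ← hs, ← orderOf_coe, pow_orderOf_eq_one]
      have hsv := Normal.conj_mem (inferInstance : V.Normal) v hv (s : G)
      have h := hVfpf s s.2 (v * ((s : G) * v * (s : G)⁻¹)) (mul_mem hv hsv) hs1 ?_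
      · exact eq_inv_of_mul_eq_one_right h
      · calc (s : G) * (v * ((s : G) * v * (s : G)⁻¹))
              = ((s : G) * v * (s : G)⁻¹) * ((s : G) * s * v * ((s : G) * s)⁻¹) * s := by group
            _ = v * ((s : G) * v * (s : G)⁻¹) * s := by rw [hss, hVc v hv _ hsv]; group
    refine fun hbot => ?_
    have htc : t ∈ center H := mem_center_iff.mpr fun g => by
      let s : H := g * t * g⁻¹
      have hs : orderOf s = 2 := by
        rw [show s = MulAut.conj g t from rfl, MulEquiv.orderOf_eq, ht]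
      obtain ⟨v, hv, hv1⟩ := V.bot_or_exists_ne_one.resolve_left hV1
      have he : (s : G)⁻¹ * (t : G) = 1 := by
        by_contra hne
        refine hv1 (hVfpf _ (mul_mem (inv_mem s.2) t.2) v hv hne ?_)
        have h1 := hinv t ht v hv
        have h3 := hinv s hs v hv
        calc (s : G)⁻¹ * t * v = (s : G)⁻¹ * ((t : G) * v * (t : G)⁻¹) * t := by group
          _ = (s : G)⁻¹ * ((s : G) * v * (s : G)⁻¹) * t := by rw [h1, h3]
          _ = v * ((s : G)⁻¹ * t) := by group
      have he' : s = t := Subtype.ext (inv_mul_eq_one.mp he)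
      calc g * t = s * g := by simp [s]
        _ = t * g := by rw [he']
    rw [hbot, mem_bot] at htc
    rw [htc, orderOf_one] at ht; omega
  · haveI hZ : IsZGroup H := ⟨fun q hq P => by
      haveI := Fact.mk hq
      rcases S0040.result K H hc hK hfpf q P with h | ⟨n, ⟨e⟩⟩
      · exact h
      · exfalso
        have h3 : Nat.card P ∣ Nat.card H := card_subgroup_dvd_card _
        rw [Nat.card_congr e.toEquiv, Nat.card_eq_fintype_card, QuaternionGroup.card] at h3
        exact h2 ((Dvd.intro (2 * 2 ^ n) (by ring : 2 * (2 * 2 ^ n) = 4 * 2 ^ n)).trans h3)⟩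
    haveI : Nontrivial H := (nontrivial_iff_ne_bot H).mpr hH
    let C : Subgroup H := commutator H
    haveI := IsZGroup.isCyclic_commutator H
    have hCc : ∀ a ∈ C, ∀ b ∈ C, a * b = b * a := fun a ha b hb =>
      congrArg Subtype.val ((IsCyclic.commGroup (α := C)).mul_comm ⟨a, ha⟩ ⟨b, hb⟩)
    have hcopC : (Nat.card C).Coprime C.index := IsZGroup.coprime_commutator_index H
    obtain ⟨R, hR⟩ := exists_left_complement'_of_coprime (N := C) hcopC
    have hRc : ∀ a ∈ R, ∀ b ∈ R, a * b = b * a := fun a ha b hb => by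
      rw [← commutatorElement_eq_one_iff_mul_comm]
      exact disjoint_def.mp hR.disjoint (by
        rw [commutatorElement_def]; exact mul_mem (mul_mem (mul_mem ha hb) (inv_mem ha)) (inv_mem hb))
        (commutator_mem_commutator (mem_top a) (mem_top b))
    have hRcard : Nat.card R = C.index := by
      have h1 := hR.card_mul
      rw [← C.card_mul_index, mul_comm] at h1
      exact Nat.eq_of_mul_eq_mul_left Nat.card_pos h1
    have hR1 : Nat.card R ≠ 1 := fun h => (IsZGroup.commutator_lt (G := H)).ne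
      (index_eq_one.mp (hRcard ▸ h))
    obtain ⟨r, hr, hrd⟩ := Nat.exists_prime_and_dvd hR1
    have := Fact.mk hr
    obtain ⟨⟨y, hyR⟩, hy⟩ := exists_prime_orderOf_dvd_card' (G := R) r hrd
    rw [Subgroup.orderOf_mk] at hy
    have hy1 : y ≠ 1 := fun e => hr.ne_one (by rw [← hy, e, orderOf_one])
    have hcy : ∀ c ∈ C, y * c = c * y := by
      refine commute_of_prime_fixed C hCc y ?_ fun w hw hws => ?_
      · exact Nat.Coprime.coprime_dvd_left (hy.symm ▸ hrd) (hRcard ▸ hcopC.symm)
      have hZn : (zpowers w).Normal := by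
        refine ⟨fun a ha g => ?_⟩
        obtain ⟨i, rfl⟩ := mem_zpowers_iff.mp ha
        rw [← conj_zpow]
        refine zpow_mem (?_ : g * w * g⁻¹ ∈ zpowers w) i
        have hsub : zpowers (g * w * g⁻¹) = zpowers w := by
          refine Lib.OddLocal.eq_of_card_eq_of_le_cyclic (W := C)
            (zpowers_le.mpr (Normal.conj_mem inferInstance _ hw g)) (zpowers_le.mpr hw) ?_
          rw [Nat.card_zpowers, Nat.card_zpowers, ← MulAut.conj_apply g w, MulEquiv.orderOf_eq]
        exact hsub ▸ mem_zpowers _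
      haveI := hZn
      let W : Subgroup H := zpowers y ⊔ zpowers w
      have hne : r ≠ orderOf w := fun e => hr.ne_one (Nat.eq_one_of_dvd_coprimes hcopC
        (e ▸ Subgroup.orderOf_dvd_natCard C hw) (hRcard ▸ hrd))
      have hW : Nat.card W = r * orderOf w := by
        rw [Lib.Coprime.card_sup_of_coprime (by rw [normalizer_eq_top]; exact le_top)
          (by rw [Nat.card_zpowers, Nat.card_zpowers, hy]; exact (Nat.coprime_primes hr hws).mpr hne),
          Nat.card_zpowers, Nat.card_zpowers, hy]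
      have hcyc : IsCyclic (W.map H.subtype) := S0041.result (W.map H.subtype) V hV1
        (by rw [normalizer_eq_top]; exact le_top)
        (fun a ha ha1 => eq_bot_iff.mpr fun v hv => mem_bot.mpr (hVfpf a (map_subtype_le _ ha) v hv.1 ha1
          (mem_centralizer_singleton_iff.mp hv.2).symm))
        (Or.inr ⟨r, orderOf w, hr, hws, by rw [card_map_of_injective H.subtype_injective, hW]⟩)
      have h3 := (IsCyclic.commGroup (α := W.map H.subtype)).mul_comm
        ⟨y, mem_map_of_mem H.subtype (mem_sup_left (mem_zpowers y))⟩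
        ⟨w, mem_map_of_mem H.subtype (mem_sup_right (mem_zpowers w))⟩
      have h4 : (y : G) * (w : G) = (w : G) * (y : G) := congrArg Subtype.val h3
      exact Subtype.ext h4
    intro hbot
    refine hy1 (mem_bot.mp (hbot ▸ mem_center_iff.mpr fun g => ?_))
    have hg : g ∈ R ⊔ C := hR.sup_eq_top ▸ mem_top g
    obtain ⟨a, ha, b, hb, rfl⟩ := mem_sup_of_normal_right.mp hg
    rw [mul_assoc, ← hcy b hb, ← mul_assoc, hRc a ha y hyR, mul_assoc]


/-- A Frobenius complement has nontrivial centre: if H ≠ 1 complements a nontrivial normal subgroup K and every nonidentity element of H has trivial centraliser in K, then the centre of H is nontrivial. -/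
theorem result {G : Type*} [Group G] [Finite G] (K H : Subgroup G) [K.Normal]
    (hc : Subgroup.IsComplement' K H) (hK : K ≠ ⊥) (hH : H ≠ ⊥) (hfpf : ∀ h ∈ H, h ≠ 1 → K ⊓ Subgroup.centralizer {h} = ⊥) :
    Subgroup.center H ≠ ⊥ := by
  exact aux K H hc hK hH hfpf

end Cfsg.Agent.S0069
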