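import Cfsg.Statements.S0117
import Cfsg.Agent.Lib.Thompson.NPCFunctor
import Cfsg.Agent.Lib.Thompson.ZJCenter

set_option autoImplicit false
open Cfsg Subgroup
open scoped Pointwise commutatorElement

namespace Cfsg.Agent.S0117

universe u

theorem map_centerThompsonOf {p : ℕ} {G G' : Type u} [Group G] [Group G'] (f : G →* G') (S : Subgroup G)
    (hf : Set.InjOn f (S : Set G)) :
    (Cfsg.centerThompsonOf p S).map f = Cfsg.centerThompsonOf p (S.map f) := by
  rw [Cfsg.centerThompsonOf, Cfsg.centerThompsonOf, ← Lib.FPF.thompsonSubgroupOf_map f hf]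
  exact Lib.FPF.map_center_of_injOn f (hf.mono (Lib.FPF.thompsonSubgroupOf_le S))

theorem zje_ne_bot {p : ℕ} [Fact p.Prime] {G : Type*} [Group G] [Finite G] {S : Subgroup G} (hS : IsPGroup p S)
    (h : S ≠ ⊥) : Cfsg.centerThompsonOf p S ≠ ⊥ := by
  have : Nontrivial S := (nontrivial_iff_ne_bot S).mpr h
  obtain ⟨z, -, hzc, hz⟩ := Lib.Thompson.exists_central_order_p hS
    (N := (⊤ : Subgroup S)) bot_ne_top.symm
  obtain ⟨A, hA⟩ := Lib.Thompson.exists_maxElementary (G := S) (p := p)
  have hzA : z ∈ A := Lib.Thompson.mem_maxElementary_of_commute hA (fun a _ => mem_center_iff.mp hzc a)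
    (hz ▸ pow_orderOf_eq_one z)
  intro hb
  have : (z : G) ∈ Cfsg.centerThompsonOf p S := by
    refine ⟨mem_map_of_mem _ (le_sSup hA hzA : z ∈ Cfsg.thompsonSubgroup p S), mem_centralizer_iff.mpr ?_⟩
    rintro _ ⟨y, -, rfl⟩
    exact congrArg Subtype.val (mem_center_iff.mp hzc y)
  rw [hb, mem_bot, OneMemClass.coe_eq_one] at this
  rw [this, orderOf_one] at hz
  exact (Fact.out : p.Prime).ne_one hz.symm

theorem functor (p : ℕ) [Fact p.Prime] (hp : p ≠ 2) :
    Lib.Thompson.IsGlaubermanFunctor.{u} (p := p) (fun G _ S => Cfsg.centerThompsonOf p S) where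
  le _ _ _ := inf_le_left.trans (map_subtype_le _)
  ne_bot _ _ _ _ hS h := zje_ne_bot hS h
  map _ _ _ _ f S hf := map_centerThompsonOf f S fun x hx y hy e => hf x hx y hy e
  normal _ _ _ P hc hst := Lib.Thompson.zj_center_normal hp P hc hst


/-- The Glauberman–Thompson Theorem states that for odd p, a single p-local subgroup, the normalizer of the centre of the Thompson subgroup of a Sylow p-subgroup, decides whether G has a normal p-complement. -/
theorem result {G : Type*} [Group G] [Finite G] {p : ℕ} [Fact p.Prime] (hp : p ≠ 2) (P : Sylow p G) : Cfsg.HasNormalPComplement p G ↔ Cfsg.HasNormalPComplement p (Subgroup.normalizer (Cfsg.centerThompsonOf p (P : Subgroup G) : Set G)) := by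
  exact ⟨fun h => Lib.Transfer.HasNormalPComplement.of_injective _ (subtype_injective _) h,
    fun h => Lib.Thompson.npc_functor (functor p hp) hp P h⟩

end Cfsg.Agent.S0117
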