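import Cfsg.Statements.S0118
import Cfsg.Agent.S0117
import Cfsg.Agent.Lib.Thompson.ActionStable
import Cfsg.Agent.Lib.KInf.FusionCor

set_option autoImplicit false
open Cfsg Subgroup
open scoped Pointwise commutatorElement

namespace Cfsg.Agent.S0118

universe u

open Lib.KInf Lib.LocalFusion

/-- The ZJ functor. -/
def W (p : ℕ) (Q : Type u) [Group Q] : Subgroup Q := Cfsg.centerThompsonOf p (⊤ : Subgroup Q)

theorem induced_W (p : ℕ) {X : Type u} [Group X] (P : Subgroup X) :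
    Cfsg.inducedFunctor (W p) P = Cfsg.centerThompsonOf p P := by
  rw [Cfsg.inducedFunctor, W, S0117.map_centerThompsonOf P.subtype ⊤ P.subtype_injective.injOn,
    ← MonoidHom.range_eq_map, range_subtype]

theorem isCharPFunctor_W (p : ℕ) [Fact p.Prime] : Cfsg.IsCharPFunctor.{u} p (W p) := by
  refine ⟨fun Q _ _ hQ _ => S0117.zje_ne_bot (hQ.to_subgroup _) top_ne_bot, fun Q R _ _ _ _ φ => ?_⟩
  rw [W, W, S0117.map_centerThompsonOf φ.toMonoidHom ⊤ φ.injective.injOn,
    Subgroup.map_top_of_surjective _ φ.surjective]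

theorem noSL2_of_sec {p : ℕ} {G : Type u} [Group G] {X : Type u} [Group X]
    (hfree : ¬ ∃ (H K : Subgroup G) (hK : (K.subgroupOf H).Normal), Nonempty ((H ⧸ K.subgroupOf H) ≃* Matrix.SpecialLinearGroup (Fin 2) (ZMod p)))
    (hX : IsSec G X) : Lib.Thompson.NoSL2 p X := by
  intro L π hπ
  obtain ⟨H, f, hf⟩ := hX.subgroup L
  set ψ := π.comp f
  have hR : (ψ.ker.map H.subtype).subgroupOf H = ψ.ker :=
    Subgroup.comap_map_eq_self_of_injective H.subtype_injective _
  have hn : ((ψ.ker.map H.subtype).subgroupOf H).Normal := by rw [hR]; infer_instance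
  exact hfree ⟨H, ψ.ker.map H.subtype, hn,
    ⟨(QuotientGroup.quotientMulEquivOfEq hR).trans (QuotientGroup.quotientKerEquivOfSurjective ψ (hπ.comp hf))⟩⟩

theorem main {G : Type u} [Group G] [Finite G] {p : ℕ} [Fact p.Prime] (hp : p ≠ 2)
    (hfree : ¬ ∃ (H K : Subgroup G) (hK : (K.subgroupOf H).Normal), Nonempty ((H ⧸ K.subgroupOf H) ≃* Matrix.SpecialLinearGroup (Fin 2) (ZMod p)))
    (P : Sylow p G) (A : Set G) (hA : A ⊆ (P : Set G)) (g : G)
    (hAg : (fun a => g⁻¹ * a * g) '' A ⊆ (P : Set G)) :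
    ∃ n ∈ Subgroup.normalizer (Cfsg.centerThompsonOf p (P : Subgroup G) : Set G),
      ∀ a ∈ A, n⁻¹ * a * n = g⁻¹ * a * g := by
  have h𝓦 : ∀ V ∈ ({W p} : Set (∀ (Q : Type u) [Group Q], Subgroup Q)), Cfsg.IsCharPFunctor.{u} p V := by
    rintro _ rfl; exact isCharPFunctor_W p
  have hSF := sf_of_local (G := G) h𝓦 (fun X _ _ hX hc => sf_of_normal fun S => ⟨W p, rfl, by
    rw [induced_W]
    exact Lib.Thompson.zj_center_normal hp S hc fun Q _ hQ =>
      Lib.Thompson.isPStableOn_of_noSL2 hp (noSL2_of_sec hfree hX) Q hQ⟩) G IsSec.refl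
  have hch := hSF P A g⁻¹ hA (by simpa [imgL] using hAg)
  have hch' := chain_steps (St' := ((normalizer (Cfsg.centerThompsonOf p (P : Subgroup G) : Set G) : Subgroup G) : Set G))
    hch (by
      rintro z ⟨_, ⟨V, rfl, rfl⟩, -, hz⟩
      rw [← induced_W]
      exact hz)
  obtain ⟨m, hm, he⟩ := hch'.collapse
  exact ⟨m⁻¹, inv_mem hm, fun a ha => by simpa using he a ha⟩


/-- Glauberman's ZJ-Theorem, in the case of groups with no section isomorphic to SL(2,p), p odd: conjugation of subsets of a Sylow p-subgroup P inside P is always induced from the normalizer of Z(J(P)). -/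
theorem result {G : Type*} [Group G] [Finite G] {p : ℕ} [Fact p.Prime] (hp : p ≠ 2) (hfree : ¬ ∃ (H K : Subgroup G) (hK : (K.subgroupOf H).Normal), Nonempty ((H ⧸ K.subgroupOf H) ≃* Matrix.SpecialLinearGroup (Fin 2) (ZMod p))) (P : Sylow p G) (A : Set G) (hA : A ⊆ (P : Set G)) (g : G) (hAg : (fun a => g⁻¹ * a * g) '' A ⊆ (P : Set G)) : ∃ n ∈ Subgroup.normalizer (Cfsg.centerThompsonOf p (P : Subgroup G) : Set G), ∀ a ∈ A, n⁻¹ * a * n = g⁻¹ * a * g := by
  exact main hp hfree P A hA g hAg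

end Cfsg.Agent.S0118
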