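import Cfsg.Statements.S1458
import Cfsg.Agent.S0117
import Cfsg.Agent.Lib.Thompson.ZJCenter
import Cfsg.Agent.Lib.Thompson.ActionStable
import Cfsg.Agent.Lib.Hall.Solvable
import Cfsg.Agent.Lib.OddLocal.PLengthOne
import Cfsg.Agent.Lib.Thompson.Constrained

set_option autoImplicit false
open Cfsg

namespace Cfsg.Agent.S1458

/-- Let G be a solvable group of odd order, p a prime and S a Sylow p-subgroup of G. Then the subgroup generated by the centre of the Thompson subgroup of S and O_{p'}(G) is normal in G. -/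
theorem result {G : Type*} [Group G] [Finite G] [Group.IsSolvable G] (hodd : Odd (Nat.card G)) (p : ℕ) [Fact p.Prime] (S : Sylow p G) :
    (Cfsg.centerThompsonOf p (S : Subgroup G) ⊔ Cfsg.pPrimeCore p G).Normal := by
  by_cases hp2 : p = 2
  · subst hp2
    have hS : (S : Subgroup G) = ⊥ := by
      refine Subgroup.eq_bot_of_card_eq _ ?_
      obtain ⟨n, hn⟩ := IsPGroup.iff_card.mp S.2
      rcases Nat.eq_zero_or_pos n with rfl | hpos
      · simpa using hn
      · exfalso
        have h2 : 2 ∣ Nat.card G := (dvd_pow_self 2 hpos.ne').trans (hn ▸ Subgroup.card_subgroup_dvd_card _)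
        obtain ⟨k, hk⟩ := hodd; omega
    have hZ : Cfsg.centerThompsonOf 2 (S : Subgroup G) = ⊥ := by
      rw [eq_bot_iff, ← hS]
      exact (inf_le_left : Cfsg.centerThompsonOf 2 (S : Subgroup G) ≤ _).trans
        (Subgroup.map_subtype_le _)
    rw [hZ, bot_sup_eq]
    exact inferInstance
  let K := Cfsg.pPrimeCore p G
  have : K.Normal := inferInstance
  let π := QuotientGroup.mk' K
  have hoddQ : Odd (Nat.card (G ⧸ K)) := Odd.of_dvd_nat hodd (Subgroup.card_quotient_dvd_card K)
  have hno : Lib.Thompson.NoSL2 p (G ⧸ K) := Lib.Thompson.noSL2_of_abelian_sylow_two hp2 fun T => by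
    have hT : (T : Subgroup (G ⧸ K)) = ⊥ := by
      refine Subgroup.eq_bot_of_card_eq _ ?_
      obtain ⟨n, hn⟩ := IsPGroup.iff_card.mp T.2
      rcases Nat.eq_zero_or_pos n with rfl | hpos
      · simpa using hn
      · exfalso
        have h2 : 2 ∣ Nat.card (G ⧸ K) := (dvd_pow_self 2 hpos.ne').trans (hn ▸ Subgroup.card_subgroup_dvd_card _)
        obtain ⟨k, hk⟩ := hoddQ; omega
    exact ⟨⟨fun a b => Subtype.ext (by
      have ha := a.2; have hb := b.2
      simp only [hT, Subgroup.mem_bot] at ha hb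
      simp [ha, hb])⟩⟩
  have hsurj : Function.Surjective π := QuotientGroup.mk'_surjective K
  have hinj : Set.InjOn π ((S : Subgroup G) : Set G) := by
    intro a ha b hb hab
    have h1 : a⁻¹ * b ∈ K := (QuotientGroup.eq).mp hab
    have h2 : a⁻¹ * b ∈ (S : Subgroup G) := mul_mem (inv_mem ha) hb
    have hd : Disjoint (S : Subgroup G) K := by
      refine Subgroup.disjoint_of_coprime_natCard ?_
      obtain ⟨n, hn⟩ := IsPGroup.iff_card.mp S.2
      rw [hn]
      exact Nat.Coprime.pow_left _ (Lib.Components.pPrimeCore_coprime (G := G) p).symm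
    exact inv_mul_eq_one.mp (Subgroup.mem_bot.mp (hd.le_bot ⟨h2, h1⟩))
  have hN := Lib.Thompson.zj_center_normal hp2 (S.mapSurjective hsurj)
    (Lib.Hall.centralizer_pCore_le p (Lib.OddLocal.pPrimeCore_quotient_eq_bot p))
    (fun Q _ hQ => Lib.Thompson.isPStableOn_of_noSL2 hp2 hno Q hQ)
  have hN' := hN.comap π
  rw [Sylow.coe_mapSurjective, ← S0117.map_centerThompsonOf π _ hinj,
    Subgroup.comap_map_eq, QuotientGroup.ker_mk'] at hN'
  exact hN'

end Cfsg.Agent.S1458
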