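import Cfsg.Statements.S4502
import Cfsg.Agent.Lib.DefectOne.Count
import Cfsg.Agent.Lib.Block.Exist
import Cfsg.Agent.Lib.Char.Ito
-- import your own Cfsg.Agent.* helpers here

set_option autoImplicit false
open Cfsg

namespace Cfsg.Agent.S4502

/-- Let G be a finite group whose order is divisible by the prime p exactly once, and let P be a Sylow p-subgroup. Then the number of irreducible characters of G of degree not divisible by p equals the number of conjugacy classes of the normalizer of P. -/
theorem result {G : Type*} [Group G] [Finite G] (p : ℕ) [Fact p.Prime] (hdiv : p ∣ Nat.card G) (hsq : ¬ p ^ 2 ∣ Nat.card G) (P : Sylow p G) : Nat.card {χ : Cfsg.IrrCharacter G // ¬ p ∣ Cfsg.charDegree (χ : G → ℂ)} = Nat.card (ConjClasses (Subgroup.normalizer ((P : Subgroup G) : Set G))) := by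
  classical
  haveI := Fintype.ofFinite G
  have hp : p.Prime := Fact.out
  obtain ⟨M, hM⟩ := Cfsg.Agent.Lib.Block.exists_isPModular hp
  haveI := hM.2.1.isPrime
  have hfac : (Nat.card G).factorization p = 1 := by
    refine le_antisymm ?_ (hp.factorization_pos_of_dvd Nat.card_pos.ne' hdiv)
    by_contra h
    exact hsq ((hp.pow_dvd_iff_le_factorization Nat.card_pos.ne').2 (by omega))
  have hP : Nat.card (P : Subgroup G) = p := by
    rw [P.card_eq_multiplicity, hfac, pow_one]
  set H : Subgroup G := Subgroup.normalizer ((P : Subgroup G) : Set G) with hH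
  haveI := Fintype.ofFinite H
  have hle : (P : Subgroup G) ≤ H := Subgroup.le_normalizer
  set P' := P.subtype hle with hP'
  have hP'c : Nat.card (P' : Subgroup H) = p :=
    (Nat.card_congr (Subgroup.subgroupOfEquivOfLe hle).toEquiv).trans hP
  have hsq' : ¬ p ^ 2 ∣ Nat.card H := fun h => hsq (h.trans (Subgroup.card_subgroup_dvd_card H))
  have hall : ∀ χ : Cfsg.IrrCharacter H, ¬ p ∣ Cfsg.charDegree (χ : H → ℂ) := by
    intro χ hd
    haveI : (P' : Subgroup H).Normal := Subgroup.normal_in_normalizer
    haveI : IsCyclic (P' : Subgroup H) := isCyclic_of_prime_card hP'c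
    haveI := Fintype.ofFinite (P' : Subgroup H)
    refine P'.not_dvd_index (hd.trans (Cfsg.Agent.Lib.Char.degree_dvd_index_of_abelian
      (P' : Subgroup H) χ.2 fun a ha b hb => ?_))
    exact congrArg Subtype.val ((IsCyclic.commGroup (α := (P' : Subgroup H))).mul_comm ⟨a, ha⟩ ⟨b, hb⟩)
  rw [← Nat.cast_inj (R := ℚ), Cfsg.Agent.Lib.DefectOne.card_pPrime_degree hM hP hsq,
    Cfsg.Agent.Lib.DefectOne.sum_weight_normalizer hle,
    ← Cfsg.Agent.Lib.DefectOne.card_pPrime_degree hM hP'c hsq',
    Nat.card_congr (Equiv.subtypeUnivEquiv hall), Nat.cast_inj]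
  exact Cfsg.Agent.Lib.Char.card_irr_eq_card_conjClasses

end Cfsg.Agent.S4502
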