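import Cfsg.Statements.S0187
import Cfsg.Agent.Lib.Char.Linear
import Cfsg.Agent.Lib.Char.Orthogonality

set_option autoImplicit false
open Cfsg

namespace Cfsg.Agent.S0187

/-- A finite group is commutative if and only if every irreducible complex character has degree 1. -/
theorem result {G : Type*} [Group G] [Finite G] : (∀ a b : G, a * b = b * a) ↔ ∀ χ : Cfsg.IrrCharacter G, (χ : G → ℂ) 1 = 1 := by
  constructor
  · intro hab χ
    obtain ⟨χ, n, ρ, hρ, rfl⟩ := χ
    have : IsMulCommutative G := ⟨⟨hab⟩⟩
    have := Representation.IsIrreducible.finrank_eq_one_of_isMulCommutative ρ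
    simp [this]
  · intro h a b
    have h1 : IsConj 1 (a * b * (b * a)⁻¹) := by
      refine (Lib.Char.isConj_iff_forall_irr _ _).mpr fun χ => ?_
      obtain ⟨l, hl⟩ := Lib.Char.exists_hom_of_degree_one (Lib.Char.isCharacter_of_isIrr χ.2) (h χ)
      rw [hl, hl, map_one, map_mul, map_inv, map_mul, map_mul, mul_comm (l b) (l a), mul_inv_cancel]
    obtain ⟨d, hd⟩ := isConj_iff.mp h1
    rw [mul_one, mul_inv_cancel] at hd
    exact mul_inv_eq_one.mp hd.symm

end Cfsg.Agent.S0187
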