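import Cfsg.Statements.S4455
import Cfsg.Agent.Lib.CharClifford.Extend
import Cfsg.Agent.Lib.CharClifford.Divides
import Cfsg.Agent.Lib.Transfer.Basic
import Cfsg.Agent.Lib.Char.Clifford
import Cfsg.Agent.Lib.Char.Degree
import Mathlib

set_option autoImplicit false
open Cfsg

namespace Cfsg.Agent.S4455

open Subgroup
open scoped ComplexConjugate

universe u

variable {G : Type u} [Group G] [Finite G] (p : ℕ) [hp : Fact p.Prime]

theorem order_hom_coprime (φ : ↥(pResidual p G) →* ℂˣ) : ¬ p ∣ orderOf φ := by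
  rintro ⟨m, hm⟩
  have hm0 : 0 < m := by
    rcases Nat.eq_zero_or_pos m with h | h
    · exact absurd (hm.trans (by rw [h, mul_zero])) (Lib.CharClifford.orderOf_hom_pos φ).ne'
    · exact h
  set ψ : ↥(pResidual p G) →* ℂˣ := (powMonoidHom m).comp φ with hψ
  have hψ1 : ∀ n, ψ n ^ p = 1 := fun n => by
    rw [hψ, MonoidHom.comp_apply, powMonoidHom_apply, ← pow_mul, mul_comm, ← hm]
    exact Lib.CharClifford.hom_apply_pow_orderOf φ n
  have htop : ψ.ker = ⊤ := by
    rw [eq_top_iff, ← Lib.Transfer.pResidual_pResidual (p := p) (G := G)]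
    refine (closure_le _).2 ?_
    intro n hn
    rw [SetLike.mem_coe, MonoidHom.mem_ker, ← orderOf_eq_one_iff]
    exact Nat.eq_one_of_dvd_coprimes hn (orderOf_map_dvd ψ n) (orderOf_dvd_of_pow_eq_one (hψ1 n))
  have h1 : φ ^ m = 1 := MonoidHom.ext fun n => by
    have := (MonoidHom.mem_ker (f := ψ)).1 (htop ▸ mem_top n)
    simpa [hψ] using this
  have h2 := Nat.le_of_dvd hm0 ((orderOf_dvd_iff_pow_eq_one (x := φ)).2 (by exact h1))
  rw [hm] at h2
  nlinarith [hp.out.two_le]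

theorem exists_index_pow [(pResidual p G).Normal] : ∃ k, (pResidual p G).index = p ^ k := by
  obtain ⟨k, hk⟩ := IsPGroup.iff_card.1 (Lib.Transfer.isPGroup_quotient_pResidual (p := p) (G := G))
  exact ⟨k, by rw [index_eq_card, hk]⟩

theorem restrict_irr [hn : (pResidual p G).Normal] {χ : G → ℂ} (hχ : IsIrrCharacter G χ)
    (hd : ¬ p ∣ charDegree χ) :
    IsIrrCharacter ↥(pResidual p G) (fun n => χ n) := by
  classical
  haveI := Fintype.ofFinite G
  haveI := Fintype.ofFinite ↥(pResidual p G)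
  obtain ⟨k, hk⟩ := exists_index_pow (G := G) p
  have hc := Lib.Char.isCharacter_of_isIrr hχ
  have hr := Lib.Char.isCharacter_restrict hc (pResidual p G)
  obtain ⟨θ, hθ⟩ := Lib.Char.exists_constituent hr (fun h => by
    have := congrFun h 1
    simp only [coe_one, Pi.zero_apply] at this
    exact Lib.Char.irr_degree_ne_zero hχ this)
  obtain ⟨e, he0, he⟩ := Lib.CharClifford.classInner_nat_ne_zero hr (Lib.Char.isCharacter_of_isIrr θ.2) hθ
  have hdeg := Lib.Char.clifford_degree (N := pResidual p G) hχ θ.2 hθ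
  rw [he, Lib.Char.apply_one_eq_charDegree hc, Lib.Char.apply_one_eq_charDegree
    (Lib.Char.isCharacter_of_isIrr θ.2), ← Nat.cast_mul, ← Nat.cast_mul, Nat.cast_inj] at hdeg
  have hcop : ∀ d, d ∣ charDegree χ → d ∣ (pResidual p G).index → d = 1 := fun d h1 h2 => by
    obtain ⟨j, -, rfl⟩ := (Nat.dvd_prime_pow hp.out).1 (hk ▸ h2)
    rcases Nat.eq_zero_or_pos j with rfl | hj
    · rfl
    · exact absurd ((dvd_pow_self p hj.ne').trans h1) hd
  have hT : (Lib.Char.inertia (pResidual p G) (θ : ↥(pResidual p G) → ℂ)).index = 1 :=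
    hcop _ ⟨e * charDegree (θ : ↥(pResidual p G) → ℂ), by rw [hdeg]; ring⟩
      (index_dvd_of_le (Lib.Char.le_inertia _ (Lib.Char.isClassFunction_of_isIrr θ.2)))
  have hcl := Lib.Char.clifford (N := pResidual p G) hχ θ.2 hθ
  have horb : Lib.Char.orbit (pResidual p G) (θ : ↥(pResidual p G) → ℂ) = {(θ : ↥(pResidual p G) → ℂ)} := by
    ext ψ
    rw [Lib.Char.mem_orbit, Finset.mem_singleton]
    constructor
    · rintro ⟨g, rfl⟩
      exact (Lib.Char.mem_inertia _).1 (index_eq_one.1 hT ▸ mem_top g)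
    · rintro rfl; exact ⟨1, Lib.Char.conjChar_one _ _⟩
  rw [horb, Finset.sum_singleton, he] at hcl
  have hed : e ∣ (pResidual p G).index :=
    Lib.CharClifford.ramification_dvd_index _ hχ θ.2 e fun n => by
      simpa using congrFun hcl n
  have : e = 1 := hcop e ⟨(Lib.Char.inertia (pResidual p G) (θ : ↥(pResidual p G) → ℂ)).index *
    charDegree (θ : ↥(pResidual p G) → ℂ), by rw [hdeg]; ring⟩ hed
  rw [hcl, this, Nat.cast_one, one_smul]
  exact θ.2

theorem detChar_invariant [hn : (pResidual p G).Normal] {θ : ↥(pResidual p G) → ℂ}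
    (hθ : IsIrrCharacter _ θ) (hinv : ∀ g : G, Lib.Char.conjChar (pResidual p G) g θ = θ) (g : G)
    (n : ↥(pResidual p G)) :
    detChar θ ⟨g * n * g⁻¹, hn.conj_mem (n : G) n.2 g⟩ = detChar θ n := by
  obtain ⟨d, ρ, hρ, rfl⟩ := hθ
  haveI := hρ
  let ρ' : Representation ℂ ↥(pResidual p G) (Fin d → ℂ) :=
    ρ.comp (MulAut.conjNormal (H := pResidual p G) g).toMonoidHom
  have hch : ρ'.character = ρ.character :=
    funext ((Lib.CharClifford.conjChar_eq_iff g).1 (hinv g))
  haveI : ρ'.IsIrreducible := Lib.CharClifford.isIrreducible_of_isIrrCharacter ρ'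
    (by rw [hch]; exact Lib.Char.isIrrCharacter_character ρ)
  conv_rhs => rw [← hch]
  rw [Lib.CharClifford.detChar_character ρ', Lib.CharClifford.detChar_character ρ]
  rfl

theorem exists_unique_ext [hn : (pResidual p G).Normal] {θ : ↥(pResidual p G) → ℂ}
    (hθ : IsIrrCharacter _ θ) (hinv : ∀ g : G, Lib.Char.conjChar (pResidual p G) g θ = θ)
    (hd : ¬ p ∣ charDegree θ) :
    ∃! χ : G → ℂ, IsIrrCharacter G χ ∧ (∀ n : ↥(pResidual p G), χ n = θ n) ∧
      ¬ p ∣ detOrder χ := by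
  obtain ⟨k, hk⟩ := exists_index_pow (G := G) p
  obtain ⟨d, σ, hσ, hσc, hd1, hdet⟩ := Lib.CharClifford.exists_detHom hθ
  set φ := Lib.CharClifford.detHom σ with hφ
  have hφp := order_hom_coprime p φ
  have hcopi : ∀ m, ¬ p ∣ m → Nat.Coprime (pResidual p G).index m := fun m hm => by
    rw [hk]; exact (hp.out.coprime_iff_not_dvd.2 hm).pow_left k
  obtain ⟨μ, hμ, hμo, hμu⟩ := Lib.CharClifford.exists_extension_coprime φ
    (fun g n => Units.ext (by rw [← hdet, ← hdet]; exact detChar_invariant p hθ hinv g n))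
    (hcopi _ hφp)
  have hdd : charDegree θ = d := Lib.Char.charDegree_eq_of_apply_one hd1
  have hμ' : ∀ n : ↥(pResidual p G), (μ n : ℂ) = detChar θ n := fun n => by
    rw [hμ, hdet]
  obtain ⟨η, hη, hηN⟩ := Lib.CharClifford.extends_of_det hθ hinv d hd1 (hcopi _ (hdd ▸ hd)) μ hμ'
  obtain ⟨χ, ⟨hχ, hχN, hχd⟩, hu⟩ := Lib.CharClifford.existsUnique_extension_det hθ d hd1
    (hcopi _ (hdd ▸ hd)) ⟨η, hη, hηN⟩ μ hμ'
  refine ⟨χ, ⟨hχ, hχN, ?_⟩, fun χ' ⟨hχ', hχ'N, hχ'd⟩ => hu χ' ⟨hχ', hχ'N, ?_⟩⟩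
  · rw [detOrder, hχd, Lib.CharClifford.orderOf_hom_eq, hμo]; exact hφp
  · obtain ⟨d', σ', hσ', hσ'c, -, hdet'⟩ := Lib.CharClifford.exists_detHom hχ'
    have : Lib.CharClifford.detHom σ' = μ := by
      refine hμu _ (fun n => Units.ext ?_) (hcopi _ ?_)
      · rw [← hdet', Lib.CharClifford.detChar_restrict hχ' hθ hχ'N, hdet]
      · rw [← Lib.CharClifford.orderOf_hom_eq, ← show detChar χ' = fun g => (Lib.CharClifford.detHom σ' g : ℂ)
          from funext hdet']
        exact hχ'd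
    funext g
    rw [hdet', this]

open scoped Classical in
theorem sum_invariant_modEq [hn : (pResidual p G).Normal] :
    (∑ θ : IrrCharacter ↥(pResidual p G), (charDegree (θ : ↥(pResidual p G) → ℂ) : ℤ) ^ 2) ≡
      ∑ θ ∈ Finset.univ.filter (fun θ : IrrCharacter ↥(pResidual p G) =>
        ¬ p ∣ charDegree (θ : ↥(pResidual p G) → ℂ) ∧ ∀ g : G, Lib.Char.conjChar (pResidual p G) g (θ : ↥(pResidual p G) → ℂ) = θ),
      (charDegree (θ : ↥(pResidual p G) → ℂ) : ℤ) ^ 2 [ZMOD p] := by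
  set X := Finset.univ (α := IrrCharacter ↥(pResidual p G)) with hX
  let P : Sylow p G := default
  have htop : pResidual p G ⊔ (P : Subgroup G) = ⊤ := Lib.Transfer.pResidual_sup_sylow P
  rw [← Finset.sum_fiberwise_of_maps_to (g := fun θ : IrrCharacter ↥(pResidual p G) =>
    charDegree (θ : ↥(pResidual p G) → ℂ)) (t := X.image fun θ : IrrCharacter ↥(pResidual p G) => charDegree (θ : ↥(pResidual p G) → ℂ))
      (fun θ hθ => Finset.mem_image_of_mem _ hθ),
    ← Finset.sum_fiberwise_of_maps_to (s := Finset.univ.filter _)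
      (g := fun θ : IrrCharacter ↥(pResidual p G) =>
      charDegree (θ : ↥(pResidual p G) → ℂ)) (t := X.image fun θ : IrrCharacter ↥(pResidual p G) => charDegree (θ : ↥(pResidual p G) → ℂ))
      (fun θ _ => Finset.mem_image_of_mem _ (Finset.mem_univ θ))]
  refine Int.ModEq.sum fun d _ => ?_
  rw [Finset.sum_congr rfl (fun θ hθ => by rw [(Finset.mem_filter.1 hθ).2] :
      ∀ θ ∈ X.filter (fun θ : IrrCharacter ↥(pResidual p G) => charDegree (θ : ↥(pResidual p G) → ℂ) = d),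
        (charDegree (θ : ↥(pResidual p G) → ℂ) : ℤ) ^ 2 = (d : ℤ) ^ 2),
    Finset.sum_congr rfl (fun θ hθ => by rw [(Finset.mem_filter.1 hθ).2] :
      ∀ θ ∈ (Finset.univ.filter fun θ : IrrCharacter ↥(pResidual p G) =>
          ¬ p ∣ charDegree (θ : ↥(pResidual p G) → ℂ) ∧ ∀ g : G, Lib.Char.conjChar (pResidual p G) g (θ : ↥(pResidual p G) → ℂ) = θ).filter
          (fun θ : IrrCharacter ↥(pResidual p G) => charDegree (θ : ↥(pResidual p G) → ℂ) = d),
        (charDegree (θ : ↥(pResidual p G) → ℂ) : ℤ) ^ 2 = (d : ℤ) ^ 2),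
    Finset.sum_const, Finset.sum_const, nsmul_eq_mul, nsmul_eq_mul]
  by_cases hd : p ∣ d
  · have h0 : ((d : ℤ) ^ 2) ≡ 0 [ZMOD p] :=
      Int.modEq_zero_iff_dvd.2 ((Int.natCast_dvd_natCast.2 hd).trans (dvd_pow_self _ two_ne_zero))
    have e : ∀ c : ℤ, c * (d : ℤ) ^ 2 ≡ 0 [ZMOD p] := fun c => by simpa using h0.mul_left c
    exact (e _).trans (e _).symm
  refine Int.ModEq.mul_right _ ?_
  set D := {θ : IrrCharacter ↥(pResidual p G) // charDegree (θ : ↥(pResidual p G) → ℂ) = d}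
  have hdeg : ∀ (g : G) (θ : D), charDegree (Lib.Char.conjChar (pResidual p G) g (θ.1 : ↥(pResidual p G) → ℂ)) = d :=
    fun g θ => by
      refine Lib.Char.charDegree_eq_of_apply_one ?_
      rw [Lib.Char.conjChar_apply_one, Lib.Char.apply_one_eq_charDegree
        (Lib.Char.isCharacter_of_isIrr θ.1.2), θ.2]
  letI : MulAction (P : Subgroup G) D :=
    { smul := fun g θ => ⟨⟨Lib.Char.conjChar (pResidual p G) (g : G)⁻¹ (θ.1 : ↥(pResidual p G) → ℂ),
        Lib.Char.isIrrCharacter_conjChar _ _ θ.1.2⟩, hdeg _ θ⟩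
      one_smul := fun θ => Subtype.ext (Subtype.ext (by
        show Lib.Char.conjChar (pResidual p G) ((1 : (P : Subgroup G)) : G)⁻¹ (θ.1 : ↥(pResidual p G) → ℂ) = _
        rw [coe_one, inv_one, Lib.Char.conjChar_one]))
      mul_smul := fun a b θ => Subtype.ext (Subtype.ext (by
        show Lib.Char.conjChar (pResidual p G) ((a * b : (P : Subgroup G)) : G)⁻¹ (θ.1 : ↥(pResidual p G) → ℂ) =
          Lib.Char.conjChar (pResidual p G) (a : G)⁻¹ (Lib.Char.conjChar (pResidual p G) (b : G)⁻¹ (θ.1 : ↥(pResidual p G) → ℂ))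
        rw [coe_mul, mul_inv_rev, Lib.Char.conjChar_mul])) }
  have h := P.2.card_modEq_card_fixedPoints D
  have e1 : Nat.card D = (X.filter fun θ : IrrCharacter ↥(pResidual p G) => charDegree (θ : ↥(pResidual p G) → ℂ) = d).card := by
    rw [Nat.card_eq_fintype_card, Fintype.card_subtype]
  have hall : ∀ θ : IrrCharacter ↥(pResidual p G),
      (∀ g : (P : Subgroup G), Lib.Char.conjChar (pResidual p G) (g : G)⁻¹ (θ : ↥(pResidual p G) → ℂ) = θ) →
      ∀ g : G, Lib.Char.conjChar (pResidual p G) g (θ : ↥(pResidual p G) → ℂ) = θ := by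
    intro θ h g
    have hle : pResidual p G ⊔ (P : Subgroup G) ≤ Lib.Char.inertia (pResidual p G) (θ : ↥(pResidual p G) → ℂ) :=
      sup_le (Lib.Char.le_inertia _ (Lib.Char.isClassFunction_of_isIrr θ.2)) fun g hg => by
        have := h ⟨g⁻¹, inv_mem hg⟩
        rw [inv_inv] at this
        exact this
    exact hle (htop ▸ mem_top g)
  have e2 : Nat.card (MulAction.fixedPoints (P : Subgroup G) D) =
      ((Finset.univ.filter fun θ : IrrCharacter ↥(pResidual p G) =>
          ¬ p ∣ charDegree (θ : ↥(pResidual p G) → ℂ) ∧ ∀ g : G, Lib.Char.conjChar (pResidual p G) g (θ : ↥(pResidual p G) → ℂ) = θ).filter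
          (fun θ : IrrCharacter ↥(pResidual p G) => charDegree (θ : ↥(pResidual p G) → ℂ) = d)).card := by
    rw [← Fintype.card_coe, ← Nat.card_eq_fintype_card]
    refine Nat.card_congr ⟨fun x => ⟨x.1.1, ?_⟩,
      fun x => ⟨⟨x.1, (Finset.mem_filter.1 x.2).2⟩, fun g => Subtype.ext (Subtype.ext ?_)⟩,
      fun x => rfl, fun x => rfl⟩
    · refine Finset.mem_filter.2 ⟨Finset.mem_filter.2 ⟨Finset.mem_univ _, ?_, ?_⟩, x.1.2⟩
      · rw [x.1.2]; exact hd
      · exact hall _ fun g => congrArg (fun y : D => (y.1 : ↥(pResidual p G) → ℂ)) (x.2 g)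
    · exact (Finset.mem_filter.1 (Finset.mem_filter.1 x.2).1).2.2 (g : G)⁻¹
  rw [← e1, ← e2]
  exact_mod_cast Int.natCast_modEq_iff.2 h

omit hp in
theorem pResidual_congr (hpr : p.Prime) :
    (Nat.card (pResidual p G) : ℤ) ≡ (∑ᶠ χ ∈ {χ : IrrCharacter G | ¬ p ∣ charDegree (χ : G → ℂ) ∧
      ¬ p ∣ detOrder (χ : G → ℂ)}, (charDegree (χ : G → ℂ) : ℤ) ^ 2) [ZMOD p] := by
  classical
  haveI : Fact p.Prime := ⟨hpr⟩
  haveI : (pResidual p G).Characteristic := Lib.Transfer.pResidual_characteristic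
  rw [← Lib.Char.sum_charDegree_sq (G := ↥(pResidual p G)), Nat.cast_sum]
  simp only [Nat.cast_pow]
  refine (sum_invariant_modEq p).trans ?_
  show _ % _ = _ % _
  congr 1
  rw [finsum_mem_eq_finite_toFinset_sum _ (Set.toFinite _)]
  refine Eq.symm (Finset.sum_bij (fun (χ : IrrCharacter G) hχ => (⟨fun n => (χ : G → ℂ) n,
      restrict_irr p χ.2 ((Set.toFinite _).mem_toFinset.1 hχ).1⟩ :
        IrrCharacter ↥(pResidual p G))) ?_ ?_ ?_ ?_)
  · intro χ hχ
    rw [Finset.mem_filter]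
    refine ⟨Finset.mem_univ _, ?_, fun g =>
      Lib.Char.conjChar_restrict _ (Lib.Char.isClassFunction_of_isIrr χ.2) g⟩
    rw [Lib.Char.charDegree_eq_of_apply_one (n := charDegree (χ : G → ℂ))
      (by simpa using Lib.Char.apply_one_eq_charDegree (Lib.Char.isCharacter_of_isIrr χ.2))]
    exact ((Set.toFinite _).mem_toFinset.1 hχ).1
  · intro χ hχ ψ hψ h
    have hχ' := (Set.toFinite _).mem_toFinset.1 hχ
    have hψ' := (Set.toFinite _).mem_toFinset.1 hψ
    have hN : ∀ n : ↥(pResidual p G), (χ : G → ℂ) n = (ψ : G → ℂ) n := fun n =>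
      congrFun (congrArg Subtype.val h) n
    have hθ := restrict_irr p χ.2 hχ'.1
    have hinv : ∀ g : G, Lib.Char.conjChar (pResidual p G) g
        (fun n : ↥(pResidual p G) => (χ : G → ℂ) n) = fun n : ↥(pResidual p G) => (χ : G → ℂ) n := fun g =>
      Lib.Char.conjChar_restrict _ (Lib.Char.isClassFunction_of_isIrr χ.2) g
    have hd : ¬ p ∣ charDegree (fun n : ↥(pResidual p G) => (χ : G → ℂ) n) := by
      rw [Lib.Char.charDegree_eq_of_apply_one (n := charDegree (χ : G → ℂ))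
        (by simpa using Lib.Char.apply_one_eq_charDegree (Lib.Char.isCharacter_of_isIrr χ.2))]
      exact hχ'.1
    obtain ⟨w, -, hu⟩ := exists_unique_ext p hθ hinv hd
    exact Subtype.ext ((hu _ ⟨χ.2, fun n => rfl, hχ'.2⟩).trans
      (hu _ ⟨ψ.2, fun n => (hN n).symm, hψ'.2⟩).symm)
  · intro θ hθ
    rw [Finset.mem_filter] at hθ
    obtain ⟨-, hd, hinv⟩ := hθ
    obtain ⟨χ, ⟨hχ, hχN, hχd⟩, -⟩ := exists_unique_ext p θ.2 hinv hd
    have hdeq : charDegree χ = charDegree (θ : ↥(pResidual p G) → ℂ) := by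
      refine Lib.Char.charDegree_eq_of_apply_one ?_
      rw [← Lib.Char.apply_one_eq_charDegree (Lib.Char.isCharacter_of_isIrr θ.2), ← hχN 1, coe_one]
    exact ⟨⟨χ, hχ⟩, (Set.toFinite _).mem_toFinset.2 ⟨hdeq ▸ hd, hχd⟩, Subtype.ext (funext hχN)⟩
  · intro χ hχ
    congr 1

/-- Fix a prime p and a finite group G. Let s be the sum of χ(1)² over the irreducible characters χ of G whose degree is not divisible by p and whose determinantal order o(χ) is not divisible by p. Then the order of O^p(G), the subgroup generated by the elements of order prime to p, is congruent to s modulo p. -/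
theorem result {G : Type*} [Group G] [Finite G] (p : ℕ) (hp : p.Prime) : (Nat.card (Cfsg.pResidual p G) : ℤ) ≡ (∑ᶠ χ ∈ {χ : Cfsg.IrrCharacter G | ¬ p ∣ Cfsg.charDegree (χ : G → ℂ) ∧ ¬ p ∣ Cfsg.detOrder (χ : G → ℂ)}, (Cfsg.charDegree (χ : G → ℂ) : ℤ) ^ 2) [ZMOD p] := by
  exact pResidual_congr p hp

end Cfsg.Agent.S4455
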