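import Cfsg.Statements.S4456
import Cfsg.Agent.S4455
import Cfsg.Agent.Lib.CharClifford.Basic
import Cfsg.Agent.Lib.CharClifford.Linear
import Cfsg.Agent.Lib.Transfer.Basic
import Cfsg.Agent.Lib.Char.Linear

set_option autoImplicit false
open Cfsg

namespace Cfsg.Agent.S4456

/-- Let p be a prime and G a finite group such that p divides the degree of every irreducible character of G of degree greater than one. Then G has a normal p-complement: a normal subgroup of order prime to p whose index is a power of p. -/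
theorem result {G : Type*} [Group G] [Finite G] (p : ℕ) (hp : p.Prime) (hdeg : ∀ χ : Cfsg.IrrCharacter G, Cfsg.charDegree (χ : G → ℂ) ≠ 1 → p ∣ Cfsg.charDegree (χ : G → ℂ)) : ∃ N : Subgroup G, N.Normal ∧ (Nat.card N).Coprime p ∧ ∃ k : ℕ, N.index = p ^ k := by
  classical
  haveI : Fact p.Prime := ⟨hp⟩
  haveI : (Cfsg.pResidual p G).Characteristic := Lib.Transfer.pResidual_characteristic
  haveI : Finite (G →* ℂˣ) := Finite.of_equiv _ (Lib.Char.linearEquiv G).symm
  haveI := Fintype.ofFinite (G →* ℂˣ)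
  refine ⟨Cfsg.pResidual p G, inferInstance, (hp.coprime_iff_not_dvd.2 fun hd => ?_).symm, ?_⟩
  · have hdet : ∀ (χ : Cfsg.IrrCharacter G), Cfsg.charDegree (χ : G → ℂ) = 1 →
        Cfsg.detChar (χ : G → ℂ) = (χ : G → ℂ) := by
      intro χ h1
      obtain ⟨n, ρ, -, hch, hn, hdet⟩ := Lib.CharClifford.exists_detHom χ.2
      have : n = 1 := by
        rw [← h1, Lib.Char.charDegree_eq_of_apply_one hn]
      subst this
      funext g
      rw [hdet, ← hch, Lib.CharClifford.detHom_apply, Representation.character,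
        LinearMap.trace_eq_matrix_trace ℂ (Pi.basisFun ℂ (Fin 1)), Matrix.trace_fin_one,
        ← LinearMap.det_toMatrix (Pi.basisFun ℂ (Fin 1)), Matrix.det_fin_one]
    have hc := S4455.result (G := G) p hp
    rw [finsum_mem_eq_finite_toFinset_sum _ (Set.toFinite _)] at hc
    set H : Finset (G →* ℂˣ) := Finset.univ.filter (fun l => ¬ p ∣ orderOf l) with hH
    have hS : (∑ χ ∈ (Set.toFinite {χ : Cfsg.IrrCharacter G | ¬ p ∣ Cfsg.charDegree (χ : G → ℂ) ∧
        ¬ p ∣ Cfsg.detOrder (χ : G → ℂ)}).toFinset, (Cfsg.charDegree (χ : G → ℂ) : ℤ) ^ 2) =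
        ∑ _l ∈ H, (1 : ℤ) := by
      refine Eq.symm (Finset.sum_bij (fun l _ => ((Lib.Char.linearEquiv G) l).1) ?_ ?_ ?_ ?_)
      · intro l hl
        have h1 := (Lib.Char.charDegree_eq_one_iff ((Lib.Char.linearEquiv G) l).1.2).2 ((Lib.Char.linearEquiv G) l).2
        refine (Set.toFinite _).mem_toFinset.2 ⟨by rw [h1]; exact hp.not_dvd_one, ?_⟩
        rw [Cfsg.detOrder, hdet _ h1]
        show ¬ p ∣ orderOf (fun g => (l g : ℂ))
        rw [Lib.CharClifford.orderOf_hom_eq]
        exact (Finset.mem_filter.1 hl).2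
      · intro a _ b _ h
        exact (Lib.Char.linearEquiv G).injective (Subtype.ext h)
      · intro χ hχ
        obtain ⟨hd1, hd2⟩ := (Set.toFinite _).mem_toFinset.1 hχ
        have h1 : Cfsg.charDegree (χ : G → ℂ) = 1 := by
          by_contra h; exact hd1 (hdeg χ h)
        obtain ⟨l, hl⟩ := (Lib.Char.linearEquiv G).surjective
          ⟨χ, (Lib.Char.charDegree_eq_one_iff χ.2).1 h1⟩
        refine ⟨l, Finset.mem_filter.2 ⟨Finset.mem_univ _, ?_⟩, by rw [hl]⟩
        rw [← Lib.CharClifford.orderOf_hom_eq l, show (fun g => (l g : ℂ)) = (χ : G → ℂ) from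
          congrArg (fun x => ((x.1 : Cfsg.IrrCharacter G) : G → ℂ)) hl, ← hdet χ h1]
        exact hd2
      · intro l _
        rw [(Lib.Char.charDegree_eq_one_iff ((Lib.Char.linearEquiv G) l).1.2).2 ((Lib.Char.linearEquiv G) l).2]
        norm_num
    rw [hS, Finset.sum_const, nsmul_eq_mul, mul_one] at hc
    have h0 : (p : ℤ) ∣ (H.card : ℤ) :=
      Int.modEq_zero_iff_dvd.1 (hc.symm.trans (Int.modEq_zero_iff_dvd.2 (Int.natCast_dvd_natCast.2 hd)))
    rw [Int.natCast_dvd_natCast] at h0
    let S : Subgroup (G →* ℂˣ) :=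
      { carrier := {l | ¬ p ∣ orderOf l}
        one_mem' := by simp [hp.ne_one]
        mul_mem' := fun {a b} ha hb h => by
          have := h.trans ((Commute.all a b).orderOf_mul_dvd_mul_orderOf)
          rcases hp.dvd_mul.1 this with h' | h'
          · exact ha h'
          · exact hb h'
        inv_mem' := fun {a} ha => by simpa using ha }
    have hScard : Nat.card S = H.card := by
      rw [Nat.card_eq_fintype_card]
      exact Fintype.card_of_subtype H fun l => by simp [hH, S]
    obtain ⟨l, hl⟩ := exists_prime_orderOf_dvd_card' (G := S) p (hScard.symm ▸ h0)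
    exact l.2 (by rw [Subgroup.orderOf_coe, hl])
  · obtain ⟨k, hk⟩ := IsPGroup.iff_card.1 (Lib.Transfer.isPGroup_quotient_pResidual (p := p) (G := G))
    exact ⟨k, by rw [Subgroup.index_eq_card, hk]⟩

end Cfsg.Agent.S4456
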