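import Cfsg.Statements.S2590
import Cfsg.Agent.Lib.SemisimpleConj
import Cfsg.Agent.Lib.QuadWitt

set_option autoImplicit false
open Cfsg

namespace Cfsg.Agent.S2590

open QuadraticMap

theorem iso_conj {F V : Type*} [Field F] [Finite F] [AddCommGroup V] [Module F V] [FiniteDimensional F V]
    [Finite V] (Q : QuadraticForm F V) (hQ : (polarBilin Q).Nondegenerate) (o : ℕ) (hodd : Odd o)
    (ho : (o : F) ≠ 0) (A B g : V ≃ₗ[F] V) (hA : ∀ x, Q (A x) = Q x) (hB : ∀ x, Q (B x) = Q x)
    (hAo : A ^ o = 1) (hg : ∀ x, g (A x) = B (g x))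
    (wit : ∀ (P : Submodule F V), (∀ x ∈ P, (∀ y ∈ P, polar Q x y = 0) → x = 0) → ∀ φ : P →ₗ[F] V,
      (∀ x, Q (φ x) = Q x) → ∃ γ : V ≃ₗ[F] V, (∀ v, Q (γ v) = Q v) ∧ ∀ x : P, γ x = φ x) :
    ∃ γ : V ≃ₗ[F] V, (∀ v, Q (γ v) = Q v) ∧ ∀ x, γ (A x) = B (γ x) := by
  have hA' : ∀ x y, polar Q (A x) (A y) = polar Q x y := fun x y => by simp [polar, ← map_add, hA]
  have hB' : ∀ x y, polar Q (B x) (B y) = polar Q x y := fun x y => by simp [polar, ← map_add, hB]
  obtain ⟨g₁, e, M, hg₁, hee, heA, hadj, hgi, heM, hMe, hA2⟩ :=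
    Lib.SemisimpleConj.exists_iso_part (polarBilin Q) hQ (s := 1)
      (fun x y => by rw [one_mul]; exact polar_comm _ _ _) A B hA' hB' o ho hAo g hg
  have hker : ∀ x, A (x - e x) = x - e x := by
    intro x
    obtain ⟨k, hk⟩ := hodd
    set z := x - e x
    have h2 : ∀ j, (A ^ (2 * j)) z = z := by
      intro j
      induction j with
      | zero => rfl
      | succ j ih =>
        rw [show 2 * (j + 1) = 2 + 2 * j by ring, pow_add, LinearEquiv.mul_apply, ih, pow_two, LinearEquiv.mul_apply]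
        exact hA2 x
    have h3 : (A ^ o) z = z := by rw [hAo]; rfl
    rw [hk, pow_succ', LinearEquiv.mul_apply, h2] at h3
    exact h3
  have hQe : ∀ x, Q (g₁ (e x)) = Q (e x) := by
    intro x
    set w := M (e x) with hw
    have hew : w = e w := hMe x
    have hpol : ∀ u, polar Q (g₁ u) (g₁ w) = polar Q u w := fun u => by
      conv_lhs => rw [hew]
      conv_rhs => rw [hew]
      exact hgi u w
    have hself : Q (g₁ w) + Q (g₁ w) = Q w + Q w := by
      have := hpol w
      rwa [polar_self, polar_self, two_nsmul, two_nsmul] at this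
    rw [heM x, map_sub, hg₁, sub_eq_add_neg, sub_eq_add_neg, QuadraticMap.map_add ⇑Q (B (g₁ w)),
      QuadraticMap.map_add ⇑Q (A w), QuadraticMap.map_neg, QuadraticMap.map_neg, hA, hB, polar_neg_right,
      polar_neg_right, ← hg₁, hpol]
    linear_combination hself
  set P := LinearMap.range e
  have hP : ∀ x ∈ P, (∀ y ∈ P, polar Q x y = 0) → x = 0 := by
    rintro _ ⟨x, rfl⟩ h
    refine hQ.1 _ fun y => ?_
    have h1 := h (e y) ⟨y, rfl⟩
    change polarBilin Q (e x) (e y) = 0 at h1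
    rwa [← hadj, hee] at h1
  obtain ⟨γ, hγ, hγP⟩ := wit P hP ((g₁ : V →ₗ[F] V).comp P.subtype) (by rintro ⟨_, x, rfl⟩; exact hQe x)
  refine ⟨γ, hγ, Lib.SemisimpleConj.finish (polarBilin Q) hQ A B g₁ γ hg₁ e 1 hee heA hadj hgi
    (fun x => by rw [one_smul]; exact hker x)
    (fun x y => by show polar Q (γ x) (γ y) = polar Q x y; simp [polar, ← map_add, hγ])
    (fun x => hγP ⟨e x, x, rfl⟩)⟩

/-- Matrices as linear equivalences. -/
def toEq {F : Type*} [Field F] {n : ℕ} (g : GL (Fin n) F) : (Fin n → F) ≃ₗ[F] (Fin n → F) :=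
  LinearEquiv.ofLinear (Matrix.toLin' (g : Matrix (Fin n) (Fin n) F))
    (Matrix.toLin' ((g⁻¹ : GL (Fin n) F) : Matrix (Fin n) (Fin n) F))
    (by rw [← Matrix.toLin'_mul, Units.mul_inv, Matrix.toLin'_one])
    (by rw [← Matrix.toLin'_mul, Units.inv_mul, Matrix.toLin'_one])

theorem toEq_apply {F : Type*} [Field F] {n : ℕ} (g : GL (Fin n) F) (x : Fin n → F) :
    toEq g x = (g : Matrix (Fin n) (Fin n) F).mulVec x := Matrix.toLin'_apply _ _

theorem toEq_pow {F : Type*} [Field F] {n : ℕ} (g : GL (Fin n) F) (k : ℕ) : toEq g ^ k = toEq (g ^ k) := by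
  induction k with
  | zero => exact LinearEquiv.ext fun x => by rw [pow_zero, pow_zero, toEq_apply, Units.val_one, Matrix.one_mulVec]; rfl
  | succ k ih =>
    refine LinearEquiv.ext fun x => ?_
    rw [pow_succ, pow_succ, LinearEquiv.mul_apply, ih, toEq_apply, toEq_apply, toEq_apply, Units.val_mul,
      Matrix.mulVec_mulVec]


/-- Two semisimple elements of odd order of a finite orthogonal group (isometry group of a quadratic form on F^n with non-degenerate polar form, F finite of characteristic p; the elements have odd order prime to p) are conjugate in the orthogonal group if and only if they are conjugate in GL_n(F). -/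
theorem result {F : Type*} [Field F] [Fintype F] {p : ℕ} [Fact p.Prime] [CharP F p] {n : ℕ} (Q : QuadraticForm F (Fin n → F)) (hQ : (QuadraticMap.polarBilin Q).Nondegenerate) (A B : ↥(Cfsg.isometryGroup F ⇑Q)) (hodd : Odd (orderOf A)) (hA : (orderOf A).Coprime p) : IsConj A B ↔ IsConj ((A : Matrix.GeneralLinearGroup (Fin n) F) : Matrix (Fin n) (Fin n) F) ((B : Matrix.GeneralLinearGroup (Fin n) F) : Matrix (Fin n) (Fin n) F) := by
  classical
  set MA : GL (Fin n) F := (A : Matrix.GeneralLinearGroup (Fin n) F) with hMA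
  set MB : GL (Fin n) F := (B : Matrix.GeneralLinearGroup (Fin n) F) with hMB
  constructor
  · intro h
    exact ((((Units.coeHom (Matrix (Fin n) (Fin n) F))).comp (Cfsg.isometryGroup F ⇑Q).subtype).map_isConj h)
  · intro h
    obtain ⟨c, hc⟩ := h
    have hmem : ∀ (X : GL (Fin n) F), X ∈ Cfsg.isometryGroup F ⇑Q → ∀ v, Q (toEq X v) = Q v := by
      intro X hX v
      rw [toEq_apply]
      exact hX v v
    have ho : ((orderOf A : ℕ) : F) ≠ 0 := by
      rw [Ne, CharP.cast_eq_zero_iff F p]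
      exact fun h => (Fact.out : p.Prime).not_dvd_one (hA.gcd_eq_one ▸ Nat.dvd_gcd h dvd_rfl)
    have hAo : toEq MA ^ orderOf A = 1 := by
      rw [toEq_pow, hMA, ← Subgroup.coe_pow, pow_orderOf_eq_one]
      exact LinearEquiv.ext fun x => by rw [toEq_apply, Subgroup.coe_one, Units.val_one, Matrix.one_mulVec]; rfl
    obtain ⟨γ, hγ, hγc⟩ := iso_conj Q hQ (orderOf A) hodd ho (toEq MA) (toEq MB) (toEq c) (hmem _ A.2) (hmem _ B.2) hAo
      (fun x => by
        rw [toEq_apply, toEq_apply, toEq_apply, toEq_apply, Matrix.mulVec_mulVec, Matrix.mulVec_mulVec]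
        exact congrFun (congrArg Matrix.mulVec hc.eq) x)
      (fun P hP φ hφ => Lib.QuadWitt.witt_quad Q hQ P hP φ hφ)
    let G : GL (Fin n) F :=
      ⟨LinearMap.toMatrix' (γ : (Fin n → F) →ₗ[F] (Fin n → F)), LinearMap.toMatrix' (γ.symm : (Fin n → F) →ₗ[F] (Fin n → F)),
        by rw [← LinearMap.toMatrix'_comp, LinearEquiv.comp_symm, LinearMap.toMatrix'_id],
        by rw [← LinearMap.toMatrix'_comp, LinearEquiv.symm_comp, LinearMap.toMatrix'_id]⟩
    have hG : ∀ x, (G : Matrix (Fin n) (Fin n) F).mulVec x = γ x := fun x => LinearMap.toMatrix'_mulVec _ _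
    have hGmem : G ∈ Cfsg.isometryGroup F ⇑Q := fun u v => by
      show Q ((G : Matrix (Fin n) (Fin n) F).mulVec u) = Q u
      rw [hG, hγ]
    refine isConj_iff.2 ⟨⟨G, hGmem⟩, mul_inv_eq_iff_eq_mul.2 (Subtype.ext (Units.ext ?_))⟩
    show (G : Matrix (Fin n) (Fin n) F) * (MA : Matrix (Fin n) (Fin n) F) = (MB : Matrix (Fin n) (Fin n) F) * (G : Matrix (Fin n) (Fin n) F)
    refine Matrix.ext_of_mulVec_single fun i => ?_
    rw [← Matrix.mulVec_mulVec, ← Matrix.mulVec_mulVec, hG, hG, ← toEq_apply, ← toEq_apply]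
    exact hγc _

end Cfsg.Agent.S2590
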