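import Cfsg.Statements.S1497
import Mathlib.Tactic

set_option autoImplicit false
open Cfsg

namespace Cfsg.Agent.S1497

theorem result {G : Type*} [Group G] [Finite G] (A : Set G) (hA : A.Nonempty) (h1 : (1 : G) ∉ A) (L : Subgroup G) : (Cfsg.IsTISubset A ∧ Subgroup.normalizer A = L) ↔ Cfsg.DadeHypothesis A L (fun _ => ⊥) := by
  constructor
  · rintro ⟨hTI, hL⟩
    have hnorm : ∀ g : G, ∀ a ∈ A, g * a * g⁻¹ ∈ A → g ∈ L := fun g a ha hga => by
      rw [← hL]
      by_contra hg
      exact h1 (hTI g hg a ha hga ▸ ha)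
    refine ⟨h1, fun a ha => hnorm a a ha (by simpa using ha), fun x hx a ha => ?_,
      fun a ha g hga => ⟨g, hnorm g a ha hga, rfl⟩, fun a _ => bot_le,
      fun a _ c _ u hu => ?_, fun a _ => bot_inf_eq _, fun a ha => ?_, fun a _ b _ => by simp⟩
    · rw [← hL] at hx
      exact (hx a).mp ha
    · rw [Subgroup.mem_bot] at hu ⊢
      subst hu
      group
    · rw [bot_sup_eq, inf_eq_right]
      intro c hc
      refine hnorm c a ha ?_
      rw [Subgroup.mem_centralizer_singleton_iff.mp hc, mul_inv_cancel_right]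
      exact ha
  · intro hD
    have hmem : ∀ g : G, ∀ a ∈ A, g * a * g⁻¹ ∈ A → g ∈ L := fun g a ha hga => by
      obtain ⟨x, hx, hxe⟩ := hD.fusion a ha g hga
      have hc : x⁻¹ * g ∈ Subgroup.centralizer ({a} : Set G) := by
        rw [Subgroup.mem_centralizer_singleton_iff]
        calc x⁻¹ * g * a = x⁻¹ * (g * a * g⁻¹) * g := by group
          _ = x⁻¹ * (x * a * x⁻¹) * g := by rw [hxe]
          _ = a * (x⁻¹ * g) := by group
      rw [← hD.sup_eq a ha, bot_sup_eq] at hc
      have := L.mul_mem hx hc.1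
      rwa [mul_inv_cancel_left] at this
    have hle : L ≤ Subgroup.normalizer A := fun x hx n =>
      ⟨fun hn => hD.conj_mem x hx n hn, fun hn => by
        have := hD.conj_mem x⁻¹ (L.inv_mem hx) _ hn
        simpa [mul_assoc] using this⟩
    refine ⟨fun g hg a ha hga => absurd (hle (hmem g a ha hga)) hg, le_antisymm (fun g hg => ?_) hle⟩
    obtain ⟨a, ha⟩ := hA
    exact hmem g a ha ((hg a).mp ha)

end Cfsg.Agent.S1497
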