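import Cfsg.Statements.S4431
import Cfsg.Agent.Lib.Heights.Basic
import Cfsg.Agent.Lib.Block.Induced
import Cfsg.Agent.Lib.Block.Apply

set_option autoImplicit false
open Cfsg

namespace Cfsg.Agent.S4431

/-- Let H be a subgroup of the finite group G and b a block of H whose induced block B₀ in G is defined (relative to a maximal ideal M of the algebraic integers containing p). Let χ be an irreducible character of G, ψ ∈ b, and let η be the class function on H equal to p^a · χ on the p-regular elements of H and zero elsewhere, p^a being the p-part of the order of H. Then (a) if χ ∉ B₀, the number [η, ψ]/ψ(1) lies in the local ideal at M; (b) if χ ∈ B₀ has height zero, it does not. -/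
theorem result {G : Type*} [Group G] [Fintype G] (p : ℕ) [Fact p.Prime] (M : Ideal Cfsg.AlgInt) (hM : Cfsg.IsPModular p M) (H : Subgroup G) [Fintype H] (b : Set (Cfsg.IrrCharacter H)) (B₀ : Set (Cfsg.IrrCharacter G)) (hind : Cfsg.IsInducedBlock M H b B₀) (χ : Cfsg.IrrCharacter G) (ψ : Cfsg.IrrCharacter H) (hψ : ψ ∈ b) : (χ ∉ B₀ → Cfsg.MemLocalIdeal M (Cfsg.classInner (fun h : H => if p ∣ orderOf h then (0 : ℂ) else ((p ^ (Nat.card H).factorization p : ℕ) : ℂ) * (χ : G → ℂ) h) (ψ : H → ℂ) / (ψ : H → ℂ) 1)) ∧ (χ ∈ B₀ → Cfsg.blockHeight p B₀ (χ : G → ℂ) = 0 → ¬ Cfsg.MemLocalIdeal M (Cfsg.classInner (fun h : H => if p ∣ orderOf h then (0 : ℂ) else ((p ^ (Nat.card H).factorization p : ℕ) : ℂ) * (χ : G → ℂ) h) (ψ : H → ℂ) / (ψ : H → ℂ) 1)) := by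
  classical
  haveI := hM.2.1
  have hp : p.Prime := Fact.out
  set c : ℂ := ((Nat.card G / p ^ (Nat.card G).factorization p : ℕ) : ℂ) *
    ((Nat.card H / p ^ (Nat.card H).factorization p : ℕ) : ℂ)⁻¹ with hc
  set a := Lib.Heights.regElt p (χ : G → ℂ) with ha
  have hcR : c ∈ Lib.Block.locRing M := mul_mem (natCast_mem _ _)
    (Lib.Block.inv_natCast_mem_locRing hM (Nat.not_dvd_ordCompl hp Nat.card_pos.ne'))
  have hmG : ((Nat.card G / p ^ (Nat.card G).factorization p : ℕ) : ℂ) ≠ 0 :=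
    Nat.cast_ne_zero.2 fun h => Nat.not_dvd_ordCompl hp Nat.card_pos.ne' (h ▸ dvd_zero p)
  have hacl : Lib.Block.IsClassCoeff a := Lib.Heights.isClassCoeff_regElt χ
  have key : Cfsg.classInner (fun h : H => if p ∣ orderOf h then (0 : ℂ)
      else ((p ^ (Nat.card H).factorization p : ℕ) : ℂ) * (χ : G → ℂ) h) (ψ : H → ℂ) / (ψ : H → ℂ) 1 =
      c * Lib.Block.omega (ψ : H → ℂ) (Lib.Block.toSub H a) := by
    rw [Lib.Block.omega_eq_sum]
    simp only [Cfsg.classInner, Lib.Block.coeff_toSub, ha, Lib.Heights.regElt, Lib.Block.coeff_ofFun]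
    rw [Finset.mul_sum, Finset.sum_div, Finset.sum_div, Finset.mul_sum]
    refine Fintype.sum_equiv (Equiv.inv H) _ _ fun h => ?_
    simp only [Equiv.inv_apply, Subgroup.coe_inv, orderOf_inv, Subgroup.orderOf_coe,
      Lib.Char.char_inv (Lib.Char.isCharacter_of_isIrr χ.2),
      Lib.Char.char_inv (Lib.Char.isCharacter_of_isIrr ψ.2), Complex.conj_conj]
    split_ifs with hh
    · simp
    · have hH : (Nat.card H : ℂ) = ((p ^ (Nat.card H).factorization p : ℕ) : ℂ) *
          ((Nat.card H / p ^ (Nat.card H).factorization p : ℕ) : ℂ) := by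
        rw [← Nat.cast_mul, Nat.ordProj_mul_ordCompl_eq_self]
      have hp0 : ((p ^ (Nat.card H).factorization p : ℕ) : ℂ) ≠ 0 :=
        Nat.cast_ne_zero.2 (pow_ne_zero _ hp.ne_zero)
      rw [hH, hc, mul_inv]
      field_simp
  rw [key]
  have hR := Lib.Heights.intR_regElt hM χ
  have hwR : Lib.Block.omega (ψ : H → ℂ) (Lib.Block.toSub H a) ∈ Lib.Block.locRing M :=
    Lib.Block.omega_mem_locRing ψ (Lib.Block.isClassCoeff_toSub hacl) (Lib.Block.intR_toSub hR)
  rw [← Lib.Block.redC_eq_zero_iff (mul_mem hcR hwR), Lib.Block.redC_mul hcR hwR]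
  obtain ⟨φ, hφ⟩ := Lib.Block.isPBlock_nonempty hind.2.1
  refine ⟨fun hχ => ?_, fun hχ hh => ?_⟩
  · rw [Lib.Block.redC_omega_toSub_eq hind hψ hφ hacl hR]
    have h := Lib.Heights.mult_eq_degree_mul hp φ χ
    rw [Lib.Heights.mult_eq_zero_of_not_mem hM hind.2.1 hφ hχ, Int.cast_zero] at h
    rw [(mul_eq_zero.1 h.symm).resolve_left (Lib.Block.deg_ne_zero φ), Lib.Block.redC_zero, mul_zero]
  · rw [Lib.Block.redC_omega_toSub_eq hind hψ hχ hacl hR]
    haveI := Lib.Block.resField_charP (M := M) hM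
    refine mul_ne_zero ?_ fun h => ?_
    · intro h
      have h1 : c * ((Nat.card H / p ^ (Nat.card H).factorization p : ℕ) : ℂ) =
          ((Nat.card G / p ^ (Nat.card G).factorization p : ℕ) : ℂ) := by
        rw [hc, mul_assoc, inv_mul_cancel₀ (Nat.cast_ne_zero.2 fun h' =>
          Nat.not_dvd_ordCompl hp Nat.card_pos.ne' (h' ▸ dvd_zero p)), mul_one]
      have h2 := congrArg (Lib.Block.redC M) h1
      rw [Lib.Block.redC_mul hcR (natCast_mem _ _), h, zero_mul, Lib.Block.redC_natCast, eq_comm,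
        CharP.cast_eq_zero_iff _ p] at h2
      exact Nat.not_dvd_ordCompl hp Nat.card_pos.ne' h2
    · exact absurd hh ((Lib.Heights.exact_iff hM hind.2.1 hχ hχ).1
        ((Lib.Heights.mult_val hM hind.2.1 χ hχ hχ).2.2 h))

end Cfsg.Agent.S4431
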