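import Cfsg.Statements.S4428
import Cfsg.Agent.S4431
import Cfsg.Agent.Lib.Block.Parts
import Cfsg.Agent.Lib.Block.Apply
import Cfsg.Agent.Lib.Block.Singular

set_option autoImplicit false
open Cfsg

namespace Cfsg.Agent.S4428

/-- Let χ be an irreducible character of height zero in the p-block B of the finite group G (relative to a maximal ideal M of the algebraic integers containing p). Let x be a p-element of G with centralizer C, and let b be a block of C that induces B. Form the class function ϑ(c) = χ(x c) on C and its b-part (the sum over ψ ∈ b of the inner product of ϑ with ψ, times ψ). Then the b-part of ϑ does not vanish identically on the p-regular elements of C. (Compare the second main Theorem, which gives vanishing when b does not induce B.) -/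
theorem result {G : Type*} [Group G] [Finite G] (p : ℕ) [Fact p.Prime] (M : Ideal Cfsg.AlgInt) (hM : Cfsg.IsPModular p M) (B : Set (Cfsg.IrrCharacter G)) (hB : Cfsg.IsPBlock M B) (χ : Cfsg.IrrCharacter G) (hχ : χ ∈ B) (h0 : Cfsg.blockHeight p B (χ : G → ℂ) = 0) (x : G) (hx : ∃ k : ℕ, orderOf x = p ^ k) (b : Set (Cfsg.IrrCharacter (Subgroup.centralizer ({x} : Set G)))) (hb : Cfsg.IsInducedBlock M (Subgroup.centralizer ({x} : Set G)) b B) : ∃ y : Subgroup.centralizer ({x} : Set G), ¬ p ∣ orderOf y ∧ Cfsg.blockPart b (fun c : Subgroup.centralizer ({x} : Set G) => (χ : G → ℂ) (x * (c : G))) y ≠ 0 := by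
  classical
  haveI := Fintype.ofFinite G
  haveI := hM.2.1
  have hp : p.Prime := Fact.out
  haveI := Fintype.ofFinite (Subgroup.centralizer ({x} : Set G))
  by_contra hcon
  push Not at hcon
  obtain ⟨ψ, hψ⟩ := Lib.Block.isPBlock_nonempty hb.1
  have hχc := Lib.Char.isCharacter_of_isIrr χ.2
  have hres := Lib.Char.isCharacter_restrict hχc (Subgroup.centralizer ({x} : Set G))
  have hcl := Lib.Char.isClassFunction_of_isCharacter hres
  have hclx : Cfsg.IsClassFunction (Subgroup.centralizer ({x} : Set G)) (fun c : (Subgroup.centralizer ({x} : Set G)) => (χ : G → ℂ) (x * (c : G))) :=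
    Lib.Block.isClassFunction_translate (Lib.Char.isClassFunction_of_isIrr χ.2) x
  -- values congruent modulo `M`
  have hval : ∀ z : (Subgroup.centralizer ({x} : Set G)), Lib.Block.redC M ((χ : G → ℂ) (x * (z : G))) =
      Lib.Block.redC M ((χ : G → ℂ) (z : G)) := by
    intro z
    obtain ⟨w, hw⟩ := Lib.Block.exists_isPPart (p := p) (z : G)
    obtain ⟨v, hv, hwv, hwp, hvr⟩ := id hw
    have hxz : Commute x (z : G) := (Subgroup.mem_centralizer_singleton_iff.1 z.2).symm
    have hxw : Commute x w := Lib.Block.IsPPart.commute_of_commute hw hxz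
    have hwv' : w⁻¹ * (z : G) = v := by rw [← hv, inv_mul_cancel_left]
    have hxv : Commute x v := hwv' ▸ hxw.inv_right.mul_right hxz
    have hxwp : Lib.Block.IsPElem p (x * w) := by
      obtain ⟨i, hi⟩ := hx
      obtain ⟨j, hj⟩ := hwp
      obtain ⟨l, -, hl⟩ := (Nat.dvd_prime_pow hp).1
        (show orderOf (x * w) ∣ p ^ (i + j) by
          rw [pow_add, ← hi, ← hj]; exact hxw.orderOf_mul_dvd_mul_orderOf)
      exact ⟨l, hl⟩
    rw [← hv, ← mul_assoc, Lib.Block.redC_char_pPart hM hχc (hxv.mul_left hwv) hxwp hvr,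
      Lib.Block.redC_char_pPart hM hχc hwv hwp hvr]
  set g0 := Cfsg.blockPart b (fun c : (Subgroup.centralizer ({x} : Set G)) => (χ : G → ℂ) (c : G)) with hg0
  have hcoef : ∀ k : (Subgroup.centralizer ({x} : Set G)), Cfsg.blockCoeff b k ∈ Lib.Block.locRing M := fun k => by
    rw [← Lib.Block.coeff_eIdem]; exact Lib.Block.intR_eIdem hb.1 k
  have hg0R : ∀ y : (Subgroup.centralizer ({x} : Set G)), g0 y ∈ Lib.Block.locRing M := fun y => by
    rw [hg0, Lib.Block.blockPart_eq_sum b hcl]
    exact sum_mem fun k _ => mul_mem (hcoef k) (Lib.Block.integral_mem_locRing (Lib.Char.char_isIntegral hχc _))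
  have hzero : ∀ y : (Subgroup.centralizer ({x} : Set G)), ¬ p ∣ orderOf y → Lib.Block.redC M (g0 y) = 0 := by
    intro y hy
    have h0 := congrArg (Lib.Block.redC M) (hcon y hy)
    rw [Lib.Block.blockPart_eq_sum b hclx, Lib.Block.redC_zero,
      Lib.Block.redC_sum _ fun k _ => mul_mem (hcoef k)
        (Lib.Block.integral_mem_locRing (Lib.Char.char_isIntegral hχc _))] at h0
    rw [hg0, Lib.Block.blockPart_eq_sum b hcl, Lib.Block.redC_sum _ fun k _ => mul_mem (hcoef k)
      (Lib.Block.integral_mem_locRing (Lib.Char.char_isIntegral hχc _)), ← h0]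
    refine Finset.sum_congr rfl fun k _ => ?_
    rw [Lib.Block.redC_mul (hcoef k) (Lib.Block.integral_mem_locRing (Lib.Char.char_isIntegral hχc _)),
      Lib.Block.redC_mul (hcoef k) (Lib.Block.integral_mem_locRing (Lib.Char.char_isIntegral hχc _)),
      hval]
  have hg0cl : Cfsg.IsClassFunction (Subgroup.centralizer ({x} : Set G)) g0 := by
    intro u c
    rw [hg0, Lib.Block.blockPart_apply, Lib.Block.blockPart_apply]
    exact Finset.sum_congr rfl fun ξ _ => by rw [Lib.Char.isClassFunction_of_isIrr ξ.2 u c]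
  -- contradiction with the height zero criterion
  refine (S4431.result p M hM (Subgroup.centralizer ({x} : Set G)) b B hb χ ψ hψ).2 hχ h0 ?_
  set a : MonoidAlgebra ℂ (Subgroup.centralizer ({x} : Set G)) := Lib.Block.ofFun fun y =>
    ((Nat.card (Subgroup.centralizer ({x} : Set G)) / p ^ (Nat.card (Subgroup.centralizer ({x} : Set G))).factorization p : ℕ) : ℂ)⁻¹ *
      (if p ∣ orderOf y then 0 else g0 y⁻¹) with ha
  have hacl : Lib.Block.IsClassCoeff a := fun u y => by
    simp [ha, show (u * y * u⁻¹)⁻¹ = u * y⁻¹ * u⁻¹ by group, hg0cl y⁻¹ u,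
      show orderOf (u * y * u⁻¹) = orderOf y from MulEquiv.orderOf_eq (MulAut.conj u) y]
  have haI : Lib.Block.IdR M a := fun y => by
    have hc := Lib.Block.inv_natCast_mem_locRing hM
      (Nat.not_dvd_ordCompl hp (Nat.card_pos (α := (Subgroup.centralizer ({x} : Set G)))).ne')
    have hm : (if p ∣ orderOf y then 0 else g0 y⁻¹) ∈ Lib.Block.locRing M := by
      split_ifs
      · exact zero_mem _
      · exact hg0R _
    simp only [ha, Lib.Block.coeff_ofFun]
    rw [← Lib.Block.redC_eq_zero_iff (mul_mem hc hm), Lib.Block.redC_mul hc hm]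
    split_ifs with h
    · rw [Lib.Block.redC_zero, mul_zero]
    · rw [hzero y⁻¹ (by rwa [orderOf_inv]), mul_zero]
  have hI := Lib.Block.redC_omega_eq_zero_of_idR ψ hacl haI
  have key : Cfsg.classInner (fun h : (Subgroup.centralizer ({x} : Set G)) => if p ∣ orderOf h then (0 : ℂ)
      else ((p ^ (Nat.card (Subgroup.centralizer ({x} : Set G))).factorization p : ℕ) : ℂ) * (χ : G → ℂ) h) (ψ : (Subgroup.centralizer ({x} : Set G)) → ℂ) / (ψ : (Subgroup.centralizer ({x} : Set G)) → ℂ) 1 =
      Lib.Block.omega (ψ : (Subgroup.centralizer ({x} : Set G)) → ℂ) a := by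
    have e1 : Cfsg.classInner (fun h : (Subgroup.centralizer ({x} : Set G)) => if p ∣ orderOf h then (0 : ℂ)
        else ((p ^ (Nat.card (Subgroup.centralizer ({x} : Set G))).factorization p : ℕ) : ℂ) * (χ : G → ℂ) h) (ψ : (Subgroup.centralizer ({x} : Set G)) → ℂ) =
        ((p ^ (Nat.card (Subgroup.centralizer ({x} : Set G))).factorization p : ℕ) : ℂ) * Lib.Block.regInner p g0 (ψ : (Subgroup.centralizer ({x} : Set G)) → ℂ) := by
      have hexp := Lib.Char.eq_sum_classInner_smul hcl
      have h2 : Lib.Block.regInner p (fun c : (Subgroup.centralizer ({x} : Set G)) => (χ : G → ℂ) (c : G)) (ψ : (Subgroup.centralizer ({x} : Set G)) → ℂ) =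
          Lib.Block.regInner p g0 (ψ : (Subgroup.centralizer ({x} : Set G)) → ℂ) := by
        have hlin : ∀ φ : (Subgroup.centralizer ({x} : Set G)) → ℂ, Lib.Block.regInner p φ (ψ : (Subgroup.centralizer ({x} : Set G)) → ℂ) =
            (Nat.card (Subgroup.centralizer ({x} : Set G)) : ℂ)⁻¹ * ∑ y : (Subgroup.centralizer ({x} : Set G)),
              (if p ∣ orderOf y then 0 else φ y) * starRingEnd ℂ ((ψ : (Subgroup.centralizer ({x} : Set G)) → ℂ) y) := fun φ => rfl
        have hlin' : ∀ (w : Cfsg.IrrCharacter (Subgroup.centralizer ({x} : Set G)) → ℂ) (φ : (Subgroup.centralizer ({x} : Set G)) → ℂ),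
            (∀ y, φ y = ∑ ξ : Cfsg.IrrCharacter (Subgroup.centralizer ({x} : Set G)), w ξ * (ξ : (Subgroup.centralizer ({x} : Set G)) → ℂ) y) →
            Lib.Block.regInner p φ (ψ : (Subgroup.centralizer ({x} : Set G)) → ℂ) =
              ∑ ξ : Cfsg.IrrCharacter (Subgroup.centralizer ({x} : Set G)), w ξ * Lib.Block.regInner p (ξ : (Subgroup.centralizer ({x} : Set G)) → ℂ) (ψ : (Subgroup.centralizer ({x} : Set G)) → ℂ) := by
          intro w φ hφ
          simp only [hlin, Finset.mul_sum]
          rw [Finset.sum_comm]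
          refine Finset.sum_congr rfl fun y _ => ?_
          split_ifs
          · simp
          · rw [hφ, Finset.sum_mul, Finset.mul_sum]
            exact Finset.sum_congr rfl fun ξ _ => by ring
        rw [hlin' (fun ξ => Cfsg.classInner (fun c : (Subgroup.centralizer ({x} : Set G)) => (χ : G → ℂ) (c : G)) (ξ : (Subgroup.centralizer ({x} : Set G)) → ℂ)) _ (fun y => by
            have h3 := congrFun hexp y
            simp only [Finset.sum_apply, Pi.smul_apply, smul_eq_mul] at h3
            exact h3),
          hlin' (fun ξ => if ξ ∈ b then Cfsg.classInner (fun c : (Subgroup.centralizer ({x} : Set G)) => (χ : G → ℂ) (c : G)) (ξ : (Subgroup.centralizer ({x} : Set G)) → ℂ) else 0)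
            g0 (fun y => by
            rw [hg0, Lib.Block.blockPart_apply]
            exact Finset.sum_congr rfl fun ξ _ => by split_ifs <;> simp)]
        refine Finset.sum_congr rfl fun ξ _ => ?_
        split_ifs with hξ
        · rfl
        · rw [Lib.Block.regInner_eq_zero hM fun hs =>
            hξ ((Lib.Block.mem_iff_sameBlock hb.1 hψ).2 (Lib.Block.sameBlock_symm hs)), mul_zero, mul_zero]
      rw [← h2, Lib.Block.regInner, ← Lib.Char.classInner_smul_left]
      congr 1
      funext y
      simp only [Pi.smul_apply, smul_eq_mul]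
      split_ifs <;> simp
    rw [e1, Lib.Block.omega_eq_sum]
    simp only [Lib.Block.regInner, Cfsg.classInner, ha, Lib.Block.coeff_ofFun]
    rw [Finset.mul_sum, Finset.mul_sum, Finset.sum_div, Finset.sum_div]
    refine Fintype.sum_equiv (Equiv.inv (Subgroup.centralizer ({x} : Set G))) _ _ fun y => ?_
    simp only [Equiv.inv_apply, orderOf_inv, inv_inv,
      Lib.Char.char_inv (Lib.Char.isCharacter_of_isIrr ψ.2)]
    split_ifs with hh
    · simp
    · have hH : (Nat.card (Subgroup.centralizer ({x} : Set G)) : ℂ) = ((p ^ (Nat.card (Subgroup.centralizer ({x} : Set G))).factorization p : ℕ) : ℂ) *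
          ((Nat.card (Subgroup.centralizer ({x} : Set G)) / p ^ (Nat.card (Subgroup.centralizer ({x} : Set G))).factorization p : ℕ) : ℂ) := by
        rw [← Nat.cast_mul, Nat.ordProj_mul_ordCompl_eq_self]
      have hp0 : ((p ^ (Nat.card (Subgroup.centralizer ({x} : Set G))).factorization p : ℕ) : ℂ) ≠ 0 :=
        Nat.cast_ne_zero.2 (pow_ne_zero _ hp.ne_zero)
      rw [hH]
      field_simp
  rw [key]
  exact (Lib.Block.redC_eq_zero_iff (Lib.Block.omega_mem_locRing ψ hacl fun y =>
    Lib.Block.memLocalRing_of_memLocalIdeal (haI y))).1 hI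

end Cfsg.Agent.S4428
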