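import Cfsg.Statements.S0840
import Cfsg.Agent.Lib.CharTools.ClassMult
import Cfsg.Agent.Lib.Char.Linear
import Mathlib.Tactic

set_option autoImplicit false
open scoped ComplexConjugate
open Cfsg

namespace Cfsg.Agent.S0840

open Cfsg.Agent.Lib Cfsg.Agent.Lib.Char

theorem result {G : Type*} [Group G] [Finite G] (a b c : G) : (Nat.card {p : G × G // IsConj a p.1 ∧ IsConj b p.2 ∧ p.1 * p.2 = c} : ℂ) = (Nat.card {x : G // IsConj a x} : ℂ) * (Nat.card {x : G // IsConj b x} : ℂ) / (Nat.card G : ℂ) * ∑ᶠ χ : Cfsg.IrrCharacter G, (χ : G → ℂ) a * (χ : G → ℂ) b * conj ((χ : G → ℂ) c) / (χ : G → ℂ) 1 := by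
  classical
  haveI := Fintype.ofFinite G
  have hs : ∀ u x : G, IsConj u x ↔ IsConj x u := fun u x => ⟨IsConj.symm, IsConj.symm⟩
  set F : G → ℂ := fun z => ∑ x : G, ∑ y : G,
    CharTools.classInd a x * CharTools.classInd b y * (if x * y = z then 1 else 0) with hF
  rw [finsum_eq_sum_of_fintype]
  have hL : (Nat.card {p : G × G // IsConj a p.1 ∧ IsConj b p.2 ∧ p.1 * p.2 = c} : ℂ) = F c := by
    rw [Nat.card_eq_fintype_card, Fintype.card_subtype, ← Finset.sum_boole, hF, Fintype.sum_prod_type]
    refine Finset.sum_congr rfl fun x _ => Finset.sum_congr rfl fun y _ => ?_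
    dsimp only
    by_cases h3 : x * y = c
    · by_cases h1 : IsConj x a
      · by_cases h2 : IsConj y b
        · rw [if_pos ⟨h1.symm, h2.symm, h3⟩, CharTools.classInd_of h1, CharTools.classInd_of h2, if_pos h3,
            one_mul, one_mul]
        · rw [if_neg fun h => h2 h.2.1.symm, CharTools.classInd_of_not h2, mul_zero, zero_mul]
      · rw [if_neg fun h => h1 h.1.symm, CharTools.classInd_of_not h1, zero_mul, zero_mul]
    · rw [if_neg fun h => h3 h.2.2, if_neg h3, mul_zero]
  have hcard : ∀ u : G, (Nat.card {x : G // IsConj u x} : ℂ) =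
      ((Subgroup.centralizer ({u} : Set G)).index : ℂ) := by
    intro u
    rw [← card_conjClass_eq_index, Nat.card_eq_fintype_card, Fintype.card_subtype]
    congr 2
    exact Finset.filter_congr fun x _ => hs u x
  have hFcl : IsClassFunction G F := by
    intro z h
    simp only [hF]
    rw [← Equiv.sum_comp (MulAut.conj h).toEquiv]
    refine Finset.sum_congr rfl fun x _ => ?_
    rw [← Equiv.sum_comp (MulAut.conj h).toEquiv]
    refine Finset.sum_congr rfl fun y _ => ?_
    simp only [MulEquiv.toEquiv_eq_coe, EquivLike.coe_coe, MulAut.conj_apply, CharTools.classInd_conj]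
    congr 1
    refine if_congr ?_ rfl rfl
    rw [show h * x * h⁻¹ * (h * y * h⁻¹) = h * (x * y) * h⁻¹ by group]
    simp
  rw [hL, congrFun (eq_sum_classInner_smul hFcl) c, hcard, hcard, Finset.sum_apply, Finset.mul_sum]
  rw [← Equiv.sum_comp (Equiv.ofBijective (fun χ : IrrCharacter G =>
      (⟨_, isIrrCharacter_conj χ.2⟩ : IrrCharacter G))
    ((Finite.injective_iff_bijective).mp fun u v huv =>
      Subtype.ext (funext fun g => star_injective (congrFun (congrArg Subtype.val huv) g))))]
  refine Finset.sum_congr rfl fun χ _ => ?_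
  simp only [Equiv.ofBijective_apply, Pi.smul_apply, smul_eq_mul]
  have hcl : classInner F (fun g => conj ((χ : G → ℂ) g)) = (Nat.card G : ℂ)⁻¹ *
      ∑ x : G, ∑ y : G, CharTools.classInd a x * CharTools.classInd b y * (χ : G → ℂ) (x * y) := by
    simp only [classInner, Complex.conj_conj, hF, Finset.sum_mul]
    congr 1
    rw [Finset.sum_comm]
    refine Finset.sum_congr rfl fun x _ => ?_
    rw [Finset.sum_comm]
    refine Finset.sum_congr rfl fun y _ => ?_
    simp [mul_ite, ite_mul]
  rw [hcl, CharTools.sum_classes_mul χ.2]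
  ring

end Cfsg.Agent.S0840
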