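import Cfsg.Statements.S0558
import Cfsg.Agent.Lib.Transfer.Hall
import Cfsg.Agent.Lib.Coprime.Basic

set_option autoImplicit false
open Cfsg

namespace Cfsg.Agent.S0558

open Subgroup Lib.Transfer
open scoped Pointwise

variable {G : Type*} [Group G]

/-- A nilpotent Hall subgroup controlling fusion of its elements has a normal complement. -/
theorem exists_complement_of_local_fusion [Finite G] (H : Subgroup G) (hH : Group.IsNilpotent H)
    (hcop : Nat.Coprime (Nat.card H) H.index) (h : ∀ q : ℕ, q.Prime → ∀ S : Sylow q H, ∀ x ∈ (S : Subgroup H), ∀ g : G,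
      g * (x : G) * g⁻¹ ∈ (S : Subgroup H).map H.subtype → ∃ v ∈ H, v * (x : G) * v⁻¹ = g * (x : G) * g⁻¹) :
    ∃ N : Subgroup G, N.Normal ∧ N.IsComplement' H := by
  let N : Subgroup G := ⨅ q : (Nat.card H).primeFactors, pResidual (q : ℕ) G
  have hNn : N.Normal := by
    refine ⟨fun n hn g => ?_⟩
    rw [mem_iInf] at hn ⊢
    exact fun q => (pResidual_normal (p := (q : ℕ))).conj_mem n (hn q) g
  have hnd : ∀ q : ℕ, q.Prime → q ∣ Nat.card H → ¬ q ∣ Nat.card N := by
    intro q hq hqH hd
    have : Fact q.Prime := ⟨hq⟩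
    obtain ⟨S, P, hP⟩ := exists_sylow_le H hcop hqH
    have hcomp : HasNormalPComplement q G := by
      refine hasNormalPComplement_of_controlsFusion P fun x hx g hg => ?_
      rw [hP] at hx hg
      obtain ⟨x', hx', rfl⟩ := hx
      obtain ⟨v, hv, he⟩ := h q hq S x' hx' g hg
      have hsup : (⟨v, hv⟩ : H) ∈ pResidual q H ⊔ S := (pResidual_sup_sylow S).symm ▸ mem_top _
      obtain ⟨e, he', s, hs, hes⟩ := mem_sup_of_normal_left.mp hsup
      have hec : ∀ y ∈ (S : Subgroup H), Commute e y := by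
        intro y hy
        clear hes
        induction he' using closure_induction with
        | mem e he =>
          obtain ⟨k, hk⟩ := IsPGroup.iff_orderOf.mp S.2 ⟨y, hy⟩
          rw [orderOf_mk] at hk
          exact commute_of_coprime_orderOf (hk ▸ (Nat.Coprime.pow_right k he))
        | one => exact Commute.one_left y
        | mul a b _ _ ha hb => exact ha.mul_left hb
        | inv a _ ha => exact ha.inv_left
      refine ⟨s, hP ▸ mem_map_of_mem H.subtype hs, ?_⟩
      show (s : G) * (x' : G) * (s : G)⁻¹ = g * (x' : G) * g⁻¹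
      rw [← he]
      have hy : s * x' * s⁻¹ ∈ (S : Subgroup H) := (conj_mem_iff hs).mpr hx'
      have : (⟨v, hv⟩ : H) * x' * (⟨v, hv⟩ : H)⁻¹ = s * x' * s⁻¹ := by
        rw [← hes]
        calc e * s * x' * (e * s)⁻¹ = e * (s * x' * s⁻¹) * e⁻¹ := by group
          _ = _ := by rw [(hec _ hy).eq, mul_inv_cancel_right]
      exact (congrArg Subtype.val this).symm
    exact hasNormalPComplement_iff.mp hcomp (hd.trans (card_dvd_of_le
      (iInf_le _ (⟨q, Nat.mem_primeFactors.mpr ⟨hq, hqH, Nat.card_pos.ne'⟩⟩ : (Nat.card H).primeFactors))))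
  have hdisj : N ⊓ H = ⊥ := by
    rw [← card_eq_one]
    by_contra hne
    obtain ⟨q, hq, hqd⟩ := Nat.exists_prime_and_dvd hne
    exact hnd q hq (hqd.trans (card_dvd_of_le inf_le_right)) (hqd.trans (card_dvd_of_le inf_le_left))
  have hsup : N ⊔ H = ⊤ := by
    rw [← index_eq_one]
    by_contra hne
    obtain ⟨r, hr, hrd⟩ := Nat.exists_prime_and_dvd hne
    have hrH : ¬ r ∣ Nat.card H := fun hrH => hr.ne_one (Nat.Coprime.eq_one_of_dvd
      (hcop.coprime_dvd_left hrH) (hrd.trans (index_dvd_of_le le_sup_right)))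
    have : Fact r.Prime := ⟨hr⟩
    obtain ⟨R⟩ := (inferInstance : Nonempty (Sylow r G))
    have hRN : (R : Subgroup G) ≤ N := by
      refine le_iInf fun q x hx => mem_pResidual ?_
      obtain ⟨k, hk⟩ := IsPGroup.iff_orderOf.mp R.2 ⟨x, hx⟩
      rw [orderOf_mk] at hk
      rw [hk]
      refine Nat.Coprime.pow_left k ((Nat.coprime_primes hr (Nat.prime_of_mem_primeFactors q.2)).mpr ?_)
      exact fun e => hrH (e ▸ Nat.dvd_of_mem_primeFactors q.2)
    exact R.not_dvd_index (hrd.trans (index_dvd_of_le (hRN.trans le_sup_left)))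
  exact ⟨N, hNn, isComplement'_of_inf_sup hdisj hsup⟩




/-- Let H be a subgroup of a finite group G that is not a Sylow subgroup of G for any prime, and suppose that for every prime p dividing the order of H and every Sylow p-subgroup P of H the normalizer of P in G is exactly H. Then some normal subgroup of G is a complement to H. -/
theorem result {G : Type*} [Group G] [Finite G] (H : Subgroup G) (hnot : ∀ p : ℕ, p.Prime → ∀ P : Sylow p G, (P : Subgroup G) ≠ H) (hnorm : ∀ p : ℕ, p.Prime → p ∣ Nat.card H → ∀ P : Sylow p H, Subgroup.normalizer (((P : Subgroup H).map H.subtype : Subgroup G) : Set G) = H) : ∃ N : Subgroup G, N.Normal ∧ Subgroup.IsComplement' N H := by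

  classical
  by_cases hH1 : H = ⊥
  · exact ⟨⊤, inferInstance, hH1 ▸ isComplement'_top_bot⟩
  have hnorm' : ∀ p : ℕ, p.Prime → p ∣ Nat.card H → ∀ P : Sylow p H,
      normalizer (((P : Subgroup H).map H.subtype : Subgroup G) : Set G) = H := hnorm
  have hPn : ∀ p : ℕ, p.Prime → p ∣ Nat.card H → ∀ P : Sylow p H, (P : Subgroup H).Normal := by
    intro p hp hd P
    refine ⟨fun x hx g => ?_⟩
    have hg : (g : G) ∈ normalizer (((P : Subgroup H).map H.subtype : Subgroup G) : Set G) :=
      (hnorm' p hp hd P).ge g.2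
    obtain ⟨y, hy, he⟩ := (mem_normalizer_iff.mp hg _).mp (mem_map_of_mem H.subtype hx)
    rwa [← Subtype.ext (a1 := y) (a2 := g * x * g⁻¹) (by simpa using he)]
  have hnil : Group.IsNilpotent H := by
    refine (Group.isNilpotent_of_finite_tfae.out 0 3 rfl rfl).mpr ?_
    intro p hp P
    by_cases hd : p ∣ Nat.card H
    · exact hPn p hp.out hd P
    · have : (P : Subgroup H) = ⊥ := card_eq_one.mp (by
        rw [P.card_eq_multiplicity, Nat.factorization_eq_zero_of_not_dvd hd, pow_zero])
      rw [this]; infer_instance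
  -- the Sylow subgroups of `H` are Sylow subgroups of `G`
  have hsyl : ∀ p : ℕ, p.Prime → p ∣ Nat.card H → ∀ P : Sylow p H,
      ∃ R : Sylow p G, (R : Subgroup G) = (P : Subgroup H).map H.subtype := by
    intro p hp hd P
    have : Fact p.Prime := ⟨hp⟩
    obtain ⟨R, hR⟩ := (P.2.map H.subtype).exists_le_sylow
    refine ⟨R, le_antisymm ?_ hR⟩
    set Q := (P : Subgroup H).map H.subtype
    by_contra hne
    have hlt : Q.subgroupOf R < ⊤ := lt_top_iff_ne_top.mpr fun h => hne (subgroupOf_eq_top.mp h)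
    haveI := R.2.isNilpotent
    obtain ⟨x, hx, hxQ⟩ := SetLike.exists_of_lt (Group.normalizerCondition_of_isNilpotent _ hlt)
    have hxn : (x : G) ∈ normalizer (Q : Set G) := by
      refine mem_normalizer_iff.mpr fun y => ⟨fun hy => ?_, fun hy => ?_⟩
      · have := (mem_normalizer_iff.mp hx ⟨y, hR hy⟩).mp (mem_subgroupOf.mpr hy)
        simpa [mem_subgroupOf] using this
      · have hyR : y ∈ (R : Subgroup G) := by
          have := mul_mem (mul_mem (inv_mem x.2) (hR hy)) x.2
          simpa [mul_assoc] using this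
        exact mem_subgroupOf.mp ((mem_normalizer_iff.mp hx ⟨y, hyR⟩).mpr (mem_subgroupOf.mpr (by simpa using hy)))
    rw [hnorm' p hp hd P] at hxn
    have hle : IsPGroup p ↥((R : Subgroup G).subgroupOf H) := R.2.comap_of_injective _ H.subtype_injective
    have hPR : (P : Subgroup H) ≤ (R : Subgroup G).subgroupOf H := fun y hy => hR (mem_map_of_mem _ hy)
    have := P.3 hle hPR
    exact hxQ (mem_subgroupOf.mpr ⟨⟨x, hxn⟩, this ▸ mem_subgroupOf.mpr x.2, rfl⟩)
  have hcop : Nat.Coprime (Nat.card H) H.index := by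
    refine Nat.coprime_of_dvd fun p hp hd hdi => ?_
    have : Fact p.Prime := ⟨hp⟩
    obtain ⟨P⟩ := (inferInstance : Nonempty (Sylow p H))
    obtain ⟨R, hR⟩ := hsyl p hp hd P
    exact R.not_dvd_index (hdi.trans (index_dvd_of_le (hR ▸ map_subtype_le _)))
  -- at least two primes
  have htwo : ∀ q : ℕ, q.Prime → ∃ r : ℕ, r.Prime ∧ r ∣ Nat.card H ∧ r ≠ q := by
    intro q hq
    by_contra hcon
    push_neg at hcon
    have : Fact q.Prime := ⟨hq⟩
    obtain ⟨P⟩ := (inferInstance : Nonempty (Sylow q H))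
    have htop : (P : Subgroup H) = ⊤ := by
      rw [← index_eq_one]
      by_contra hne
      obtain ⟨r, hr, hrd⟩ := Nat.exists_prime_and_dvd hne
      exact P.not_dvd_index (hcon r hr (hrd.trans (index_dvd_card _)) ▸ hrd)
    obtain ⟨r, hr, hrd⟩ := Nat.exists_prime_and_dvd (mt card_eq_one.mp hH1)
    obtain ⟨R, hR⟩ := hsyl q hq (hcon r hr hrd ▸ hrd) P
    exact hnot q hq R (by rw [hR, htop, ← MonoidHom.range_eq_map, range_subtype])
  refine exists_complement_of_local_fusion H hnil hcop fun q hq S x hx g hg => ?_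
  have : Fact q.Prime := ⟨hq⟩
  obtain ⟨r, hr, hrd, hrq⟩ := htwo q hq
  have : Fact r.Prime := ⟨hr⟩
  obtain ⟨T⟩ := (inferInstance : Nonempty (Sylow r H))
  obtain ⟨R, hR⟩ := hsyl r hr hrd T
  have hcomm : ∀ y ∈ (S : Subgroup H), ∀ t ∈ (T : Subgroup H), y * t = t * y := by
    intro y hy t ht
    haveI := hnil
    refine (commute_of_coprime_orderOf ?_).eq
    obtain ⟨k, hk⟩ := IsPGroup.iff_orderOf.mp S.2 ⟨y, hy⟩
    obtain ⟨l, hl⟩ := IsPGroup.iff_orderOf.mp T.2 ⟨t, ht⟩
    rw [orderOf_mk] at hk hl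
    rw [hk, hl]
    exact Nat.Coprime.pow _ _ ((Nat.coprime_primes hq hr).mpr hrq.symm)
  have hcent : ∀ y ∈ (S : Subgroup H), (R : Subgroup G) ≤ centralizer ({(y : G)} : Set G) := by
    intro y hy z hz
    rw [hR] at hz
    obtain ⟨t, ht, rfl⟩ := hz
    exact mem_centralizer_singleton_iff.mpr (congrArg Subtype.val (hcomm y hy t ht)).symm
  obtain ⟨z, hz, hze⟩ := hg
  have hRC := hcent x hx
  have hRC' : ((g⁻¹ • R : Sylow r G) : Subgroup G) ≤ centralizer ({(x : G)} : Set G) := by
    intro w hw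
    rw [Sylow.coe_subgroup_smul, Lib.Coprime.mem_conj_smul, inv_inv] at hw
    have := mem_centralizer_singleton_iff.mp (hcent z hz hw)
    rw [show ((z : H) : G) = g * x * g⁻¹ from hze] at this
    rw [mem_centralizer_singleton_iff]
    simpa [mul_assoc] using congrArg (fun u => g⁻¹ * u * g) this
  obtain ⟨c, hc⟩ := MulAction.exists_smul_eq (centralizer ({(x : G)} : Set G)) (R.subtype hRC) ((g⁻¹ • R).subtype hRC')
  have hc' := congrArg (fun Q : Sylow r (centralizer ({(x : G)} : Set G)) => (Sylow.toSubgroup Q).map (Subgroup.subtype _)) hc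
  simp only [Sylow.coe_subgroup_smul, Sylow.coe_subtype, Lib.Coprime.map_conj_smul,
    map_subgroupOf_eq_of_le hRC, map_subgroupOf_eq_of_le hRC', coe_subtype] at hc'
  have hgc : g * c ∈ H := by
    refine (hnorm' r hr hrd T).le ?_
    rw [← hR]
    refine Lib.Coprime.mem_normalizer_of_conj_smul_eq ?_
    rw [Lib.Coprime.conj_smul_mul, hc', ← Sylow.coe_subgroup_smul, Sylow.coe_subgroup_smul,
      subgroupOf_map_subtype, inf_eq_left.mpr (by rw [← Sylow.coe_subgroup_smul]; exact hRC'), Lib.Coprime.conj_smul_inv_smul]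
  refine ⟨g * c, hgc, ?_⟩
  calc g * c * (x : G) * (g * c)⁻¹ = g * ((c : G) * x) * (c : G)⁻¹ * g⁻¹ := by group
    _ = g * ((x : G) * c) * (c : G)⁻¹ * g⁻¹ := by rw [mem_centralizer_singleton_iff.mp c.2]
    _ = _ := by group

end Cfsg.Agent.S0558
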