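import Cfsg.Statements.S0561
import Cfsg.Agent.Lib.Hall.Systems
import Cfsg.Agent.Lib.Coprime.Product

set_option autoImplicit false
open Pointwise
open Cfsg

namespace Cfsg.Agent.S0561

open scoped Pointwise

/-- Let the finite solvable group G be the product HK of subgroups, and let A be normal in H and B normal in K, where A and B are Hall subgroups of G (order coprime to index). Then for all x, y the product set of xAx⁻¹ and yBy⁻¹ is a subgroup of G. -/
theorem result {G : Type*} [Group G] [Finite G] [Group.IsSolvable G] (H K A B : Subgroup G) (hHK : ∀ g : G, ∃ h ∈ H, ∃ k ∈ K, g = h * k) (hA : A ≤ H) (hAn : (A.subgroupOf H).Normal) (hB : B ≤ K) (hBn : (B.subgroupOf K).Normal) (hAh : (Nat.card A).Coprime A.index) (hBh : (Nat.card B).Coprime B.index) (x y : G) : ∃ S : Subgroup G, (S : Set G) = ((MulAut.conj x • A : Subgroup G) : Set G) * ((MulAut.conj y • B : Subgroup G) : Set G) := by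

  classical
  obtain ⟨F, hF⟩ := Lib.Hall.exists_complementSystem (G := G)
  -- standard Hall subgroups of the system
  have hstd : ∀ A : Subgroup G, (Nat.card A).Coprime A.index →
      ∃ (s : Finset Nat.Primes) (x : G), MulAut.conj x • s.inf F = A ∧
        (s.inf F).index = ∏ p ∈ s, (F p).index := by
    intro A hA
    let s : Finset Nat.Primes := A.index.primeFactors.subtype Nat.Prime
    have hs : (s.inf F).index = ∏ p ∈ s, (F p).index :=
      Lib.Hall.index_finset_inf s F fun i _ j _ hij => Lib.Hall.system_index_coprime hF hij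
    have hidx : (s.inf F).index = A.index := by
      rw [hs]
      have h1 : ∀ p ∈ s, (F p).index = (p : ℕ) ^ A.index.factorization p := by
        intro p hp
        have hpd := Nat.dvd_of_mem_primeFactors (Finset.mem_subtype.mp hp)
        rw [hF p, ← A.card_mul_index, Nat.factorization_mul Nat.card_pos.ne' A.index_ne_zero_of_finite,
          Finsupp.add_apply, Nat.factorization_eq_zero_of_not_dvd fun h =>
            p.2.ne_one (Nat.dvd_one.mp (hA ▸ Nat.dvd_gcd h hpd)), zero_add]
      rw [Finset.prod_congr rfl h1]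
      conv_rhs => rw [← Nat.prod_factorization_pow_eq_self A.index_ne_zero_of_finite]
      rw [Finsupp.prod, Nat.support_factorization]
      exact Finset.prod_subtype_of_mem (fun p : ℕ => p ^ A.index.factorization p)
        (fun p hp => Nat.prime_of_mem_primeFactors hp)
    have hc : Nat.card ↥(s.inf F) = Nat.card A := by
      apply mul_right_cancel₀ A.index_ne_zero_of_finite
      rw [Subgroup.card_mul_index, ← hidx, Subgroup.card_mul_index]
    obtain ⟨x, hx⟩ := Lib.Hall.exists_conj_eq (H := s.inf F) (K := A) (by rw [hc, hidx]; exact hA) hc.symm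
    exact ⟨s, x, hx, hs⟩
  obtain ⟨s, a, ha, hsi⟩ := hstd A hAh
  obtain ⟨t, b, hb, hti⟩ := hstd B hBh
  set A₁ := s.inf F
  set B₁ := t.inf F
  set T := (s ∩ t).inf F with hT
  -- the standard pair permutes
  have hAT : A₁ ≤ T := Finset.inf_mono Finset.inter_subset_left
  have hBT : B₁ ≤ T := Finset.inf_mono Finset.inter_subset_right
  have hcop : ∀ u : Finset Nat.Primes, (u.inf F).index = ∏ p ∈ u, (F p).index := fun u =>
    Lib.Hall.index_finset_inf u F fun i _ j _ hij => Lib.Hall.system_index_coprime hF hij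
  have hset : (T : Set G) = (A₁ : Set G) * B₁ := by
    refine (Set.eq_of_subset_of_ncard_le ?_ ?_ (Set.toFinite _)).symm
    · rintro _ ⟨u, hu, v, hv, rfl⟩
      exact T.mul_mem (hAT hu) (hBT hv)
    rw [← Nat.card_coe_set_eq, ← Nat.card_coe_set_eq]
    have h1 := Lib.Coprime.card_coe_mul_mul_card_inf A₁ B₁
    rw [show A₁ ⊓ B₁ = (s ∪ t).inf F from Finset.inf_union.symm] at h1
    change Nat.card T ≤ _
    refine Nat.le_of_mul_le_mul_right ?_ (Nat.card_pos (α := ↥((s ∪ t).inf F)))
    rw [h1]
    refine Nat.le_of_mul_le_mul_right ?_ (show 0 < ((s ∪ t).inf F).index * T.index from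
      Nat.mul_pos (Nat.pos_of_ne_zero Subgroup.index_ne_zero_of_finite)
        (Nat.pos_of_ne_zero Subgroup.index_ne_zero_of_finite))
    have e1 : A₁.index * B₁.index = ((s ∪ t).inf F).index * T.index := by
      rw [hsi, hti, hcop, hT, hcop, Finset.prod_union_inter]
    apply le_of_eq
    calc Nat.card T * Nat.card ↥((s ∪ t).inf F) * (((s ∪ t).inf F).index * T.index)
        = (Nat.card T * T.index) * (Nat.card ↥((s ∪ t).inf F) * ((s ∪ t).inf F).index) := by ring
      _ = (Nat.card A₁ * A₁.index) * (Nat.card B₁ * B₁.index) := by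
        simp only [Subgroup.card_mul_index]
      _ = _ := by rw [← e1]; ring
  -- reduce the given pair to the standard one
  have hx' : MulAut.conj x • A = MulAut.conj (x * a) • A₁ := by rw [Lib.Coprime.conj_smul_mul, ha]
  have hy' : MulAut.conj y • B = MulAut.conj (y * b) • B₁ := by rw [Lib.Coprime.conj_smul_mul, hb]
  -- `G = (a⁻¹ H a) (b⁻¹ K b)` makes all pairs conjugate
  obtain ⟨h, hh, k, hk, e⟩ := hHK (a * ((x * a)⁻¹ * (y * b)) * b⁻¹)
  obtain ⟨h₀, hh₀, k₀, hk₀, e₀⟩ := hHK (a * b⁻¹)
  have hAN : ∀ g ∈ H, MulAut.conj g • A = A := fun g hg => Lib.Coprime.conj_smul_eq_self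
    ((Subgroup.normal_subgroupOf_iff_le_normalizer hA).mp hAn hg)
  have hBN : ∀ g ∈ K, MulAut.conj g • B = B := fun g hg => Lib.Coprime.conj_smul_eq_self
    ((Subgroup.normal_subgroupOf_iff_le_normalizer hB).mp hBn hg)
  let g := x * h * h₀⁻¹ * a
  have hgA : MulAut.conj g • A₁ = MulAut.conj x • A := by
    rw [show g = x * (h * h₀⁻¹) * a by simp [g, mul_assoc], Lib.Coprime.conj_smul_mul,
      Lib.Coprime.conj_smul_mul, ha, hAN _ (H.mul_mem hh (H.inv_mem hh₀))]
  have hgB : MulAut.conj g • B₁ = MulAut.conj y • B := by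
    have : g = y * (k⁻¹ * k₀) * b := by
      have e1 : y = x * a * (a⁻¹ * (h * k) * b) * b⁻¹ := by rw [← e]; group
      have e2 : a = h₀ * k₀ * b := by rw [← e₀]; group
      simp only [g]
      rw [e1, e2]; group
    rw [this, Lib.Coprime.conj_smul_mul, Lib.Coprime.conj_smul_mul, hb,
      hBN _ (K.mul_mem (K.inv_mem hk) hk₀)]
  refine ⟨MulAut.conj g • T, ?_⟩
  rw [← hgA, ← hgB, Subgroup.coe_pointwise_smul, Subgroup.coe_pointwise_smul, Subgroup.coe_pointwise_smul,
    hset, smul_mul']

end Cfsg.Agent.S0561
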