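import Cfsg.Statements.S0562
import Cfsg.Agent.Lib.Coprime.Basic

set_option autoImplicit false
open scoped Pointwise commutatorElement
open Cfsg

namespace Cfsg.Agent.S0562

/-- Let the finite group G be the product HK of subgroups, A normal in H, B normal in K, and L the normalizer of the subgroup generated by A and B. Then every element of L is a product of an element of L ∩ H and an element of L ∩ K. -/
theorem result {G : Type*} [Group G] [Finite G] (H K A B : Subgroup G) (hHK : ∀ g : G, ∃ h ∈ H, ∃ k ∈ K, g = h * k) (hA : A ≤ H) (hAn : (A.subgroupOf H).Normal) (hB : B ≤ K) (hBn : (B.subgroupOf K).Normal) : ∀ g ∈ Subgroup.normalizer ((A ⊔ B : Subgroup G) : Set G), ∃ h ∈ Subgroup.normalizer ((A ⊔ B : Subgroup G) : Set G) ⊓ H, ∃ k ∈ Subgroup.normalizer ((A ⊔ B : Subgroup G) : Set G) ⊓ K, g = h * k := by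
  intro g hg
  obtain ⟨h, hh, k, hk, rfl⟩ := hHK g
  let J : Subgroup G := A ⊔ B
  have hnA : MulAut.conj h • A = A :=
    Lib.Coprime.conj_smul_eq_self ((Subgroup.normal_subgroupOf_iff_le_normalizer hA).mp hAn hh)
  have hnB : MulAut.conj k • B = B :=
    Lib.Coprime.conj_smul_eq_self ((Subgroup.normal_subgroupOf_iff_le_normalizer hB).mp hBn hk)
  have hJ : MulAut.conj (h * k) • J = J := Lib.Coprime.conj_smul_eq_self hg
  have hB' : MulAut.conj h • B ≤ J := by
    rw [← hJ, Lib.Coprime.conj_smul_mul]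
    refine Subgroup.pointwise_smul_le_pointwise_smul_iff.mpr ?_
    calc B = MulAut.conj k • B := hnB.symm
      _ ≤ _ := Subgroup.pointwise_smul_le_pointwise_smul_iff.mpr le_sup_right
  have hle : MulAut.conj h • J ≤ J := by
    rw [show J = A ⊔ B from rfl, Subgroup.smul_sup]
    exact sup_le (hnA.le.trans le_sup_left) hB'
  have hh' : h ∈ Subgroup.normalizer (J : Set G) :=
    Lib.Coprime.mem_normalizer_of_conj_smul_eq
      (Subgroup.eq_of_le_of_card_ge hle (Lib.Coprime.card_conj_smul h J).ge)
  refine ⟨h, ⟨hh', hh⟩, k, ⟨?_, hk⟩, rfl⟩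
  simpa using mul_mem (inv_mem hh') hg

end Cfsg.Agent.S0562
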