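import Cfsg.Statements.S0566
import Cfsg.Agent.Lib.Coprime.Basic
import Cfsg.Agent.Lib.Hall.Systems

set_option autoImplicit false
open Pointwise
open Cfsg

namespace Cfsg.Agent.S0566

open scoped Pointwise

theorem perm_sup {G : Type*} [Group G] [Finite G] {A A' B : Subgroup G}
    (h : (A : Set G) * B = (B : Set G) * A) (h' : (A' : Set G) * B = (B : Set G) * A') :
    ((A ⊔ A' : Subgroup G) : Set G) * B = (B : Set G) * ((A ⊔ A' : Subgroup G) : Set G) := by
  have key : ((A ⊔ A' : Subgroup G) : Set G) * B ⊆ (B : Set G) * ((A ⊔ A' : Subgroup G) : Set G) := by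
    rintro _ ⟨a, ha, b, hb, rfl⟩
    rw [SetLike.mem_coe, Subgroup.sup_eq_closure] at ha
    revert b
    induction ha using Subgroup.closure_induction with
    | mem a ha =>
      intro b hb
      rcases ha with ha | ha
      · exact Set.mul_subset_mul_left (SetLike.coe_subset_coe.mpr le_sup_left)
          (h.subset (Set.mul_mem_mul ha hb))
      · exact Set.mul_subset_mul_left (SetLike.coe_subset_coe.mpr le_sup_right)
          (h'.subset (Set.mul_mem_mul ha hb))
    | one => exact fun b hb => ⟨b, hb, 1, one_mem _, by simp⟩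
    | mul a a' _ _ iha iha' =>
      intro b hb
      obtain ⟨b₁, hb₁, a₁, ha₁, e₁⟩ := iha' b hb
      obtain ⟨b₂, hb₂, a₂, ha₂, e₂⟩ := iha b₁ hb₁
      refine ⟨b₂, hb₂, a₂ * a₁, mul_mem ha₂ ha₁, ?_⟩
      dsimp only at e₁ e₂ ⊢
      rw [← mul_assoc, e₂, mul_assoc, e₁, mul_assoc]
    | inv a _ iha =>
      obtain ⟨k, hk⟩ : ∃ k : ℕ, a⁻¹ = a ^ k := ⟨orderOf a - 1, by
        rw [inv_eq_iff_mul_eq_one, ← pow_succ', Nat.sub_add_cancel (orderOf_pos a), pow_orderOf_eq_one]⟩
      rw [hk]
      clear hk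
      induction k with
      | zero => exact fun b hb => ⟨b, hb, 1, one_mem _, by simp⟩
      | succ k ihk =>
        intro b hb
        obtain ⟨b₁, hb₁, a₁, ha₁, e₁⟩ := iha b hb
        obtain ⟨b₂, hb₂, a₂, ha₂, e₂⟩ := ihk b₁ hb₁
        refine ⟨b₂, hb₂, a₂ * a₁, mul_mem ha₂ ha₁, ?_⟩
        dsimp only at e₁ e₂ ⊢
        rw [← mul_assoc, e₂, mul_assoc, e₁, pow_succ, mul_assoc]
  refine key.antisymm ?_
  have h2 := Set.inv_subset_inv.mpr key
  rwa [mul_inv_rev, mul_inv_rev, inv_coe_set, inv_coe_set] at h2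


/-- Let A and B be nontrivial subgroups of a finite group G such that for every x the product set of A and xBx⁻¹ is a proper subgroup of G. Then there is a proper normal subgroup of G containing A or containing B. -/
theorem result {G : Type*} [Group G] [Finite G] (A B : Subgroup G) (hA : A ≠ ⊥) (hB : B ≠ ⊥) (h : ∀ x : G, ∃ S : Subgroup G, S ≠ ⊤ ∧ (S : Set G) = (A : Set G) * ((MulAut.conj x • B : Subgroup G) : Set G)) : ∃ N : Subgroup G, N.Normal ∧ N ≠ ⊤ ∧ (A ≤ N ∨ B ≤ N) := by

  classical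
  suffices key : ∀ n : ℕ, ∀ A : Subgroup G, A ≠ ⊥ → Nat.card G - Nat.card A = n →
      (∀ x : G, ∃ S : Subgroup G, S ≠ ⊤ ∧ (S : Set G) = (A : Set G) * ((MulAut.conj x • B : Subgroup G) : Set G)) →
      ∃ N : Subgroup G, N.Normal ∧ N ≠ ⊤ ∧ (A ≤ N ∨ B ≤ N) from key _ A hA rfl h
  intro n
  induction n using Nat.strong_induction_on with
  | _ n ih => ?_
  intro A hA hn h
  by_cases hstep : ∃ x y : G, y ∈ MulAut.conj x • B ∧ MulAut.conj y • A ≠ A
  · obtain ⟨x, y, hy, hne⟩ := hstep
    set A' := A ⊔ MulAut.conj y • A with hA'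
    have hperm : ∀ z : G, (A : Set G) * ((MulAut.conj z • B : Subgroup G) : Set G)
        = ((MulAut.conj z • B : Subgroup G) : Set G) * (A : Set G) := by
      intro z
      obtain ⟨S, -, hS⟩ := h z
      have h1 := congrArg (fun s : Set G => s⁻¹) hS
      rw [mul_inv_rev, inv_coe_set, inv_coe_set, inv_coe_set, hS] at h1
      exact h1
    have hperm' : ∀ z : G, ((MulAut.conj y • A : Subgroup G) : Set G) * ((MulAut.conj z • B : Subgroup G) : Set G)
        = ((MulAut.conj z • B : Subgroup G) : Set G) * ((MulAut.conj y • A : Subgroup G) : Set G) := by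
      intro z
      have h1 := congrArg (fun s : Set G => MulAut.conj y • s) (hperm (y⁻¹ * z))
      simp only [smul_mul', ← Subgroup.coe_pointwise_smul,
        Lib.Coprime.conj_smul_mul, Lib.Coprime.conj_smul_inv_smul] at h1
      exact h1
    -- `A'` still permutes with every conjugate
    have hA'B : ∀ z : G, ((A' ⊔ MulAut.conj z • B : Subgroup G) : Set G)
        = (A' : Set G) * ((MulAut.conj z • B : Subgroup G) : Set G) := by
      intro z
      apply Lib.Hall.coe_sup_of_permute
      rw [hA']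
      exact perm_sup (hperm z) (hperm' z)
    have hlt : A < A' := lt_of_le_of_ne le_sup_left fun he => hne <| by
      have hle : MulAut.conj y • A ≤ A := (le_sup_right : MulAut.conj y • A ≤ A').trans he.ge
      exact Subgroup.eq_of_le_of_card_ge hle (le_of_eq (Lib.Coprime.card_conj_smul y A).symm)
    have hA'x : A' ≤ A ⊔ MulAut.conj x • B := by
      refine sup_le le_sup_left fun g hg => ?_
      have hyS : y ∈ A ⊔ MulAut.conj x • B := Subgroup.mem_sup_right hy
      have := mul_mem (mul_mem hyS (Subgroup.mem_sup_left (Lib.Coprime.mem_conj_smul.mp hg))) (inv_mem hyS)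
      simpa [mul_assoc] using this
    obtain ⟨N, hN, hNt, hNl⟩ := ih (Nat.card G - Nat.card A') (by
        have h1 : Nat.card A < Nat.card A' := by
          refine lt_of_le_of_ne (Subgroup.card_le_of_le hlt.le) fun he => hlt.ne ?_
          exact Subgroup.eq_of_le_of_card_ge hlt.le he.ge
        have h2 := Subgroup.card_le_card_group A'
        omega) A' (fun he => hA (le_bot_iff.mp (hlt.le.trans he.le))) rfl fun z => by
      refine ⟨A' ⊔ MulAut.conj z • B, fun htop => ?_, hA'B z⟩
      obtain ⟨a, ha, b, hb, hab⟩ := Set.mem_mul.mp ((hA'B z).subset (htop ▸ Set.mem_univ (x * z⁻¹) :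
        x * z⁻¹ ∈ ((A' ⊔ MulAut.conj z • B : Subgroup G) : Set G)))
      obtain ⟨S, hS, hSeq⟩ := h x
      have hsup : A ⊔ MulAut.conj x • B ≤ S := sup_le
        (fun g hg => hSeq.ge ⟨g, hg, 1, one_mem _, mul_one g⟩)
        (fun g hg => hSeq.ge ⟨1, one_mem _, g, hg, one_mul g⟩)
      apply hS
      rw [eq_top_iff, ← htop]
      refine sup_le (hA'x.trans hsup) ?_
      have hBx : MulAut.conj x • B = MulAut.conj a • MulAut.conj z • B := by
        rw [show x = a * b * z by rw [hab]; group, Lib.Coprime.conj_smul_mul, Lib.Coprime.conj_smul_mul,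
          Lib.Coprime.conj_smul_eq_self (Subgroup.le_normalizer hb)]
      intro g hg
      have haS : a ∈ S := hsup (hA'x ha)
      have h3 : a * g * a⁻¹ ∈ S := hsup (Subgroup.mem_sup_right (hBx ▸ Lib.Coprime.conj_mem_conj_smul hg))
      have := mul_mem (mul_mem (inv_mem haS) h3) haS
      simpa [mul_assoc] using this
    exact ⟨N, hN, hNt, hNl.imp_left fun h' => hlt.le.trans h'⟩
  · push_neg at hstep
    by_cases hB' : Subgroup.normalClosure (B : Set G) = ⊤
    · have hAn : Subgroup.normalizer (A : Set G) = ⊤ := by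
        rw [eq_top_iff, ← hB']
        refine (Subgroup.closure_le _).mpr fun g hg => ?_
        obtain ⟨b, hb, hbg⟩ := Group.mem_conjugatesOfSet_iff.mp hg
        obtain ⟨c, hc⟩ := isConj_iff.mp hbg
        exact Lib.Coprime.mem_normalizer_of_conj_smul_eq (hstep c g (hc ▸ Lib.Coprime.conj_mem_conj_smul hb))
      obtain ⟨S, hS, hSeq⟩ := h 1
      refine ⟨A, Subgroup.normalizer_eq_top_iff.mp hAn, fun he => hS ?_, Or.inl le_rfl⟩
      rw [eq_top_iff]
      exact fun g _ => hSeq.ge ⟨g, he ▸ Subgroup.mem_top g, 1, one_mem _, mul_one g⟩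
    · exact ⟨_, Subgroup.normalClosure_normal, hB', Or.inr Subgroup.subset_normalClosure⟩

end Cfsg.Agent.S0566
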