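import Cfsg.Statements.S5256
import Cfsg.Agent.Lib.Fusion.PPart
import Cfsg.Agent.Lib.Fusion.FactorSystem

set_option autoImplicit false
open Cfsg Cfsg.FusionSystem Cfsg.Agent.Lib.Fusion
open scoped commutatorElement

namespace Cfsg.Agent.S5256

/-- Let F be a saturated fusion system over a finite p-group S, T a subgroup of S strongly closed in F, and E a factor system F/T realised along a homomorphism θ of S with kernel T. Then the hyperfocal subgroup of E is the image under θ of the hyperfocal subgroup of F (hyp(F/T) = T·hyp(F)/T). -/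
theorem result {Ω : Type*} [Group Ω] {S : Subgroup Ω} [Finite S] (p : ℕ) [Fact p.Prime] (hS : IsPGroup p S) (F : Cfsg.FusionSystem S) (hF : F.IsSaturated p) (T : Subgroup Ω) (hT : F.StronglyClosed T) {Ω' : Type*} [Group Ω'] {S' : Subgroup Ω'} (θ : ↥S →* Ω') (E : Cfsg.FusionSystem S') (hE : F.IsFactorSystem T θ E) : E.hyperfocalSubgroup p = ((F.hyperfocalSubgroup p).subgroupOf S).map θ := by
  obtain ⟨⟨hθS, hmor⟩, hrange, hlift⟩ := isSurjectiveMorphism_of_factor hS hF hT hE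
  obtain ⟨-, hker, -, -⟩ := hE
  apply le_antisymm
  · refine hyperfocal_le fun P' hP' α' hα' hord u => ?_
    obtain ⟨φ, hφ, h₁, h₂, h₃, he⟩ : ∃ φ ∈ F.Hom (preimageAlong θ P'), InducedAlong θ φ (P'.subtype.comp α'.toMonoidHom) := hlift P' hP' _ ((mem_autGroup hP').1 hα')
    have := finite_of_le h₁
    have := finite_mulAut h₁
    have he' : ∀ x : preimageAlong θ P', θ ⟨φ x, h₂ x⟩ = (α' ⟨_, h₃ x⟩ : Ω') := fun x => (he x).symm
    have hmem : ∀ x, φ x ∈ preimageAlong θ P' := fun x => mem_preimageAlong.2 ⟨h₂ x, by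
      rw [he' x]; exact (α' ⟨_, h₃ x⟩).2⟩
    obtain ⟨β, hβ, hβe⟩ := exists_aut_of_self_map hφ hmem
    obtain ⟨m, hm, hmα⟩ := exists_pPrime_exponent β hord
    have hpow : ∀ (n : ℕ) (x : preimageAlong θ P'),
        θ ⟨((β ^ n) x : Ω), h₁ ((β ^ n) x).2⟩ = ((α' ^ n) ⟨_, h₃ x⟩ : Ω') := by
      intro n
      induction n with
      | zero => intro x; rfl
      | succ n ih =>
        intro x
        simp only [pow_succ', MulAut.mul_apply]
        rw [show (⟨(β ((β ^ n) x) : Ω), h₁ (β ((β ^ n) x)).2⟩ : S) = ⟨φ ((β ^ n) x), h₂ _⟩ from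
          Subtype.ext (hβe _), he']
        congr 2
        exact Subtype.ext (ih x)
    obtain ⟨x, hx⟩ := exists_lift (hrange ▸ hP') u
    have hmh := inv_mul_mem_hyperfocal h₁ (α := ⟨β ^ m, pow_mem hβ m⟩)
      (coprime_mem_pResidual hm) x
    refine ⟨⟨x, h₁ x.2⟩⁻¹ * ⟨((β ^ m) x : Ω), h₁ ((β ^ m) x).2⟩, hmh, ?_⟩
    rw [map_mul, map_inv, hpow m x, pow_eq_self_of_modEq hmα,
      show (⟨_, h₃ x⟩ : P') = u from Subtype.ext hx, hx]
  · refine Subgroup.map_le_iff_le_comap.2 fun s hs => ?_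
    have hle : F.hyperfocalSubgroup p ≤ ((E.hyperfocalSubgroup p).comap θ).map S.subtype := by
      refine hyperfocal_le fun P hP α hα hord x => ?_
      set P' := imageAlong θ P
      obtain ⟨φ', hφ', h₁, h₂, h₃, he⟩ := hmor P _ ((mem_autGroup hP).1 hα)
      have hP' : P' ≤ S' := src_le hφ'
      have := finite_of_le hP
      have : Finite P' := Finite.of_surjective (fun y : P => (⟨_, h₃ y⟩ : P')) fun ⟨z, hz⟩ => by
        obtain ⟨a, ha, rfl⟩ := mem_imageAlong.1 hz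
        exact ⟨⟨a, ha⟩, rfl⟩
      have hmem : ∀ z : P', φ' z ∈ P' := by
        rintro ⟨z, hz⟩
        obtain ⟨a, ha, rfl⟩ := mem_imageAlong.1 hz
        have h4 := he ⟨a, ha⟩
        rw [show (⟨θ a, hz⟩ : P') = ⟨_, h₃ ⟨a, ha⟩⟩ from Subtype.ext rfl, h4]
        exact ⟨⟨_, hP (α ⟨a, ha⟩).2⟩, (α ⟨a, ha⟩).2, rfl⟩
      obtain ⟨β, hβ, hβe⟩ := exists_aut_of_self_map hφ' hmem
      have hpow : ∀ (n : ℕ) (y : P),
          θ ⟨((α ^ n) y : P), hP ((α ^ n) y).2⟩ = ((β ^ n) ⟨_, h₃ y⟩ : Ω') := by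
        intro n
        induction n with
        | zero => intro y; rfl
        | succ n ih =>
          intro y
          simp only [pow_succ', MulAut.mul_apply]
          rw [hβe, show (β ^ n) ⟨_, h₃ y⟩ = (⟨_, h₃ ((α ^ n) y)⟩ : P') from
            Subtype.ext (ih y).symm, he]
          rfl
      have hβo : β ^ orderOf α = 1 := by
        apply MulEquiv.ext
        rintro ⟨z, hz⟩
        obtain ⟨a, ha, rfl⟩ := mem_imageAlong.1 hz
        have h4 := hpow (orderOf α) ⟨a, ha⟩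
        simp only [pow_orderOf_eq_one, MulAut.one_apply] at h4
        exact Subtype.ext h4.symm
      have hmh := inv_mul_mem_hyperfocal hP' (α := ⟨β, hβ⟩) (coprime_mem_pResidual
        (Nat.Coprime.coprime_dvd_left (orderOf_dvd_of_pow_eq_one hβo) hord)) ⟨_, h₃ x⟩
      refine ⟨⟨(x : Ω)⁻¹ * (α x : Ω), S.mul_mem (S.inv_mem (hP x.2)) (hP (α x).2)⟩, ?_, rfl⟩
      rw [SetLike.mem_coe, Subgroup.mem_comap]
      have h5 := hpow 1 x
      simp only [pow_one] at h5
      rw [show (⟨(x : Ω)⁻¹ * (α x : Ω), _⟩ : S) = ⟨x, hP x.2⟩⁻¹ * ⟨(α x : Ω), hP (α x).2⟩ from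
        Subtype.ext rfl, map_mul, map_inv, h5]
      exact hmh
    obtain ⟨t, ht, hts⟩ := hle (Subgroup.mem_subgroupOf.1 hs)
    obtain rfl : t = s := Subtype.ext hts
    exact ht

end Cfsg.Agent.S5256
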