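import Cfsg.Statements.S5148
import Cfsg.Agent.Lib.Fusion.Simple
import Cfsg.Agent.Lib.Fusion.FactorSystem
import Cfsg.Agent.S5256

set_option autoImplicit false
open Cfsg Cfsg.FusionSystem Cfsg.Agent.Lib.Fusion
open scoped commutatorElement

namespace Cfsg.Agent.S5148

/-- A quasisimple fusion system over a finite p-group S (saturated, equal to its p-residual subsystem, with simple — in particular nontrivial — factor system modulo its centre) has S nonabelian. -/
theorem result {Ω : Type*} [Group Ω] {S : Subgroup Ω} [Finite S] (p : ℕ) [Fact p.Prime] (hS : IsPGroup p S) (F : Cfsg.FusionSystem S) (hq : F.Quasisimple p) : ¬ IsMulCommutative S := by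
  intro hab
  obtain ⟨hF, hhyp, hfac⟩ := hq
  set Z := F.center
  have hZ := stronglyClosed_of_isNormal (isNormal_of_isCentral (isCentral_center (F := F)))
  set θ := QuotientGroup.mk' (Z.subgroupOf S)
  have hker : ∀ s : S, θ s = 1 ↔ (s : Ω) ∈ Z := fun s => QuotientGroup.eq_one_iff s
  have hfs := isFactorSystem_factorSystem hZ θ hker ⊤
    (MonoidHom.range_eq_top.2 (QuotientGroup.mk'_surjective _))
  set E := factorSystem F hZ θ hker ⊤ (MonoidHom.range_eq_top.2 (QuotientGroup.mk'_surjective _))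
  have hsimple := hfac E hfs
  have hE1 := hsimple.2.1
  have habQ : ∀ x ∈ (⊤ : Subgroup (S ⧸ Z.subgroupOf S)), ∀ y ∈ (⊤ : Subgroup (S ⧸ Z.subgroupOf S)),
      x * y = y * x := by
    intro x _ y _
    obtain ⟨a, rfl⟩ := QuotientGroup.mk'_surjective _ x
    obtain ⟨b, rfl⟩ := QuotientGroup.mk'_surjective _ y
    rw [← map_mul, ← map_mul, hab.is_comm.comm]
  have hpQ : IsPGroup p (⊤ : Subgroup (S ⧸ Z.subgroupOf S)) :=
    (hS.to_quotient _).to_subgroup _
  obtain ⟨-, hinner⟩ := abelian_simple hpQ habQ hsimple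
  have hbot : E.hyperfocalSubgroup p ≤ ⊥ := hyperfocal_le fun P hP α hα _ u => by
    have h1 := (mem_autGroup hP).1 hα
    unfold IsIso at h1
    rw [hinner P] at h1
    have h2 : (α u : S ⧸ Z.subgroupOf S) = u := mem_of_inner_abelian habQ h1 u
    rw [h2, inv_mul_cancel]
    exact one_mem _
  rw [Cfsg.Agent.S5256.result p hS F hF Z hZ θ E hfs, hhyp, Subgroup.subgroupOf_self,
    ← MonoidHom.range_eq_map, MonoidHom.range_eq_top.2 (QuotientGroup.mk'_surjective _)] at hbot
  exact hE1 (le_bot_iff.1 hbot)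

end Cfsg.Agent.S5148
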