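import Cfsg.Statements.S5120
import Cfsg.Agent.Lib.Fusion.IsoTransport
import Cfsg.Agent.Lib.Fusion.SmallExp
import Cfsg.Agent.Lib.Fusion.PPart

set_option autoImplicit false
open Cfsg

namespace Cfsg.Agent.S5120

open Cfsg.FusionSystem Cfsg.Agent.Lib.Fusion

section

variable {Ω : Type*} [Group Ω] {S T : Subgroup Ω} {p : ℕ} {F : FusionSystem S} {E : FusionSystem T}

theorem ppower_le [Finite S] [Fact p.Prime] (hS : IsPGroup p S)
    (hTS : T ≤ S) {D : FusionSystem T} (hD : D.HasPPowerIndexIn F p) (hEs : E.IsSaturated p)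
    (hE : E.HasPPowerIndexIn F p) : E ≤ D := by
  haveI := finite_of_le hTS
  refine alperin (hS.to_le hTS) hEs D fun P hP => ?_
  obtain ⟨-, -, hn⟩ := centric_radical_of_top_or_essential (hS.to_le hTS) hEs hP
  refine autGroup_le_of_coprime (hS.to_le hTS) hEs hn _ (autInducedBy_le_autGroup hn.1) fun α hα hcop => ?_
  have hF : α ∈ F.autGroup P := (mem_autGroup (hn.1.trans hTS)).2 (hE.1 P ((mem_autGroup hn.1).1 hα))
  exact hD.2.2 P hn.1 ⟨⟨α, hF⟩, coprime_mem_pResidual (α := ⟨α, hF⟩) hcop, rfl⟩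

/-- A coprime automorphism of a subgroup of `T` lies in the subsystem. -/
theorem coprime_mem (hE : E.HasPPowerIndexIn F p) {P : Subgroup Ω} (hP : P ≤ T) {α : MulAut P}
    (hα : α ∈ F.autGroup P) (hc : (orderOf α).Coprime p) : α ∈ E.autGroup P :=
  hE.2.2 P hP ⟨⟨α, hα⟩, coprime_mem_pResidual (α := ⟨α, hα⟩) hc, rfl⟩

theorem surjective_of_sysIso {Ω' : Type*} [Group Ω'] {T' : Subgroup Ω'} {E' : FusionSystem T'} {e : T ≃* T'}
    (h : SysIso e E E') : E.IsSurjectiveMorphism E' (T'.subtype.comp e.toMonoidHom) := by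
  set θ := T'.subtype.comp e.toMonoidHom
  refine ⟨⟨fun s => (e s).2, fun P φ hφ => ?_⟩, ?_, fun P' hP' φ' hφ' => ?_⟩
  · have him : imageAlong θ P ≤ T' := by rintro _ ⟨x, -, rfl⟩; exact (e x).2
    obtain ⟨φ', hc⟩ := exists_corr e (val_mem hφ) him (by
      rintro ⟨_, x, hx, rfl⟩
      show ((e.symm (e x) : T) : Ω) ∈ P
      rw [MulEquiv.symm_apply_apply]
      exact hx)
    exact ⟨φ', h.1 P φ hφ _ φ' him hc, src_le hφ, val_mem hφ, fun x => ⟨⟨x, src_le hφ x.2⟩, x.2, rfl⟩,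
      fun x => hc.val_eq (x := ⟨x, src_le hφ x.2⟩) x.2 rfl (val_mem hφ _)⟩
  · ext y
    exact ⟨fun ⟨x, hx⟩ => hx ▸ (e x).2, fun hy => ⟨e.symm ⟨y, hy⟩, by simp [θ]⟩⟩
  · obtain ⟨φ, hφ, hc⟩ := exists_pull h.2 hφ'
    have hle : preimageAlong θ P' ≤ imageAlong (T.subtype.comp e.symm.toMonoidHom) P' := by
      rintro _ ⟨t, ht, rfl⟩
      refine ⟨e t, ht, ?_⟩
      show ((e.symm (e t) : T) : Ω) = t
      rw [MulEquiv.symm_apply_apply]
    refine ⟨_, restrict_mem hle hφ, preimageAlong_le θ P', fun x => val_mem hφ _, fun x => map_mem_of_preimage x,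
      fun x => ?_⟩
    exact hc.val_eq (x := ⟨(x : Ω), preimageAlong_le θ P' x.2⟩) (hle x.2) rfl (val_mem hφ _)

/-- The subsystem is invariant under the automorphisms of `T` in `F`. -/
theorem sysIso_aut [Finite S] [Fact p.Prime] (hS : IsPGroup p S) (hTS : T ≤ S) (hEs : E.IsSaturated p)
    (hE : E.HasPPowerIndexIn F p) {α : MulAut T} (hα : α ∈ F.autGroup T) : SysIso α E E := by
  haveI := finite_of_le hTS
  obtain ⟨E', hiso, -⟩ := exists_push (e := α) E le_rfl α (fun _ => rfl)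
  suffices h : E' = E by rwa [h] at hiso
  have hE's : E'.IsSaturated p := saturated_of_surjectiveMorphism (hS.to_le hTS) hEs (surjective_of_sysIso hiso)
  have hE'F : E'.IsSubsystemOf F := by
    intro P' φ' hφ'
    obtain ⟨φ, hφ, hc⟩ := exists_pull hiso.2 hφ'
    have hP' := src_le hφ'
    have hφF := hE.1 _ hφ
    have ha := (mem_autGroup hTS).1 hα
    have hai := (mem_autGroup hTS).1 (inv_mem hα)
    have hb := F.comp_mem (restrict_mem hP' hai) hφF (fun y => ⟨⟨y, hP' y.2⟩, y.2, rfl⟩)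
    have hcm := F.comp_mem hb ha (fun y => val_mem hφ _)
    refine mem_of_agree le_rfl hcm fun y => ?_
    have hy : ((α⁻¹ ⟨(y : Ω), hP' y.2⟩ : T) : Ω) ∈ imageAlong (T.subtype.comp α.symm.toMonoidHom) P' :=
      ⟨⟨y, hP' y.2⟩, y.2, rfl⟩
    exact hc.val_eq (y := y) (x := α⁻¹ ⟨(y : Ω), hP' y.2⟩) hy
      (congrArg Subtype.val (α.apply_symm_apply _)) (val_mem hφ _)
  have hE' : E'.HasPPowerIndexIn F p := by
    refine ⟨hE'F, hE.2.1, fun P hP => ?_⟩
    rintro _ ⟨β, hβ, rfl⟩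
    set P₀ := imageAlong (T.subtype.comp α.symm.toMonoidHom) P with hP₀def
    have hP₀ : P₀ ≤ T := by rintro _ ⟨x, -, rfl⟩; exact (α.symm x).2
    have := finite_of_le (hP.trans hTS)
    let g₀ : P →* P₀ := ((T.subtype.comp α.symm.toMonoidHom).comp (Subgroup.inclusion hP)).codRestrict P₀
      fun z => ⟨⟨z, hP z.2⟩, z.2, rfl⟩
    have hg : Function.Bijective g₀ := by
      constructor
      · intro a b hab
        exact Subgroup.inclusion_injective hP (α.symm.injective (Subtype.ext (congrArg (fun z : P₀ => (z : Ω)) hab)))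
      · rintro ⟨_, z, hz, rfl⟩
        exact ⟨⟨z, hz⟩, rfl⟩
    let g := MulEquiv.ofBijective g₀ hg
    have hgF : IsIso F g :=
      mem_of_agree hP ((mem_autGroup hTS).1 (inv_mem hα)) fun z => rfl
    let ρ : F.autGroup P →* F.autGroup P₀ :=
      ((MulAut.congr g).toMonoidHom.comp (F.autGroup P).subtype).codRestrict _ fun b =>
        (mem_autGroup (hP₀.trans hTS)).2 ((hgF.symm.trans ((mem_autGroup (hP.trans hTS)).1 b.2)).trans hgF)
    have h1 : pResidual p (F.autGroup P) ≤ (pResidual p (F.autGroup P₀)).comap ρ := by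
      refine (Subgroup.closure_le _).2 fun b hb => Subgroup.subset_closure ?_
      exact Nat.Coprime.coprime_dvd_left (orderOf_map_dvd ρ b) hb
    have h2 : MulAut.congr g (β : MulAut P) ∈ E.autGroup P₀ := hE.2.2 P₀ hP₀ ⟨ρ β, h1 hβ, rfl⟩
    refine (mem_autGroup hP).2 (hiso.1 _ _ ((mem_autGroup hP₀).1 h2) P _ hP fun y => ?_)
    refine ⟨α.symm ⟨y, hP y.2⟩, α.symm ⟨(β : MulAut P) y, hP ((β : MulAut P) y).2⟩, ⟨⟨y, hP y.2⟩, y.2, rfl⟩, by simp, ?_, by simp⟩
    show ((g ((β : MulAut P) y) : P₀) : Ω) = ((g ((β : MulAut P) (g.symm (g y))) : P₀) : Ω)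
    rw [MulEquiv.symm_apply_apply]
  refine system_ext fun P => Set.Subset.antisymm ?_ ?_
  · exact ppower_le hS hTS hE hE's hE' P
  · exact ppower_le hS hTS hE' hEs hE P

variable (F E) in
/-- Maps that are, on `T`, an automorphism of `T` after a map of `E`. -/
def frattiniHom (P : Subgroup Ω) : Set (P →* Ω) :=
  {φ | φ ∈ F.Hom P ∧ ∃ α ∈ F.autGroup T, ∃ φ₀ ∈ E.Hom (P ⊓ T), ∀ (x : ↥(P ⊓ T)) (h : φ₀ x ∈ T),
    φ ⟨x, x.2.1⟩ = ((α ⟨φ₀ x, h⟩ : T) : Ω)}

theorem frattini [Finite S] [Fact p.Prime] (hS : IsPGroup p S) (hF : F.IsSaturated p) (hTS : T ≤ S)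
    (hTn : S ≤ Subgroup.normalizer (T : Set Ω)) (hT : F.hyperfocalSubgroup p ≤ T) (hEs : E.IsSaturated p)
    (hE : E.HasPPowerIndexIn F p) {P : Subgroup Ω} {φ : P →* Ω} (hφ : φ ∈ F.Hom P) : φ ∈ frattiniHom F E P := by
  have := finite_of_le hTS
  have hkeep : ∀ {P : Subgroup Ω} {φ : P →* Ω}, φ ∈ F.Hom P → ∀ x : P, φ x ∈ T ↔ (x : Ω) ∈ T := fun hφ x =>
    map_mem_of_gen hS hF hTn (fun R hR α hα hc y =>
      hT (inv_mul_mem_hyperfocal hR (α := ⟨α, hα⟩) (coprime_mem_pResidual hc) y)) hφ x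
  let K : FusionSystem S :=
    { Hom := frattiniHom F E
      le_of_mem := fun h => F.le_of_mem h.1
      injective_of_mem := fun h => F.injective_of_mem h.1
      conj_mem := fun {P g} hP hg => by
        have hgN := hTn hg
        refine ⟨F.conj_mem hP hg, conjAut T hgN, autInducedBy_le_autGroup hTS (conjAut_mem_autInducedBy hg hgN),
          _, E.conj_mem (inf_le_right : P ⊓ T ≤ T) (one_mem T), fun x h => ?_⟩
        rw [conjAut_apply]
        simp [conjHom]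
      comp_mem := fun {P Q φ ψ} hφ hψ h => by
        obtain ⟨hφF, α, hα, φ₀, hφ₀, hφe⟩ := hφ
        obtain ⟨hψF, β, hβ, ψ₀, hψ₀, hψe⟩ := hψ
        refine ⟨F.comp_mem hφF hψF h, β * α, mul_mem hβ hα, ?_⟩
        have hiso := sysIso_aut hS hTS hEs hE hα
        have hR : φ₀.range ≤ T := by rintro _ ⟨x, rfl⟩; exact val_mem hφ₀ x
        obtain ⟨χ, hχ⟩ := exists_corr α.symm (val_mem hψ₀) hR (by
          rintro ⟨_, x, rfl⟩
          show ((α.symm.symm ⟨φ₀ x, _⟩ : T) : Ω) ∈ Q ⊓ T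
          rw [MulEquiv.symm_symm]
          refine ⟨?_, (α _).2⟩
          rw [← hφe x (val_mem hφ₀ x)]
          exact h _)
        have hχE := hiso.2 _ ψ₀ hψ₀ _ χ hR hχ
        refine ⟨_, E.comp_mem hφ₀ hχE (fun x => ⟨x, rfl⟩), fun x h' => ?_⟩
        have hy : φ ⟨x, x.2.1⟩ ∈ Q ⊓ T := ⟨h _, (hkeep hφF _).2 x.2.2⟩
        have h1 := hψe ⟨φ ⟨x, x.2.1⟩, hy⟩ (val_mem hψ₀ _)
        have hv := hχ.val_eq (y := ⟨φ₀ x, x, rfl⟩) (x := ⟨φ ⟨x, x.2.1⟩, hy.2⟩) hy (by
          refine congrArg (fun t : T => (t : Ω)) (a₂ := ⟨φ₀ x, val_mem hφ₀ x⟩) ?_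
          rw [MulEquiv.symm_apply_eq]
          exact Subtype.ext (hφe x _)) (val_mem hψ₀ _)
        refine h1.trans ?_
        rw [MulAut.mul_apply]
        refine congrArg (fun t : T => (β t : Ω)) ?_
        rw [← MulEquiv.symm_apply_eq]
        exact Subtype.ext hv.symm
      inv_mem := fun {P φ} hφ => by
        obtain ⟨hφF, α, hα, φ₀, hφ₀, hφe⟩ := hφ
        obtain ⟨ψ, hψ, hψe⟩ := F.inv_mem hφF
        obtain ⟨ψ₀, hψ₀, hψ₀e⟩ := E.inv_mem hφ₀
        refine ⟨ψ, ⟨hψ, α⁻¹, inv_mem hα, ?_⟩, hψe⟩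
        have hiso := sysIso_aut hS hTS hEs hE hα
        have hR : φ.range ⊓ T ≤ T := inf_le_right
        have hmem : ∀ y : ↥(φ.range ⊓ T), ∃ x : ↥(P ⊓ T), φ ⟨x, x.2.1⟩ = y := by
          rintro ⟨_, ⟨x, rfl⟩, hxT⟩
          exact ⟨⟨x, x.2, (hkeep hφF x).1 hxT⟩, rfl⟩
        obtain ⟨χ, hχ⟩ := exists_corr α (val_mem hψ₀) hR (fun y => by
          obtain ⟨x, hx⟩ := hmem y
          refine ⟨x, ?_⟩
          refine congrArg (fun t : T => (t : Ω)) (a₁ := ⟨φ₀ x, val_mem hφ₀ x⟩) ?_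
          rw [MulEquiv.eq_symm_apply]
          exact Subtype.ext ((hφe x _).symm.trans hx))
        have hχE := hiso.1 _ ψ₀ hψ₀ _ χ hR hχ
        refine ⟨χ, hχE, fun y hy => ?_⟩
        obtain ⟨x, hx⟩ := hmem y
        have hv := hχ.val_eq (y := y) (x := ⟨φ₀ x, val_mem hφ₀ x⟩) ⟨x, rfl⟩ ((hφe x _).symm.trans hx) (val_mem hψ₀ _)
        have h2 : ψ ⟨y, y.2.1⟩ = (x : Ω) := by
          rw [show (⟨(y : Ω), y.2.1⟩ : φ.range) = ⟨φ ⟨x, x.2.1⟩, ⟨_, rfl⟩⟩ from Subtype.ext hx.symm]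
          exact hψe _
        rw [h2, show (⟨χ y, hy⟩ : T) = α ⟨ψ₀ ⟨φ₀ x, ⟨x, rfl⟩⟩, val_mem hψ₀ _⟩ from Subtype.ext hv, MulAut.inv_apply_self]
        exact (hψ₀e x).symm }
  refine alperin hS hF K (fun R hR => ?_) P hφ
  obtain ⟨-, -, hn⟩ := centric_radical_of_top_or_essential hS hF hR
  refine autGroup_le_of_coprime hS hF hn _ (autInducedBy_le_autGroup hn.1) fun α hα hcop => ?_
  have hRT : R ⊓ T ≤ R := inf_le_left
  have := finite_of_le (hRT.trans hn.1)
  have hαH := (mem_autGroup hn.1).1 hα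
  obtain ⟨β, hβ⟩ := exists_restrict_aut hRT (β := α) fun x => ⟨(α _).2, (hkeep hαH _).2 x.2.2⟩
  refine (mem_autGroup hn.1).2 ⟨hαH, 1, one_mem _, _, (mem_autGroup (inf_le_right : R ⊓ T ≤ T)).1 (coprime_mem (α := β) hE inf_le_right ((mem_autGroup (hRT.trans hn.1)).2 ?_) ?_), fun x h => ?_⟩
  · exact mem_of_agree hRT hαH hβ
  · refine Nat.Coprime.coprime_dvd_left (orderOf_dvd_of_pow_eq_one (MulEquiv.ext fun x => Subtype.ext ?_)) hcop
    have hj : ∀ j : ℕ, ((β ^ j) x : Ω) = ((α ^ j) ⟨x, x.2.1⟩ : Ω) := by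
      intro j
      induction j with
      | zero => simp
      | succ j ih =>
        rw [pow_succ' β, pow_succ' α, MulAut.mul_apply, MulAut.mul_apply, hβ]
        exact congrArg (fun t : R => (α t : Ω)) (Subtype.ext ih)
    rw [hj, pow_orderOf_eq_one, MulAut.one_apply, MulAut.one_apply]
  · rw [MulAut.one_apply]
    exact (hβ x).symm

/-- The extension condition. -/
theorem extension [Finite S] [Fact p.Prime] (hS : IsPGroup p S) (hF : F.IsSaturated p) (hTS : T ≤ S)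
    (hTn : S ≤ Subgroup.normalizer (T : Set Ω)) (hT : F.hyperfocalSubgroup p ≤ T) (hEs : E.IsSaturated p)
    (hE : E.HasPPowerIndexIn F p) (hTc : F.StronglyClosed T) :
    ∀ α ∈ E.autGroup T, ∃ β ∈ F.autGroup (T ⊔ centralizerIn S T),
      (∀ x : T, ((β (Subgroup.inclusion le_sup_left x) : ↥(T ⊔ centralizerIn S T)) : Ω) = ((α x : T) : Ω)) ∧
      ∀ c : ↥(T ⊔ centralizerIn S T), (c : Ω) ∈ centralizerIn S T →
        (c : Ω)⁻¹ * ((β c : ↥(T ⊔ centralizerIn S T)) : Ω) ∈ T ⊓ Subgroup.centralizer (T : Set Ω) := by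
  set R := T ⊔ centralizerIn S T with hR
  have hRS : R ≤ S := sup_le hTS (centralizerIn_le S T)
  have := finite_of_le hTS
  have := finite_of_le hRS
  have hCc : ∀ (β : MulAut R) (α : MulAut T), β ∈ F.autGroup R →
      (∀ x : T, (β (Subgroup.inclusion le_sup_left x) : Ω) = (α x : Ω)) →
        ∀ c : R, (c : Ω) ∈ centralizerIn S T → (β c : Ω) ∈ centralizerIn S T := by
    intro β α hβ hβα c hc
    refine mem_centralizerIn.2 ⟨hRS (β c).2, fun t ht => ?_⟩
    obtain ⟨t', ht'⟩ := α.surjective ⟨t, ht⟩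
    have h1 : (β (Subgroup.inclusion le_sup_left t') : Ω) = t := (hβα t').trans (congrArg Subtype.val ht')
    rw [← h1, ← Subgroup.coe_mul, ← Subgroup.coe_mul, ← map_mul, ← map_mul]
    exact congrArg (fun z : R => (β z : Ω)) (Subtype.ext ((mem_centralizerIn.1 hc).2 _ t'.2))
  let H : Subgroup (MulAut T) :=
    { carrier := {α | ∃ β ∈ F.autGroup R,
        (∀ x : T, (β (Subgroup.inclusion le_sup_left x) : Ω) = (α x : Ω)) ∧
        ∀ c : R, (c : Ω) ∈ centralizerIn S T → (c : Ω)⁻¹ * (β c : Ω) ∈ T ⊓ Subgroup.centralizer (T : Set Ω)}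
      one_mem' := ⟨1, one_mem _, fun x => rfl, fun c _ => by simp⟩
      mul_mem' := by
        rintro a b ⟨β, hβ, hβT, hβC⟩ ⟨γ, hγ, hγT, hγC⟩
        refine ⟨β * γ, mul_mem hβ hγ, fun x => ?_, fun c hc => ?_⟩
        · rw [MulAut.mul_apply, MulAut.mul_apply, show γ (Subgroup.inclusion le_sup_left x) =
            Subgroup.inclusion le_sup_left (b x) from Subtype.ext (hγT x)]
          exact hβT _
        · rw [MulAut.mul_apply]
          have h1 := mul_mem (hγC c hc) (hβC (γ c) (hCc γ b hγ hγT c hc))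
          rw [mul_assoc, mul_inv_cancel_left] at h1
          exact h1
      inv_mem' := by
        rintro a ⟨β, hβ, hβT, hβC⟩
        have hT' : ∀ x : T, (β⁻¹ (Subgroup.inclusion le_sup_left x) : Ω) = (a⁻¹ x : Ω) := fun x => by
          rw [show Subgroup.inclusion le_sup_left x = β (Subgroup.inclusion le_sup_left (a⁻¹ x)) from
            Subtype.ext (by rw [hβT, MulAut.apply_inv_self]; rfl), MulAut.inv_apply_self]
          rfl
        refine ⟨β⁻¹, inv_mem hβ, hT', fun c hc => ?_⟩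
        have h1 := inv_mem (hβC (β⁻¹ c) (hCc β⁻¹ a⁻¹ (inv_mem hβ) hT' c hc))
        rw [mul_inv_rev, inv_inv, MulAut.apply_inv_self] at h1
        exact h1 }
  intro α hα
  suffices h : E.autGroup T ≤ H from h hα
  refine autGroup_le_of_coprime (hS.to_le hTS) hEs fullyNormalized_self H ?_ ?_
  · intro a ha
    obtain ⟨g, hg, hga⟩ := exists_of_mem_autInducedBy ha
    have hgN : g ∈ Subgroup.normalizer (R : Set Ω) := Subgroup.le_normalizer (Subgroup.mem_sup_left hg.1)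
    refine ⟨conjAut R hgN, autInducedBy_le_autGroup hRS (conjAut_mem_autInducedBy (hTS hg.1) hgN), fun x => ?_, fun c hc => ?_⟩
    · rw [conjAut_apply, hga]; rfl
    · rw [conjAut_apply, (mem_centralizerIn.1 hc).2 g hg.1, mul_inv_cancel_right, inv_mul_cancel]
      exact one_mem _
  · intro a ha hcop
    have haF : a ∈ F.autGroup T := (mem_autGroup hTS).2 (hE.1 T ((mem_autGroup le_rfl).1 ha))
    have hconjT : ∀ Q, F.IsConj T Q → Q = T := by
      rintro Q ⟨φ, hφ, rfl⟩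
      exact eq_of_le_of_natCard_le (fun y ⟨x, hx⟩ => hx ▸ hTc.2 T le_rfl φ hφ x)
        (Nat.card_congr (MonoidHom.ofInjective (F.injective_of_mem hφ)).toEquiv).le
    have hTfn : F.IsFullyNormalized T := ⟨hTS, fun Q hQ => by rw [hconjT Q hQ]⟩
    have ha' : IsIso F a := (mem_autGroup hTS).1 haF
    obtain ⟨ψ, hψ, hψe⟩ := receptive_extend (fullyNormalized_props hS hF hTfn).2 ha'
    have hle : R ≤ extender S T (T.subtype.comp a.toMonoidHom) :=
      sup_le (le_extender ha') (centralizerIn_le_extender _ _ _)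
    have hψR := restrict_mem hle hψ
    have hmapR : ∀ z : R, ψ (Subgroup.inclusion hle z) ∈ R := by
      have hsub : R.subgroupOf S ≤ ((R.comap (ψ.comp (Subgroup.inclusion hle))).map R.subtype).subgroupOf S := by
        conv_lhs => rw [hR, Subgroup.subgroupOf_sup hTS (centralizerIn_le _ _)]
        refine sup_le (fun x hx => ?_) fun x hx => ?_
        · refine ⟨⟨x, Subgroup.mem_sup_left hx⟩, ?_, rfl⟩
          show ψ (Subgroup.inclusion hle _) ∈ R
          exact Subgroup.mem_sup_left ((hψe ⟨x, hx⟩ _).symm ▸ (a ⟨x, hx⟩).2)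
        · refine ⟨⟨x, Subgroup.mem_sup_right hx⟩, ?_, rfl⟩
          show ψ (Subgroup.inclusion hle _) ∈ R
          refine Subgroup.mem_sup_right (mem_centralizerIn.2 ⟨val_mem hψ _, fun t ht => ?_⟩)
          obtain ⟨t', ht'⟩ := a.surjective ⟨t, ht⟩
          have h1 : ψ ⟨(t' : Ω), le_extender ha' t'.2⟩ = t := (hψe t' _).trans (congrArg Subtype.val ht')
          rw [← h1, ← map_mul, ← map_mul]
          exact congrArg ψ (Subtype.ext ((mem_centralizerIn.1 hx).2 _ t'.2))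
      intro z
      obtain ⟨z', hz', hzz⟩ := hsub (show (⟨z, hRS z.2⟩ : S) ∈ R.subgroupOf S from z.2)
      rw [show z = z' from Subtype.ext hzz.symm]
      exact hz'
    obtain ⟨β₀, hβ₀, hβ₀e⟩ := exists_aut_of_self_map hψR hmapR
    have := finite_mulAut hRS
    obtain ⟨m, hm, hm1⟩ := exists_pPrime_exponent β₀ (N := orderOf a) hcop
    have hres : ∀ (j : ℕ) (x : T), ((β₀ ^ j) (Subgroup.inclusion le_sup_left x) : Ω) = ((a ^ j) x : Ω) := by
      intro j
      induction j with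
      | zero => intro x; rfl
      | succ j ih =>
        intro x
        rw [pow_succ' β₀, pow_succ' a, MulAut.mul_apply, MulAut.mul_apply,
          show (β₀ ^ j) (Subgroup.inclusion le_sup_left x) = Subgroup.inclusion le_sup_left ((a ^ j) x) from Subtype.ext (ih x)]
        exact (hβ₀e _).trans (hψe ((a ^ j) x) _)
    have hβT : ∀ x : T, ((β₀ ^ m) (Subgroup.inclusion le_sup_left x) : Ω) = (a x : Ω) := fun x => by
      rw [hres, pow_eq_self_of_modEq hm1]
    refine ⟨β₀ ^ m, pow_mem hβ₀ m, hβT, fun c hc => ⟨?_, ?_⟩⟩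
    · exact hT (inv_mul_mem_hyperfocal hRS (α := ⟨β₀ ^ m, pow_mem hβ₀ m⟩) (coprime_mem_pResidual hm) c)
    · exact Subgroup.mul_mem _ (Subgroup.inv_mem _ hc.2) (hCc _ _ (pow_mem hβ₀ m) hβT c hc).2

theorem normal_of_ppower [Finite S] [Fact p.Prime] (hS : IsPGroup p S) (hF : F.IsSaturated p) (hTS : T ≤ S)
    (hTn : S ≤ Subgroup.normalizer (T : Set Ω)) (hT : F.hyperfocalSubgroup p ≤ T) (hEs : E.IsSaturated p)
    (hE : E.HasPPowerIndexIn F p) : E.IsNormalIn F p := by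
  have := finite_of_le hTS
  have hTc : F.StronglyClosed T := ⟨hTS, fun R hR φ hφ x =>
    (map_mem_of_gen hS hF hTn (fun R hR α hα hc y =>
      hT (inv_mul_mem_hyperfocal hR (α := ⟨α, hα⟩) (coprime_mem_pResidual hc) y)) hφ x).2 (hR x.2)⟩
  refine ⟨⟨hEs, hF, hE.1, hTc, fun P hPT φ hφ α hα => ?_, fun P hPT φ hφ => ?_⟩, extension hS hF hTS hTn hT hEs hE hTc⟩
  · have hiso := sysIso_aut hS hTS hEs hE hα
    set P' := (P.subgroupOf T).map (T.subtype.comp α.toMonoidHom)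
    have hP' : P' ≤ T := by rintro _ ⟨x, -, rfl⟩; exact (α x).2
    obtain ⟨χ, hχ⟩ := exists_corr α (val_mem hφ) hP' (by
      rintro ⟨_, x, hx, rfl⟩
      show ((α.symm (α x) : T) : Ω) ∈ P
      rw [MulEquiv.symm_apply_apply]
      exact hx)
    exact ⟨χ, hiso.1 P φ hφ P' χ hP' hχ, fun x hφx hαx => hχ.val_eq (x := ⟨x, hPT x.2⟩) x.2 rfl hφx⟩
  · obtain ⟨-, α, hα, φ₀, hφ₀, he⟩ := frattini hS hF hTS hTn hT hEs hE hφ
    exact ⟨α, hα, _, restrict_mem (le_inf le_rfl hPT) hφ₀, fun x hx => he (Subgroup.inclusion (le_inf le_rfl hPT) x) hx⟩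

end


/-- Let F be a saturated fusion system over a finite p-group S and T a subgroup of S containing the hyperfocal subgroup of F and normal in S. Then every saturated subsystem of F over T of p-power index is a normal subsystem of F. -/
theorem result {Ω : Type*} [Group Ω] {S : Subgroup Ω} [Finite S] (p : ℕ) [Fact p.Prime] (hS : IsPGroup p S) (F : Cfsg.FusionSystem S) (hF : F.IsSaturated p) (T : Subgroup Ω) (hTS : T ≤ S) (hTn : (T.subgroupOf S).Normal) (hT : F.hyperfocalSubgroup p ≤ T) (E : Cfsg.FusionSystem T) (hEs : E.IsSaturated p) (hEi : E.HasPPowerIndexIn F p) : E.IsNormalIn F p := by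
  refine normal_of_ppower hS hF hTS (fun g hg => ?_) hT hEs hEi
  have := finite_of_le hTS
  exact mem_normalizer_of_conj_mem fun x hx => hTn.conj_mem ⟨x, hTS hx⟩ hx ⟨g, hg⟩

end Cfsg.Agent.S5120
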