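import Cfsg.Statements.S4623
import Mathlib

set_option autoImplicit false
open Cfsg

namespace Cfsg.Agent.S4623

open scoped commutatorElement Pointwise

variable {p : ℕ} [Fact p.Prime]

/-- Every element has its `p`-th power in the derived subgroup. -/
def Good (p : ℕ) {G : Type*} [Group G] (H : Subgroup G) : Prop := ∀ x ∈ H, x ^ p ∈ ⁅H, H⁆

theorem good_map {G K : Type*} [Group G] [Group K] (f : G →* K) {H : Subgroup G} (h : Good p H) :
    Good p (H.map f) := by
  rintro _ ⟨x, hx, rfl⟩
  rw [← Subgroup.map_commutator, ← map_pow]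
  exact Subgroup.mem_map_of_mem f (h x hx)

theorem good_subgroupOf {G : Type*} [Group G] {H K : Subgroup G} (hHK : H ≤ K) (h : Good p H) :
    Good p (H.subgroupOf K) := by
  intro x hx
  have h1 := h _ hx
  have hH : H = (H.subgroupOf K).map K.subtype := by
    rw [Subgroup.subgroupOf_map_subtype, inf_eq_left.2 hHK]
  rw [hH, ← Subgroup.map_commutator] at h1
  obtain ⟨y, hy, hy'⟩ := h1
  have : y = x ^ p := Subtype.ext hy'
  rw [← this]; exact hy

/-- Generators with good powers make a good subgroup. -/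
theorem good_of_gen {G : Type*} [Group G] {H A B : Subgroup G} (hH : H = A ⊔ B)
    (hA : ∀ x ∈ A, x ^ p ∈ ⁅H, H⁆) (hB : ∀ x ∈ B, x ^ p ∈ ⁅H, H⁆) : Good p H := by
  let π : ↥H →* Abelianization ↥H := Abelianization.of
  let χ : ↥H →* Abelianization ↥H := (powMonoidHom p).comp π
  have key : ∀ y : ↥H, (y : G) ^ p ∈ ⁅H, H⁆ ↔ y ∈ χ.ker := by
    intro y
    have h1 : χ y = π (y ^ p) := (map_pow π y p).symm
    rw [MonoidHom.mem_ker, h1, ← MonoidHom.mem_ker, show π.ker = commutator ↥H from Abelianization.ker_of _,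
      ← Subgroup.map_subtype_commutator, Subgroup.mem_map]
    constructor
    · rintro ⟨z, hz, hz'⟩
      rwa [← Subtype.ext (a1 := z) (a2 := y ^ p) (by simpa using hz')]
    · intro h
      exact ⟨_, h, by simp⟩
  intro x hx
  have hle : H ≤ χ.ker.map H.subtype := by
    conv_lhs => rw [hH]
    exact sup_le (fun a ha => ⟨⟨a, hH ▸ Subgroup.mem_sup_left ha⟩, (key _).1 (hA a ha), rfl⟩)
      (fun b hb => ⟨⟨b, hH ▸ Subgroup.mem_sup_right hb⟩, (key _).1 (hB b hb), rfl⟩)
  obtain ⟨y, hy, rfl⟩ := hle hx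
  exact (key y).2 hy

/-- Translation inside the blocks. -/
def base (p q : ℕ) : Multiplicative (Fin q → ZMod p) →* Equiv.Perm (Fin q × ZMod p) where
  toFun v :=
    { toFun := fun x => (x.1, x.2 + v.toAdd x.1)
      invFun := fun x => (x.1, x.2 - v.toAdd x.1)
      left_inv := fun x => by simp
      right_inv := fun x => by simp }
  map_one' := Equiv.ext fun x => by simp
  map_mul' u v := Equiv.ext fun x => by
    simp only [toAdd_mul, Pi.add_apply, Equiv.coe_fn_mk, Equiv.Perm.coe_mul, Function.comp_apply]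
    rw [← add_assoc, add_right_comm]

/-- Permutation of the blocks. -/
def lift (p q : ℕ) : Equiv.Perm (Fin q) →* Equiv.Perm (Fin q × ZMod p) where
  toFun σ := Equiv.prodCongrLeft fun _ : ZMod p => σ
  map_one' := Equiv.ext fun x => rfl
  map_mul' u v := Equiv.ext fun x => rfl

theorem lift_apply (q : ℕ) (σ : Equiv.Perm (Fin q)) (x : Fin q × ZMod p) : lift p q σ x = (σ x.1, x.2) := rfl

theorem base_apply (q : ℕ) (v : Multiplicative (Fin q → ZMod p)) (x : Fin q × ZMod p) :
    base p q v x = (x.1, x.2 + v.toAdd x.1) := rfl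

theorem sign_of_isPGroup {X : Type*} [Fintype X] [DecidableEq X] (hp : p ≠ 2) {x : Equiv.Perm X} {k : ℕ}
    (hx : x ^ p ^ k = 1) : Equiv.Perm.sign x = 1 := by
  have hodd : Odd (p ^ k) := ((Fact.out (p := p.Prime)).odd_of_ne_two hp).pow
  obtain ⟨m, hm⟩ := hodd
  have h := congrArg Equiv.Perm.sign hx
  rw [map_pow, map_one, hm, pow_succ, pow_mul, Int.units_sq, one_pow, one_mul] at h
  exact h

/-- A subgroup of full `p`-part whose derived quotient, and that of its even part, has exponent `p`. -/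
theorem exists_good (p : ℕ) [Fact p.Prime] (n : ℕ) : ∃ W : Subgroup (Equiv.Perm (Fin n)),
    Nat.card W = p ^ (n.factorial.factorization p) ∧ Good p W ∧ Good p (W ⊓ alternatingGroup (Fin n)) := by
  have hp : p.Prime := Fact.out
  induction n using Nat.strong_induction_on with
  | _ n ih =>
  rcases Nat.lt_or_ge n p with hn | hn
  · refine ⟨⊥, ?_, ?_, ?_⟩
    · rw [Subgroup.card_bot, Nat.factorization_eq_zero_of_not_dvd, pow_zero]
      rw [hp.dvd_factorial]; omega
    · intro x hx
      rw [Subgroup.mem_bot.1 hx, one_pow]; exact one_mem _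
    · intro x hx
      rw [Subgroup.mem_bot.1 hx.1, one_pow]; exact one_mem _
  set q := n / p with hq
  set r := n % p with hr
  have hn' : n = p * q + r := (Nat.div_add_mod n p).symm
  have hqn : q < n := Nat.div_lt_self (by have := hp.pos; omega) hp.one_lt
  obtain ⟨Q, hQc, hQg, -⟩ := ih q hqn
  have : NeZero p := ⟨hp.ne_zero⟩
  let B := (base p q).range
  let L := Q.map (lift p q)
  have hinj : Function.Injective (fun x : Multiplicative (Fin q → ZMod p) × Q => base p q x.1 * lift p q x.2) := by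
    rintro ⟨u, σ⟩ ⟨v, τ⟩ h
    have h' : ∀ i a, base p q u (lift p q σ (i, a)) = base p q v (lift p q τ (i, a)) := fun i a => by
      have := congrArg (fun g : Equiv.Perm (Fin q × ZMod p) => g (i, a)) h
      exact this
    simp only [lift_apply, base_apply, Prod.mk.injEq] at h'
    have hστ : σ = τ := Subtype.ext (Equiv.ext fun i => (h' i 0).1)
    subst hστ
    refine Prod.ext (Multiplicative.toAdd.injective (funext fun j => ?_)) rfl
    have := (h' ((σ : Equiv.Perm (Fin q)).symm j) 0).2
    simpa using this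
  have hnorm : L ≤ Subgroup.normalizer (B : Set (Equiv.Perm (Fin q × ZMod p))) := by
    rintro _ ⟨σ, -, rfl⟩
    have hc : ∀ (τ : Equiv.Perm (Fin q)) (v : Multiplicative (Fin q → ZMod p)),
        lift p q τ * base p q v * (lift p q τ)⁻¹ = base p q (Multiplicative.ofAdd (v.toAdd ∘ τ.symm)) := by
      intro τ v
      rw [mul_inv_eq_iff_eq_mul]
      ext1 x
      simp [lift_apply, base_apply]
    rw [Subgroup.mem_normalizer_iff]
    intro g
    constructor
    · rintro ⟨v, rfl⟩; exact ⟨_, (hc σ v).symm⟩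
    · rintro ⟨v, hv⟩
      refine ⟨Multiplicative.ofAdd (v.toAdd ∘ (σ⁻¹).symm), ?_⟩
      rw [← hc σ⁻¹ v, hv, map_inv]; group
  let X := B ⊔ L
  have hXset : (X : Set (Equiv.Perm (Fin q × ZMod p))) =
      (B : Set (Equiv.Perm (Fin q × ZMod p))) * (L : Set (Equiv.Perm (Fin q × ZMod p))) :=
    Subgroup.coe_mul_of_right_le_normalizer_left B L hnorm
  have hXmem : ∀ x, x ∈ X ↔ ∃ v, ∃ σ ∈ Q, x = base p q v * lift p q σ := by
    intro x
    rw [← SetLike.mem_coe, hXset, Set.mem_mul]
    constructor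
    · rintro ⟨_, ⟨v, rfl⟩, _, ⟨σ, hσ, rfl⟩, rfl⟩; exact ⟨v, σ, hσ, rfl⟩
    · rintro ⟨v, σ, hσ, rfl⟩; exact ⟨_, ⟨v, rfl⟩, _, ⟨σ, hσ, rfl⟩, rfl⟩
  have hXcard : Nat.card X = p ^ (q + q.factorial.factorization p) := by
    have e : Set.range (fun x : Multiplicative (Fin q → ZMod p) × Q => base p q x.1 * lift p q x.2) =
        (X : Set (Equiv.Perm (Fin q × ZMod p))) := by
      ext x
      rw [SetLike.mem_coe, hXmem]
      constructor
      · rintro ⟨⟨v, σ⟩, rfl⟩; exact ⟨v, σ, σ.2, rfl⟩
      · rintro ⟨v, σ, hσ, rfl⟩; exact ⟨(v, ⟨σ, hσ⟩), rfl⟩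
    calc Nat.card X = Nat.card ↥(Set.range fun x : Multiplicative (Fin q → ZMod p) × Q =>
          base p q x.1 * lift p q x.2) := by rw [e]; rfl
      _ = _ := by
        rw [Nat.card_range_of_injective hinj, Nat.card_prod, hQc, pow_add, Nat.card_congr Multiplicative.toAdd,
          Nat.card_fun, Nat.card_zmod, Nat.card_fin]
  have hbase : ∀ v, base p q v ^ p = 1 := fun v => by
    rw [← map_pow, show v ^ p = 1 from Multiplicative.toAdd.injective (funext fun i => by
      rw [toAdd_pow, toAdd_one, Pi.smul_apply, Pi.zero_apply, nsmul_eq_mul, ZMod.natCast_self, zero_mul]),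
      map_one]
  have hliftsign : ∀ σ ∈ Q, Equiv.Perm.sign (lift p q σ) = 1 := by
    intro σ hσ
    have h1 : Equiv.Perm.sign (lift p q σ) = Equiv.Perm.sign σ ^ p := by
      change Equiv.Perm.sign (Equiv.prodCongrLeft fun _ : ZMod p => σ) = _
      rw [Equiv.Perm.sign_prodCongrLeft, Finset.prod_const, Finset.card_univ, ZMod.card]
    rw [h1]
    by_cases h2 : p = 2
    · subst h2; exact Int.units_sq _
    · obtain ⟨k, hk⟩ := IsPGroup.of_card hQc ⟨σ, hσ⟩
      rw [sign_of_isPGroup h2 (k := k) (congrArg Subtype.val hk), one_pow]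
  -- the two properties inside the blocks
  have hL : ∀ H : Subgroup (Equiv.Perm (Fin q × ZMod p)), L ≤ H → ∀ x ∈ L, x ^ p ∈ ⁅H, H⁆ := fun H hLH x hx =>
    Subgroup.commutator_mono hLH hLH (good_map (lift p q) hQg x hx)
  have hXg : Good p X := good_of_gen rfl (fun _ ⟨v, hv⟩ => by rw [← hv, hbase]; exact one_mem _) (hL X le_sup_right)
  let A := alternatingGroup (Fin q × ZMod p)
  have hLA : L ≤ A := by
    rintro _ ⟨σ, hσ, rfl⟩
    exact Equiv.Perm.mem_alternatingGroup.2 (hliftsign σ hσ)
  have hXA : X ⊓ A = (B ⊓ A) ⊔ L := by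
    refine le_antisymm (fun x hx => ?_) (sup_le (inf_le_inf_right A le_sup_left) (le_inf le_sup_right hLA))
    obtain ⟨v, σ, hσ, rfl⟩ := (hXmem x).1 hx.1
    have hl : lift p q σ ∈ A := hLA ⟨σ, hσ, rfl⟩
    exact mul_mem (Subgroup.mem_sup_left ⟨⟨v, rfl⟩, (Subgroup.mul_mem_cancel_right A hl).1 hx.2⟩)
      (Subgroup.mem_sup_right ⟨σ, hσ, rfl⟩)
  have hXAg : Good p (X ⊓ A) := good_of_gen hXA (fun x hx => by
      obtain ⟨v, rfl⟩ := hx.1
      rw [hbase]; exact one_mem _) (hL _ (le_inf le_sup_right hLA))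
  -- transport
  obtain ⟨e⟩ : Nonempty ((Fin q × ZMod p) ⊕ Fin r ≃ Fin n) := by
    refine ⟨Fintype.equivOfCardEq ?_⟩
    simp only [Fintype.card_sum, Fintype.card_prod, Fintype.card_fin, ZMod.card]
    rw [mul_comm]; omega
  let ι : Equiv.Perm (Fin q × ZMod p) →* Equiv.Perm (Fin n) :=
    (e.permCongrHom).toMonoidHom.comp ((Equiv.Perm.sumCongrHom _ _).comp (MonoidHom.inl _ _))
  have hsign : ∀ x, Equiv.Perm.sign (ι x) = Equiv.Perm.sign x := fun x => by
    change Equiv.Perm.sign (e.permCongr (Equiv.sumCongr x 1)) = _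
    rw [Equiv.Perm.sign_permCongr, Equiv.Perm.sign_sumCongr, map_one, mul_one]
  have hιinj : Function.Injective ι := by
    intro a b h
    have h1 := Equiv.Perm.sumCongrHom_injective (e.permCongrHom.injective h)
    exact (congrArg Prod.fst h1)
  refine ⟨X.map ι, ?_, good_map ι hXg, ?_⟩
  · rw [Subgroup.card_map_of_injective hιinj, hXcard, Nat.factorization_def _ hp, Nat.factorization_def _ hp, hn',
      padicValNat_factorial_mul_add _ (Nat.mod_lt _ hp.pos), padicValNat_factorial_mul, add_comm]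
  · have : X.map ι ⊓ alternatingGroup (Fin n) = (X ⊓ A).map ι := by
      ext y
      constructor
      · rintro ⟨⟨x, hx, rfl⟩, hy⟩
        exact ⟨x, ⟨hx, Equiv.Perm.mem_alternatingGroup.2 ((hsign x).symm.trans (Equiv.Perm.mem_alternatingGroup.1 hy))⟩, rfl⟩
      · rintro ⟨x, ⟨hx, hxA⟩, rfl⟩
        exact ⟨⟨x, hx, rfl⟩, Equiv.Perm.mem_alternatingGroup.2 ((hsign x).trans (Equiv.Perm.mem_alternatingGroup.1 hxA))⟩
    rw [this]; exact good_map ι hXAg

theorem good_of_sylow {G : Type*} [Group G] [Finite G] (P S : Sylow p G) (h : Good p (S : Subgroup G))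
    (x : (P : Subgroup G)) : x ^ p ∈ commutator ↥(P : Subgroup G) := by
  let e := S.equiv P
  obtain ⟨y, rfl⟩ := e.surjective x
  have hy := h _ y.2
  rw [← Subgroup.map_subtype_commutator] at hy
  obtain ⟨z, hz, hz'⟩ := hy
  have : z = y ^ p := Subtype.ext (by simpa using hz')
  subst this
  have := Subgroup.mem_map_of_mem e.toMonoidHom hz
  rw [commutator_def, Subgroup.map_commutator, Subgroup.map_top_of_surjective _ e.surjective] at this
  rw [commutator_def, ← map_pow]
  exact this


/-- For every prime p and every n, a Sylow p-subgroup P of the symmetric group on n letters has P/P' elementary abelian (the p-th power of every element of P lies in the derived subgroup of P), and the same holds for a Sylow p-subgroup of the alternating group on n letters. -/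
theorem result (p : ℕ) [Fact p.Prime] (n : ℕ) (P : Sylow p (Equiv.Perm (Fin n))) (Q : Sylow p (alternatingGroup (Fin n))) :
    (∀ x : (P : Subgroup (Equiv.Perm (Fin n))), x ^ p ∈ commutator (P : Subgroup (Equiv.Perm (Fin n)))) ∧
    (∀ x : (Q : Subgroup (alternatingGroup (Fin n))), x ^ p ∈ commutator (Q : Subgroup (alternatingGroup (Fin n)))) := by
  obtain ⟨W, hWc, hWg, hWA⟩ := exists_good p n
  have hp : p.Prime := Fact.out
  have hWc' : Nat.card W = p ^ (Nat.card (Equiv.Perm (Fin n))).factorization p := by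
    rw [Nat.card_perm, Nat.card_fin, hWc]
  let S : Sylow p (Equiv.Perm (Fin n)) := Sylow.ofCard W hWc'
  refine ⟨fun x => good_of_sylow P S (by simpa [S] using hWg) x, fun x => ?_⟩
  let A := alternatingGroup (Fin n)
  let V := (W ⊓ A).subgroupOf A
  have hVp : IsPGroup p V :=
    ((IsPGroup.of_card hWc).to_le (inf_le_left (b := A))).of_equiv (Subgroup.subgroupOfEquivOfLe inf_le_right).symm
  have hidx : ¬ p ∣ V.index := by
    have hWi : ¬ p ∣ W.index := S.not_dvd_index
    intro hdvd
    apply hWi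
    refine hdvd.trans ?_
    change (W ⊓ A).relIndex A ∣ W.index
    have h1 : (W ⊓ A).relIndex W * W.relIndex (W ⊔ A) = (W ⊓ A).relIndex A * A.relIndex (W ⊔ A) := by
      rw [Subgroup.relIndex_mul_relIndex _ _ _ inf_le_left le_sup_left,
        Subgroup.relIndex_mul_relIndex _ _ _ inf_le_right le_sup_right]
    rw [Subgroup.inf_relIndex_left, Subgroup.relIndex_sup_right, mul_comm ((W ⊓ A).relIndex A)] at h1
    have h2 := Nat.eq_of_mul_eq_mul_left (Nat.pos_of_ne_zero Subgroup.index_ne_zero_of_finite) h1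
    rw [← h2, ← Subgroup.relIndex_mul_index (le_sup_left : W ≤ W ⊔ A)]
    exact dvd_mul_right _ _
  refine good_of_sylow Q (hVp.toSylow hidx) ?_ x
  simpa [V] using good_subgroupOf inf_le_right hWA

end Cfsg.Agent.S4623
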