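import Cfsg.Statements.S0713
import Cfsg.Agent.Lib.Perm.PrimeDegree
import Mathlib.GroupTheory.GroupAction.Jordan
import Mathlib.GroupTheory.Perm.Cycle.Type

set_option autoImplicit false
open Cfsg

namespace Cfsg.Agent.S0713

open Equiv MulAction
open scoped Pointwise

/-- A primitive group with a `p`-cycle is transitive on tuples as long as the fixed point set. -/
theorem pretrans_compl {α : Type*} [Fintype α] [DecidableEq α] (G : Subgroup (Perm α))
    (hG : IsPreprimitive G α) {p : ℕ} (hp : p.Prime) (hpn : p < Fintype.card α) {g : Perm α}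
    (hgc : g.IsCycle) (hgp : g.support.card = p) (hg : g ∈ G) :
    IsMultiplyPretransitive G α (Fintype.card α - p) := by
  classical
  have hsc : ((g.support : Set α)ᶜ).ncard = (Fintype.card α - p - 1) + 1 := by
    have := Set.ncard_add_ncard_compl (g.support : Set α)
    rw [Set.ncard_coe_finset, hgp, Nat.card_eq_fintype_card] at this
    omega
  have hn : (Fintype.card α - p - 1) + 2 < Nat.card α := by
    rw [Nat.card_eq_fintype_card]; have := hp.two_le; omega
  have := Perm.isPretransitive_of_isCycle_mem hgc hg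
  have hprim : IsPreprimitive (fixingSubgroup G ((g.support : Set α)ᶜ))
      (SubMulAction.ofFixingSubgroup G ((g.support : Set α)ᶜ)) := by
    apply IsPreprimitive.of_prime_card
    convert hp
    rw [Nat.card_eq_fintype_card, Fintype.card_subtype, ← hgp]
    refine congrArg Finset.card ?_
    ext x; simp [SubMulAction.mem_ofFixingSubgroup_iff]
  have h := (hG.isMultiplyPreprimitive hsc hn hprim).isMultiplyPretransitive
  exact isMultiplyPretransitive_of_le (n := Fintype.card α - p - 1 + 2) (by omega) (by omega)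

/-- Jordan's Theorem: a primitive permutation group of degree `n ≥ 5` containing a `p`-cycle for a prime `p ≤ n - 3` contains the alternating group. -/
theorem result {α : Type*} [Fintype α] [DecidableEq α] (G : Subgroup (Equiv.Perm α)) (hG : MulAction.IsPreprimitive G α) {p : ℕ} (hp : p.Prime) (hn : 5 ≤ Fintype.card α) (hpn : p + 3 ≤ Fintype.card α) {g : Equiv.Perm α} (hgc : g.IsCycle) (hgp : g.support.card = p) (hg : g ∈ G) : alternatingGroup α ≤ G := by
  have hp' : Fact p.Prime := ⟨hp⟩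
  have htr := pretrans_compl G hG hp (by omega) hgc hgp hg
  have hord : orderOf g = p := hgp ▸ hgc.orderOf
  -- the action on the support
  let P : α → Prop := fun x => x ∈ g.support
  let ι : Perm (Subtype P) →* Perm α := Perm.ofSubtype
  have hιinj : Function.Injective ι := Perm.ofSubtype_injective
  have hΓ : Nat.card (Subtype P) = p := by
    rw [Nat.card_eq_fintype_card, Fintype.card_subtype, ← hgp]
    congr 1; ext x; simp [P]
  have hmk : ∀ σ : Perm α, (∀ x, x ∉ g.support → σ x = x) → ∃ s, ι s = σ := by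
    intro σ h
    have h' : ∀ x, P (σ x) ↔ P x := fun x => by
      by_cases hx : σ x = x
      · rw [hx]
      · exact ⟨fun _ => not_not.mp fun hxx => hx (h x hxx),
          fun _ => not_not.mp fun hxx => hx (σ.injective (h _ hxx))⟩
    exact ⟨σ.subtypePerm h', Perm.ofSubtype_subtypePerm h' fun x hx => not_not.mp fun hxx => hx (h x hxx)⟩
  obtain ⟨a₀, ha₀⟩ := hmk g fun x hx => Perm.notMem_support.mp hx
  let H : Subgroup (Perm (Subtype P)) := G.comap ι
  let aH : H := ⟨a₀, show ι a₀ ∈ G by rw [ha₀]; exact hg⟩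
  have hao : orderOf a₀ = p := by rw [← orderOf_injective ι hιinj, ha₀, hord]
  have haH : orderOf aH = p := by rw [← Subgroup.orderOf_coe]; exact hao
  have : IsPretransitive H (Subtype P) := by
    have := Lib.Perm.zpowers_pretransitive_of_prime (Ω := Subtype P) hΓ haH
    exact IsPretransitive.of_smul_eq (M := Subgroup.zpowers aH) (N := H) Subtype.val (fun {_ _} => rfl)
  have hsyl := fun Q : Sylow p H => Lib.Perm.card_sylow_of_prime (Ω := Subtype P) hΓ Q
  -- normalising lifts of transpositions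
  have hlift : ∀ a b : α, a ∉ g.support → b ∉ g.support → ∃ f ∈ G,
      (∀ z, z ∉ g.support → f z = swap a b z) ∧ ∃ i : ℤ, f * g * f⁻¹ = g ^ i := by
    intro a b ha hb
    have hk : (g.supportᶜ).card = Fintype.card α - p := by rw [Finset.card_compl, hgp]
    let e : Fin (Fintype.card α - p) ↪ α :=
      ((g.supportᶜ).equivFinOfCardEq hk).symm.toEmbedding.trans (Function.Embedding.subtype _)
    obtain ⟨f, hf⟩ := htr.exists_smul_eq e (e.trans (swap a b).toEmbedding)
    have hfΔ : ∀ z, z ∉ g.support → (f : Perm α) z = swap a b z := by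
      intro z hz
      have := DFunLike.congr_fun hf (((g.supportᶜ).equivFinOfCardEq hk) ⟨z, Finset.mem_compl.mpr hz⟩)
      simpa [e, Function.Embedding.smul_apply, Subgroup.smul_def] using this
    have hmaps : ∀ z, z ∉ g.support → (f : Perm α) z ∉ g.support := by
      intro z hz
      rw [hfΔ z hz, swap_apply_def]
      split_ifs <;> assumption
    have hinv : ∀ z, z ∉ g.support → (f : Perm α)⁻¹ z ∉ g.support := by
      intro z hz
      obtain ⟨y, hy, hyz⟩ : ∃ y, y ∈ g.supportᶜ ∧ (f : Perm α) y = z :=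
        Finset.surjOn_of_injOn_of_card_le (f : Perm α) (s := g.supportᶜ) (t := g.supportᶜ)
          (fun y hy => Finset.mem_compl.mpr (hmaps y (Finset.mem_compl.mp hy)))
          (f : Perm α).injective.injOn le_rfl (Finset.mem_compl.mpr hz)
      rw [Perm.inv_eq_iff_eq.mpr hyz.symm]
      exact Finset.mem_compl.mp hy
    obtain ⟨b₀, hb₀⟩ := hmk ((f : Perm α) * g * (f : Perm α)⁻¹) fun x hx => by
      simp only [Perm.mul_apply, Perm.notMem_support.mp (hinv x hx)]
      exact (f : Perm α).apply_symm_apply x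
    let bH : H := ⟨b₀, show ι b₀ ∈ G by rw [hb₀]; exact mul_mem (mul_mem f.2 hg) (inv_mem f.2)⟩
    have hbo : orderOf bH = p := by
      rw [← Subgroup.orderOf_coe, ← orderOf_injective ι hιinj, hb₀, ← hord]
      exact orderOf_injective (MulAut.conj (f : Perm α)).toMonoidHom (MulEquiv.injective _) g
    have hsub : ∀ x : H, orderOf x = p → ∃ Q : Sylow p H, (Q : Subgroup H) = Subgroup.zpowers x := by
      intro x hx
      have hpg : IsPGroup p (Subgroup.zpowers x) :=
        IsPGroup.of_card (n := 1) (by rw [Nat.card_zpowers, hx, pow_one])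
      obtain ⟨Q, hQ⟩ := hpg.exists_le_sylow
      exact ⟨Q, (Subgroup.eq_of_le_of_card_ge hQ (by rw [Nat.card_zpowers, hx, hsyl Q])).symm⟩
    obtain ⟨Qa, hQa⟩ := hsub aH haH
    obtain ⟨Qb, hQb⟩ := hsub bH hbo
    obtain ⟨h, hh⟩ := exists_smul_eq H Qa Qb
    have hmem : bH ∈ MulAut.conj h • (Qa : Subgroup H) := by
      rw [← Sylow.pointwise_smul_def, ← Sylow.smul_def, hh, hQb]; exact Subgroup.mem_zpowers _
    rw [Subgroup.mem_pointwise_smul_iff_inv_smul_mem, hQa, Subgroup.mem_zpowers_iff] at hmem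
    obtain ⟨i, hi⟩ := hmem
    rw [← map_inv, MulAut.smul_def, MulAut.conj_apply, inv_inv] at hi
    have hi' := congrArg (fun x : H => ι (x : Perm (Subtype P))) hi
    have hhfix : ∀ z, z ∉ g.support → ι (h : Perm (Subtype P)) z = z := fun z hz =>
      Perm.ofSubtype_apply_of_not_mem _ hz
    refine ⟨(ι h)⁻¹ * f, mul_mem (inv_mem h.2) f.2, fun z hz => ?_, i, ?_⟩
    · rw [Perm.mul_apply, Perm.inv_eq_iff_eq, hfΔ z hz, hhfix]
      exact hfΔ z hz ▸ hmaps z hz
    · simp only [SubgroupClass.coe_zpow, map_zpow, aH, ha₀, Subgroup.coe_mul, Subgroup.coe_inv,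
        map_mul, map_inv, bH, hb₀] at hi'
      rw [hi']
      group
  -- three fixed points
  obtain ⟨s, hs, hs3⟩ := Finset.exists_subset_card_eq
    (show 3 ≤ (g.supportᶜ).card by rw [Finset.card_compl, hgp]; omega)
  obtain ⟨a, b, c, hab, hac, hbc, rfl⟩ := Finset.card_eq_three.mp hs3
  simp only [Finset.insert_subset_iff, Finset.singleton_subset_iff, Finset.mem_compl] at hs
  obtain ⟨ha, hb, hc⟩ := hs
  obtain ⟨f₁, hf₁, hf₁z, i, hi⟩ := hlift b a hb ha
  obtain ⟨f₂, hf₂, hf₂z, j, hj⟩ := hlift b c hb hc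
  set τ := swap b a * swap b c with hτ
  have hτ3 : τ.IsThreeCycle := Perm.isThreeCycle_swap_mul_swap_same hab.symm hbc hac
  have hstay : ∀ (x y z : α), x ∉ g.support → y ∉ g.support → z ∉ g.support →
      swap x y z ∉ g.support := by
    intro x y z hx hy hz
    rw [swap_apply_def]; split_ifs <;> assumption
  have hτsupp : ∀ z, z ∈ g.support → τ z = z := by
    intro z hz
    rw [hτ, Perm.mul_apply, swap_apply_of_ne_of_ne (x := z) (fun e : z = b => hb (e ▸ hz))
      (fun e : z = c => hc (e ▸ hz)), swap_apply_of_ne_of_ne (fun e : z = b => hb (e ▸ hz))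
      (fun e : z = a => ha (e ▸ hz))]
  set d := f₁ * f₂ * (f₂ * f₁)⁻¹ with hd
  have hdG : d ∈ G := mul_mem (mul_mem hf₁ hf₂) (inv_mem (mul_mem hf₂ hf₁))
  have hdg : Commute d g := by
    have e1 : ∀ (u : Perm α) (k l : ℤ), u * g * u⁻¹ = g ^ k → u * g ^ l * u⁻¹ = g ^ (k * l) :=
      fun u k l h => by rw [← conj_zpow, h, zpow_mul]
    have h12 : (f₁ * f₂) * g * (f₁ * f₂)⁻¹ = g ^ (i * j) := by
      rw [← e1 f₁ i j hi, ← hj]; group
    have h21 : (f₂ * f₁) * g * (f₂ * f₁)⁻¹ = g ^ (i * j) := by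
      rw [mul_comm i j, ← e1 f₂ j i hj, ← hi]; group
    have h3 : d * ((f₂ * f₁) * g * (f₂ * f₁)⁻¹) * d⁻¹ = (f₁ * f₂) * g * (f₁ * f₂)⁻¹ := by
      rw [hd]; group
    rw [h12, h21] at h3
    have h4 : Commute d (g ^ (i * j)) := mul_inv_eq_iff_eq_mul.mp h3
    obtain ⟨k, hk⟩ : g ∈ Subgroup.zpowers (g ^ (i * j)) := by
      have hle : Subgroup.zpowers (g ^ (i * j)) ≤ Subgroup.zpowers g :=
        Subgroup.zpowers_le.mpr ⟨i * j, rfl⟩
      have hcard : Nat.card (Subgroup.zpowers g) ≤ Nat.card (Subgroup.zpowers (g ^ (i * j))) := by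
        rw [Nat.card_zpowers, Nat.card_zpowers, ← h12]
        exact (orderOf_injective (MulAut.conj (f₁ * f₂)).toMonoidHom (MulEquiv.injective _) g).ge
      rw [Subgroup.eq_of_le_of_card_ge hle hcard]
      exact Subgroup.mem_zpowers g
    exact hk ▸ h4.zpow_right k
  have hτd : ∀ z, z ∉ g.support → d z = (τ * τ) z := by
    intro z hz
    have h1 : ∀ (f : Perm α) (x y : α), x ∉ g.support → y ∉ g.support →
        (∀ z, z ∉ g.support → f z = swap x y z) → ∀ z, z ∉ g.support → f⁻¹ z = swap x y z := by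
      intro f x y hx hy hf z hz
      rw [Perm.inv_eq_iff_eq, hf _ (hstay x y z hx hy hz), swap_apply_self]
    have z1 := hstay b c z hb hc hz
    have z2 := hstay b a _ hb ha z1
    have z3 := hstay b c _ hb hc z2
    simp only [hd, hτ, mul_inv_rev, Perm.mul_apply]
    rw [h1 f₂ b c hb hc hf₂z z hz, h1 f₁ b a hb ha hf₁z _ z1, hf₂z _ z2, hf₁z _ z3]
  have hτ2 : ∀ z, z ∈ g.support → (τ * τ) z = z := fun z hz => by
    rw [Perm.mul_apply, hτsupp z hz, hτsupp z hz]
  obtain ⟨s₀, hs₀⟩ := hmk ((τ * τ)⁻¹ * d) fun x hx => by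
    rw [Perm.mul_apply, hτd x hx]; exact (τ * τ).symm_apply_apply x
  have hcomm : Commute ((τ * τ)⁻¹ * d) g := by
    refine Commute.mul_left (Commute.inv_left ?_) hdg
    refine (Perm.disjoint_iff_disjoint_support.mpr ?_).commute
    rw [Finset.disjoint_left]
    intro z h1 h2
    exact Perm.mem_support.mp h1 (hτ2 z h2)
  have hs₀a : s₀ * a₀ = a₀ * s₀ := hιinj (by rw [map_mul, map_mul, hs₀, ha₀]; exact hcomm)
  have hs₀z : s₀ ∈ Subgroup.zpowers a₀ := by
    rw [← Lib.Perm.centralizer_eq_zpowers_of_prime (Ω := Subtype P) hΓ hao]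
    exact Subgroup.mem_centralizer_singleton_iff.mpr hs₀a
  obtain ⟨l, hl⟩ := Subgroup.mem_zpowers_iff.mp hs₀z
  have hmemG : (τ * τ)⁻¹ * d ∈ G := by
    rw [← hs₀, ← hl, map_zpow, ha₀]; exact G.zpow_mem hg l
  have hττ : τ * τ ∈ G := by
    have := mul_mem hdG (inv_mem hmemG)
    rwa [mul_inv_rev, inv_inv, mul_inv_cancel_left] at this
  exact Perm.alternatingGroup_le_of_isPreprimitive_of_isThreeCycle_mem hG
    hτ3.isThreeCycle_sq hττ

end Cfsg.Agent.S0713
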