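import Cfsg.Statements.S0867
import Cfsg.Agent.Lib.CharClifford.Extend

set_option autoImplicit false
open Cfsg

namespace Cfsg.Agent.S0867

open Cfsg.Agent.Lib.CharClifford Cfsg.Agent.Lib.Char

theorem result {G : Type*} [Group G] [Finite G] (N : Subgroup G) [hN : N.Normal] (ϑ : N → ℂ) (hϑ : Cfsg.IsIrrCharacter N ϑ) (hinv : ∀ (g : G) (n : N), ϑ ⟨g * n * g⁻¹, hN.conj_mem (n : G) n.2 g⟩ = ϑ n) (d : ℕ) (hd : ϑ 1 = d) (hcop : Nat.Coprime N.index (Cfsg.detOrder ϑ * d)) : ∃ χ : G → ℂ, (Cfsg.IsIrrCharacter G χ ∧ (∀ n : N, χ n = ϑ n) ∧ Cfsg.detOrder χ = Cfsg.detOrder ϑ) ∧ ∀ χ' : G → ℂ, Cfsg.IsIrrCharacter G χ' → (∀ n : N, χ' n = ϑ n) → Nat.Coprime N.index (Cfsg.detOrder χ') → χ' = χ := by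
  haveI := Fintype.ofFinite G
  obtain ⟨dd, ρ, hρ, hρc, hdd, hdet⟩ := exists_detHom hϑ
  have hinv' : ∀ (g : G) (n : N), detHom ρ (MulAut.conjNormal g n) = detHom ρ n := by
    intro g n
    apply Units.ext
    haveI := hρ
    let ρ' : Representation ℂ N (Fin dd → ℂ) := ρ.comp (MulAut.conjNormal g : MulAut N).toMonoidHom
    have hch : ρ'.character = ρ.character := by
      rw [hρc]
      funext m
      show ρ.character (MulAut.conjNormal g m) = ϑ m
      rw [hρc]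
      exact hinv g m
    haveI : ρ'.IsIrreducible :=
      isIrreducible_of_isIrrCharacter ρ' (by rw [hch]; exact isIrrCharacter_character ρ)
    have h1 := congrFun (detChar_character ρ') n
    rw [hch, detChar_character ρ] at h1
    exact h1.symm
  have hord : Cfsg.detOrder ϑ = orderOf (detHom ρ) := by
    rw [Cfsg.detOrder, show Cfsg.detChar ϑ = fun n => (detHom ρ n : ℂ) from funext hdet, orderOf_hom_eq]
  obtain ⟨μ, hμ, hμord, hμuniq⟩ := exists_extension_coprime (detHom ρ) hinv'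
    (hord ▸ Nat.Coprime.coprime_dvd_right (dvd_mul_right _ _) hcop)
  have hcopd : Nat.Coprime N.index d := Nat.Coprime.coprime_dvd_right (dvd_mul_left _ _) hcop
  have hμ' : ∀ n : N, (μ n : ℂ) = Cfsg.detChar ϑ n := fun n => by rw [hμ, hdet]
  obtain ⟨η, hη, hηN⟩ := extends_of_det hϑ (fun g => funext fun n => hinv g n) d hd hcopd μ hμ'
  obtain ⟨χ, ⟨hχ, hχN, hχdet⟩, huniq⟩ :=
    existsUnique_extension_det hϑ d hd hcopd ⟨η, hη, hηN⟩ μ hμ'
  refine ⟨χ, ⟨hχ, hχN, ?_⟩, fun χ' hχ' hχ'N hc' => huniq χ' ⟨hχ', hχ'N, ?_⟩⟩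
  · rw [Cfsg.detOrder, hχdet, orderOf_hom_eq, hμord, hord]
  · obtain ⟨_, σ, _, _, _, hdet'⟩ := exists_detHom hχ'
    have hfun : Cfsg.detChar χ' = fun g => (detHom σ g : ℂ) := funext hdet'
    rw [Cfsg.detOrder, hfun, orderOf_hom_eq] at hc'
    rw [hfun, hμuniq (detHom σ) (fun n => Units.ext (by
      rw [← hdet', detChar_restrict hχ' hϑ hχ'N n, hdet])) hc']

end Cfsg.Agent.S0867
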