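import Cfsg.Statements.S0121
import Cfsg.Agent.Lib.Thompson.PGroup

set_option autoImplicit false
open Cfsg Subgroup
open scoped Pointwise commutatorElement

namespace Cfsg.Agent.S0121

/-- A p'-automorphism of a p-group acting trivially on a critical subgroup is trivial. -/
theorem result {G : Type*} [Group G] [Finite G] {p : ℕ} [Fact p.Prime] (hG : IsPGroup p G) (H : Subgroup G) (hH : H.Characteristic) (h1 : (frattini H).map H.subtype ≤ Subgroup.centralizer (H : Set G)) (h2 : ⁅H, (⊤ : Subgroup G)⁆ ≤ H ⊓ Subgroup.centralizer (H : Set G)) (h3 : Subgroup.centralizer (H : Set G) ≤ H) (a : MulAut G) (ha : Nat.Coprime (orderOf a) p) (h : ∀ x ∈ H, a x = x) : a = 1 := by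
  have key : ∀ g : G, a g = g := by
    intro g
    have hc : g⁻¹ * a g ∈ H := by
      refine h3 (mem_centralizer_iff.mpr fun x hx => ?_)
      have hn : g * x * g⁻¹ ∈ H := (inferInstance : H.Normal).conj_mem x hx g
      have := h _ hn
      rw [map_mul, map_mul, map_inv, h x hx] at this
      calc x * (g⁻¹ * a g) = g⁻¹ * (g * x * g⁻¹) * a g := by group
        _ = g⁻¹ * (a g * x * (a g)⁻¹) * a g := by rw [this]
        _ = g⁻¹ * a g * x := by group
    exact Lib.Thompson.eq_self_of_coprime hG ha (h _ hc)
  ext g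
  simpa using key g

end Cfsg.Agent.S0121
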