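import Cfsg.Statements.S0120
import Cfsg.Agent.Lib.Thompson.PGroup
import Cfsg.Agent.S0121

set_option autoImplicit false
open Cfsg Subgroup
open scoped Pointwise commutatorElement

namespace Cfsg.Agent.S0120

/-- For odd p, a p'-automorphism of a p-group acting trivially on the elements of order dividing p is trivial. -/
theorem result {G : Type*} [Group G] [Finite G] {p : ℕ} [Fact p.Prime] (hp : p ≠ 2) (hG : IsPGroup p G) (a : MulAut G) (ha : Nat.Coprime (orderOf a) p) (h : ∀ x : G, x ^ p = 1 → a x = x) : a = 1 := by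
  obtain ⟨H, hH, h1, h2, h3⟩ := Lib.Thompson.exists_critical hG
  refine S0121.result hG H hH h1 h2 h3 a ha ?_
  suffices key : ∀ n : ℕ, ∀ x ∈ H, orderOf x = n → a x = x from fun x hx => key _ x hx rfl
  intro n
  induction n using Nat.strong_induction_on with
  | _ n ih =>
    intro x hx hn
    by_cases hxp : x ^ p = 1
    · exact h x hxp
    have hxp' : a (x ^ p) = x ^ p := by
      refine ih _ ?_ _ (pow_mem hx p) rfl
      have hx1 : x ≠ 1 := fun e => hxp (by rw [e, one_pow])
      rw [← hn, orderOf_pow' x (Fact.out (p := p.Prime)).ne_zero,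
        Nat.gcd_eq_right (hG.dvd_orderOf hx1)]
      exact Nat.div_lt_self (orderOf_pos x) (Fact.out (p := p.Prime)).one_lt
    have hy : a x ∈ H := by
      rw [← hH.fixed a] at hx
      exact hx
    have hcen : ∀ u ∈ H, ∀ v, ∀ w ∈ H, Commute ⁅u, v⁆ w := fun u hu v w hw =>
      (mem_centralizer_iff.mp (h2 (commutator_mem_commutator hu (mem_top v))).2 w hw).symm
    refine Lib.Thompson.eq_self_of_coprime hG ha (h _ ?_)
    have hz1 := hcen (a x)⁻¹ (inv_mem hy) (x⁻¹)⁻¹
    rw [Lib.Thompson.mul_pow_class_two (Lib.Thompson.mul_comm_eq x⁻¹ (a x)) (hz1 _ (inv_mem hx))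
      (hz1 _ hy)]
    have hz : ⁅(a x)⁻¹, (x⁻¹)⁻¹⁆ ^ p = 1 := by
      rw [← Lib.Thompson.commutator_pow_left (hz1 _ (inv_mem hy)), commutatorElement_eq_one_iff_commute,
        inv_inv, inv_pow, ← map_pow, hxp']
      exact ((Commute.refl x).pow_left p).inv_left
    rw [Lib.Thompson.pow_choose_two_eq_one hp hz, mul_one, inv_pow, ← map_pow, hxp', inv_mul_cancel]

end Cfsg.Agent.S0120
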