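import Cfsg.Statements.S0738
import Mathlib
import Cfsg.Agent.Lib.ZassFrob.Basic

set_option autoImplicit false
open Cfsg

namespace Cfsg.Agent.S0738

open Cfsg.Agent.Lib.ZassFrob MulAction

/-- Let a finite Zassenhaus group of degree `n + 1` have two-point stabilisers of order `d` with `2d ≥ n - 1`. Then a normal subgroup of a point stabiliser acting regularly on the remaining points is elementary abelian, and the degree is a prime power plus one. -/
theorem result {G Ω : Type*} [Group G] [Finite G] [MulAction G Ω] [Fintype Ω] (hZ : Cfsg.IsZassenhausGroup G Ω) {a b : Ω} (hab : a ≠ b) (hd : Fintype.card Ω - 2 ≤ 2 * Nat.card ↥(MulAction.stabilizer G a ⊓ MulAction.stabilizer G b)) (F : Subgroup G) (hFle : F ≤ MulAction.stabilizer G a) (hFn : (F.subgroupOf (MulAction.stabilizer G a)).Normal) (hreg : ∀ y z : Ω, y ≠ a → z ≠ a → ∃! u : F, (u : G) • y = z) : IsMulCommutative F ∧ ∃ p f : ℕ, p.Prime ∧ (∀ u ∈ F, u ^ p = 1) ∧ Fintype.card Ω = p ^ f + 1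 := by
  haveI := hZ.2.1
  set d := Nat.card ↥(stabilizer G a ⊓ stabilizer G b) with hd
  have hreg' := fun c (hc : c ≠ a) => hreg b c (Ne.symm hab) hc
  have hne : ∀ u : F, (u : G) • b ≠ a := fun u h => hab (by
    rw [← eq_inv_smul_iff, inv_fix (hFle u.2)] at h; exact h.symm)
  have hcard : Nat.card F + 1 = Fintype.card Ω := by
    have h : Nat.card F = Nat.card {c : Ω // c ≠ a} := Nat.card_eq_of_bijective
      (fun u => ⟨(u : G) • b, hne u⟩)
      ⟨fun u u' h => (hreg' _ (hne u)).unique rfl (congrArg Subtype.val h).symm,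
       fun c => by obtain ⟨u, hu, -⟩ := hreg' c c.2; exact ⟨u, Subtype.ext hu⟩⟩
    classical
    rw [h, Nat.card_eq_fintype_card, Fintype.card_subtype_compl, Fintype.card_subtype_eq]
    have : 0 < Fintype.card Ω := Fintype.card_pos_iff.mpr ⟨a⟩
    omega
  have hconj : ∀ g ∈ stabilizer G a, ∀ x ∈ F, g * x * g⁻¹ ∈ F := fun g hg x hx =>
    hFn.conj_mem ⟨x, hFle hx⟩ hx ⟨g, hg⟩
  have hfpf : ∀ δ ∈ stabilizer G a ⊓ stabilizer G b, δ ≠ 1 → ∀ x ∈ F, δ * x = x * δ → x = 1 := by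
    intro δ hδ hδ1 x hx h
    have hfix : δ • (x • b) = x • b := by
      rw [smul_smul, h, mul_smul, mem_stabilizer_iff.mp hδ.2]
    rcases eq_or_eq_of_fix hZ hδ1 hab hδ.1 hδ.2 hfix with h' | h'
    · exact absurd h' (hne ⟨x, hx⟩)
    · exact congrArg Subtype.val
        ((hreg' b (Ne.symm hab)).unique (y₁ := ⟨x, hx⟩) (y₂ := 1) h' (one_smul G b))
  -- a nontrivial `G_{a,b}`-invariant subgroup of `F` is `F`
  have hmax : ∀ M : Subgroup F, M ≠ ⊥ →
      (∀ δ (hδ : δ ∈ stabilizer G a ⊓ stabilizer G b), ∀ x : F, x ∈ M →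
        (⟨δ * x * δ⁻¹, hconj δ hδ.1 x x.2⟩ : F) ∈ M) → M = ⊤ := by
    intro M hM hinv
    by_contra hne
    obtain ⟨⟨x, hx⟩, hx1⟩ := Subgroup.ne_bot_iff_exists_ne_one.mp hM
    have hx1' : x ≠ 1 := fun h => hx1 (Subtype.ext h)
    have h1 : d ≤ Nat.card M - 1 := by
      classical
      haveI := Fintype.ofFinite M
      have hle : Nat.card ↥(stabilizer G a ⊓ stabilizer G b) ≤ Nat.card {m : M // m ≠ 1} := by
        refine Nat.card_le_card_of_injective
          (fun δ => (⟨⟨⟨(δ : G) * x * (δ : G)⁻¹, hconj _ δ.2.1 x x.2⟩, hinv _ δ.2 x hx⟩,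
            fun h => hx1' ?_⟩ : {m : M // m ≠ 1})) fun δ δ' h => ?_
        · exact Subtype.ext (conj_eq_one_iff.mp (congrArg (fun m : M => ((m : F) : G)) h))
        · have h' : (δ : G) * x * (δ : G)⁻¹ = δ' * x * (δ' : G)⁻¹ :=
            congrArg (fun m : {m : M // m ≠ 1} => (((m : M) : F) : G)) h
          by_contra hδ
          refine hx1' (Subtype.ext (hfpf ((δ' : G)⁻¹ * δ) (mul_mem (inv_mem δ'.2) δ.2)
            (fun e => hδ (Subtype.ext (inv_mul_eq_one.mp e).symm)) x x.2 ?_))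
          calc (δ' : G)⁻¹ * δ * x = (δ' : G)⁻¹ * ((δ : G) * x * (δ : G)⁻¹) * δ := by group
            _ = x * ((δ' : G)⁻¹ * δ) := by rw [h']; group
      rw [Nat.card_eq_fintype_card (α := {m : M // m ≠ 1}), Fintype.card_subtype_compl,
        Fintype.card_subtype_eq, ← Nat.card_eq_fintype_card] at hle
      exact hle
    have h2 : 2 * Nat.card M ≤ Nat.card F := by
      rw [← Subgroup.card_mul_index M, mul_comm 2]
      exact Nat.mul_le_mul_left _ (Subgroup.one_lt_index_of_ne_top hne)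
    have h3 : 0 < d := Nat.card_pos
    omega
  obtain ⟨⟨δ₀, hδ₀⟩, hδ₀'⟩ := Subgroup.ne_bot_iff_exists_ne_one.mp (twoPt_ne_bot hZ hab)
  obtain ⟨r, hr, ⟨δ, hδ⟩, hδo⟩ : ∃ r : ℕ, r.Prime ∧
      ∃ δ : ↥(stabilizer G a ⊓ stabilizer G b), orderOf δ = r := by
    obtain ⟨r, hr, hrd⟩ := Nat.exists_prime_and_dvd (show d ≠ 1 by
      intro h
      obtain ⟨h1, -⟩ := Nat.card_eq_one_iff_unique.mp h
      exact hδ₀' (Subsingleton.elim _ _))
    haveI := Fact.mk hr
    exact ⟨r, hr, exists_prime_orderOf_dvd_card' r hrd⟩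
  rw [← Subgroup.orderOf_coe] at hδo
  have hδ1 : δ ≠ 1 := fun h => hr.one_lt.ne' (by rw [← hδo]; simp [h])
  haveI : Group.IsNilpotent F := by
    haveI := hFn
    haveI : Group.IsNilpotent (F.subgroupOf (stabilizer G a)) :=
      Lib.FPF.isNilpotent_of_prime_element hr (h := (⟨δ, hδ.1⟩ : stabilizer G a))
        (Subtype.ext (by rw [← hδo]; exact pow_orderOf_eq_one δ)) fun x hx h =>
          Subtype.ext (hfpf δ hδ hδ1 x hx (congrArg Subtype.val h))
    exact (Group.isNilpotent_congr (Subgroup.subgroupOfEquivOfLe hFle)).mp inferInstance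
  have hF3 : 2 ≤ Nat.card F := by
    have := two_lt_card hZ hab
    rw [Nat.card_eq_fintype_card] at this
    omega
  haveI : Nontrivial F := (Finite.one_lt_card_iff_nontrivial).mp hF3
  have hcomm : ∀ x y : F, x * y = y * x := by
    have : Subgroup.center F = ⊤ := hmax _ (Group.IsNilpotent.center_ne_bot F) fun δ hδ x hx => by
      rw [Subgroup.mem_center_iff] at hx ⊢
      intro y
      have := congrArg Subtype.val (hx ⟨δ⁻¹ * y * δ, by
        simpa using hconj δ⁻¹ (inv_mem hδ.1) y y.2⟩)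
      apply Subtype.ext
      show (y : G) * (δ * x * δ⁻¹) = δ * x * δ⁻¹ * y
      calc (y : G) * (δ * x * δ⁻¹) = δ * (δ⁻¹ * y * δ * x) * δ⁻¹ := by group
        _ = δ * ((x : G) * (δ⁻¹ * y * δ)) * δ⁻¹ := by rw [show δ⁻¹ * (y : G) * δ * x = _ from this]; rfl
        _ = _ := by group
    exact fun x y => Subgroup.mem_center_iff.mp (this ▸ Subgroup.mem_top y) x
  haveI hab' : IsMulCommutative F := ⟨⟨hcomm⟩⟩
  refine ⟨hab', ?_⟩
  obtain ⟨p, hp, hpd⟩ := Nat.exists_prime_and_dvd (show Nat.card F ≠ 1 by omega)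
  haveI := Fact.mk hp
  let M : Subgroup F :=
    { carrier := {x | x ^ p = 1}
      one_mem' := one_pow p
      mul_mem' := fun {x y} hx hy => by
        show (x * y) ^ p = 1
        rw [Commute.mul_pow (hcomm x y), hx, hy, one_mul]
      inv_mem' := fun {x} hx => by
        show x⁻¹ ^ p = 1
        rw [inv_pow, hx, inv_one] }
  have hMtop : M = ⊤ := by
    refine hmax M (fun h => ?_) fun δ hδ x hx => ?_
    · obtain ⟨x, hx⟩ := exists_prime_orderOf_dvd_card' p hpd
      have hxM : x ∈ M := show x ^ p = 1 by rw [← hx, pow_orderOf_eq_one]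
      rw [h, Subgroup.mem_bot] at hxM
      rw [hxM, orderOf_one] at hx
      exact hp.one_lt.ne' hx.symm
    · refine Subtype.ext ?_
      show (δ * (x : G) * δ⁻¹) ^ p = 1
      rw [conj_pow, show (x : G) ^ p = 1 from congrArg Subtype.val hx, mul_one, mul_inv_cancel]
  have hexp : ∀ x : F, x ^ p = 1 := fun x => (hMtop ▸ Subgroup.mem_top x : x ∈ M)
  obtain ⟨f, hf⟩ := IsPGroup.iff_card.mp
    (fun x => ⟨1, by rw [pow_one]; exact hexp x⟩ : IsPGroup p F)
  exact ⟨p, f, hp, fun u hu => congrArg Subtype.val (hexp ⟨u, hu⟩), by omega⟩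

end Cfsg.Agent.S0738
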