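import Cfsg.Statements.S0739
import Mathlib
import Cfsg.Agent.Lib.ZassFrob.OddStab

set_option autoImplicit false
open Cfsg

namespace Cfsg.Agent.S0739

open Cfsg.Agent.Lib.ZassFrob MulAction

/-- In a finite Zassenhaus group whose two-point stabiliser `H = G_{a,b}` has odd order `d`, and which has no normal `q`-complement for any prime `q ∣ d`, `H` is cyclic, `C_G(H) = H`, and every element swapping `a` and `b` inverts each element of `H`. -/
theorem result {G Ω : Type*} [Group G] [Finite G] [MulAction G Ω] [Fintype Ω] (hZ : Cfsg.IsZassenhausGroup G Ω) {a b : Ω} (hab : a ≠ b) (hodd : Odd (Nat.card ↥(MulAction.stabilizer G a ⊓ MulAction.stabilizer G b))) (hnil : ∀ q : ℕ, q.Prime → q ∣ Nat.card ↥(MulAction.stabilizer G a ⊓ MulAction.stabilizer G b) → ¬ ∃ N : Subgroup G, N.Normal ∧ N.index = q ^ (Nat.card G).factorization q) : IsCyclic ↥(MulAction.stabilizer G a ⊓ MulAction.stabilizer G b) ∧ Subgroup.centralizer ((MulAction.stabilizer G a ⊓ MulAction.stabilizer G b : Subgroup G) :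 Set G) = MulAction.stabilizer G a ⊓ MulAction.stabilizer G b ∧ ∀ s : G, s • a = b → s • b = a → ∀ h ∈ MulAction.stabilizer G a ⊓ MulAction.stabilizer G b, s * h * s⁻¹ = h⁻¹ := by
  obtain ⟨hcyc, hinv⟩ := odd_stab_inverted hZ hab hodd hnil
  refine ⟨hcyc, le_antisymm ?_ ?_, hinv⟩
  · intro g hg
    obtain ⟨⟨x, hx⟩, hx1⟩ := Subgroup.ne_bot_iff_exists_ne_one.mp (twoPt_ne_bot hZ hab)
    have hx1' : x ≠ 1 := fun h => hx1 (Subtype.ext h)
    have hc := Subgroup.mem_centralizer_iff.mp hg x hx
    rcases perm_of_commute hZ hab hx.1 hx.2 hx1' hc.symm with h | h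
    · exact h
    · exfalso
      have := hinv g h.1 h.2 x hx
      rw [← hc, mul_inv_cancel_right] at this
      have hxx : x * x = 1 := mul_eq_one_iff_eq_inv.mpr this
      have hd := orderOf_dvd_of_pow_eq_one (show x ^ 2 = 1 by rw [pow_two, hxx])
      have ho : Odd (orderOf x) := hodd.of_dvd_nat (Subgroup.orderOf_dvd_natCard _ hx)
      rcases (Nat.dvd_prime Nat.prime_two).mp hd with h1 | h1
      · exact hx1' (orderOf_eq_one_iff.mp h1)
      · rw [h1] at ho; exact absurd ho (by decide)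
  · haveI := hcyc
    letI := IsCyclic.commGroup (α := ↥(stabilizer G a ⊓ stabilizer G b))
    exact fun g hg => Subgroup.mem_centralizer_iff.mpr fun x hx =>
      congrArg Subtype.val (mul_comm (⟨x, hx⟩ : ↥(stabilizer G a ⊓ stabilizer G b)) ⟨g, hg⟩)

end Cfsg.Agent.S0739
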