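import Cfsg.Statements.S0741
import Mathlib
import Cfsg.Agent.Lib.ZassFrob.OddStab

set_option autoImplicit false
open Cfsg

namespace Cfsg.Agent.S0741

open Cfsg.Agent.Lib.ZassFrob MulAction

/-- If the two-point stabilisers of a finite Zassenhaus group of degree `n + 1` have even order `d`, then `2d ≥ n - 1`. -/
theorem result {G Ω : Type*} [Group G] [Finite G] [MulAction G Ω] [Fintype Ω] (hZ : Cfsg.IsZassenhausGroup G Ω) {a b : Ω} (hab : a ≠ b) (heven : Even (Nat.card ↥(MulAction.stabilizer G a ⊓ MulAction.stabilizer G b))) : Fintype.card Ω - 2 ≤ 2 * Nat.card ↥(MulAction.stabilizer G a ⊓ MulAction.stabilizer G b) := by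
  haveI : Fact (Nat.Prime 2) := ⟨Nat.prime_two⟩
  obtain ⟨⟨z, hz⟩, hzo⟩ := exists_prime_orderOf_dvd_card'
    (G := ↥(stabilizer G a ⊓ stabilizer G b)) 2 heven.two_dvd
  rw [← Subgroup.orderOf_coe] at hzo
  simp only at hzo
  have hz1 : z ≠ 1 := fun h => by simp [h] at hzo
  set d := Nat.card ↥(stabilizer G a ⊓ stabilizer G b) with hd
  set W : Set G := Set.range fun g : G => g * z * g⁻¹ with hW
  have hWc : ∀ g : G, ∀ w ∈ W, g * w * g⁻¹ ∈ W := by
    rintro g _ ⟨h, rfl⟩
    exact ⟨g * h, by simp [mul_assoc]⟩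
  have hfix : ∀ w ∈ W, Nat.card {x : Ω // w • x ≠ x} = Nat.card Ω - 2 := by
    classical
    rintro _ ⟨g, rfl⟩
    rw [Nat.card_eq_fintype_card, Fintype.card_subtype_compl, Nat.card_eq_fintype_card]
    congr 1
    rw [← Fintype.card_congr (Equiv.subtypeEquiv (MulAction.toPerm g)
      (p := fun x : Ω => x = a ∨ x = b) fun x => ?_), Fintype.card_subtype]
    · have : (Finset.univ.filter fun x : Ω => x = a ∨ x = b) = {a, b} := by ext x; simp
      rw [this, Finset.card_pair hab]
    · show (x = a ∨ x = b) ↔ (g * z * g⁻¹) • g • x = g • x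
      rw [mul_smul, mul_smul, inv_smul_smul, smul_left_cancel_iff]
      refine ⟨?_, fun h => eq_or_eq_of_fix hZ hz1 hab hz.1 hz.2 h⟩
      rintro (rfl | rfl)
      · exact hz.1
      · exact hz.2
  have hcount := card_swapped_pairs hZ hab W hWc
  have hleft : Nat.card {p : W × Ω // (p.1 : G) • p.2 ≠ p.2} = Nat.card W * (Nat.card Ω - 2) := by
    classical
    haveI := Fintype.ofFinite W
    rw [Nat.card_congr ((Equiv.subtypeProdEquivSigmaSubtype
        fun (w : W) (x : Ω) => (w : G) • x ≠ x)),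
      Nat.card_sigma, Finset.sum_congr rfl (fun (w : W) _ => hfix w.1 w.2), Finset.sum_const,
      Finset.card_univ, smul_eq_mul, ← Nat.card_eq_fintype_card]
  have hJ : Nat.card {w : G // w ∈ W ∧ w • a = b} ≤ d := by
    rcases isEmpty_or_nonempty {w : G // w ∈ W ∧ w • a = b} with h | ⟨⟨w₀, hw₀, hw₀a⟩⟩
    · simp
    have hsq : ∀ w ∈ W, w * w = 1 := by
      rintro _ ⟨g, rfl⟩
      simp only [mul_assoc, inv_mul_cancel_left]
      rw [← mul_assoc z z, ← pow_two, ← hzo, pow_orderOf_eq_one, one_mul, mul_inv_cancel]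
    refine Nat.card_le_card_of_injective (fun w => (⟨w₀⁻¹ * w.1, ?_, ?_⟩ :
      ↥(stabilizer G a ⊓ stabilizer G b))) fun w w' h => Subtype.ext
        (mul_left_cancel (congrArg Subtype.val h))
    · show (w₀⁻¹ * w.1) • a = a
      rw [mul_smul, w.2.2, ← hw₀a, inv_smul_smul]
    · show (w₀⁻¹ * w.1) • b = b
      have hb : ∀ w ∈ W, w • a = b → w • b = a := fun w hw h => by
        rw [← h, smul_smul, hsq w hw, one_smul]
      rw [mul_smul, inv_smul_eq_iff, hb _ w.2.1 w.2.2, hb _ hw₀ hw₀a]
  have hlow : Nat.card G ≤ Nat.card W * (2 * d) := by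
    have h1 : Nat.card (MulAction.orbit (ConjAct G) z) * Nat.card (MulAction.stabilizer (ConjAct G) z) =
        Nat.card G := by
      rw [Nat.card_congr (MulAction.orbitEquivQuotientStabilizer (ConjAct G) z),
        ← Subgroup.index_eq_card, mul_comm, Subgroup.card_mul_index]
      exact Nat.card_congr ConjAct.ofConjAct.toEquiv
    have h2 : MulAction.orbit (ConjAct G) z = W := by
      ext w
      constructor
      · rintro ⟨g, rfl⟩; exact ⟨ConjAct.ofConjAct g, rfl⟩
      · rintro ⟨g, rfl⟩; exact ⟨ConjAct.toConjAct g, rfl⟩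
    rw [← h1, h2]
    refine Nat.mul_le_mul_left _ ?_
    set C := MulAction.stabilizer (ConjAct G) z with hC
    have hperm : ∀ c : C, (ConjAct.ofConjAct (c : ConjAct G) • a = a ∧
        ConjAct.ofConjAct (c : ConjAct G) • b = b) ∨ (ConjAct.ofConjAct (c : ConjAct G) • a = b ∧
        ConjAct.ofConjAct (c : ConjAct G) • b = a) := fun c => by
      refine perm_of_commute hZ hab hz.1 hz.2 hz1 ?_
      have h : (c : ConjAct G) • z = z := c.2
      rw [ConjAct.smul_def] at h
      exact mul_inv_eq_iff_eq_mul.mp h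
    letI : MulAction C Ω :=
      MulAction.compHom Ω ((ConjAct.ofConjAct.toMonoidHom).comp C.subtype)
    have ho : Nat.card (MulAction.orbit C a) ≤ 2 := by
      rw [Nat.card_coe_set_eq]
      refine (Set.ncard_le_ncard (t := {a, b}) ?_ (Set.toFinite _)).trans_eq (Set.ncard_pair hab)
      rintro _ ⟨c, rfl⟩
      rcases hperm c with h | h
      · exact Or.inl h.1
      · exact Or.inr h.1
    have hs : Nat.card (MulAction.stabilizer C a) ≤ d := by
      refine Nat.card_le_card_of_injective (fun c => (⟨ConjAct.ofConjAct ((c : C) : ConjAct G), ?_⟩ :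
        ↥(stabilizer G a ⊓ stabilizer G b))) fun c c' h => by
          have h' := congrArg Subtype.val h
          exact Subtype.ext (Subtype.ext (ConjAct.ofConjAct.injective h'))
      have h0 : ConjAct.ofConjAct ((c : C) : ConjAct G) • a = a := c.2
      rcases hperm c with h | h
      · exact h
      · exact absurd (h0.symm.trans h.1) hab
    have hC' : Nat.card (MulAction.orbit C a) * Nat.card (MulAction.stabilizer C a) = Nat.card C := by
      rw [Nat.card_congr (MulAction.orbitEquivQuotientStabilizer C a),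
        ← Subgroup.index_eq_card, mul_comm, Subgroup.card_mul_index]
    rw [← hC']
    exact Nat.mul_le_mul ho hs
  have h3 := two_lt_card hZ hab
  rw [hleft] at hcount
  rw [card_group hZ hab, ← hd] at hlow
  rw [← Nat.card_eq_fintype_card]
  have h5 : Nat.card W * (Nat.card Ω - 2) ≤ Nat.card W * (2 * d) :=
    calc Nat.card W * (Nat.card Ω - 2) = _ := hcount
      _ ≤ Nat.card Ω * (Nat.card Ω - 1) * d := Nat.mul_le_mul_left _ hJ
      _ ≤ _ := hlow
  have hWpos : 0 < Nat.card W := by
    haveI : Nonempty W := ⟨⟨z, 1, by simp⟩⟩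
    exact Nat.card_pos
  exact Nat.le_of_mul_le_mul_left h5 hWpos

end Cfsg.Agent.S0741
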