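import Cfsg.Statements.S0254
import Cfsg.Agent.Lib.PSLTwo.AltFive
import Cfsg.Agent.Lib.Classical.Order
import Mathlib.GroupTheory.SpecificGroups.Alternating

open Matrix
open scoped MatrixGroups

set_option autoImplicit false
open Cfsg

namespace Cfsg.Agent.S0254

/-- PSL_2(9) is isomorphic to A_6. -/
theorem result {F : Type*} [Field F] [Fintype F] (hF : Fintype.card F = 9) : Nonempty (Matrix.ProjectiveSpecialLinearGroup (Fin 2) F ≃* alternatingGroup (Fin 6)) := by
  classical
  have h3 : (3 : F) = 0 := by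
    have h := FiniteField.cast_card_eq_zero F
    rw [hF] at h
    exact pow_eq_zero_iff two_ne_zero |>.1 (show (3 : F) ^ 2 = 0 by rw [← h]; norm_num)
  have h2 : (2 : F) ≠ 0 := fun h => one_ne_zero (α := F) (by linear_combination h3 - h)
  obtain ⟨s, hs⟩ : IsSquare (-1 : F) := FiniteField.isSquare_neg_one_iff.2 (by rw [hF]; decide)
  have hxy : s ^ 2 + (0 : F) ^ 2 = -1 := by rw [hs]; ring
  have hs5 : s ^ 2 = (5 : F) := by rw [pow_two, ← hs]; linear_combination -(2 : F) * h3
  open Lib.PSLTwo in
  let H : Subgroup (Matrix.ProjectiveSpecialLinearGroup (Fin 2) F) :=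
    ((qA5 hxy h2 hs5).subgroupOf (Lsub F)).map (pslEquiv (F := F)).symm.toMonoidHom
  have hcard : Nat.card (Matrix.ProjectiveSpecialLinearGroup (Fin 2) F) = 360 := by
    have h := Lib.Classical.two_mul_card_PSL_two_of_odd (F := F) (by rw [hF]; decide)
    rw [hF] at h; omega
  have hH : Nat.card H = 60 := by
    rw [show H = _ from rfl, ← Nat.card_congr (Subgroup.equivMapOfInjective _ _ (Lib.PSLTwo.pslEquiv (F := F)).symm.injective).toEquiv,
      Nat.card_congr (Subgroup.subgroupOfEquivOfLe (Lib.PSLTwo.qA5_le_Lsub hxy h2 hs5)).toEquiv]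
    exact (Lib.PSLTwo.qA5_iso hxy h2 hs5).2
  have hidx : H.index = 6 := by
    have := H.card_mul_index
    rw [hH, hcard] at this; omega
  have : IsSimpleGroup (Matrix.ProjectiveSpecialLinearGroup (Fin 2) F) :=
    Matrix.ProjectiveSpecialLinearGroup.rank_two_simple (by rw [Nat.card_eq_fintype_card, hF]; norm_num)
  let e : Matrix.ProjectiveSpecialLinearGroup (Fin 2) F ⧸ H ≃ Fin 6 :=
    Finite.equivFinOfCardEq (by rw [← Subgroup.index_eq_card, hidx])
  let φ := e.permCongrHom.toMonoidHom.comp
    (MulAction.toPermHom (Matrix.ProjectiveSpecialLinearGroup (Fin 2) F) (Matrix.ProjectiveSpecialLinearGroup (Fin 2) F ⧸ H))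
  have hne : φ ≠ 1 := fun h => by
    obtain ⟨g, hg⟩ : ∃ g, g ∉ H := by
      by_contra! hall
      rw [(Subgroup.eq_top_iff' H).2 hall, Subgroup.index_top] at hidx
      omega
    refine hg ?_
    have h1 := DFunLike.congr_fun h g
    have h2 := congrArg (fun p : Equiv.Perm (Fin 6) => e.symm (p (e (1 : Matrix.ProjectiveSpecialLinearGroup (Fin 2) F)))) h1
    simpa [φ, QuotientGroup.eq, inv_mem_iff] using h2
  have hinj : Function.Injective φ := by
    rw [← MonoidHom.ker_eq_bot_iff]
    refine (IsSimpleGroup.eq_bot_or_eq_top_of_normal φ.ker inferInstance).resolve_right fun h => hne ?_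
    exact MonoidHom.ext fun g => MonoidHom.mem_ker.1 (h ▸ Subgroup.mem_top g)
  have hr : φ.range.index = 2 := by
    have := φ.range.card_mul_index
    rw [← Nat.card_congr (MonoidHom.ofInjective hinj).toEquiv, hcard, Nat.card_perm, Nat.card_fin] at this
    norm_num [Nat.factorial] at this; omega
  exact ⟨(MonoidHom.ofInjective hinj).trans
    (MulEquiv.subgroupCongr (Equiv.Perm.eq_alternatingGroup_of_index_eq_two hr))⟩

end Cfsg.Agent.S0254
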