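import Cfsg.Statements.S3805
import Cfsg.Agent.Lib.Involution.SquareMain

set_option autoImplicit false
open Cfsg

namespace Cfsg.Agent.S3805

open Cfsg.Agent.Lib.Involution Cfsg.Agent.Lib.Involution.SThreeSquare Subgroup

universe u

/-- Parity of a permutation of three points. -/
def par (s : Equiv.Perm (Fin 3)) : ℕ := if Equiv.Perm.sign s = 1 then 0 else 1

/-- The rotation part of a permutation of three points. -/
def rotIdx (s : Equiv.Perm (Fin 3)) : Fin 3 :=
  if Equiv.Perm.sign s = 1 then s 0 else s 0 - 1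

theorem rotIdx_mul : ∀ s t : Equiv.Perm (Fin 3),
    (rotIdx (s * t) = if Equiv.Perm.sign s = 1 then rotIdx s + rotIdx t else rotIdx s - rotIdx t) ∧
    par (s * t) = (par s + par t) % 2 := by decide

theorem par_eq_zero : ∀ s : Equiv.Perm (Fin 3), (par s = 0 ↔ Equiv.Perm.sign s = 1) ∧
    (par s = 0 → rotIdx s = 0 → s = 1) ∧ (par s = 0 ∨ par s = 1) := by decide

variable {G : Type u} [Group G]

theorem pow_sub_three {a : G} (ha : a ^ 3 = 1) (i j : Fin 3) :
    a ^ ((i - j : Fin 3) : ℕ) = a ^ (i : ℕ) * (a⁻¹) ^ (j : ℕ) := by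
  rw [inv_pow, eq_mul_inv_iff_mul_eq, ← pow_add, pow_eq_pow_mod _ ha]
  congr 1
  revert i j; decide

theorem pow_add_three {a : G} (ha : a ^ 3 = 1) (i j : Fin 3) :
    a ^ ((i + j : Fin 3) : ℕ) = a ^ (i : ℕ) * a ^ (j : ℕ) := by
  rw [← pow_add, pow_eq_pow_mod ((i : ℕ) + (j : ℕ)) ha, Fin.val_add]

/-- A homomorphism from `Sym 3`. -/
noncomputable def symThreeHom (a v : G) (ha : a ^ 3 = 1) (hv : v * v = 1) (hva : v * a * v⁻¹ = a⁻¹) :
    Equiv.Perm (Fin 3) →* G :=
  MonoidHom.mk' (fun s => a ^ (rotIdx s : ℕ) * v ^ par s) fun s t => by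
    have hconj : ∀ n : ℕ, v * a ^ n = a⁻¹ ^ n * v := fun n => by
      rw [← hva, conj_pow]; group
    obtain ⟨h1, h2⟩ := rotIdx_mul s t
    rcases (par_eq_zero s).2.2 with hs | hs
    · have hs' := (par_eq_zero s).1.mp hs
      rw [h1, if_pos hs', h2, hs, pow_add_three ha, zero_add, pow_zero, mul_one]
      rcases (par_eq_zero t).2.2 with ht | ht <;> rw [ht] <;> simp [mul_assoc]
    · have hs' : Equiv.Perm.sign s ≠ 1 := fun h => by
        have := (par_eq_zero s).1.mpr h; omega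
      rw [h1, if_neg hs', h2, hs, pow_sub_three ha, pow_one]
      rcases (par_eq_zero t).2.2 with ht | ht <;> rw [ht]
      · simp [mul_assoc, hconj]
      · simp only [show (1 + 1) % 2 = 0 from rfl, pow_zero, mul_one, pow_one]
        calc a ^ (rotIdx s : ℕ) * a⁻¹ ^ (rotIdx t : ℕ)
            = a ^ (rotIdx s : ℕ) * a⁻¹ ^ (rotIdx t : ℕ) * (v * v) := by rw [hv, mul_one]
          _ = a ^ (rotIdx s : ℕ) * (a⁻¹ ^ (rotIdx t : ℕ) * v) * v := by group
          _ = a ^ (rotIdx s : ℕ) * v * (a ^ (rotIdx t : ℕ) * v) := by rw [← hconj]; group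

/-- Let G be a finite group whose Sylow 3-subgroup T is elementary abelian of order 9 and self-centralizing, with N_G(T)/T a Klein four-group, and suppose that the centralizer of every nonidentity element of T lies in N_G(T). Then T is normal in G. -/
theorem result {G : Type*} [Group G] [Finite G]
    (T : Sylow 3 G) (hT : Cfsg.IsElementaryAbelian 3 (T : Subgroup G)) (hcard : Nat.card T = 9)
    (hC : Subgroup.centralizer ((T : Subgroup G) : Set G) = T)
    [hn : ((T : Subgroup G).subgroupOf (Subgroup.normalizer ((T : Subgroup G) : Set G))).Normal]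
    (hK : IsKleinFour (↥(Subgroup.normalizer ((T : Subgroup G) : Set G)) ⧸
      (T : Subgroup G).subgroupOf (Subgroup.normalizer ((T : Subgroup G) : Set G))))
    (hloc : ∀ t ∈ (T : Subgroup G), t ≠ 1 →
      Subgroup.centralizer ({t} : Set G) ≤ Subgroup.normalizer ((T : Subgroup G) : Set G)) :
    Subgroup.normalizer ((T : Subgroup G) : Set G) = ⊤ := by
  classical
  haveI : Fact (Nat.Prime 3) := ⟨Nat.prime_three⟩
  set N := Subgroup.normalizer ((T : Subgroup G) : Set G) with hNdef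
  have hTN : (T : Subgroup G) ≤ N := le_normalizer
  set Tn := (T : Subgroup G).subgroupOf N with hTn
  have hT3 : ∀ t ∈ (T : Subgroup G), t ^ 3 = 1 := hT.2
  have hTc : ∀ s ∈ (T : Subgroup G), ∀ t ∈ (T : Subgroup G), s * t = t * s := fun s hs t ht =>
    congrArg Subtype.val (hT.1.is_comm.comm ⟨s, hs⟩ ⟨t, ht⟩)
  have hidx : Tn.index = 4 := hK.card_four
  have hcardTn : Nat.card Tn = 9 := by
    rw [hTn, Nat.card_congr (subgroupOfEquivOfLe hTN).toEquiv, hcard]
  obtain ⟨V, hV⟩ := exists_right_complement'_of_coprime (N := Tn) (by rw [hidx, hcardTn]; decide)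
  have hV4 : Nat.card V = 4 := by rw [← hidx, hV.symm.index_eq_card]
  have hdisj : ∀ x : N, x ∈ V → (x : G) ∈ (T : Subgroup G) → x = 1 := fun x hx hxT => by
    have : x ∈ Tn ⊓ V := mem_inf.mpr ⟨mem_subgroupOf.mpr hxT, hx⟩
    rwa [hV.disjoint.eq_bot, mem_bot] at this
  have hVsq : ∀ x : N, x ∈ V → x * x = 1 := fun x hx => by
    refine hdisj _ (mul_mem hx hx) ?_
    have := (QuotientGroup.eq_one_iff (N := Tn) (x * x)).mp (by
      rw [QuotientGroup.mk_mul, ← pow_two]
      have := hK.exponent_two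
      exact this ▸ Monoid.pow_exponent_eq_one (x : N ⧸ Tn))
    exact mem_subgroupOf.mp this
  have hsq : ∀ x : N, x ∈ V → (x : G) * x = 1 := fun x hx => congrArg Subtype.val (hVsq x hx)
  have hVc : ∀ x y : N, x ∈ V → y ∈ V → x * y = y * x := fun x y hx hy => by
    have hxy := hVsq _ (mul_mem hx hy)
    calc x * y = x * (x * y * (x * y)) * y := by rw [hxy, mul_one]
      _ = (x * x) * (y * x) * (y * y) := by group
      _ = y * x := by rw [hVsq x hx, hVsq y hy, one_mul, mul_one]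
  have hnorm : ∀ x : N, ∀ t ∈ (T : Subgroup G), (x : G) * t * (x : G)⁻¹ ∈ (T : Subgroup G) :=
    fun x t ht => (mem_normalizer_iff.mp x.2 t).mp ht
  have hfaith : ∀ x : N, x ∈ V → (∀ t ∈ (T : Subgroup G), (x : G) * t * (x : G)⁻¹ = t) → x = 1 :=
    fun x hx h => hdisj x hx (by
      rw [← SetLike.mem_coe, ← hC, SetLike.mem_coe, mem_centralizer_iff]
      intro t ht
      exact (mul_inv_eq_iff_eq_mul.mp (h t ht)).symm)
  -- an involution of `V` with fixed points
  obtain ⟨v, hv, hv1, b, hb, hb1, hvb⟩ : ∃ v : N, v ∈ V ∧ v ≠ 1 ∧ ∃ b ∈ (T : Subgroup G), b ≠ 1 ∧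
      (v : G) * b * (v : G)⁻¹ = b := by
    by_contra hc
    push Not at hc
    have hinv : ∀ x : N, x ∈ V → x ≠ 1 → ∀ t ∈ (T : Subgroup G), (x : G) * t * (x : G)⁻¹ = t⁻¹ := by
      intro x hx hx1 t ht
      have hs := hnorm x t ht
      by_contra hne
      refine hc x hx hx1 (t * ((x : G) * t * (x : G)⁻¹)) (mul_mem ht hs)
        (fun h => hne (eq_inv_of_mul_eq_one_right h)) ?_
      have e : (x : G)⁻¹ = x := inv_eq_of_mul_eq_one_right (hsq x hx)
      calc (x : G) * (t * ((x : G) * t * (x : G)⁻¹)) * (x : G)⁻¹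
          = (x : G) * t * (x : G)⁻¹ * ((x : G) * x * t * ((x : G)⁻¹ * (x : G)⁻¹)) := by group
        _ = (x : G) * t * (x : G)⁻¹ * t := by
              rw [← mul_inv_rev, hsq x hx, inv_one, one_mul, mul_one]
        _ = t * ((x : G) * t * (x : G)⁻¹) := hTc _ hs _ ht
    haveI : Nontrivial V := Finite.one_lt_card_iff_nontrivial.mp (by rw [hV4]; norm_num)
    obtain ⟨⟨x, hx⟩, hx1⟩ := exists_ne (1 : V)
    obtain ⟨⟨y, hy⟩, hy1⟩ : ∃ y : V, y ∉ ({1, ⟨x, hx⟩} : Set V) := by
      refine not_forall.mp fun h => ?_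
      have h1 := Set.ncard_univ V
      rw [Set.eq_univ_of_forall h |>.symm, hV4] at h1
      have := Set.ncard_insert_le (1 : V) {⟨x, hx⟩}
      simp only [Set.ncard_singleton] at this
      omega
    simp only [Set.mem_insert_iff, Set.mem_singleton_iff, not_or] at hy1
    have hx1' : x ≠ 1 := fun h => hx1 (Subtype.ext h)
    have hy1' : y ≠ 1 := fun h => hy1.1 (Subtype.ext h)
    have hxy : x * y = 1 := hfaith _ (mul_mem hx hy) fun t ht => by
      have h1 := hinv y hy hy1' t ht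
      have h2 := hinv x hx hx1' t⁻¹ (inv_mem ht)
      rw [Subgroup.coe_mul, mul_inv_rev]
      calc (x : G) * y * t * ((y : G)⁻¹ * (x : G)⁻¹) = x * ((y : G) * t * (y : G)⁻¹) * (x : G)⁻¹ := by group
        _ = t := by rw [h1, h2, inv_inv]
    exact hy1.2 (Subtype.ext (by
      have := eq_inv_of_mul_eq_one_right hxy
      rw [inv_eq_of_mul_eq_one_right (hVsq x hx)] at this
      exact this))
  obtain ⟨a, ha, ha1, hva⟩ : ∃ a ∈ (T : Subgroup G), a ≠ 1 ∧ (v : G) * a * (v : G)⁻¹ = a⁻¹ := by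
    obtain ⟨t, ht, hne⟩ : ∃ t ∈ (T : Subgroup G), (v : G) * t * (v : G)⁻¹ ≠ t := by
      by_contra h
      push Not at h
      exact hv1 (hfaith v hv h)
    refine ⟨(v : G) * t * (v : G)⁻¹ * t⁻¹, mul_mem (hnorm v t ht) (inv_mem ht),
      fun h => hne (mul_inv_eq_one.mp h), ?_⟩
    have e : (v : G)⁻¹ = v := inv_eq_of_mul_eq_one_right (hsq v hv)
    calc (v : G) * ((v : G) * t * (v : G)⁻¹ * t⁻¹) * (v : G)⁻¹
        = (v : G) * v * t * ((v : G)⁻¹ * (v : G)⁻¹) * ((v : G) * t * (v : G)⁻¹)⁻¹ := by group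
      _ = t * ((v : G) * t * (v : G)⁻¹)⁻¹ := by rw [← mul_inv_rev, hsq v hv]; group
      _ = ((v : G) * t * (v : G)⁻¹ * t⁻¹)⁻¹ := by group
  have hba : b * a = a * b := hTc b hb a ha
  have hab_ind : ∀ i k : Fin 3, a ^ (i : ℕ) * b ^ (k : ℕ) = 1 → i = 0 ∧ k = 0 := by
    intro i k h
    have h2 : (a ^ (i : ℕ))⁻¹ * b ^ (k : ℕ) = 1 := by
      have h' := congrArg (fun g => (v : G) * g * (v : G)⁻¹) h
      simp only [mul_one, mul_inv_cancel] at h'
      rw [← inv_pow, ← hva]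
      calc ((v : G) * a * (v : G)⁻¹) ^ (i : ℕ) * b ^ (k : ℕ)
          = ((v : G) * a * (v : G)⁻¹) ^ (i : ℕ) * ((v : G) * b * (v : G)⁻¹) ^ (k : ℕ) := by rw [hvb]
        _ = 1 := by rw [conj_pow, conj_pow, ← h']; group
    have h3 : a ^ (i : ℕ) = (a ^ (i : ℕ))⁻¹ := mul_right_cancel (h.trans h2.symm)
    have key : ∀ (g : G) (i : Fin 3), g ≠ 1 → g ^ 3 = 1 → g ^ (i : ℕ) = 1 → i = 0 := by
      intro g i hg h3 hi
      by_contra hne
      have h1 := orderOf_dvd_of_pow_eq_one hi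
      rw [orderOf_eq_prime h3 hg] at h1
      have := Nat.le_of_dvd (Nat.pos_of_ne_zero fun h => hne (Fin.ext h)) h1
      omega
    have hi : i = 0 := by
      refine key a i ha1 (hT3 a ha) ?_
      have h4 : (a ^ (i : ℕ)) ^ 2 = 1 := by rw [pow_two]; exact eq_inv_iff_mul_eq_one.mp h3
      have h5 : (a ^ (i : ℕ)) ^ 3 = 1 := hT3 _ (pow_mem ha _)
      rwa [pow_succ, h4, one_mul] at h5
    subst hi
    exact ⟨rfl, key b k hb1 (hT3 b hb) (by simpa using h)⟩
  have hTab : ∀ t ∈ (T : Subgroup G), ∃ i k : Fin 3, a ^ (i : ℕ) * b ^ (k : ℕ) = t := by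
    intro t ht
    let F : Fin 3 × Fin 3 → (T : Subgroup G) := fun p =>
      ⟨a ^ (p.1 : ℕ) * b ^ (p.2 : ℕ), mul_mem (pow_mem ha _) (pow_mem hb _)⟩
    have hF : Function.Injective F := by
      intro p q h
      have h' := congrArg Subtype.val h
      simp only [F] at h'
      obtain ⟨e1, e2⟩ := hab_ind (p.1 - q.1) (p.2 - q.2) (by
        rw [pow_sub_three (hT3 a ha), pow_sub_three (hT3 b hb), inv_pow, inv_pow]
        calc a ^ (p.1 : ℕ) * (a ^ (q.1 : ℕ))⁻¹ * (b ^ (p.2 : ℕ) * (b ^ (q.2 : ℕ))⁻¹)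
            = (a ^ (p.1 : ℕ) * b ^ (p.2 : ℕ)) * ((a ^ (q.1 : ℕ))⁻¹ * (b ^ (q.2 : ℕ))⁻¹) := by
              rw [mul_assoc (a ^ _), ← mul_assoc (a ^ (q.1 : ℕ))⁻¹,
                (show Commute ((a ^ (q.1 : ℕ))⁻¹) (b ^ (p.2 : ℕ)) from
                  ((show Commute a b from hba.symm).pow_pow _ _).inv_left).eq]
              group
          _ = 1 := by
              rw [h', ← mul_inv_rev, ((show Commute b a from hba).pow_pow _ _).eq, mul_inv_cancel])
      exact Prod.ext (sub_eq_zero.mp e1) (sub_eq_zero.mp e2)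
    obtain ⟨p, hp⟩ := ((Nat.bijective_iff_injective_and_card F).mpr
      ⟨hF, by rw [Nat.card_prod, Nat.card_fin, hcard]⟩).2 ⟨t, ht⟩
    exact ⟨p.1, p.2, congrArg Subtype.val hp⟩
  -- the other involution
  obtain ⟨y, hy, hy1, hyv⟩ : ∃ y : N, y ∈ V ∧ y ≠ 1 ∧ y ≠ v := by
    obtain ⟨⟨y, hy⟩, hy1⟩ : ∃ y : V, y ∉ ({1, ⟨v, hv⟩} : Set V) := by
      refine not_forall.mp fun h => ?_
      have h1 := Set.ncard_univ V
      rw [Set.eq_univ_of_forall h |>.symm, hV4] at h1
      have := Set.ncard_insert_le (1 : V) {⟨v, hv⟩}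
      simp only [Set.ncard_singleton] at this
      omega
    simp only [Set.mem_insert_iff, Set.mem_singleton_iff, not_or] at hy1
    exact ⟨y, hy, fun h => hy1.1 (Subtype.ext h), fun h => hy1.2 (Subtype.ext h)⟩
  have haxis : (y : G) * a * (y : G)⁻¹ ∈ ({a, a⁻¹} : Set G) ∧
      (y : G) * b * (y : G)⁻¹ ∈ ({b, b⁻¹} : Set G) := by
    have hyvc : (v : G) * y = y * v := congrArg Subtype.val (hVc v y hv hy)
    have hcomm : ∀ t : G, (v : G) * ((y : G) * t * (y : G)⁻¹) * (v : G)⁻¹ =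
        (y : G) * ((v : G) * t * (v : G)⁻¹) * (y : G)⁻¹ := fun t => by
      calc (v : G) * ((y : G) * t * (y : G)⁻¹) * (v : G)⁻¹ = ((v : G) * y) * t * ((v : G) * y)⁻¹ := by group
        _ = _ := by rw [hyvc]; group
    have hsplit : ∀ i k : Fin 3, (v : G) * (a ^ (i : ℕ) * b ^ (k : ℕ)) * (v : G)⁻¹ =
        (a ^ (i : ℕ))⁻¹ * b ^ (k : ℕ) := fun i k => by
      calc (v : G) * (a ^ (i : ℕ) * b ^ (k : ℕ)) * (v : G)⁻¹
          = ((v : G) * a * (v : G)⁻¹) ^ (i : ℕ) * ((v : G) * b * (v : G)⁻¹) ^ (k : ℕ) := by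
            rw [conj_pow, conj_pow]; group
        _ = _ := by rw [hva, hvb, inv_pow]
    have hne : ∀ (g : G) (i : Fin 3), g ^ 3 = 1 → g ^ (i : ℕ) ≠ 1 → g ^ (i : ℕ) ∈ ({g, g⁻¹} : Set G) := by
      intro g i h3 hne
      fin_cases i
      · simp at hne
      · simp
      · right
        simp only [Set.mem_singleton_iff]
        exact eq_inv_of_mul_eq_one_left (by rw [← pow_succ]; exact h3)
    constructor
    · obtain ⟨i, k, hik⟩ := hTab _ (hnorm y a ha)
      have h := hcomm a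
      rw [← hik, hsplit, hva, ← conj_inv, ← hik, mul_inv_rev,
        ← (((show Commute a b from hba.symm).pow_pow _ _).inv_inv).eq] at h
      have h2 : (b ^ (k : ℕ)) ^ 2 = 1 := by
        rw [pow_two, ← inv_mul_cancel (b ^ (k : ℕ))]
        exact congrArg (· * b ^ (k : ℕ)) (mul_left_cancel h)
      have hk : b ^ (k : ℕ) = 1 := by
        have h5 := hT3 _ (pow_mem hb (k : ℕ))
        rwa [pow_succ, h2, one_mul] at h5
      rw [hk, mul_one] at hik
      rw [← hik]
      refine hne a i (hT3 a ha) fun h0 => ha1 ?_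
      rw [h0] at hik
      simpa using hik.symm
    · obtain ⟨i, k, hik⟩ := hTab _ (hnorm y b hb)
      have h := hcomm b
      rw [← hik, hsplit, hvb, ← hik] at h
      have h2 : (a ^ (i : ℕ)) ^ 2 = 1 := by
        rw [pow_two, ← inv_mul_cancel (a ^ (i : ℕ))]
        exact congrArg (· * a ^ (i : ℕ)) (mul_right_cancel h).symm
      have hi : a ^ (i : ℕ) = 1 := by
        have h5 := hT3 _ (pow_mem ha (i : ℕ))
        rwa [pow_succ, h2, one_mul] at h5
      rw [hi, one_mul] at hik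
      rw [← hik]
      refine hne b k (hT3 b hb) fun h0 => hb1 ?_
      rw [h0] at hik
      simpa using hik.symm
  have hfix_ab : ∀ x : N, x ∈ V → (x : G) * a * (x : G)⁻¹ = a → (x : G) * b * (x : G)⁻¹ = b → x = 1 := by
    intro x hx h1 h2
    refine hfaith x hx fun t ht => ?_
    obtain ⟨i, k, rfl⟩ := hTab t ht
    calc (x : G) * (a ^ (i : ℕ) * b ^ (k : ℕ)) * (x : G)⁻¹
        = ((x : G) * a * (x : G)⁻¹) ^ (i : ℕ) * ((x : G) * b * (x : G)⁻¹) ^ (k : ℕ) := by
          rw [conj_pow, conj_pow]; group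
      _ = _ := by rw [h1, h2]
  -- `w` fixes `a` and inverts `b`
  obtain ⟨w, hw, hwv, hwa, hwb⟩ : ∃ w : N, w ∈ V ∧ w ≠ v ∧ (w : G) * a * (w : G)⁻¹ = a ∧
      (w : G) * b * (w : G)⁻¹ = b⁻¹ := by
    simp only [Set.mem_insert_iff, Set.mem_singleton_iff] at haxis
    obtain ⟨h1, h2⟩ := haxis
    have hvy : ∀ t : G, ((v * y : N) : G) * t * ((v * y : N) : G)⁻¹ =
        (v : G) * ((y : G) * t * (y : G)⁻¹) * (v : G)⁻¹ := fun t => by
      rw [Subgroup.coe_mul]; group
    have hinva : (v : G) * a⁻¹ * (v : G)⁻¹ = a := by rw [← conj_inv, hva, inv_inv]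
    have hinvb : (v : G) * b⁻¹ * (v : G)⁻¹ = b⁻¹ := by rw [← conj_inv, hvb]
    rcases h1 with h1 | h1 <;> rcases h2 with h2 | h2
    · exact absurd (hfix_ab y hy h1 h2) hy1
    · exact ⟨y, hy, hyv, h1, h2⟩
    · exfalso
      have hm : v * y = 1 :=
        hfix_ab _ (mul_mem hv hy) (by rw [hvy, h1, hinva]) (by rw [hvy, h2, hvb])
      refine hyv ?_
      rw [← inv_eq_of_mul_eq_one_right hm]
      exact inv_eq_of_mul_eq_one_right (hVsq v hv)
    · exact ⟨v * y, mul_mem hv hy, fun h => hy1 (by simpa using h), by rw [hvy, h1, hinva],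
        by rw [hvy, h2, hinvb]⟩
  -- the isomorphism
  let g1 := symThreeHom a (v : G) (hT3 a ha) (hsq v hv) hva
  let g2 := symThreeHom b (w : G) (hT3 b hb) (hsq w hw) hwb
  have hcomm : ∀ s t, Commute (g1 s) (g2 t) := by
    intro s t
    have c1 : Commute a b := hba.symm
    have c2 : Commute a (w : G) := (mul_inv_eq_iff_eq_mul.mp hwa).symm
    have c3 : Commute (v : G) b := mul_inv_eq_iff_eq_mul.mp hvb
    have c4 : Commute (v : G) (w : G) := congrArg Subtype.val (hVc v w hv hw)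
    exact (((c1.pow_pow _ _).mul_right (c2.pow_pow _ _))).mul_left
      ((c3.pow_pow _ _).mul_right (c4.pow_pow _ _))
  let f : Sq →* G := MonoidHom.noncommCoprod g1 g2 hcomm
  have hform : ∀ x : Sq, f x = a ^ (rotIdx x.1 : ℕ) * b ^ (rotIdx x.2 : ℕ) *
      ((v : G) ^ par x.1 * (w : G) ^ par x.2) := by
    intro x
    show a ^ (rotIdx x.1 : ℕ) * (v : G) ^ par x.1 * (b ^ (rotIdx x.2 : ℕ) * (w : G) ^ par x.2) = _
    rw [mul_assoc, ← mul_assoc ((v : G) ^ par x.1),
      ((show Commute (v : G) b from mul_inv_eq_iff_eq_mul.mp hvb).pow_pow _ _).eq]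
    group
  have hmemT : ∀ x : Sq, f x ∈ (T : Subgroup G) →
      Equiv.Perm.sign x.1 = 1 ∧ Equiv.Perm.sign x.2 = 1 := by
    intro x hx
    rw [hform] at hx
    have h := (Subgroup.mul_mem_cancel_left _ (mul_mem (pow_mem ha _) (pow_mem hb _))).mp hx
    have h' := hdisj (v ^ par x.1 * w ^ par x.2) (mul_mem (pow_mem hv _) (pow_mem hw _)) (by simpa using h)
    rcases (par_eq_zero x.1).2.2 with e1 | e1 <;> rcases (par_eq_zero x.2).2.2 with e2 | e2 <;>
      rw [e1, e2] at h'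
    · exact ⟨(par_eq_zero x.1).1.mp e1, (par_eq_zero x.2).1.mp e2⟩
    · simp only [pow_zero, one_mul, pow_one] at h'
      exfalso
      rw [h', OneMemClass.coe_one, one_mul, inv_one, mul_one] at hwb
      have h2 : b ^ 2 = 1 := by rw [pow_two]; exact eq_inv_iff_mul_eq_one.mp hwb
      have h5 := hT3 b hb
      rw [pow_succ, h2, one_mul] at h5
      exact hb1 h5
    · simp only [pow_zero, mul_one, pow_one] at h'
      exact absurd h' hv1
    · simp only [pow_one] at h'
      exfalso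
      refine hwv ?_
      rw [← inv_eq_of_mul_eq_one_right h']
      exact inv_eq_of_mul_eq_one_right (hVsq v hv)
  have hinj : Function.Injective f := by
    rw [injective_iff_map_eq_one]
    intro x hx
    obtain ⟨e1, e2⟩ := hmemT x (hx ▸ one_mem _)
    have p1' := (par_eq_zero x.1).1.mpr e1
    have p2' := (par_eq_zero x.2).1.mpr e2
    rw [hform, p1', p2', pow_zero, pow_zero, mul_one, mul_one] at hx
    obtain ⟨i1, i2⟩ := hab_ind _ _ hx
    exact Prod.ext ((par_eq_zero x.1).2.1 p1' i1) ((par_eq_zero x.2).2.1 p2' i2)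
  have hT' : ∀ x : Sq, f x ∈ (T : Subgroup G) ↔ Equiv.Perm.sign x.1 = 1 ∧ Equiv.Perm.sign x.2 = 1 := by
    refine fun x => ⟨hmemT x, fun ⟨e1, e2⟩ => ?_⟩
    rw [hform, (par_eq_zero x.1).1.mpr e1, (par_eq_zero x.2).1.mpr e2, pow_zero, pow_zero, mul_one,
      mul_one]
    exact mul_mem (pow_mem ha _) (pow_mem hb _)
  have hle : f.range ≤ N := by
    rintro _ ⟨x, rfl⟩
    rw [hform]
    exact mul_mem (mul_mem (pow_mem (hTN ha) _) (pow_mem (hTN hb) _))
      (mul_mem (pow_mem v.2 _) (pow_mem w.2 _))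
  have hr : f.range = N := by
    refine eq_of_le_of_card_ge hle ?_
    rw [← Tn.card_mul_index, hcardTn, hidx, ← Nat.card_congr (MonoidHom.ofInjective hinj).toEquiv,
      Nat.card_eq_fintype_card]
    simp [Fintype.card_prod, Fintype.card_perm, Nat.factorial]
  have D : PLocalTI 3 f.range (T : Subgroup G) :=
    { le := hr ▸ hTN
      pgroup := T.isPGroup'
      comm := hT.1
      pmem := by
        rintro _ ⟨x, rfl⟩ ⟨k, hk⟩
        rw [hT']
        rw [← map_pow, ← map_one f] at hk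
        have h := hinj hk
        have key : ∀ s : ℤˣ, s ^ 3 ^ k = 1 → s = 1 := fun s hs => by
          rcases Int.units_eq_one_or s with rfl | rfl
          · rfl
          · rw [(Odd.pow (by decide : Odd 3)).neg_one_pow] at hs; exact absurd hs (by decide)
        exact ⟨key _ (by rw [← map_pow]; exact (congrArg (fun z : Sq => Equiv.Perm.sign z.1) h).trans (map_one _)),
          key _ (by rw [← map_pow]; exact (congrArg (fun z : Sq => Equiv.Perm.sign z.2) h).trans (map_one _))⟩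
      cent := fun t ht ht1 => hr ▸ hloc t ht ht1
      norm := hr.symm }
  rw [← hr]
  exact range_eq_top f hinj D hT'

end Cfsg.Agent.S3805
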