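import Cfsg.Statements.S1479
import Cfsg.Agent.Lib.CNGroup.MinSimple

set_option autoImplicit false
open Cfsg

namespace Cfsg.Agent.S1479

/-- Let G be a minimal simple group of odd order in which every non-identity element has nilpotent centralizer, and H a nilpotent subgroup contained in no larger nilpotent subgroup. Then the order of H is coprime to its index, H ∩ gHg⁻¹ = 1 whenever gHg⁻¹ ≠ H, N_G(H) is a maximal subgroup, and N_G(H) has a complement E to H acting on H without non-identity fixed points. Conversely, every maximal subgroup M of G has a normal nilpotent subgroup H, maximal among nilpotent subgroups of G, with a complement in M acting on H without non-identity fixed points. -/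
theorem result {G : Type*} [Group G] [Finite G] (hG : Cfsg.IsMinSimpleOddOrder G) (hCN : Cfsg.IsCNGroup G)  :
    (∀ H : Subgroup G, Group.IsNilpotent H → (∀ L : Subgroup G, Group.IsNilpotent L → H ≤ L → L = H) →
        (Nat.card H).Coprime H.index ∧ (∀ g : G, H.map (MulAut.conj g).toMonoidHom ≠ H → H ⊓ H.map (MulAut.conj g).toMonoidHom = ⊥) ∧
        IsCoatom (Subgroup.normalizer (H : Set G)) ∧
        ∃ E : Subgroup G, Cfsg.IsComplIn H E (Subgroup.normalizer (H : Set G)) ∧ E ≠ ⊥ ∧
          ∀ e ∈ E, e ≠ 1 → H ⊓ Subgroup.centralizer ({e} : Set G) = ⊥) ∧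
      ∀ M : Subgroup G, IsCoatom M → ∃ H E : Subgroup G, Group.IsNilpotent H ∧ (∀ L : Subgroup G, Group.IsNilpotent L → H ≤ L → L = H) ∧
        M ≤ Subgroup.normalizer (H : Set G) ∧ Cfsg.IsComplIn H E M ∧ H ≠ ⊥ ∧ E ≠ ⊥ ∧
        ∀ e ∈ E, e ≠ 1 → H ⊓ Subgroup.centralizer ({e} : Set G) = ⊥ := by
  refine ⟨fun H hn hmax => ?_, fun M hM => ?_⟩
  · have hH : Lib.CNGroup.IsMaxNil H := ⟨hn, hmax⟩
    obtain ⟨hco, hker, hc⟩ := Lib.CNGroup.maxNil_structure hG hCN hH
    obtain ⟨E, hE, hE1, -, -, hfpf, -⟩ := hker.exists_complement (Lib.CNGroup.cn_subgroup hCN _)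
    refine ⟨Lib.CNGroup.coprime_index hCN hH, fun g hg => Lib.CNGroup.ti_of_centralizer_le hCN hH hc g hg,
      hco, E.map (Subgroup.normalizer (H : Set G)).subtype,
      Lib.CNGroup.isComplIn_map Subgroup.le_normalizer hE, ?_, ?_⟩
    · rwa [Ne, Subgroup.map_eq_bot_iff_of_injective _ (Subgroup.subtype_injective _)]
    · exact Lib.CNGroup.fpf_map Subgroup.le_normalizer hfpf
  · obtain ⟨K, hK⟩ := Lib.CNGroup.coatom_kernel hG hCN hM
    obtain ⟨hmax, hN⟩ := Lib.CNGroup.isMaxNil_kernel hG hM hK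
    obtain ⟨E, hE, hE1, -, -, hfpf, -⟩ := hK.exists_complement (Lib.CNGroup.cn_subgroup hCN M)
    have hsub : (K.map M.subtype).subgroupOf M = K :=
      Subgroup.comap_map_eq_self_of_injective M.subtype_injective K
    refine ⟨K.map M.subtype, E.map M.subtype, hmax.1, hmax.2, hN.ge,
      Lib.CNGroup.isComplIn_map (Subgroup.map_subtype_le K) (hsub.symm ▸ hE), ?_, ?_, ?_⟩
    · rw [Ne, Subgroup.map_eq_bot_iff_of_injective _ M.subtype_injective]; exact hK.ne_bot
    · rwa [Ne, Subgroup.map_eq_bot_iff_of_injective _ M.subtype_injective]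
    · exact Lib.CNGroup.fpf_map (Subgroup.map_subtype_le K) (hsub.symm ▸ hfpf)

end Cfsg.Agent.S1479
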