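import Cfsg.Statements.S0183
import Cfsg.Agent.S1473
import Cfsg.Agent.S1479
import Cfsg.Agent.Lib.OddPartition.CNGlue

set_option autoImplicit false
open Cfsg

namespace Cfsg.Agent.S0183

open Cfsg.Agent.Lib.OddPartition

theorem result {G : Type*} [Group G] [Finite G] (hodd : Odd (Nat.card G)) (hCN : Cfsg.IsCNGroup G) : Group.IsSolvable G := by
  refine cn_solvable (fun X _ _ h H _ hH => S1473.result h H hH) ?_ _ G rfl hodd hCN
  intro X _ _ hmin hX H hH
  obtain ⟨h1, h2, -, E, ⟨-, hE, hinf, -⟩, hE1, -⟩ := (S1479.result hmin hX).1 H hH.1 hH.2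
  refine ⟨h1, h2, lt_of_le_of_ne Subgroup.le_normalizer fun h => hE1 ?_⟩
  rw [← h] at hE
  rwa [inf_eq_right.mpr hE] at hinf

end Cfsg.Agent.S0183
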