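import Cfsg.Statements.S0824
import Cfsg.Agent.Lib.Classical.SmallPerm
import Cfsg.Agent.Lib.Classical.QuadStd

open QuadraticMap Cfsg.Agent.Lib.Classical.Quad Cfsg.Agent.Lib.Classical.QuadOmega Cfsg.Agent.Lib.Classical.SmallPerm

set_option autoImplicit false
open Cfsg

namespace Cfsg.Agent.S0824

abbrev Z := ZMod 2

/-- Basis vectors. -/
def embRows : (Fin 1 ⊕ Fin 1) ⊕ Fin 2 → Fin 5 → Z := Sum.elim
  (Sum.elim ![![0, 1, 1, 1, 1]] ![![1, 0, 1, 1, 1]]) ![![0, 0, 0, 1, 1], ![0, 0, 1, 0, 1]]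

/-- Dual vectors. -/
def decRows : (Fin 1 ⊕ Fin 1) ⊕ Fin 2 → Fin 5 → Z := Sum.elim
  (Sum.elim ![![1, 0, 1, 1, 1]] ![![0, 1, 1, 1, 1]]) ![![0, 0, 1, 0, 1], ![0, 0, 0, 1, 1]]

def embL : ((Fin 1 ⊕ Fin 1) ⊕ Fin 2 → Z) →ₗ[Z] (Fin 5 → Z) :=
  Matrix.mulVecLin (Matrix.of fun i j => embRows j i)

def decL : (Fin 5 → Z) →ₗ[Z] ((Fin 1 ⊕ Fin 1) ⊕ Fin 2 → Z) := Matrix.mulVecLin (Matrix.of decRows)

lemma dec_emb : ∀ v, decL (embL v) = v := by decide +kernel

lemma sum_emb : ∀ v, ∑ i, embL v i = 0 := by decide +kernel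

lemma emb_dec : ∀ w : Fin 5 → Z, ∑ i, w i = 0 → embL (decL w) = w := by decide +kernel

lemma val_dec : ∀ w : Fin 5 → Z, ∑ i, w i = 0 →
    Cfsg.quadFormMinus 1 Z 1 1 (decL w) =
      (((Finset.univ.filter fun i => w i = 1).card / 2 : ℕ) : Z) := by
  decide +kernel

/-- The deleted permutation module of `S₅`. -/
noncomputable def piece : Piece Z 5 ((Fin 1 ⊕ Fin 1) ⊕ Fin 2) (Cfsg.quadFormMinus 1 Z 1 1) where
  emb := embL
  D := decL
  s := 1
  hs σ v := by simp
  left := dec_emb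
  sum := sum_emb
  compat w hw σ := by rw [emb_dec w hw]
  val w hw σ := by
    rw [val_dec _ ((Equiv.sum_comp σ w).trans hw), val_dec w hw]
    congr 2
    exact Finset.card_equiv σ (by simp)

lemma pairs : ∀ a b c d : Fin 5, a ≠ b → c ≠ d →
    decL (Pi.single a 1 + Pi.single b 1) = decL (Pi.single c 1 + Pi.single d 1) → c = a ∨ c = b := by
  decide +kernel

/-- O⁻_4(2) ≅ S_5: the isometry group of the form x y + z_1² + z_1 z_2 + z_2² over the field with 2 elements is isomorphic to the symmetric group on 5 letters. -/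
theorem result {F : Type*} [Field F] [Fintype F] (hF : Fintype.card F = 2) : Nonempty (↥(Cfsg.isometryGroup F (Cfsg.quadFormMinus 1 F 1 1)) ≃* Equiv.Perm (Fin 5)) := by
  have hker : ∀ σ, (∀ v, piece.R σ v = v) → σ = 1 := fun σ hσ => by
    refine eq_one_of_pairs (by norm_num) fun a b hab => ?_
    set w : Fin 5 → Z := Pi.single a 1 + Pi.single b 1 with hw
    have hsum : ∑ i, w i = 0 := by simp [hw, Finset.sum_add_distrib]; decide
    have h := hσ (decL w)
    rw [Piece.R_apply, show piece.s σ = 1 from rfl, Units.val_one, one_smul,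
      show (fun i => piece.emb (decL w) (σ⁻¹ i)) = fun i => piece.emb (piece.D w) (σ⁻¹ i) from rfl,
      piece.compat w hsum σ⁻¹] at h
    refine pairs a b (σ a) (σ b) hab (σ.injective.ne hab) (h.symm.trans (congrArg decL ?_))
    funext i
    simp [hw, Pi.single_apply, Equiv.eq_symm_apply, eq_comm]
  have e2 : Fintype.card Z = Fintype.card F := by rw [hF, ZMod.card]
  let f : Z →+* F := (FiniteField.ringEquivOfCardEq e2 : Z →+* F)
  let RK : QuadraticForm F ((Fin 1 ⊕ Fin 1) ⊕ Fin 2 → F) :=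
    (splitQ 1 (binQ (1 : F) 1)).comp (eMinus 1).symm.toLinearMap
  have e : (⇑RK) = Cfsg.quadFormMinus 1 F 1 1 := funext fun v => by
    obtain ⟨p, rfl⟩ := (eMinus 1).surjective v
    simp [RK, minus_apply]
  have hK : ∀ v : (Fin 1 ⊕ Fin 1) ⊕ Fin 2 → Z,
      RK (fun i => f (v i)) = f (Cfsg.quadFormMinus 1 Z 1 1 v) := fun v => by
    rw [e]; simp only [Cfsg.quadFormMinus, map_add, map_sum, map_mul, map_pow, map_one]
  let ψ := ((MulEquiv.subgroupCongr (congrArg (Cfsg.isometryGroup F) e)).toMonoidHom.comp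
    (extendHom f _ RK hK)).comp piece.hom
  have hinj : Function.Injective ψ := fun x y h => piece.hom_injective hker
    (extendHom_injective f _ _ hK ((MulEquiv.subgroupCongr (congrArg (Cfsg.isometryGroup F) e)).injective h))
  have hab : Aniso (1 : F) 1 := fun z₁ z₂ hz => by
    obtain ⟨x, rfl⟩ := (FiniteField.ringEquivOfCardEq e2).surjective z₁
    obtain ⟨y, rfl⟩ := (FiniteField.ringEquivOfCardEq e2).surjective z₂
    rw [← map_one (FiniteField.ringEquivOfCardEq e2), ← map_pow, ← map_pow, ← map_mul, ← map_mul,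
      ← map_mul, ← map_add, ← map_add, map_eq_zero_iff _ (RingEquiv.injective _)] at hz
    revert hz
    simp only [map_eq_zero_iff _ (RingEquiv.injective _)]
    revert x y
    decide
  refine ⟨(MulEquiv.ofBijective ψ ((Nat.bijective_iff_injective_and_card ψ).2 ⟨hinj, ?_⟩)).symm⟩
  rw [card_O_minus hab, hF, Nat.card_perm, Nat.card_fin]
  decide

end Cfsg.Agent.S0824
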