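import Cfsg.Statements.S0740
import Mathlib.GroupTheory.Perm.Cycle.Type
import Mathlib.GroupTheory.GroupAction.MultipleTransitivity

set_option autoImplicit false
open Cfsg

namespace Cfsg.Agent.S0740

open MulAction

/-- In a finite Zassenhaus group any two points `a ≠ b` are swapped by an involution; every such involution has exactly one fixed point when the degree is odd and 0 or 2 fixed points when the degree is even; and if the two-point stabiliser has even order, some such involution has exactly 2 fixed points. -/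
theorem result {G Ω : Type*} [Group G] [Finite G] [MulAction G Ω] [Fintype Ω] (hZ : Cfsg.IsZassenhausGroup G Ω) {a b : Ω} (hab : a ≠ b) : (∃ s : G, orderOf s = 2 ∧ s • a = b ∧ s • b = a) ∧ (∀ s : G, orderOf s = 2 → s • a = b → s • b = a → (Odd (Fintype.card Ω) → Nat.card (MulAction.fixedBy Ω s) = 1) ∧ (Even (Fintype.card Ω) → Nat.card (MulAction.fixedBy Ω s) = 0 ∨ Nat.card (MulAction.fixedBy Ω s) = 2)) ∧ (Even (Fintype.card Ω) → Even (Nat.card ↥(MulAction.stabilizer G a ⊓ MulAction.stabilizer G b)) → ∃ s : G, orderOf s = 2 ∧ s • a = b ∧ s • b = a ∧ Nat.card (MulAction.fixedBy Ω s) = 2) := by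
  classical
  obtain ⟨hf, h2, h3, -, -⟩ := hZ
  have hpair : ∀ x y : Ω, x ≠ y → ∀ t : G, orderOf t = 2 → t • x = y →
      ∃ g : G, orderOf (g * t * g⁻¹) = 2 ∧ (g * t * g⁻¹) • a = b ∧ (g * t * g⁻¹) • b = a ∧
        Nat.card (fixedBy Ω (g * t * g⁻¹)) = Nat.card (fixedBy Ω t) := by
    intro x y hxy t ht htx
    obtain ⟨g, hgx, hgy⟩ := (is_two_pretransitive_iff.mp h2) hxy hab
    have hty : t • y = x := by
      rw [← htx, ← mul_smul, ← sq, show t ^ 2 = 1 by rw [← ht]; exact pow_orderOf_eq_one t, one_smul]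
    refine ⟨g, ?_, ?_, ?_, ?_⟩
    · rw [← ht]
      exact orderOf_injective (MulAut.conj g).toMonoidHom (MulAut.conj g).injective t
    · rw [mul_smul, mul_smul, inv_smul_eq_iff.mpr hgx.symm, htx, hgy]
    · rw [mul_smul, mul_smul, inv_smul_eq_iff.mpr hgy.symm, hty, hgx]
    · refine Nat.card_congr
        { toFun := fun z => ⟨g⁻¹ • z.1, ?_⟩
          invFun := fun z => ⟨g • z.1, ?_⟩
          left_inv := fun z => Subtype.ext (smul_inv_smul g _)
          right_inv := fun z => Subtype.ext (inv_smul_smul g _) }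
      · have := z.2
        rw [mem_fixedBy, mul_smul, mul_smul] at this
        rw [mem_fixedBy, eq_inv_smul_iff, this]
      · rw [mem_fixedBy, mul_smul, mul_smul, inv_smul_smul, z.2]
  have hmove : ∀ t : G, orderOf t = 2 → ∃ x : Ω, t • x ≠ x := by
    intro t ht
    by_contra hc
    push Not at hc
    have : t = 1 := eq_of_smul_eq_smul (α := Ω) fun x => by rw [hc x, one_smul]
    rw [this, orderOf_one] at ht
    omega
  have hle : ∀ t : G, orderOf t = 2 → Nat.card (fixedBy Ω t) ≤ 2 := by
    intro t ht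
    rw [Nat.card_eq_fintype_card]
    by_contra hc
    obtain ⟨x, y, z, hxy, hxz, hyz⟩ := Fintype.two_lt_card_iff.mp (not_le.mp hc)
    have := h3 t x.1 y.1 z.1 (fun e => hxy (Subtype.ext e)) (fun e => hyz (Subtype.ext e))
      (fun e => hxz (Subtype.ext e)) x.2 y.2 z.2
    rw [this, orderOf_one] at ht
    omega
  have hpar : ∀ t : G, orderOf t = 2 → Nat.card (fixedBy Ω t) % 2 = Fintype.card Ω % 2 := by
    intro t ht
    have hsq : (MulAction.toPermHom G Ω t) ^ 2 ^ 1 = 1 := by
      rw [← map_pow, pow_one, show t ^ 2 = 1 by rw [← ht]; exact pow_orderOf_eq_one t, map_one]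
    have := Fact.mk Nat.prime_two
    have h := Equiv.Perm.card_compl_support_modEq hsq
    rw [← h]
    congr 1
    rw [Nat.card_eq_fintype_card, ← Fintype.card_coe]
    refine Fintype.card_congr (Equiv.subtypeEquivRight fun x => ?_)
    rw [Finset.mem_compl, Equiv.Perm.notMem_support]
    rfl
  refine ⟨?_, fun s hs hsa hsb => ⟨fun ho => ?_, fun he => ?_⟩, fun he hd => ?_⟩
  · obtain ⟨t₀, ht₀a, ht₀b⟩ := (is_two_pretransitive_iff.mp h2) hab hab.symm
    have hdvd : 2 ∣ Nat.card G := by
      rcases Nat.even_or_odd (orderOf t₀) with he | ⟨j, hj⟩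
      · exact (even_iff_two_dvd.mp he).trans (orderOf_dvd_natCard t₀)
      · exfalso
        apply hab
        have hsq : ∀ i : ℕ, t₀ ^ (2 * i) • a = a := by
          intro i
          induction i with
          | zero => simp
          | succ i ih => rw [Nat.mul_succ, pow_add, mul_smul, sq, mul_smul, ht₀a, ht₀b, ih]
        have h1 := pow_orderOf_eq_one t₀
        rw [hj, pow_succ', mul_eq_one_iff_eq_inv] at h1
        have h2 := hsq j
        rw [h1, inv_smul_eq_iff] at ht₀a
        exact MulAction.injective (t₀ ^ (2 * j)) (h2.trans ht₀a)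
    obtain ⟨t, ht⟩ := exists_prime_orderOf_dvd_card' 2 hdvd
    obtain ⟨x, hx⟩ := hmove t ht
    obtain ⟨g, h1, h2', h3', -⟩ := hpair x (t • x) hx.symm t ht rfl
    exact ⟨_, h1, h2', h3'⟩
  · have := hle s hs; have := hpar s hs; have := Nat.odd_iff.mp ho; omega
  · have := hle s hs; have := hpar s hs; have := Nat.even_iff.mp he; omega
  · obtain ⟨u, hu⟩ := exists_prime_orderOf_dvd_card' (G := ↥(stabilizer G a ⊓ stabilizer G b)) 2
      hd.two_dvd
    have hu' : orderOf (u : G) = 2 := by rw [Subgroup.orderOf_coe, hu]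
    have hfix : Nat.card (fixedBy Ω (u : G)) = 2 := by
      have := hle _ hu'
      have : 2 ≤ Nat.card (fixedBy Ω (u : G)) := by
        rw [Nat.card_eq_fintype_card]
        exact Fintype.one_lt_card_iff.mpr ⟨⟨a, u.2.1⟩, ⟨b, u.2.2⟩, fun e => hab (congrArg Subtype.val e)⟩
      omega
    obtain ⟨x, hx⟩ := hmove _ hu'
    obtain ⟨g, h1, h2', h3', h4⟩ := hpair x ((u : G) • x) hx.symm _ hu' rfl
    exact ⟨_, h1, h2', h3', h4.trans hfix⟩

end Cfsg.Agent.S0740
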