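import Cfsg.Statements.S0345
import Cfsg.Agent.Lib.Zass.Simple
import Cfsg.Agent.S0740

set_option autoImplicit false
open Cfsg

namespace Cfsg.Agent.S0345

open MulAction Cfsg.Agent.Lib.Zass Cfsg.Agent.Lib.ZassFrob in
/-- The even case. -/
theorem even_case {G Ω : Type*} [Group G] [Finite G] [MulAction G Ω] [Fintype Ω]
    (hZ : Cfsg.IsZassenhausGroup G Ω) [IsSimpleGroup G] {a b : Ω} (hab : a ≠ b)
    (heven : Even (Nat.card ↥(stabilizer G a ⊓ stabilizer G b))) :
    IsCyclic ↥(stabilizer G a ⊓ stabilizer G b) ∧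
      ∃ v : G, orderOf v = 2 ∧ v • a = b ∧ v • b = a ∧
        ∀ h ∈ stabilizer G a ⊓ stabilizer G b, v * h * v⁻¹ = h⁻¹ := by
  classical
  haveI := hZ.1
  haveI : IsPretransitive G Ω := by
    haveI := hZ.2.1
    exact isPretransitive_of_is_two_pretransitive
  obtain ⟨U, hK, hUc, h2⟩ := even_simple_half hZ hab heven
  have hcard := hK.card_eq
  have hF : Fintype.card Ω = Nat.card Ω := Nat.card_eq_fintype_card.symm
  obtain ⟨s, hsa, hsb⟩ := exists_map_pair hZ hab hab.symm
  have hs2 := swap_involution hZ hab heven (by omega) hsa hsb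
  have hinv := swap_inverts_even hZ hab heven (by omega) hsa hsb
  haveI : Fact (Nat.Prime 2) := ⟨Nat.prime_two⟩
  refine ⟨?_, s, orderOf_eq_prime (by rw [pow_two, hs2]) (fun e => hab (by rw [← hsa, e, one_smul])),
    hsa, hsb, hinv⟩
  obtain ⟨-, p, f, hp, hf, hpf⟩ := prime_pow_kernel hZ hK h2.le
  obtain ⟨K, _, _, e, -, -, -, -, -, -, hact, -, -⟩ := coords_of_inverted hp hf hab
    (fun g hga hgb x hxa hxb hgx => eq_one_of_fix3 hZ hab (Ne.symm hxb) (Ne.symm hxa) hga hgb hgx)
    U hK.le hK.conj hUc hpf hK.reg (by omega) s hsa hsb hs2 hinv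
  choose c hc0 hc using hact
  have hone : ∀ (g : G) (hg : g ∈ stabilizer G a ⊓ stabilizer G b) (x : K),
      g • e (some x) = e (some (c g hg * c g hg * x)) := fun g hg x => by
    rw [hc g hg (some x)]; simp [affine]
  let μ : ↥(stabilizer G a ⊓ stabilizer G b) →* K :=
    { toFun := fun h => c h h.2 * c h h.2
      map_one' := by
        have h1 := hone 1 (one_mem _) 1
        rw [one_smul, mul_one] at h1
        exact (Option.some.inj (e.injective h1)).symm
      map_mul' := fun g h => by
        have h1 := hone _ (g * h).2 1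
        have h0 : ((g * h : ↥(stabilizer G a ⊓ stabilizer G b)) : G) • e (some (1 : K)) =
            (g : G) • (h : G) • e (some (1 : K)) := mul_smul _ _ _
        rw [h0, hone _ h.2, hone _ g.2, mul_one, mul_one] at h1
        exact (Option.some.inj (e.injective h1)).symm }
  refine isCyclic_of_subgroup_isDomain μ ((injective_iff_map_eq_one μ).mpr fun g hg => ?_)
  refine Subtype.ext (eq_of_smul_eq_smul (α := Ω) fun y => ?_)
  obtain ⟨x, rfl⟩ := e.surjective y
  rw [hc g g.2 x, Subgroup.coe_one, one_smul]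
  have hg' : c g g.2 * c g g.2 = 1 := hg
  cases x <;> simp [affine, hg']

open MulAction Cfsg.Agent.Lib.Zass Cfsg.Agent.Lib.ZassFrob in
/-- The odd case. -/
theorem odd_case {G Ω : Type*} [Group G] [Finite G] [MulAction G Ω] [Fintype Ω]
    (hZ : Cfsg.IsZassenhausGroup G Ω) [IsSimpleGroup G] {a b : Ω} (hab : a ≠ b)
    (hodd : Odd (Nat.card ↥(stabilizer G a ⊓ stabilizer G b))) :
    IsCyclic ↥(stabilizer G a ⊓ stabilizer G b) ∧
      ∃ v : G, orderOf v = 2 ∧ v • a = b ∧ v • b = a ∧
        ∀ h ∈ stabilizer G a ⊓ stabilizer G b, v * h * v⁻¹ = h⁻¹ := by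
  classical
  have hnil : ∀ q : ℕ, q.Prime → q ∣ Nat.card ↥(stabilizer G a ⊓ stabilizer G b) →
      ¬ ∃ N : Subgroup G, N.Normal ∧ N.index = q ^ (Nat.card G).factorization q := by
    rintro q hq hqd ⟨N, hN, hidx⟩
    haveI := Fact.mk hq
    have hv1 : 1 ≤ (Nat.card G).factorization q :=
      hq.factorization_pos_of_dvd Nat.card_pos.ne' (hqd.trans (Subgroup.card_subgroup_dvd_card _))
    rcases hN.eq_bot_or_eq_top with rfl | rfl
    · rw [Subgroup.index_bot] at hidx
      have hp : IsPGroup q G := IsPGroup.of_card hidx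
      haveI : Nontrivial G := IsSimpleGroup.toNontrivial
      haveI := hp.center_nontrivial
      have htop : Subgroup.center G = ⊤ := by
        refine ((inferInstance : (Subgroup.center G).Normal).eq_bot_or_eq_top).resolve_left fun e => ?_
        exact absurd (Subgroup.card_eq_one.mpr e)
          (Finite.one_lt_card (α := Subgroup.center G)).ne'
      letI : CommGroup G :=
        { (inferInstance : Group G) with
          mul_comm := fun x y => Subgroup.mem_center_iff.mp (htop ▸ Subgroup.mem_top y) x }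
      have hprime := IsSimpleGroup.prime_card (α := G)
      have h2 := two_lt_card hZ hab
      rw [card_group hZ hab, mul_assoc] at hprime
      rcases Nat.prime_mul_iff.mp hprime with ⟨-, h⟩ | ⟨-, h⟩
      · have := Nat.eq_one_of_mul_eq_one_right h
        omega
      · omega
    · rw [Subgroup.index_top] at hidx
      exact absurd hidx.symm (Nat.one_lt_pow (by omega) hq.one_lt).ne'
  obtain ⟨hcyc, -, hinv⟩ := S0739.result hZ hab hodd hnil
  obtain ⟨s, hs, hsa, hsb⟩ := (S0740.result hZ hab).1
  exact ⟨hcyc, s, hs, hsa, hsb, hinv s hsa hsb⟩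


/-- In a finite simple Zassenhaus group the stabiliser `H` of two points `a ≠ b` is cyclic, and some involution
interchanging `a` and `b` inverts every element of `H`. -/
theorem result {G Ω : Type*} [Group G] [Finite G] [MulAction G Ω] [Finite Ω]
    (hZ : Cfsg.IsZassenhausGroup G Ω) [IsSimpleGroup G]
    {a b : Ω} (hab : a ≠ b) :
    IsCyclic ↥(MulAction.stabilizer G a ⊓ MulAction.stabilizer G b) ∧
      ∃ v : G, orderOf v = 2 ∧ v • a = b ∧ v • b = a ∧ ∀ h ∈ MulAction.stabilizer G a ⊓ MulAction.stabilizer G b, v * h * v⁻¹ = h⁻¹ := by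
  haveI := Fintype.ofFinite Ω
  rcases Nat.even_or_odd (Nat.card ↥(MulAction.stabilizer G a ⊓ MulAction.stabilizer G b)) with he | ho
  · exact even_case hZ hab he
  · exact odd_case hZ hab ho

end Cfsg.Agent.S0345
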