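import Cfsg.Statements.S0881
import Cfsg.Agent.S0345
import Cfsg.Agent.Lib.Char.Induced
import Cfsg.Agent.Lib.Char.Linear

set_option autoImplicit false
open Cfsg

namespace Cfsg.Agent.S0881

open MulAction in
/-- `a` is moved by `x`, so `A ⊓ x A x⁻¹` carries a nontrivial character `g ↦ l(x⁻¹gx) / l g`. -/
theorem twisted_sum_zero {G Ω : Type*} [Group G] [Fintype G] [MulAction G Ω]
    (hZ : Cfsg.IsZassenhausGroup G Ω) {a b : Ω} (hab : a ≠ b)
    (l : stabilizer G a →* ℂˣ) (s : G) (hsa : s • a = b) (hsb : s • b = a)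
    (hinv : ∀ h ∈ stabilizer G a ⊓ stabilizer G b, s * h * s⁻¹ = h⁻¹)
    (hodd : Odd (Nat.card ↥(stabilizer G a ⊓ stabilizer G b)))
    (hne : ∃ (h : G) (hh : h ∈ stabilizer G a ⊓ stabilizer G b), l ⟨h, hh.1⟩ ≠ 1)
    (x : G) (hx : x • a ≠ a) [Fintype ↥(stabilizer G a ⊓ stabilizer G (x • a))]
    (ψ : ↥(stabilizer G a ⊓ stabilizer G (x • a)) →* ℂ)
    (hψ : ∀ g : ↥(stabilizer G a ⊓ stabilizer G (x • a)),
      ∀ hm : x⁻¹ * (g : G) * x ∈ stabilizer G a,
      ψ g = (l ⟨x⁻¹ * (g : G) * x, hm⟩ : ℂ) * ((l ⟨(g : G), g.2.1⟩)⁻¹ : ℂˣ)) :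
    ∑ g, ψ g = 0 := by
  refine sum_hom_units_eq_zero ψ fun htriv => ?_
  obtain ⟨h, hh, hl⟩ := hne
  apply hl
  obtain ⟨k, hka, hkb⟩ := Lib.ZassFrob.exists_map_pair hZ hab (Ne.symm hx)
  have hT : ∀ e ∈ stabilizer G a ⊓ stabilizer G b,
      k * e * k⁻¹ ∈ stabilizer G a ⊓ stabilizer G (x • a) := fun e he =>
    ⟨show (k * e * k⁻¹) • a = a by
      rw [mul_smul, mul_smul, inv_smul_eq_iff.mpr hka.symm, show e • a = a from he.1, hka],
     show (k * e * k⁻¹) • (x • a) = x • a by
      rw [mul_smul, mul_smul, inv_smul_eq_iff.mpr hkb.symm, show e • b = b from he.2, hkb]⟩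
  have hw : (k⁻¹ * x) • a = b := by rw [mul_smul, inv_smul_eq_iff, hkb]
  have hv : s⁻¹ * (k⁻¹ * x) ∈ stabilizer G a := by
    show (s⁻¹ * (k⁻¹ * x)) • a = a
    rw [mul_smul, hw, inv_smul_eq_iff, hsa]
  set v : stabilizer G a := ⟨_, hv⟩ with hvdef
  have hm : x⁻¹ * (k * h * k⁻¹) * x ∈ stabilizer G a := by
    show (x⁻¹ * (k * h * k⁻¹) * x) • a = a
    rw [mul_smul, mul_smul, show (k * h * k⁻¹) • (x • a) = x • a from (hT h hh).2, inv_smul_smul]
  have h1 : ψ ⟨_, hT h hh⟩ = 1 := by rw [htriv]; rfl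
  rw [hψ _ hm, ← Units.val_mul, Units.val_eq_one, mul_inv_eq_one] at h1
  have hhi : h⁻¹ ∈ stabilizer G a := inv_mem hh.1
  have e1 : (⟨x⁻¹ * (k * h * k⁻¹) * x, hm⟩ : stabilizer G a) = v⁻¹ * ⟨h⁻¹, hhi⟩ * v := by
    refine Subtype.ext ?_
    have hsi : s⁻¹ * h * s = h⁻¹ := by
      have h2 := hinv h⁻¹ (inv_mem hh)
      rw [inv_inv] at h2
      conv_lhs => rw [← h2]
      group
    show x⁻¹ * (k * h * k⁻¹) * x = (s⁻¹ * (k⁻¹ * x))⁻¹ * h⁻¹ * (s⁻¹ * (k⁻¹ * x))
    rw [← hsi]; group
  have e2 : (⟨k * h * k⁻¹, (hT h hh).1⟩ : stabilizer G a) =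
      ⟨k, hka⟩ * ⟨h, hh.1⟩ * (⟨k, hka⟩ : stabilizer G a)⁻¹ := rfl
  rw [e1, e2, map_mul, map_mul, map_mul, map_mul, map_inv, map_inv, mul_comm _ (l v),
    mul_inv_cancel_left, mul_comm _ (l (⟨k, hka⟩ : stabilizer G a))⁻¹, inv_mul_cancel_left] at h1
  have e3 : (⟨h⁻¹, hhi⟩ : stabilizer G a) = (⟨h, hh.1⟩ : stabilizer G a)⁻¹ := rfl
  rw [e3, map_inv] at h1
  set z := l ⟨h, hh.1⟩ with hz
  have hz2 : z ^ 2 = 1 := by rw [pow_two]; nth_rewrite 1 [← h1]; exact inv_mul_cancel z
  have hzd : z ^ Nat.card ↥(stabilizer G a ⊓ stabilizer G b) = 1 := by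
    have h3 : (⟨h, hh.1⟩ : stabilizer G a) ^ Nat.card ↥(stabilizer G a ⊓ stabilizer G b) = 1 :=
      Subtype.ext (congrArg Subtype.val
        (pow_card_eq_one' (x := (⟨h, hh⟩ : ↥(stabilizer G a ⊓ stabilizer G b)))) :)
    rw [hz, ← map_pow, h3, map_one]
  obtain ⟨i, hi⟩ := hodd
  rwa [hi, pow_succ, pow_mul, hz2, one_pow, one_mul] at hzd


/-- Let G be a finite simple Zassenhaus group on Ω with n points, a ≠ b points with two-point stabilizer E of odd order less than n - 2, and let H be the subgroup of the stabilizer of a consisting of the identity and the elements fixing no point other than a (given here as a subgroup of the stabilizer of order one less than the number of points whose non-identity elements fix only a; it is the Frobenius kernel of the stabilizer). Let μ be a character of degree 1 of the stabilizer of a that is identically 1 on H but not identically 1. Then the function induced from μ to G is an irreducible character of G, and it takes the value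 1 at every non-identity element of H. -/
theorem result {G Ω : Type*} [Group G] [Fintype G] [MulAction G Ω] [Fintype Ω] (hZ : Cfsg.IsZassenhausGroup G Ω) {a b : Ω} (hab : a ≠ b) [IsSimpleGroup G] (hodd : Odd (Nat.card ↥(MulAction.stabilizer G a ⊓ MulAction.stabilizer G b : Subgroup G))) (hlt : Nat.card ↥(MulAction.stabilizer G a ⊓ MulAction.stabilizer G b : Subgroup G) < Fintype.card Ω - 2) (H : Subgroup G) (hHa : H ≤ MulAction.stabilizer G a) (hHcard : Nat.card H + 1 = Fintype.card Ω) (hHfix : ∀ u ∈ H, u ≠ 1 → ∀ c : Ω, u • c = c → c = a) (μ : MulAction.stabilizer G a → ℂ) (hμ : Cfsg.IsCharacter (MulAction.stabilizer G a) μ ∧ μ 1 = 1) (hμH : ∀ u : MulAction.stabilizer G a, (u : G) ∈ H → μ u = 1) (hμne : μ ≠ fun _ => 1) : Cfsg.IsIrrCharacter G (Cfsg.indFun (MulAction.stabilizer G a) μ) ∧ ∀ u ∈ H, u ≠ 1 → Cfsg.indFun (MulAction.stabilizer G a) μ u = 1 := by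
  classical
  haveI : MulAction.IsPretransitive G Ω := by
    haveI := hZ.2.1
    exact MulAction.isPretransitive_of_is_two_pretransitive
  obtain ⟨-, s, -, hsa, hsb, hinv⟩ := S0345.odd_case hZ hab hodd
  obtain ⟨l, hl⟩ := Lib.Char.exists_hom_of_degree_one hμ.1 hμ.2
  -- regularity of `H`
  have hcover : ∀ g : (MulAction.stabilizer G a), ∃ u : (MulAction.stabilizer G a), (u : G) ∈ H ∧ (((u⁻¹ * g : (MulAction.stabilizer G a)) : G) • b = b) := by
    intro g
    have hinj : Function.Injective (fun u : H => (⟨(u : G) • b, fun e => hab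
        (MulAction.injective (u : G) ((hHa u.2 : _).trans e.symm))⟩ : {y : Ω // y ≠ a})) := by
      intro u u' e
      have e' : (u : G) • b = (u' : G) • b := congrArg Subtype.val e
      by_contra hne
      exact hab (hHfix _ (mul_mem (inv_mem u'.2) u.2)
        (fun h => hne (Subtype.ext (inv_mul_eq_one.mp h).symm)) b
        (by rw [mul_smul, e', inv_smul_smul])).symm
    have hbij := (Fintype.bijective_iff_injective_and_card _).mpr ⟨hinj, by
      rw [Fintype.card_subtype_compl, Fintype.card_subtype_eq, ← Nat.card_eq_fintype_card]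
      omega⟩
    obtain ⟨u, hu⟩ := hbij.2 ⟨(g : G) • b, fun e =>
      hab (MulAction.injective (g : G) ((g.2 : _).trans e.symm))⟩
    refine ⟨⟨u, hHa u.2⟩, u.2, ?_⟩
    show ((u : G)⁻¹ * (g : G)) • b = b
    rw [mul_smul, inv_smul_eq_iff]
    exact (congrArg Subtype.val hu).symm
  have hlH : ∀ u : (MulAction.stabilizer G a), (u : G) ∈ H → l u = 1 := fun u hu => Units.ext (by
    rw [← hl, hμH u hu, Units.val_one])
  have hne : ∃ (h : G) (hh : h ∈ (MulAction.stabilizer G a) ⊓ MulAction.stabilizer G b), l ⟨h, hh.1⟩ ≠ 1 := by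
    by_contra hcon
    push Not at hcon
    refine hμne (funext fun g => ?_)
    obtain ⟨u, hu, hub⟩ := hcover g
    rw [hl, ← mul_inv_cancel_left u g, map_mul, hlH u hu, one_mul]
    exact congrArg Units.val (hcon _ ⟨(u⁻¹ * g).2, hub⟩)
  refine ⟨?_, fun u hu hu1 => ?_⟩
  · refine Lib.Char.isIrrCharacter_of_norm_one (Lib.Char.isCharacter_indFun (MulAction.stabilizer G a) hμ.1) ?_
    haveI : Fintype (MulAction.stabilizer G a) := Fintype.ofFinite (MulAction.stabilizer G a)
    rw [Lib.Char.classInner_indFun_right (MulAction.stabilizer G a) μ (Lib.Char.isClassFunction_indFun (MulAction.stabilizer G a) μ)]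
    simp only [Cfsg.classInner, Cfsg.indFun]
    have hx : ∀ x : G, ∑ g : (MulAction.stabilizer G a), Cfsg.extendByZero (MulAction.stabilizer G a) μ (x⁻¹ * (g : G) * x) * starRingEnd ℂ (μ g) =
        if x ∈ (MulAction.stabilizer G a) then (Nat.card (MulAction.stabilizer G a) : ℂ) else 0 := by
      intro x
      by_cases hxA : x ∈ (MulAction.stabilizer G a)
      · rw [if_pos hxA, Finset.sum_congr rfl (g := fun _ => (1 : ℂ)) fun g _ => ?_]
        · simp
        rw [Lib.Char.extendByZero_mem (MulAction.stabilizer G a) μ (mul_mem (mul_mem (inv_mem hxA) g.2) hxA), hl, hl,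
          show (⟨x⁻¹ * (g : G) * x, mul_mem (mul_mem (inv_mem hxA) g.2) hxA⟩ : (MulAction.stabilizer G a)) =
            (⟨x, hxA⟩ : (MulAction.stabilizer G a))⁻¹ * g * ⟨x, hxA⟩ from rfl, map_mul, map_mul, map_inv,
          mul_comm _ (l g), mul_assoc, inv_mul_cancel, mul_one]
        exact Lib.Char.linear_conj_mul l g
      · rw [if_neg hxA]
        set T := (MulAction.stabilizer G a) ⊓ MulAction.stabilizer G (x • a) with hT
        haveI : Fintype T := Fintype.ofFinite T
        have hmem : ∀ g : G, g • (x • a) = x • a ↔ x⁻¹ * g * x ∈ (MulAction.stabilizer G a) := fun g => by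
          show _ ↔ (x⁻¹ * g * x) • a = a
          rw [mul_smul, mul_smul, inv_smul_eq_iff]
        let c : T →* (MulAction.stabilizer G a) :=
          { toFun := fun g => ⟨x⁻¹ * (g : G) * x, (hmem _).mp g.2.2⟩
            map_one' := Subtype.ext (by simp)
            map_mul' := fun g g' => Subtype.ext (by simp [mul_assoc]) }
        let ψ : T →* ℂ :=
          (Units.coeHom ℂ).comp ((l.comp c) * (l.comp (Subgroup.inclusion (inf_le_left : T ≤ (MulAction.stabilizer G a))))⁻¹)
        have hψ : ∀ (g : T) (hm : x⁻¹ * (g : G) * x ∈ (MulAction.stabilizer G a)),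
            ψ g = (l ⟨x⁻¹ * (g : G) * x, hm⟩ : ℂ) * ((l ⟨(g : G), g.2.1⟩)⁻¹ : ℂˣ) :=
          fun g hm => Units.val_mul _ _
        rw [← twisted_sum_zero hZ hab l s hsa hsb hinv hodd hne x hxA ψ hψ]
        rw [← Finset.sum_subset (Finset.subset_univ (Finset.univ.filter fun g : (MulAction.stabilizer G a) =>
          x⁻¹ * (g : G) * x ∈ (MulAction.stabilizer G a))) fun g _ hg => by
            rw [Lib.Char.extendByZero_not_mem (MulAction.stabilizer G a) μ (by simpa using hg), zero_mul]]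
        refine Finset.sum_bij' (fun g hg => (⟨(g : G), g.2,
            (hmem _).mpr (Finset.mem_filter.mp hg).2⟩ : T))
          (fun g _ => (⟨(g : G), g.2.1⟩ : (MulAction.stabilizer G a))) (fun _ _ => Finset.mem_univ _)
          (fun g _ => Finset.mem_filter.mpr ⟨Finset.mem_univ _, (hmem _).mp g.2.2⟩)
          (fun _ _ => rfl) (fun _ _ => rfl) fun g hg => ?_
        have hg' := (Finset.mem_filter.mp hg).2
        rw [Lib.Char.extendByZero_mem (MulAction.stabilizer G a) μ hg', hψ _ hg', hl, hl]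
        congr 1
        rw [Units.val_inv_eq_inv_val]
        exact (inv_eq_of_mul_eq_one_right (Lib.Char.linear_conj_mul l g)).symm
    rw [Finset.sum_congr rfl fun g _ => mul_assoc _ _ _, ← Finset.mul_sum]
    simp only [Finset.sum_mul]
    rw [Finset.sum_comm]
    simp only [hx]
    rw [Finset.sum_ite, Finset.sum_const_zero, add_zero, Finset.sum_const, ← Fintype.card_subtype,
      ← Nat.card_eq_fintype_card, nsmul_eq_mul]
    have hA0 : (Nat.card (MulAction.stabilizer G a) : ℂ) ≠ 0 := Nat.cast_ne_zero.mpr Nat.card_pos.ne'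
    show (Nat.card (MulAction.stabilizer G a) : ℂ)⁻¹ * ((Nat.card (MulAction.stabilizer G a) : ℂ)⁻¹ * ((Nat.card (MulAction.stabilizer G a) : ℂ) * (Nat.card (MulAction.stabilizer G a) : ℂ))) = 1
    field_simp
  · have key : ∀ x : G, Cfsg.extendByZero (MulAction.stabilizer G a) μ (x⁻¹ * u * x) = if x ∈ (MulAction.stabilizer G a) then 1 else 0 := by
      intro x
      by_cases hxA : x ∈ (MulAction.stabilizer G a)
      · rw [if_pos hxA, Lib.Char.extendByZero_mem (MulAction.stabilizer G a) μ (mul_mem (mul_mem (inv_mem hxA) (hHa hu)) hxA),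
          hl, show (⟨x⁻¹ * u * x, mul_mem (mul_mem (inv_mem hxA) (hHa hu)) hxA⟩ : (MulAction.stabilizer G a)) =
            (⟨x, hxA⟩ : (MulAction.stabilizer G a))⁻¹ * ⟨u, hHa hu⟩ * ⟨x, hxA⟩ from rfl, map_mul, map_mul,
          hlH ⟨u, hHa hu⟩ hu, mul_one, map_inv, inv_mul_cancel, Units.val_one]
      · rw [if_neg hxA, Lib.Char.extendByZero_not_mem (MulAction.stabilizer G a) μ fun h => hxA ?_]
        refine hHfix u hu hu1 (x • a) ?_
        have h' : (x⁻¹ * u * x) • a = a := h
        rwa [mul_smul, mul_smul, inv_smul_eq_iff] at h'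
    simp only [Cfsg.indFun]
    rw [Finset.sum_congr rfl fun x _ => key x, Finset.sum_boole, ← Fintype.card_subtype,
      ← Nat.card_eq_fintype_card]
    exact inv_mul_cancel₀ (Nat.cast_ne_zero.mpr Nat.card_pos.ne')

end Cfsg.Agent.S0881
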