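import Cfsg.Statements.S1147
import Cfsg.Agent.Lib.SuzukiKernel.Cube
import Cfsg.Agent.Lib.SuzukiKernel.Square

set_option autoImplicit false
open Cfsg

namespace Cfsg.Agent.S1147

/-- Let a finite simple Zassenhaus group `G` on `Ω` have a normal subgroup `U` of `G_a`, regular on `Ω` minus `a`, which is a non-abelian 2-group. Then `|Ω| = 2^(2n) + 1` with `n` odd, `n > 1`, a two-point stabiliser `G_a ⊓ G_b` is cyclic of order `2^n - 1`, and `U` is isomorphic to the type-A group over a field with `2^n` elements for some field automorphism `φ`. -/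
theorem result {G Ω : Type*} [Group G] [Finite G] [MulAction G Ω] [Finite Ω]
    (hZ : Cfsg.IsZassenhausGroup G Ω) [IsSimpleGroup G] {a b : Ω} (hab : a ≠ b)
    (U : Subgroup G) (hUle : U ≤ MulAction.stabilizer G a)
    (hUn : ∀ h ∈ MulAction.stabilizer G a, ∀ u ∈ U, h * u * h⁻¹ ∈ U)
    (hreg : ∀ c d : Ω, c ≠ a → d ≠ a → ∃! u : U, (u : G) • c = d)
    (hU2 : IsPGroup 2 U) (hUna : ∃ u ∈ U, ∃ v ∈ U, u * v ≠ v * u) :
    ∃ n : ℕ, Odd n ∧ 1 < n ∧ Nat.card Ω = 2 ^ (2 * n) + 1 ∧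
      IsCyclic ↥(MulAction.stabilizer G a ⊓ MulAction.stabilizer G b) ∧
      Nat.card ↥(MulAction.stabilizer G a ⊓ MulAction.stabilizer G b) = 2 ^ n - 1 ∧
      ∃ (F : Type) (_ : Field F) (_ : Fintype F) (φ : F ≃+* F), Fintype.card F = 2 ^ n ∧
        Nonempty (U ≃* Cfsg.suzukiTypeA F (φ : F →+* F)) := by
  classical
  haveI := Fintype.ofFinite G
  haveI := Fintype.ofFinite U
  haveI := Fintype.ofFinite ↥(MulAction.stabilizer G a ⊓ MulAction.stabilizer G b)
  have h : Lib.SuzukiKernel.Ker U a b :=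
    ⟨hZ, ⟨hab, hUle, hUn, fun y hy => hreg b y hab.symm hy⟩, hU2, hUna⟩
  obtain ⟨n, hn2, hn, hO, hcard, -, -, -⟩ := h.structure_facts
  rcases hcard with hsq | hcube
  swap
  · exact (Lib.SuzukiKernel.not_cube h (by rw [hn]; exact hcube)).elim
  have hodd : Odd n := Lib.SuzukiKernel.odd_exponent h (by rw [hn]; exact hsq) hn hn2
  obtain ⟨F, i1, i2, φ, hF, hiso⟩ := h.typeA (by rw [hO]; exact hsq)
  refine ⟨n, hodd, by omega, ?_, h.cyclic_twoPt, by omega, F, i1, i2, φ, hF.trans hO, hiso⟩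
  rw [← h.card_kernel, hsq, ← pow_mul, Nat.mul_comm n 2]

end Cfsg.Agent.S1147
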