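import Cfsg.Statements.S0340
import Cfsg.Agent.S0344
import Cfsg.Agent.S0347
import Cfsg.Agent.Lib.Zass.FeitCond
import Cfsg.Agent.Lib.Zass.SharpEven
import Cfsg.Agent.Lib.ZassOddKernel.Main

set_option autoImplicit false
open Cfsg

namespace Cfsg.Agent.S0340

open MulAction Cfsg.Agent.Lib.Zass Cfsg.Agent.Lib.ZassFrob

/-- A Zassenhaus group with two-point stabilisers of order `|Ω| - 2` is sharply three times transitive. -/
theorem sharp3_of_card {G Ω : Type*} [Group G] [Finite G] [MulAction G Ω] [Fintype Ω]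
    (hZ : Cfsg.IsZassenhausGroup G Ω) {a b : Ω} (hab : a ≠ b)
    (hd' : Nat.card ↥(stabilizer G a ⊓ stabilizer G b) = Nat.card Ω - 2) : Sharp3 G Ω := by
  classical
  have hF : Fintype.card Ω = Nat.card Ω := Nat.card_eq_fintype_card.symm
  set d := Nat.card ↥(stabilizer G a ⊓ stabilizer G b) with hd
  have h2 := two_lt_card hZ hab
  exact
    { trans := fun x y z x' y' z' hxy hyz hxz hxy' hyz' hxz' => by
        obtain ⟨g, hga, hgb⟩ := exists_map_pair hZ hxy hab
        obtain ⟨g', hga', hgb'⟩ := exists_map_pair hZ hxy' hab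
        have hne : ∀ (g : G) (x y z : Ω), g • x = a → g • y = b → x ≠ z → y ≠ z →
            ¬ (g • z = a ∨ g • z = b) := by
          rintro g x y z gx gy hxz hyz (e | e)
          · exact hxz (MulAction.injective g (gx.trans e.symm))
          · exact hyz (MulAction.injective g (gy.trans e.symm))
        have hn1 := hne g x y z hga hgb hxz hyz
        let act : ↥(stabilizer G a ⊓ stabilizer G b) → {w : Ω // ¬(w = a ∨ w = b)} := fun k =>
          ⟨(k : G) • (g • z), by
            rintro (e | e)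
            · exact hn1 (Or.inl (MulAction.injective (k : G) (e.trans k.2.1.symm)))
            · exact hn1 (Or.inr (MulAction.injective (k : G) (e.trans k.2.2.symm)))⟩
        have hinj : Function.Injective act := fun k k' e => by
          obtain ⟨hna, hnb⟩ := not_or.mp hn1
          refine Subtype.ext (inv_mul_eq_one.mp (eq_one_of_fix3 hZ hab (Ne.symm hnb) (Ne.symm hna)
            (g := (k' : G)⁻¹ * k) ?_ ?_ ?_)).symm
          · exact (mul_mem (inv_mem k'.2) k.2).1
          · exact (mul_mem (inv_mem k'.2) k.2).2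
          · have e' : (k : G) • g • z = (k' : G) • g • z := congrArg Subtype.val e
            rw [mul_smul, e', inv_smul_smul]
        have hsurj : Function.Surjective act := by
          haveI := Fintype.ofFinite ↥(stabilizer G a ⊓ stabilizer G b)
          refine ((Fintype.bijective_iff_injective_and_card _).mpr ⟨hinj, ?_⟩).2
          rw [← Nat.card_eq_fintype_card, ← hd, Fintype.card_subtype_compl, Fintype.card_subtype,
            show (Finset.univ.filter fun x : Ω => x = a ∨ x = b) = {a, b} by ext x; simp,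
            Finset.card_pair hab]
          omega
        obtain ⟨k, hk⟩ := hsurj ⟨g' • z', hne g' x' y' z' hga' hgb' hxz' hyz'⟩
        refine ⟨g'⁻¹ * (k : G) * g, ?_, ?_, ?_⟩
        · rw [mul_smul, mul_smul, hga, show (k : G) • a = a from k.2.1, inv_smul_eq_iff, hga']
        · rw [mul_smul, mul_smul, hgb, show (k : G) • b = b from k.2.2, inv_smul_eq_iff, hgb']
        · rw [mul_smul, mul_smul, inv_smul_eq_iff]
          exact congrArg Subtype.val hk
      sharp := hZ.2.2.1
      three := by omega }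

/-- In characteristic two `PSL₂` is `PGL₂`. -/
theorem psl_equiv_pgl (K : Type) [Field K] [Fintype K] (h : ringChar K = 2) :
    Nonempty (Matrix.ProjectiveSpecialLinearGroup (Fin 2) K ≃* Matrix.ProjGenLinGroup (Fin 2) K) := by
  haveI : CharP K 2 := h ▸ ringChar.charP K
  refine ⟨MulEquiv.ofBijective Matrix.ProjectiveSpecialLinearGroup.toPGL
    ⟨Matrix.ProjectiveSpecialLinearGroup.toPGL_injective,
      Matrix.ProjectiveSpecialLinearGroup.toPGL_surj_of_roots fun r => ?_⟩⟩
  obtain ⟨k, hk⟩ := FiniteField.isSquare_of_char_two h (r : K)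
  have hk0 : k ≠ 0 := fun e => r.ne_zero (by rw [hk, e, mul_zero])
  exact ⟨Units.mk0 k hk0, Units.ext (by simp [hk, pow_two])⟩

/-- Classification of Zassenhaus groups, simple case, order-level form: a finite simple Zassenhaus group is
isomorphic to `PSL₂(F)` for some finite field `F` or is simple of Suzuki order. -/
theorem result {G Ω : Type*} [Group G] [Finite G] [MulAction G Ω]
    [Finite Ω] (hZ : Cfsg.IsZassenhausGroup G Ω) [IsSimpleGroup G] :
    (∃ (F : Type) (_ : Field F) (_ : Fintype F), Nonempty (G ≃* Matrix.ProjectiveSpecialLinearGroup (Fin 2) F)) ∨ Cfsg.IsSuzuki G := by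
  classical
  haveI := Fintype.ofFinite Ω
  haveI := hZ.1
  obtain ⟨x, -, a, b, hab, -, -⟩ := hZ.2.2.2.1
  rcases Nat.even_or_odd (Nat.card ↥(stabilizer G a ⊓ stabilizer G b)) with he | ho
  · obtain ⟨F, i1, i2, -, hiso⟩ := S0344.result hZ hab he
    exact Or.inl ⟨F, i1, i2, hiso⟩
  obtain ⟨K, hKle, -, -, -, -, hKc, hKf⟩ := exists_kernel hZ hab
  obtain ⟨hK, hnil⟩ := isKernel_of_fix hZ hab hKle hKf hKc
  haveI := hnil
  obtain ⟨hcyc, v, hv, hva, hvb, hinv⟩ := S0345.odd_case hZ hab ho
  have hcard := hK.card_eq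
  have hF : Fintype.card Ω = Nat.card Ω := Nat.card_eq_fintype_card.symm
  have h3 := two_lt_card hZ hab
  by_cases hab' : IsMulCommutative K
  · left
    have hle := (abelian_kernel_struct hZ hK hab').1
    obtain ⟨m, hm⟩ := card_twoPt_dvd hZ hab
    set d := Nat.card ↥(stabilizer G a ⊓ stabilizer G b) with hd
    have hdm : d * m = Nat.card K - 1 := by omega
    have hm0 : m ≠ 0 := fun e => by rw [e, mul_zero] at hdm; omega
    have hm2 : m ≤ 2 := Nat.le_of_mul_le_mul_left
      (show d * m ≤ d * 2 by rw [hdm, mul_comm d 2]; exact hle) Nat.card_pos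
    interval_cases m
    · exact absurd rfl hm0
    · have hS := sharp3_of_card hZ hab (by omega)
      obtain ⟨k, hk⟩ := ho
      obtain ⟨f, hf, -, F, i1, i2, hFc, ⟨e⟩⟩ := pgl_of_sharp3_odd hS ⟨k + 1, by omega⟩
      have h2 : ringChar F = 2 := by
        rw [FiniteField.even_card_iff_char_two, hFc, Nat.pow_mod]
        simp [hf]
      obtain ⟨e'⟩ := psl_equiv_pgl F h2
      exact ⟨F, i1, i2, ⟨e.trans e'.symm⟩⟩
    · obtain ⟨p, f, F, i1, i2, -, -, -, -, -, -, hiso⟩ := psl_of_half hZ hK hab' (by omega)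
      exact ⟨F, i1, i2, hiso⟩
  have hna : ∃ u w : K, u * w ≠ w * u := by
    by_contra hno
    push Not at hno
    exact hab' ⟨⟨hno⟩⟩
  haveI := hcyc
  letI := IsCyclic.commGroup (α := ↥(stabilizer G a ⊓ stabilizer G b))
  rcases hK.feit_alternative hZ ⟨⟨hcyc.commGroup.mul_comm⟩⟩ v hva hinv rfl ho with h | ⟨p, hp, hpK, hidx⟩
  · exact absurd (prime_pow_kernel hZ hK h).1 hab'
  rcases hp.eq_two_or_odd' with rfl | hodd
  · exact Or.inr (S0347.result hZ a K hK.le hK.normal hpK hna
      fun y z hy hz => hK.reg_pair y z hy hz)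
  haveI := Fintype.ofFinite G
  haveI := Fintype.ofFinite K
  haveI := Fintype.ofFinite ↥(stabilizer G a ⊓ stabilizer G b)
  haveI := Fact.mk hp
  obtain ⟨B, hB⟩ := IsPGroup.iff_card.mp hpK
  exact (Lib.ZassOddKernel.not_nonabelian
    (h := ⟨hZ, hK, hB ▸ hodd.pow, ho, hcyc, hv, hva, hvb, hinv⟩) hp hpK hna hidx).elim

end Cfsg.Agent.S0340
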