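import Cfsg.Statements.S0679
import Cfsg.Agent.Lib.Perm.SmallPrimeDegree
import Cfsg.Agent.Lib.Perm.DegreeEleven
import Cfsg.Agent.Lib.PSLTwo.RecogPrime
import Mathlib.Data.Fintype.CardEmbedding

set_option autoImplicit false
open Cfsg

namespace Cfsg.Agent.S0679

open Equiv MulAction Cfsg.Agent.Lib.Perm Cfsg.Agent.Lib.Perm.DegreeEleven

theorem sylow_eq_zpowers {H : Subgroup (Perm (Fin 11))} [IsPretransitive H (Fin 11)] {u : H}
    (hu : orderOf u = 11) [Fact (Nat.Prime 11)] : ∃ T : Sylow 11 H, (T : Subgroup H) = Subgroup.zpowers u := by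
  obtain ⟨T, hT⟩ := (IsPGroup.of_card (G := Subgroup.zpowers u) (p := 11) (n := 1)
    (by rw [Nat.card_zpowers, hu, pow_one])).exists_le_sylow
  refine ⟨T, (Subgroup.eq_of_le_of_card_ge hT ?_).symm⟩
  rw [card_sylow_of_prime (Ω := Fin 11) (by simp) T, Nat.card_zpowers, hu]

theorem alternating_le_of_seven (H : Subgroup (Perm (Fin 11))) (hx : x0 ∈ H)
    (h : 7 ∣ Nat.card H) : alternatingGroup (Fin 11) ≤ H := by
  have : Fact (Nat.Prime 7) := ⟨by decide⟩
  obtain ⟨g, hg⟩ := exists_prime_orderOf_dvd_card' 7 h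
  have := DegreeEleven.pretransitive hx
  have ho : orderOf (g : Perm (Fin 11)) = 7 := by rw [← hg, Subgroup.orderOf_coe]
  have hc : (g : Perm (Fin 11)).IsCycle := by
    refine Perm.isCycle_of_prime_order (by rw [ho]; decide) ?_
    rw [ho]
    exact lt_of_le_of_lt (Finset.card_le_univ _) (by simp)
  exact Cfsg.Agent.S0713.result H (MulAction.IsPreprimitive.of_prime_card
    (by rw [Nat.card_eq_fintype_card, Fintype.card_fin]; decide +kernel)) (by decide : Nat.Prime 7)
    (by simp) (by simp) hc (hc.orderOf ▸ ho) g.2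

set_option maxHeartbeats 1000000 in
/-- The classification, in coordinates. -/
theorem core (H : Subgroup (Perm (Fin 11))) (hx : x0 ∈ H) (hS : ¬ Group.IsSolvable H)
    (hA : ¬ alternatingGroup (Fin 11) ≤ H) :
    ((∀ t ∈ H, t.support.card ≤ 7 → t = 1) ∧ Nat.card H = 7920) ∨
      Nonempty (H ≃* Matrix.ProjectiveSpecialLinearGroup (Fin 2) (ZMod 11)) := by
  classical
  have hp : Fact (Nat.Prime 11) := ⟨by decide⟩
  have h7 : ¬ 7 ∣ Nat.card H := fun h => hA (alternating_le_of_seven H hx h)
  set M : Subgroup (Perm (Fin 11)) := H ⊓ alternatingGroup (Fin 11) with hMdef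
  have hx0 : orderOf x0 = 11 := orderOf_eq_prime (by decide +kernel) (by decide +kernel)
  have hxA : x0 ∈ alternatingGroup (Fin 11) := by
    rw [Perm.mem_alternatingGroup]
    rcases Int.units_eq_one_or (Perm.sign x0) with h | h
    · exact h
    · have h1 := congrArg Perm.sign (pow_orderOf_eq_one x0)
      rw [hx0, map_pow, h, map_one] at h1
      exact absurd h1 (by decide)
  have hxM : x0 ∈ M := ⟨hx, hxA⟩
  have := DegreeEleven.pretransitive hx
  have := DegreeEleven.pretransitive hxM
  have hα' : Nat.card (Fin 11) = 11 := by simp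
  have hα : Fintype.card (Fin 11) = 11 := by simp
  obtain ⟨P, hP⟩ := sylow_eq_zpowers (H := M) (u := ⟨x0, hxM⟩)
    (by rw [Subgroup.orderOf_mk, hx0])
  set N := Nat.card ↥(Subgroup.normalizer ((P : Subgroup M) : Set M)) with hN
  have hP11 : Nat.card P = 11 := card_sylow_of_prime (Ω := Fin 11) hα' P
  have hN55 : N ∣ 55 := by
    have h := two_mul_card_normalizer_dvd hα (by decide) M inf_le_right P
    rw [show 11 * (11 - 1) = 2 * 55 from rfl] at h
    exact Nat.dvd_of_mul_dvd_mul_left two_pos h
  have h11N : 11 ∣ N := hP11 ▸ Subgroup.card_dvd_of_le Subgroup.le_normalizer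
  have hN2 : N = 55 := by
    obtain ⟨j, hj⟩ := h11N
    rw [hj] at hN55
    rcases (Nat.dvd_prime (show Nat.Prime 5 by decide)).1
      (Nat.dvd_of_mul_dvd_mul_left (show 0 < 11 by norm_num) hN55) with rfl | rfl
    · exfalso
      refine hS (solvable_of_even_part H ?_)
      rw [← hMdef, card_eq_of_normalizer_eq hα M P (by rw [← hN]; omega)]
      exact hp.out.squarefree
    · exact hj
  have hn : Nat.card (Sylow 11 M) = (Subgroup.normalizer ((P : Subgroup M) : Set M)).index :=
    P.card_eq_index_normalizer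
  have hcard : Nat.card M = 55 * Nat.card (Sylow 11 M) := by
    rw [hn, ← hN2, hN, Subgroup.card_mul_index]
  -- `x ↦ 3 x` is in `M`
  obtain ⟨S, hS'⟩ := (IsPGroup.of_card (G := Subgroup.zpowers x0) (p := 11) (n := 1)
    (by rw [Nat.card_zpowers, hx0, pow_one])).exists_le_sylow
  have hSx : (S : Subgroup (Perm (Fin 11))) = Subgroup.zpowers x0 :=
    (Subgroup.eq_of_le_of_card_ge hS' (by
      rw [Nat.card_zpowers, hx0, Cfsg.Agent.Lib.SmallSimple.card_sylow_perm (Or.inl hα) S])).symm
  have hmul : ∀ (u : Perm (Fin 11)) (k : ℕ), u * x0 = x0 ^ k * u → ¬ 11 ∣ k →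
      u ∈ Subgroup.normalizer ((S : Subgroup (Perm (Fin 11))) : Set (Perm (Fin 11))) := by
    intro u k hu hk
    rw [hSx, Subgroup.mem_normalizer_iff_map_conj_eq, MonoidHom.map_zpowers]
    show Subgroup.zpowers (u * x0 * u⁻¹) = Subgroup.zpowers x0
    rw [hu, mul_inv_cancel_right]
    refine Subgroup.eq_of_le_of_card_ge (Subgroup.zpowers_le.2
      (Subgroup.pow_mem _ (Subgroup.mem_zpowers x0) k)) ?_
    rw [Nat.card_zpowers, Nat.card_zpowers, orderOf_pow, hx0,
      ((hp.out.coprime_iff_not_dvd).2 hk).gcd_eq_one, Nat.div_one]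
  have hyM : y0 ∈ M := by
    have hy : y0 ∈ Subgroup.normalizer ((S : Subgroup (Perm (Fin 11))) : Set (Perm (Fin 11))) ⊓
        alternatingGroup (Fin 11) :=
      ⟨hmul y0 3 (by decide +kernel) (by decide), Perm.mem_alternatingGroup.2 (by
        rw [← DegreeEleven.z0_pow.1, map_pow]
        rcases Int.units_eq_one_or (Perm.sign z0) with h | h <;> rw [h] <;> rfl)⟩
    have hmap : (P : Subgroup M).map M.subtype = (S : Subgroup (Perm (Fin 11))) := by
      rw [hP, hSx, MonoidHom.map_zpowers]; rfl
    have hle : (Subgroup.normalizer ((P : Subgroup M) : Set M)).map M.subtype ≤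
        Subgroup.normalizer ((S : Subgroup (Perm (Fin 11))) : Set (Perm (Fin 11))) ⊓
          alternatingGroup (Fin 11) := by
      refine le_inf ?_ ((Subgroup.map_subtype_le _).trans inf_le_right)
      rw [← hmap]; exact Subgroup.le_normalizer_map M.subtype
    have heq := Subgroup.eq_of_le_of_card_ge hle (by
      rw [Subgroup.card_map_of_injective Subtype.val_injective, ← hN, hN2]
      have h2 := Cfsg.Agent.Lib.SmallSimple.two_mul_card_normalizer_inf_alternating
        (show 11 ≠ 2 by decide) S
      rw [Cfsg.Agent.Lib.SmallSimple.card_normalizer_sylow_perm (Or.inl hα) S] at h2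
      omega)
    rw [← heq] at hy
    exact Subgroup.map_subtype_le _ hy
  -- freeness on ordered quadruples
  have hfree : ∀ t ∈ H, t.support.card ≤ 7 → t = 1 := fun t ht h => by
    by_contra h1
    exact h7 (seven_dvd_of_fix hx hyM.1 ht h1 h)
  have hbound : Nat.card H ≤ 7920 := by
    let f : H → (Fin 4 ↪ Fin 11) := fun g =>
      (Fin.castLEEmb (show 4 ≤ 11 by norm_num)).trans (g : Perm (Fin 11)).toEmbedding
    have hf : Function.Injective f := by
      intro g g' hgg
      have h4 : ∀ i : Fin 4, (g : Perm (Fin 11)) (i.castLE (by norm_num)) =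
          (g' : Perm (Fin 11)) (i.castLE (by norm_num)) := fun i => DFunLike.congr_fun hgg i
      refine Subtype.ext (inv_mul_eq_one.1 (hfree _ (H.mul_mem (H.inv_mem g.2) g'.2) ?_))
      have hsub : (((g : Perm (Fin 11))⁻¹ * (g' : Perm (Fin 11))).support) ⊆
          ((Finset.univ : Finset (Fin 4)).map (Fin.castLEEmb (show 4 ≤ 11 by norm_num)))ᶜ := by
        intro y hy
        rw [Finset.mem_compl, Finset.mem_map]
        rintro ⟨i, -, rfl⟩
        refine Perm.mem_support.1 hy ?_
        show (g : Perm (Fin 11))⁻¹ ((g' : Perm (Fin 11)) (i.castLE (show 4 ≤ 11 by norm_num))) =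
          i.castLE (show 4 ≤ 11 by norm_num)
        rw [← h4 i]
        exact (g : Perm (Fin 11)).symm_apply_apply _
      refine (Finset.card_le_card hsub).trans ?_
      simp [Finset.card_compl]
    refine (Nat.card_le_card_of_injective f hf).trans (le_of_eq ?_)
    rw [Nat.card_eq_fintype_card, Fintype.card_embedding_eq, Fintype.card_fin, Fintype.card_fin]
    rfl
  -- the number of Sylow subgroups
  have hmod : Nat.card (Sylow 11 M) % 11 = 1 := card_sylow_modEq_one 11 M
  have hA11 : Nat.card (alternatingGroup (Fin 11)) = 19958400 := by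
    rw [nat_card_alternatingGroup, hα']; rfl
  have hd : Nat.card (Sylow 11 M) ∣ 362880 := by
    refine Nat.dvd_of_mul_dvd_mul_left (show 0 < 55 by norm_num) ?_
    rw [← hcard, show 55 * 362880 = 19958400 from rfl, ← hA11]
    exact Subgroup.card_dvd_of_le inf_le_right
  have h25 : ¬ 25 ∣ Nat.card M := by
    intro h
    refine h7 ?_
    have h5 : Fact (Nat.Prime 5) := ⟨by decide⟩
    have hS25 : ∀ R : Sylow 5 (Perm (Fin 11)), Nat.card (R : Subgroup (Perm (Fin 11))) = 25 := by
      intro R
      rw [Cfsg.Agent.Lib.SmallSimple.card_sylow_subgroup R (k := 2) (m := 1596672)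
        (by rw [Nat.card_perm, hα']; rfl) (by norm_num)]
      rfl
    obtain ⟨A, hA'⟩ := Sylow.exists_subgroup_card_pow_prime 5 (G := M) (n := 2) h
    have hB : Nat.card (A.map M.subtype) = 25 := by
      rw [Subgroup.card_map_of_injective Subtype.val_injective, hA']; rfl
    obtain ⟨R, hR⟩ := (IsPGroup.of_card (G := A.map M.subtype) (p := 5) (n := 2)
      (by rw [hB]; rfl)).exists_le_sylow
    have hRH : (R : Subgroup (Perm (Fin 11))) ≤ H := by
      rw [← Subgroup.eq_of_le_of_card_ge hR (by rw [hB, hS25])]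
      exact (Subgroup.map_subtype_le _).trans inf_le_left
    let c : Perm (Fin 11) := swap 0 1 * swap 1 2 * swap 2 3 * swap 3 4
    have hc5 : orderOf c = 5 := orderOf_eq_prime (by decide +kernel) (by decide +kernel)
    have hcs : c.support.card = 5 := by decide +kernel
    obtain ⟨R', hR'⟩ := (IsPGroup.of_card (G := Subgroup.zpowers c) (p := 5) (n := 1)
      (by rw [Nat.card_zpowers, hc5, pow_one])).exists_le_sylow
    obtain ⟨g, hg⟩ := MulAction.exists_smul_eq (Perm (Fin 11)) R' R
    have hmem : g * c * g⁻¹ ∈ H := by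
      refine hRH ?_
      rw [← hg, Sylow.coe_subgroup_smul]
      have := Subgroup.smul_mem_pointwise_smul _ (MulAut.conj g) _
        (hR' (Subgroup.mem_zpowers c))
      simpa using this
    refine seven_dvd_of_cycle hx hmem (q := 5) (by decide) (by norm_num) ?_
      (by rw [Perm.card_support_conj, hcs])
    have hcc : c.IsCycle := Perm.isCycle_of_prime_order (by rw [hc5]; decide)
      (by rw [hc5, hcs]; norm_num)
    exact hcc.conj
  have hn' : Nat.card (Sylow 11 M) = 12 ∨ Nat.card (Sylow 11 M) = 144 := by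
    have h1 : Nat.card (Sylow 11 M) ≠ 1 := fun h1 => by
      refine hS (solvable_of_even_part H ?_)
      rw [← hMdef, hcard, h1, mul_one]
      exact Nat.squarefree_mul_iff.2 ⟨show Nat.Coprime 5 11 by decide,
        (show Nat.Prime 5 by decide).squarefree, hp.out.squarefree⟩
    have hb : Nat.card M ≤ 7920 :=
      (Nat.le_of_dvd Nat.card_pos (Subgroup.card_dvd_of_le inf_le_left)).trans hbound
    have h7n : ¬ 7 ∣ Nat.card (Sylow 11 M) := fun h => h7
      ((h.trans (Dvd.intro_left 55 hcard.symm)).trans (Subgroup.card_dvd_of_le inf_le_left))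
    have h5n : ¬ 5 ∣ Nat.card (Sylow 11 M) := fun h => h25 (by
      rw [hcard]; obtain ⟨j, hj⟩ := h; exact ⟨11 * j, by rw [hj]; ring⟩)
    generalize Nat.card (Sylow 11 M) = n at *
    have hd' : n ∣ 2 ^ 7 * 3 ^ 4 := by
      have h : n ∣ 2 ^ 7 * 3 ^ 4 * 5 * 7 := by
        rw [show 2 ^ 7 * 3 ^ 4 * 5 * 7 = 362880 from rfl]; exact hd
      exact ((((show Nat.Prime 5 by decide).coprime_iff_not_dvd).2 h5n).symm).dvd_of_dvd_mul_right
        (((((show Nat.Prime 7 by decide).coprime_iff_not_dvd).2 h7n).symm).dvd_of_dvd_mul_right h)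
    obtain ⟨a, b, ha, hb', rfl⟩ := Nat.dvd_mul.1 hd'
    obtain ⟨i, hi, rfl⟩ := (Nat.dvd_prime_pow Nat.prime_two).1 ha
    obtain ⟨j, hj, rfl⟩ := (Nat.dvd_prime_pow Nat.prime_three).1 hb'
    interval_cases i <;> interval_cases j <;> omega
  -- the odd part
  let f : H →* ℤˣ := Perm.sign.comp H.subtype
  have hk : Nat.card f.ker = Nat.card M :=
    Nat.card_congr
      { toFun := fun x => ⟨x.1.1, x.1.2, Perm.mem_alternatingGroup.2 x.2⟩
        invFun := fun x => ⟨⟨x.1, x.2.1⟩, MonoidHom.mem_ker.2 (Perm.mem_alternatingGroup.1 x.2.2)⟩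
        left_inv := fun _ => rfl
        right_inv := fun _ => rfl }
  have hdouble : ¬ H ≤ alternatingGroup (Fin 11) → Nat.card H = 2 * Nat.card M := by
    intro hle
    obtain ⟨g, hg, hgA⟩ := SetLike.not_le_iff_exists.1 hle
    have h := f.ker.card_mul_index
    rw [hk, Subgroup.index_ker] at h
    have hr : f.range = ⊤ := by
      refine top_unique fun u _ => ?_
      rcases Int.units_eq_one_or u with rfl | rfl
      · exact one_mem _
      · refine ⟨⟨g, hg⟩, ?_⟩
        rcases Int.units_eq_one_or (Perm.sign g) with h | h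
        · exact absurd (Perm.mem_alternatingGroup.2 h) hgA
        · exact h
    rw [hr, Subgroup.card_top, Nat.card_eq_fintype_card (α := ℤˣ), Fintype.card_units_int] at h
    omega
  rcases hn' with hn12 | hn144
  swap
  · left
    refine ⟨hfree, ?_⟩
    have hM : Nat.card M = 7920 := by rw [hcard, hn144]
    have := Nat.le_of_dvd Nat.card_pos (Subgroup.card_dvd_of_le (show M ≤ H from inf_le_left))
    omega
  right
  have hM : Nat.card M = 660 := by rw [hcard, hn12]
  have hHA : H ≤ alternatingGroup (Fin 11) := by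
    by_contra hle
    have hH : Nat.card H = 1320 := by rw [hdouble hle, hM]
    obtain ⟨T, hT⟩ := sylow_eq_zpowers (H := H) (u := ⟨x0, hx⟩) (by rw [Subgroup.orderOf_mk, hx0])
    have hmap : (T : Subgroup H).map H.subtype = (S : Subgroup (Perm (Fin 11))) := by
      rw [hT, hSx, MonoidHom.map_zpowers]; rfl
    have hle' : (Subgroup.normalizer ((T : Subgroup H) : Set H)).map H.subtype ≤
        Subgroup.normalizer ((S : Subgroup (Perm (Fin 11))) : Set (Perm (Fin 11))) := by
      rw [← hmap]; exact Subgroup.le_normalizer_map H.subtype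
    have h2 : Nat.card (Sylow 11 H) = (Subgroup.normalizer ((T : Subgroup H) : Set H)).index :=
      T.card_eq_index_normalizer
    have h3 := Subgroup.card_mul_index (Subgroup.normalizer ((T : Subgroup H) : Set H))
    rw [← h2, hH] at h3
    have h4 := Subgroup.card_dvd_of_le hle'
    rw [Subgroup.card_map_of_injective Subtype.val_injective,
      Cfsg.Agent.Lib.SmallSimple.card_normalizer_sylow_perm (Or.inl hα) S] at h4
    have h1 : Nat.card (Sylow 11 H) % 11 = 1 := card_sylow_modEq_one 11 H
    have heq : (Subgroup.normalizer ((T : Subgroup H) : Set H)).map H.subtype =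
        Subgroup.normalizer ((S : Subgroup (Perm (Fin 11))) : Set (Perm (Fin 11))) := by
      refine Subgroup.eq_of_le_of_card_ge hle' ?_
      rw [Subgroup.card_map_of_injective Subtype.val_injective,
        Cfsg.Agent.Lib.SmallSimple.card_normalizer_sylow_perm (Or.inl hα) S]
      generalize Nat.card (Sylow 11 H) = n at *
      generalize Nat.card (Subgroup.normalizer ((T : Subgroup H) : Set H)) = m at *
      have h5 : m ∈ Nat.divisors 110 := Nat.mem_divisors.2 ⟨h4, by norm_num⟩
      rw [show Nat.divisors 110 = {1, 2, 5, 10, 11, 22, 55, 110} by decide] at h5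
      simp only [Finset.mem_insert, Finset.mem_singleton] at h5
      rcases h5 with rfl | rfl | rfl | rfl | rfl | rfl | rfl | rfl <;> omega
    have hz : z0 ∈ H := by
      have := hmul z0 2 (by decide +kernel) (by decide)
      rw [← heq] at this
      exact Subgroup.map_subtype_le _ this
    have hw : w0 ∈ H := DegreeEleven.z0_pow.2 ▸ H.pow_mem hz 5
    have hw2 : w0 * w0 = 1 := by decide +kernel
    -- an involution of `M` commuting with `-1`
    have h2' : Fact (Nat.Prime 2) := ⟨Nat.prime_two⟩
    let σ : Function.End M := fun g => g⁻¹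
    have hσ : σ ^ (2 ^ 1) = 1 := by
      funext g; exact inv_inv g
    have e1 := Equiv.Perm.card_fixedPoints_modEq (p := 2) (n := 1) hσ
    let T2 := {g : M // g⁻¹ = g}
    let τ : Function.End T2 := fun g => ⟨⟨w0 * g.1.1 * w0⁻¹,
      H.mul_mem (H.mul_mem hw g.1.2.1) (H.inv_mem hw),
      (alternatingGroup.normal.conj_mem _ g.1.2.2 w0)⟩, Subtype.ext (by
        have := congrArg Subtype.val g.2
        simp only [Subgroup.coe_inv] at this ⊢
        rw [conj_inv, this])⟩
    have hτ : τ ^ (2 ^ 1) = 1 := by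
      funext g
      refine Subtype.ext (Subtype.ext ?_)
      show w0 * (w0 * g.1.1 * w0⁻¹) * w0⁻¹ = g.1.1
      rw [show w0⁻¹ = w0 from inv_eq_of_mul_eq_one_right hw2, ← mul_assoc, ← mul_assoc, hw2,
        one_mul, mul_assoc, hw2, mul_one]
    have e2 := Equiv.Perm.card_fixedPoints_modEq (p := 2) (n := 1) hτ
    have hT2 : 2 ∣ Fintype.card T2 := by
      rw [← Nat.modEq_zero_iff_dvd]
      have : Fintype.card (Function.fixedPoints σ) = Fintype.card T2 :=
        Fintype.card_congr (Equiv.refl _)
      rw [← this]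
      refine e1.symm.trans (Nat.modEq_zero_iff_dvd.2 ?_)
      rw [← Nat.card_eq_fintype_card, hM]; norm_num
    let one' : Function.fixedPoints τ :=
      ⟨⟨1, inv_one⟩, Subtype.ext (Subtype.ext (by simp [τ]))⟩
    have hF : 1 < Fintype.card (Function.fixedPoints τ) := by
      have hpos : 0 < Fintype.card (Function.fixedPoints τ) := Fintype.card_pos_iff.2 ⟨one'⟩
      have : 2 ∣ Fintype.card (Function.fixedPoints τ) :=
        Nat.modEq_zero_iff_dvd.1 (e2.symm.trans (Nat.modEq_zero_iff_dvd.2 hT2))
      omega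
    obtain ⟨s', hs'⟩ := Fintype.exists_ne_of_one_lt_card hF one'
    set s : Perm (Fin 11) := s'.1.1.1 with hsdef
    have hs1 : s ≠ 1 := fun h => hs' (Subtype.ext (Subtype.ext (Subtype.ext h)))
    have hss : s * s = 1 := by
      have := congrArg Subtype.val s'.1.2
      simp only [Subgroup.coe_inv] at this
      rw [← inv_inv (s * s), mul_inv_rev, this]
      calc (s * s)⁻¹ = s⁻¹ * s⁻¹ := mul_inv_rev s s
        _ = s⁻¹ * s := by rw [this]
        _ = 1 := inv_mul_cancel s
    have hcomm : s * w0 = w0 * s := by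
      have := congrArg (fun g : T2 => g.1.1) s'.2
      exact (mul_inv_eq_iff_eq_mul.1 this).symm
    have hs8 : s.support.card = 8 := by
      have h8 : 7 < s.support.card := by
        by_contra h
        exact hs1 (hfree s s'.1.1.2.1 (by omega))
      have ho : orderOf s = 2 := orderOf_eq_prime (by rw [pow_two, hss]) hs1
      obtain ⟨k, hk⟩ := Perm.cycleType_prime_order (σ := s) (ho ▸ Nat.prime_two)
      rw [ho] at hk
      have hsum := s.sum_cycleType
      rw [hk, Multiset.sum_replicate, smul_eq_mul] at hsum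
      have hle : s.support.card ≤ 11 := (Finset.card_le_univ _).trans (by simp)
      have hsign : Perm.sign s = 1 := Perm.mem_alternatingGroup.1 s'.1.1.2.2
      rw [Perm.sign_of_cycleType, hk] at hsign
      rcases (show k = 3 ∨ k = 4 by omega) with rfl | rfl
      · omega
      · exact absurd hsign (by decide)
    exact h7 (seven_dvd_of_odd hx hz s'.1.1.2.1 hss hcomm hs8)
  have hMH : M = H := inf_eq_left.2 hHA
  -- simplicity
  have hsimple : IsSimpleGroup M := by
    have : Nontrivial M := Finite.one_lt_card_iff_nontrivial.1 (by omega)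
    refine ⟨fun K hK => ?_⟩
    by_contra hK'
    push Not at hK'
    obtain ⟨hK1, hKtop⟩ := hK'
    obtain ⟨h11K, hKt⟩ := dvd_card_normal_of_prime hα M K hK1
    obtain ⟨k, hk'⟩ := exists_prime_orderOf_dvd_card' 11 h11K
    obtain ⟨T, hT⟩ := sylow_eq_zpowers (H := M) (u := (k : M)) (by rw [Subgroup.orderOf_coe, hk'])
    have hTK : (T : Subgroup M) ≤ K := hT ▸ Subgroup.zpowers_le.2 k.2
    have hsup := T.normalizer_sup_eq_top' hTK
    set NT := Subgroup.normalizer ((T : Subgroup M) : Set M) with hNT
    have hNT55 : Nat.card NT = 55 := by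
      have h := Subgroup.card_mul_index NT
      rw [← show Nat.card (Sylow 11 M) = NT.index from T.card_eq_index_normalizer, hn12, hM] at h
      omega
    have hidx : Nat.card (K.subgroupOf NT) * K.index = 55 := by
      have h := Subgroup.card_mul_index (K.subgroupOf NT)
      rwa [show (K.subgroupOf NT).index = K.index by
        show K.relIndex NT = K.index
        rw [← Subgroup.relIndex_sup_right, show NT ⊔ K = ⊤ from hsup,
          Subgroup.relIndex_top_right], hNT55] at h
    have h11 : 11 ∣ Nat.card (K.subgroupOf NT) := by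
      have hT11 : Nat.card T = 11 := card_sylow_of_prime (Ω := Fin 11) hα' T
      refine hT11.symm.dvd.trans (dvd_trans (Eq.dvd ?_)
        (Subgroup.card_dvd_of_le (Subgroup.comap_mono (f := NT.subtype) hTK)))
      exact (Nat.card_congr (Subgroup.subgroupOfEquivOfLe
        (show (T : Subgroup M) ≤ NT from Subgroup.le_normalizer)).toEquiv).symm
    have hi1 : K.index ≠ 1 := fun h => hKtop (Subgroup.index_eq_one.1 h)
    obtain ⟨j, hj⟩ := h11
    rw [hj, mul_assoc] at hidx
    have hj5 : j * K.index = 5 := by omega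
    rcases (Nat.dvd_prime (show Nat.Prime 5 by decide)).1 (Dvd.intro_left j hj5) with h | h
    · exact hi1 h
    rw [h] at hj5
    have hj1 : j = 1 := by omega
    rw [hj1, mul_one] at hj
    set K' : Subgroup (Perm (Fin 11)) := K.map M.subtype
    have : IsPretransitive K' (Fin 11) := ⟨fun u v => by
      obtain ⟨g, hg⟩ := exists_smul_eq K u v
      exact ⟨⟨_, ⟨g.1, g.2, rfl⟩⟩, hg⟩⟩
    let eK : K ≃* K' := K.equivMapOfInjective M.subtype Subtype.val_injective
    let R : Sylow 11 K := T.subtype hTK
    let R' : Sylow 11 K' := R.mapSurjective (f := eK.toMonoidHom) eK.surjective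
    have hR : Nat.card ↥(Subgroup.normalizer ((R : Subgroup K) : Set K)) = 11 := by
      refine le_antisymm ?_ ?_
      · refine le_trans ?_ hj.le
        rw [← Subgroup.card_map_of_injective (K := K.subgroupOf NT) (f := NT.subtype)
          Subtype.val_injective,
          ← Subgroup.card_map_of_injective (f := K.subtype) Subtype.val_injective]
        refine Nat.le_of_dvd Nat.card_pos (Subgroup.card_dvd_of_le ?_)
        rintro _ ⟨g, hg, rfl⟩
        refine ⟨⟨g.1, ?_⟩, g.2, rfl⟩
        have := Subgroup.le_normalizer_map (H := (R : Subgroup K)) K.subtype ⟨g, hg, rfl⟩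
        rwa [Sylow.coe_subtype, Subgroup.map_subgroupOf_eq_of_le hTK] at this
      · refine (card_sylow_of_prime (Ω := Fin 11) hα' R).symm.le.trans ?_
        exact Nat.le_of_dvd Nat.card_pos (Subgroup.card_dvd_of_le Subgroup.le_normalizer)
    have hR' : Nat.card ↥(Subgroup.normalizer ((R' : Subgroup K') : Set K')) = 11 := by
      rw [show ((R' : Subgroup K')) = (R : Subgroup K).map eK.toMonoidHom from rfl,
        ← Subgroup.map_equiv_normalizer_eq, Subgroup.card_map_of_injective eK.injective, hR]
    have := card_eq_of_normalizer_eq hα K' R' hR'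
    have hKM := Subgroup.card_mul_index K
    rw [h, hM, Nat.card_congr eK.toEquiv, this] at hKM
    omega
  obtain ⟨i⟩ := Cfsg.Agent.Lib.PSLTwo.iso_psl_of_sylow (G := M) (p := 11) (d := 5) (by norm_num)
    (by norm_num) (by rw [hM]) (by rw [hn12])
  exact ⟨(MulEquiv.subgroupCongr hMH.symm).trans i⟩

/-- A non-solvable transitive permutation group on 11 points that does not contain the alternating group is either sharply 4-transitive (of order 7920) or isomorphic to the projective special linear group of degree 2 over the field with 11 elements. -/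
theorem result {α : Type*} [Fintype α] [DecidableEq α] (hα : Fintype.card α = 11) (G : Subgroup (Equiv.Perm α)) [MulAction.IsPretransitive G α] (hG : ¬ Group.IsSolvable G) (hA : ¬ alternatingGroup α ≤ G) : (MulAction.IsMultiplyPretransitive G α 4 ∧ ∀ x : Fin 4 ↪ α, MulAction.stabilizer G x = ⊥) ∨ Nonempty (G ≃* Matrix.ProjectiveSpecialLinearGroup (Fin 2) (ZMod 11)) := by
  classical
  have hp : Fact (Nat.Prime 11) := ⟨by decide⟩
  have hα' : Nat.card α = 11 := by rw [Nat.card_eq_fintype_card, hα]
  obtain ⟨x', hx'⟩ := exists_prime_orderOf_dvd_card' 11 (dvd_card_of_transitive hα G)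
  set x : Perm α := x'.1 with hxdef
  have hx : orderOf x = 11 := by rw [hxdef, ← hx', Subgroup.orderOf_coe]
  have hx11 : x ^ 11 = 1 := hx ▸ pow_orderOf_eq_one x
  have := zpowers_pretransitive_of_prime (Ω := α) hα' hx
  obtain ⟨a⟩ : Nonempty α := Fintype.card_pos_iff.1 (by omega)
  have hmp : ∀ i : ℕ, (x ^ i) a = (x ^ (i % 11)) a := fun i => by
    conv_lhs => rw [← Nat.mod_add_div i 11, pow_add, pow_mul, hx11, one_pow, mul_one]
  have hbij : Function.Bijective fun i : Fin 11 => (x ^ (i : ℕ)) a := by
    rw [Fintype.bijective_iff_surjective_and_card, Fintype.card_fin, hα]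
    refine ⟨fun y => ?_, rfl⟩
    obtain ⟨⟨w, hw⟩, hwy⟩ := exists_smul_eq (Subgroup.zpowers x) a y
    obtain ⟨i, -, rfl⟩ := Finset.mem_image.1 ((mem_zpowers_iff_mem_range_orderOf (x := x)).1 hw)
    exact ⟨⟨i % 11, Nat.mod_lt _ (by norm_num)⟩, (hmp i).symm.trans hwy⟩
  let e : Fin 11 ≃ α := Equiv.ofBijective _ hbij
  have hE : ∀ (f : Perm (Fin 11)) (i : Fin 11), e.permCongrHom f (e i) = e (f i) := fun f i => by
    simp [Equiv.permCongrHom]
  have hxe : e.permCongrHom x0 = x := by
    refine Equiv.ext fun y => ?_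
    obtain ⟨i, rfl⟩ := e.surjective y
    rw [hE]
    show (x ^ ((i + 1 : Fin 11) : ℕ)) a = x ((x ^ (i : ℕ)) a)
    rw [Fin.val_add, ← hmp, ← Perm.mul_apply, ← pow_succ']
    rfl
  set H : Subgroup (Perm (Fin 11)) := G.comap e.permCongrHom.toMonoidHom
  have hH : ∀ g : G, e.permCongrHom.symm (g : Perm α) ∈ H := fun g => by
    show e.permCongrHom (e.permCongrHom.symm (g : Perm α)) ∈ G
    rw [MulEquiv.apply_symm_apply]; exact g.2
  let iso : H ≃* G :=
    { toFun := fun h => ⟨e.permCongrHom h, h.2⟩
      invFun := fun g => ⟨e.permCongrHom.symm g, hH g⟩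
      left_inv := fun h => Subtype.ext (e.permCongrHom.symm_apply_apply _)
      right_inv := fun g => Subtype.ext (e.permCongrHom.apply_symm_apply _)
      map_mul' := fun h h' => Subtype.ext (map_mul e.permCongrHom _ _) }
  have hxH : x0 ∈ H := by
    show e.permCongrHom x0 ∈ G
    rw [hxe]; exact x'.2
  have hHs : ¬ Group.IsSolvable H := fun h =>
    hG (Group.isSolvable_of_surjective (f := iso.toMonoidHom) iso.surjective)
  have hHA : ¬ alternatingGroup (Fin 11) ≤ H := fun h => hA fun g hg => by
    have : e.permCongrHom.symm g ∈ alternatingGroup (Fin 11) := by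
      rw [Perm.mem_alternatingGroup] at hg ⊢
      rw [← hg]
      conv_rhs => rw [← e.permCongrHom.apply_symm_apply g]
      simp [Equiv.permCongrHom, Perm.sign_permCongr]
    have := h this
    change e.permCongrHom (e.permCongrHom.symm g) ∈ G at this
    rwa [MulEquiv.apply_symm_apply] at this
  rcases core H hxH hHs hHA with ⟨hfree, hcard⟩ | ⟨⟨i⟩⟩
  swap
  · exact Or.inr ⟨iso.symm.trans i⟩
  left
  have hGc : Nat.card G = 7920 := by rw [← Nat.card_congr iso.toEquiv, hcard]
  have hstab : ∀ x : Fin 4 ↪ α, stabilizer G x = ⊥ := by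
    intro q
    rw [Subgroup.eq_bot_iff_forall]
    intro g hg
    have hfix : ∀ j, (g : Perm α) (q j) = q j := fun j => by
      simpa [Function.Embedding.smul_apply, Subgroup.smul_def] using DFunLike.congr_fun hg j
    have h := hfree _ (hH g) ?_
    · refine Subtype.ext ?_
      rw [← e.permCongrHom.apply_symm_apply (g : Perm α), h, map_one]; rfl
    have hsub : (e.permCongrHom.symm (g : Perm α)).support ⊆
        ((Finset.univ : Finset (Fin 4)).map (q.trans e.symm.toEmbedding))ᶜ := by
      intro y hy
      rw [Finset.mem_compl, Finset.mem_map]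
      rintro ⟨j, -, rfl⟩
      refine Perm.mem_support.1 hy (e.injective ?_)
      rw [← hE, MulEquiv.apply_symm_apply]
      simp [hfix]
    refine (Finset.card_le_card hsub).trans ?_
    simp [Finset.card_compl]
  refine ⟨?_, hstab⟩
  obtain ⟨q⟩ : Nonempty (Fin 4 ↪ α) := Function.Embedding.nonempty_of_card_le (by simp; omega)
  have hf : Function.Bijective fun g : G => g • q := by
    rw [Fintype.bijective_iff_injective_and_card]
    refine ⟨fun g g' h => ?_, ?_⟩
    · have : g⁻¹ * g' ∈ stabilizer G q := by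
        rw [mem_stabilizer_iff, mul_smul]
        exact inv_smul_eq_iff.2 h.symm
      rwa [hstab, Subgroup.mem_bot, inv_mul_eq_one] at this
    · rw [← Nat.card_eq_fintype_card, hGc, Fintype.card_embedding_eq, hα, Fintype.card_fin]; rfl
  refine ⟨fun u v => ?_⟩
  obtain ⟨g, rfl⟩ := hf.2 u
  obtain ⟨g', rfl⟩ := hf.2 v
  exact ⟨g' * g⁻¹, Function.Embedding.ext fun i => by
    simp [Function.Embedding.smul_apply, smul_smul]⟩

end Cfsg.Agent.S0679
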