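import Mathlib
import Cfsg.Statements.S4602
import Cfsg.Agent.Lib.Coprime.Basic
import Cfsg.Agent.Lib.LocalFusion.PSolvable
import Cfsg.Agent.Lib.Hall.Basic
import Cfsg.Agent.Lib.Char2.Basic
import Cfsg.Agent.Lib.PLength.Basic

set_option autoImplicit false

open scoped commutatorElement Pointwise

namespace Cfsg.Agent.S4602

/-- Let G be a finite p-solvable group and q a prime different from p. Some Sylow p-subgroup of G normalizes some Sylow q-subgroup of G if and only if q does not divide the order of G/O_{p'}(G), the quotient by the largest normal subgroup of order prime to p. -/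
theorem result {G : Type*} [Group G] [Finite G] (p q : ℕ) [Fact p.Prime] [Fact q.Prime] (hpq : p ≠ q) (hsolv : Cfsg.IsPSolvable p G) :
    (∃ (P : Sylow p G) (Q : Sylow q G), (P : Subgroup G) ≤ Subgroup.normalizer ((Q : Subgroup G) : Set G)) ↔ ¬ q ∣ (Cfsg.pPrimeCore p G).index := by
  classical
  haveI : (Cfsg.pPrimeCore p G).Normal := Cfsg.pPrimeCore_normal p G
  set K := Cfsg.pPrimeCore p G with hK
  have hKp : ¬ p ∣ Nat.card K := Cfsg.Agent.Lib.Hall.not_dvd_card_pPrimeCore (Fact.out : p.Prime)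
  constructor
  · rintro ⟨P, Q, hPQ⟩ hq
    let π := QuotientGroup.mk' K
    have hπ : Function.Surjective π := QuotientGroup.mk'_surjective K
    have hS := Cfsg.Agent.Lib.PLength.isPSolvable_map (f := π) hπ hsolv
    have hO : Cfsg.pPrimeCore p (G ⧸ K) = ⊥ := Cfsg.Agent.Lib.Char2.pPrimeCore_quotient_eq_bot p
    have hcen := Cfsg.Agent.Lib.LocalFusion.centralizer_pCore_le_of_isPSolvable hS hO
    set P' := P.mapSurjective hπ with hP'
    set Q' := Q.mapSurjective hπ with hQ'
    have hle : Cfsg.pCore p (G ⧸ K) ≤ (P' : Subgroup (G ⧸ K)) := Cfsg.Agent.Lib.Hall.pCore_le_sylow P'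
    have hn : (P' : Subgroup (G ⧸ K)) ≤ Subgroup.normalizer ((Q' : Subgroup (G ⧸ K)) : Set (G ⧸ K)) := by
      rintro _ ⟨x, hx, rfl⟩
      exact Subgroup.le_normalizer_map π ⟨x, hPQ hx, rfl⟩
    haveI := Cfsg.pCore_normal p (G ⧸ K)
    have hdis : Disjoint (Cfsg.pCore p (G ⧸ K)) (Q' : Subgroup (G ⧸ K)) :=
      IsPGroup.disjoint_of_ne p q hpq _ _ (Cfsg.Agent.Lib.Hall.isPGroup_pCore p) Q'.2
    have hQle : (Q' : Subgroup (G ⧸ K)) ≤ Cfsg.pCore p (G ⧸ K) := by
      refine le_trans ?_ hcen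
      intro y hy
      rw [Subgroup.mem_centralizer_iff]
      intro x hx
      have h1 : x * y * x⁻¹ * y⁻¹ ∈ Cfsg.pCore p (G ⧸ K) := by
        rw [show x * y * x⁻¹ * y⁻¹ = x * (y * x⁻¹ * y⁻¹) by group]
        exact Subgroup.mul_mem _ hx
          ((Cfsg.pCore_normal p (G ⧸ K)).conj_mem _ (Subgroup.inv_mem _ hx) y)
      have h2 : x * y * x⁻¹ * y⁻¹ ∈ (Q' : Subgroup (G ⧸ K)) :=
        Subgroup.mul_mem _ ((Subgroup.mem_normalizer_iff.1 (hn (hle hx)) y).1 hy) (Subgroup.inv_mem _ hy)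
      have h3 := Subgroup.disjoint_def.1 hdis h1 h2
      exact mul_inv_eq_one.1 (by rwa [mul_inv_rev, ← mul_assoc])
    have hbot : (Q' : Subgroup (G ⧸ K)) = ⊥ := by
      rw [← inf_eq_right.2 hQle]; exact hdis.eq_bot
    have h := Q'.not_dvd_index
    rw [hbot, Subgroup.index_bot] at h
    exact h (Subgroup.index_eq_card K ▸ hq)
  · intro hq
    obtain ⟨Q₀⟩ := (inferInstance : Nonempty (Sylow q K))
    obtain ⟨Q, hQ⟩ : ∃ Q : Sylow q G, (Q : Subgroup G) = (Q₀ : Subgroup K).map K.subtype := by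
      have hpg : IsPGroup q ↥((Q₀ : Subgroup K).map K.subtype) := Q₀.2.map _
      have hidx : ¬ q ∣ ((Q₀ : Subgroup K).map K.subtype).index := by
        rw [Subgroup.index_map_subtype]
        exact fun h => ((Fact.out : q.Prime).dvd_mul.1 h).elim Q₀.not_dvd_index hq
      exact ⟨hpg.toSylow hidx, IsPGroup.toSylow_coe hpg hidx⟩
    have hF := Sylow.normalizer_sup_eq_top Q₀
    rw [← hQ] at hF
    set N := Subgroup.normalizer ((Q : Subgroup G) : Set G) with hN
    have hNi : ¬ p ∣ N.index := by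
      intro h
      have h1 := Cfsg.Agent.Lib.Coprime.card_sup_mul_card_inf K N
      rw [hF, Subgroup.card_top, ← N.card_mul_index, inf_comm N K] at h1
      have h2 : N.index * Nat.card ↥(K ⊓ N) = Nat.card K :=
        Nat.eq_of_mul_eq_mul_left (Nat.card_pos (α := N)) (by rw [← mul_assoc, h1, mul_comm])
      exact hKp (h.trans (Dvd.intro _ h2))
    obtain ⟨P₀⟩ := (inferInstance : Nonempty (Sylow p N))
    have hidx : ¬ p ∣ ((P₀ : Subgroup N).map N.subtype).index := by
      rw [Subgroup.index_map_subtype]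
      exact fun h => ((Fact.out : p.Prime).dvd_mul.1 h).elim P₀.not_dvd_index hNi
    have hpg : IsPGroup p ↥((P₀ : Subgroup N).map N.subtype) := P₀.2.map _
    exact ⟨hpg.toSylow hidx, Q, Subgroup.map_subtype_le _⟩

end Cfsg.Agent.S4602
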