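import Cfsg.Statements.S3331
import Cfsg.Agent.Lib.FTThree.Main
import Cfsg.Agent.Lib.LocalChar.FpfSLTwo
import Cfsg.Agent.Lib.SmallSimple.Order168
import Cfsg.Agent.Lib.SmallSimple.Basic
import Cfsg.Agent.Lib.Recog.SLTwo
import Cfsg.Agent.Lib.Classical.Order

set_option autoImplicit false
open Cfsg

set_option linter.style.haveILetI false

namespace Cfsg.Agent.S3331

open Cfsg.Agent.Lib

/-- A group of order six with a self-centralizing element of order three is `Sym(3)`. -/
theorem perm_three {Q : Type*} [Group Q] [Finite Q] {x : Q} (hx : orderOf x = 3)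
    (hC : Subgroup.centralizer ({x} : Set Q) = Subgroup.zpowers x) (h6 : Nat.card Q = 6) :
    Nonempty (Q ≃* Equiv.Perm (Fin 3)) := by
  classical
  haveI : Fact (Nat.Prime 2) := ⟨Nat.prime_two⟩
  obtain ⟨s, hs⟩ := exists_prime_orderOf_dvd_card' (G := Q) 2 (by rw [h6]; norm_num)
  set T := Subgroup.zpowers s with hT
  have hT2 : Nat.card T = 2 := by rw [Nat.card_zpowers, hs]
  have h3 : Nat.card (Q ⧸ T) = 3 := by
    have := Subgroup.card_eq_card_quotient_mul_card_subgroup T
    rw [h6, hT2] at this
    omega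
  have hcore : T.normalCore = ⊥ := by
    have hd : Nat.card T.normalCore ∣ 2 := hT2 ▸ Subgroup.card_dvd_of_le T.normalCore_le
    rcases (Nat.dvd_prime Nat.prime_two).1 hd with e | e
    · exact Subgroup.eq_bot_of_card_eq _ e
    · exfalso
      have heq : T.normalCore = T := Subgroup.eq_of_le_of_card_ge T.normalCore_le (by rw [hT2, e])
      have hn : T.Normal := heq ▸ inferInstance
      have hc : x * s * x⁻¹ ∈ T := hn.conj_mem s (Subgroup.mem_zpowers s) x
      rw [hT, ← mem_powers_iff_mem_zpowers, mem_powers_iff_mem_range_orderOf, hs] at hc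
      simp only [Finset.mem_image, Finset.mem_range] at hc
      obtain ⟨k, hk, hks⟩ := hc
      interval_cases k
      · rw [pow_zero, eq_comm, conj_eq_one_iff] at hks
        rw [hks, orderOf_one] at hs
        omega
      · rw [pow_one] at hks
        have : s ∈ Subgroup.zpowers x := hC ▸ Subgroup.mem_centralizer_singleton_iff.2
          (mul_inv_eq_iff_eq_mul.1 hks.symm).symm
        have := (Subgroup.zpowers x).orderOf_dvd_natCard this
        rw [hs, Nat.card_zpowers, hx] at this
        omega
  have e3 : (Q ⧸ T) ≃ Fin 3 := Classical.choice (Finite.card_eq.1 (by rw [h3, Nat.card_fin]))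
  let f : Q →* Equiv.Perm (Fin 3) := e3.permCongrHom.toMonoidHom.comp (MulAction.toPermHom Q (Q ⧸ T))
  have hinj : Function.Injective f := by
    refine e3.permCongrHom.injective.comp ?_
    rw [← MonoidHom.ker_eq_bot_iff, ← Subgroup.normalCore_eq_ker, hcore]
  exact ⟨MulEquiv.ofBijective f ((Nat.bijective_iff_injective_and_card f).2
    ⟨hinj, by rw [h6, Nat.card_perm, Nat.card_fin]; rfl⟩)⟩

/-- Let G be a finite group containing a subgroup X of order 3 with C_G(X) = X. Then one of the following holds: G has a nilpotent normal subgroup N of order prime to 3 with G/N of order 3 or isomorphic to Sym(3); or G has an elementary abelian normal 2-subgroup N with G/N isomorphic to the alternating group of degree 5; or G is isomorphic to PSL(2,7). -/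
theorem result {G : Type*} [Group G] [Finite G]
    (X : Subgroup G) (hX : Nat.card X = 3) (hC : Subgroup.centralizer (X : Set G) = X) :
    (∃ (N : Subgroup G) (hN : N.Normal), Group.IsNilpotent N ∧ (Nat.card N).Coprime 3 ∧
        (Nat.card (G ⧸ N) = 3 ∨ Nonempty (G ⧸ N ≃* Equiv.Perm (Fin 3)))) ∨
    (∃ (N : Subgroup G) (hN : N.Normal), IsMulCommutative N ∧ (∀ n ∈ N, n ^ 2 = 1) ∧
        Nonempty (G ⧸ N ≃* alternatingGroup (Fin 5))) ∨
    Nonempty (G ≃* Matrix.ProjectiveSpecialLinearGroup (Fin 2) (ZMod 7)) := by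
  haveI : Fact (Nat.Prime 3) := ⟨by norm_num⟩
  haveI : IsCyclic X := isCyclic_of_prime_card hX
  obtain ⟨g, hg⟩ := IsCyclic.exists_generator (α := X)
  set x : G := g.1 with hxdef
  have hXx : Subgroup.zpowers x = X := by
    refine le_antisymm (Subgroup.zpowers_le.2 g.2) fun y hy => ?_
    obtain ⟨k, hk⟩ := Subgroup.mem_zpowers_iff.1 (hg ⟨y, hy⟩)
    exact Subgroup.mem_zpowers_iff.2 ⟨k, by simpa using congrArg Subtype.val hk⟩
  have hx : orderOf x = 3 := by rw [← Nat.card_zpowers, hXx, hX]
  have hCx : Subgroup.centralizer ({x} : Set G) = Subgroup.zpowers x := by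
    rw [hXx]
    conv_rhs => rw [← hC, ← hXx, Subgroup.zpowers_eq_closure, Subgroup.centralizer_closure]
  obtain ⟨S, hS, hS3, hcase⟩ := FTThree.shape hx hCx
  haveI := hS
  have hSi : FTThree.IsInv x S :=
    ⟨by rw [Subgroup.normalizer_eq_top_iff.2 hS]; exact Subgroup.mem_top x, hS3⟩
  obtain ⟨hqx, hqC⟩ := Char.SC.centralizer_quotient hx hCx S hS3
  rcases hcase with h36 | ⟨hS2, hsimp, hord⟩
  · refine Or.inl ⟨S, hS, hSi.nilpotent hx hCx,
      Nat.Coprime.symm ((Nat.Prime.coprime_iff_not_dvd (by norm_num)).2 hS3), ?_⟩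
    exact h36.imp id fun h => perm_three hqx hqC h
  haveI := hsimp
  rcases hord with h60 | ⟨h168, hbot⟩
  · refine Or.inr (Or.inl ?_)
    obtain ⟨e5⟩ := SmallSimple.nonempty_mulEquiv_alternatingFive h60
    letI : Fintype (GaloisField 2 2) := Fintype.ofFinite _
    haveI : DecidableEq (GaloisField 2 2) := Classical.decEq _
    have hF : Fintype.card (GaloisField 2 2) = 4 := by
      rw [← Nat.card_eq_fintype_card, GaloisField.card 2 2 two_ne_zero]; norm_num
    haveI : IsSimpleGroup (Matrix.ProjectiveSpecialLinearGroup (Fin 2) (GaloisField 2 2)) :=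
      Matrix.ProjectiveSpecialLinearGroup.rank_two_simple (by rw [Nat.card_eq_fintype_card, hF])
    have hc : Nat.card (Matrix.ProjectiveSpecialLinearGroup (Fin 2) (GaloisField 2 2)) = 60 := by
      have h := Classical.card_PSL_two (F := GaloisField 2 2)
      rw [hF, show Nat.gcd 2 (4 - 1) = 1 by decide, one_mul] at h
      exact h
    obtain ⟨eP⟩ := SmallSimple.nonempty_mulEquiv_alternatingFive hc
    let π := QuotientGroup.mk' (Subgroup.center (Matrix.SpecialLinearGroup (Fin 2) (GaloisField 2 2)))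
    have hπ : Function.Bijective π := ⟨by
      rw [← MonoidHom.ker_eq_bot_iff, QuotientGroup.ker_mk']
      exact Recog.sl2_center_eq_bot, QuotientGroup.mk'_surjective _⟩
    let e : G ⧸ S ≃* Matrix.SpecialLinearGroup (Fin 2) (GaloisField 2 2) :=
      (e5.trans eP.symm).trans (MulEquiv.ofBijective π hπ).symm
    have hex : ∃ c : GaloisField 2 2, c ≠ 0 ∧ c ≠ 1 := by
      by_contra hh
      push Not at hh
      have hsub : (Finset.univ : Finset (GaloisField 2 2)) ⊆ {0, 1} := fun c _ => by
        by_cases h0 : c = 0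
        · simp [h0]
        · simp [hh c h0]
      have := (Finset.card_le_card hsub).trans Finset.card_le_two
      rw [Finset.card_univ, hF] at this
      omega
    obtain ⟨hel, -⟩ := LocalChar.FpfSLTwo.higman hS2 hex e x hx fun q hq h =>
      hSi.eq_one hx hCx hq (mul_inv_eq_iff_eq_mul.1 h)
    exact ⟨S, hS, hel.1, hel.2, ⟨e5⟩⟩
  · subst hbot
    refine Or.inr (Or.inr ?_)
    have e0 : G ⧸ (⊥ : Subgroup G) ≃* G := QuotientGroup.quotientBot
    haveI : IsSimpleGroup G := e0.symm.isSimpleGroup
    haveI : Fact (Nat.Prime 7) := ⟨by norm_num⟩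
    haveI : IsSimpleGroup (Matrix.ProjectiveSpecialLinearGroup (Fin 2) (ZMod 7)) :=
      Matrix.ProjectiveSpecialLinearGroup.rank_two_simple (by rw [Nat.card_zmod]; norm_num)
    have hc : Nat.card (Matrix.ProjectiveSpecialLinearGroup (Fin 2) (ZMod 7)) = 168 := by
      have h := Classical.card_PSL_two (F := ZMod 7)
      rw [ZMod.card, show Nat.gcd 2 (7 - 1) = 2 by decide] at h
      norm_num [-Nat.card_eq_fintype_card] at h
      omega
    obtain ⟨e1⟩ := SmallSimple.equiv_lineGroup (G := G) (by rw [← h168, Nat.card_congr e0.toEquiv])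
    obtain ⟨e2⟩ := SmallSimple.equiv_lineGroup (G := Matrix.ProjectiveSpecialLinearGroup (Fin 2) (ZMod 7)) hc
    exact ⟨e1.trans e2.symm⟩

end Cfsg.Agent.S3331
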