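import Cfsg.Statements.S1230
import Cfsg.Agent.Lib.Involution.ElemCent
import Cfsg.Agent.Lib.Zass.SharpEven

set_option autoImplicit false
open Cfsg

namespace Cfsg.Agent.S1230

open Cfsg.Agent.Lib.Involution Subgroup


/-- Let G be a finite group with a Sylow 2-subgroup T that is neither cyclic nor normal, such that the centralizer of every involution is an elementary abelian 2-group. Then G ≅ PSL(2,F) for a finite field F with |F| = |T|. -/
theorem result {G : Type*} [Group G] [Finite G] (T : Sylow 2 G) (hnc : ¬ IsCyclic (T : Subgroup G)) (hnn : ¬ (T : Subgroup G).Normal) (hC : ∀ t : G, orderOf t = 2 → IsMulCommutative (Subgroup.centralizer ({t} : Set G)) ∧ ∀ c ∈ Subgroup.centralizer ({t} : Set G), c ^ 2 = 1) : ∃ (F : Type) (_ : Field F) (_ : Fintype F), Fintype.card F = Nat.card T ∧ Nonempty (G ≃* Matrix.ProjectiveSpecialLinearGroup (Fin 2) F) := by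
  classical
  have h : ElemCent T := ⟨hnc, hnn, hC⟩
  haveI : Fact (Nat.Prime 2) := ⟨Nat.prime_two⟩
  set H := normalizer ((T : Subgroup G) : Set G) with hH
  haveI : Fintype (G ⧸ H) := Fintype.ofFinite _
  obtain ⟨u, hu, huH⟩ := h.exists_outside
  set o : G ⧸ H := QuotientGroup.mk 1 with ho
  set p : G ⧸ H := QuotientGroup.mk u with hp
  have hpo : p ≠ o := fun he => huH (H.inv_mem_iff.mp (by simpa using QuotientGroup.eq.mp he))
  have hfix : ∀ t ∈ (T : Subgroup G), t • o = o := fun t ht => by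
    rw [ho, h.smul_eq_iff]; simpa using (T : Subgroup G).le_normalizer ht
  have hTo : ∀ t ∈ (T : Subgroup G), t • p ≠ o := fun t ht he =>
    hpo (MulAction.injective t (he.trans (hfix t ht).symm))
  have hcard : Fintype.card (G ⧸ H) = Nat.card T + 1 := by
    have hb : Function.Bijective (fun t : (T : Subgroup G) => (⟨(t : G) • p, hTo t t.2⟩ : {x : G ⧸ H // x ≠ o})) := by
      constructor
      · intro a b hab
        obtain ⟨t, -, huniq⟩ := h.regular p ((a : G) • p) hpo (hTo a a.2)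
        exact Subtype.ext ((huniq a ⟨a.2, rfl⟩).trans (huniq b ⟨b.2, (congrArg Subtype.val hab).symm⟩).symm)
      · rintro ⟨x, hx⟩
        obtain ⟨t, ⟨ht, htx⟩, -⟩ := h.regular p x hpo hx
        exact ⟨⟨t, ht⟩, Subtype.ext htx⟩
    rw [Nat.card_eq_of_bijective _ hb, Nat.card_eq_fintype_card, Fintype.card_subtype_compl,
      Fintype.card_subtype_eq]
    have := Fintype.card_pos_iff.mpr ⟨o⟩
    omega
  have hodd : Odd (Fintype.card (G ⧸ H)) := by
    rw [← Nat.card_eq_fintype_card, Nat.odd_iff]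
    have h1 : ¬ 2 ∣ H.index := fun hd => T.not_dvd_index (hd.trans (index_dvd_of_le le_normalizer))
    rw [Subgroup.index_eq_card] at h1
    omega
  have hsharp : Lib.Zass.Sharp3 G (G ⧸ H) :=
    ⟨fun a b c a' b' c' h1 h2 h3 h4 h5 h6 => h.three_transitive.1 a b c a' b' c' h1 h3 h2 h4 h6 h5,
     fun g a b c h1 h2 h3 ga gb gc => h.three_transitive.2 g a b c h1 h3 h2 ga gb gc, by
      rw [Nat.card_eq_fintype_card, hcard]; have := h.four_le; omega⟩
  haveI : FaithfulSMul G (G ⧸ H) := ⟨fun {g g'} hg => by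
    obtain ⟨x, hxo, hxp⟩ := hsharp.exists_third o p
    refine inv_mul_eq_one.mp (hsharp.sharp (g⁻¹ * g') o p x hpo.symm hxp.symm hxo.symm ?_ ?_ ?_) <;>
      rw [mul_smul, ← hg, inv_smul_smul]⟩
  obtain ⟨f, hf, hΩ, K, hK1, hK2, hK, ⟨e⟩⟩ := Lib.Zass.pgl_of_sharp3_odd hsharp hodd
  refine ⟨K, hK1, hK2, by omega, ⟨e.trans (MulEquiv.ofBijective Matrix.ProjectiveSpecialLinearGroup.toPGL
    ⟨Matrix.ProjectiveSpecialLinearGroup.toPGL_injective,
     Matrix.ProjectiveSpecialLinearGroup.toPGL_surj_of_roots fun r => ?_⟩).symm⟩⟩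
  have hchar : ringChar K = 2 := FiniteField.even_card_iff_char_two.mpr (by
    rw [hK, ← Nat.even_iff]; exact Nat.even_pow.mpr ⟨even_two, hf⟩)
  obtain ⟨k, hk⟩ := FiniteField.isSquare_of_char_two hchar (r : K)
  refine ⟨Units.mk0 k (fun h0 => r.ne_zero (by rw [hk, h0, mul_zero])), Units.ext ?_⟩
  rw [Fintype.card_fin]
  simp [hk, pow_two]

end Cfsg.Agent.S1230
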