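import Cfsg.Statements.S0671
import Cfsg.Agent.Lib.Perm.Modules

set_option autoImplicit false
open Cfsg

namespace Cfsg.Agent.S0671

open MulAction in
theorem invariant_offDiag {G : Type*} [Group G] [Finite G] {K : Type*} [Field K] {p f : ℕ}
    [Fact p.Prime] [CharP K p] {Ω : Type*} [Fintype Ω] [MulAction G Ω] [IsPretransitive G Ω]
    (hcard : Nat.card Ω = p ^ f)
    (h : ∀ W W' : Subrepresentation (Cfsg.permRep K G Ω),
      (Cfsg.permConstants K G Ω).toSubmodule ≤ W.toSubmodule → W.toSubmodule < W'.toSubmodule →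
      W'.toSubmodule ≤ (Cfsg.permSumZero K G Ω).toSubmodule →
      ∃ g : G, ∃ v ∈ W'.toSubmodule, Cfsg.permRep K G Ω g v - v ∉ W.toSubmodule)
    (φ : Ω → Ω → K) (hφ : ∀ (g : G) y x, φ (g • y) (g • x) = φ y x)
    (hrow : ∀ y, ∑ x, φ y x = 0) (y x x' : Ω) : φ y x = φ y x' := by
  classical
  let T : (Ω → K) →ₗ[K] (Ω → K) := Lib.Perm.kernelMap φ
  let S := Cfsg.permSumZero K G Ω
  have hT : ∀ (g : G) w, T (Cfsg.permRep K G Ω g w) = Cfsg.permRep K G Ω g (T w) :=
    Lib.Perm.kernelMap_equivariant hφ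
  let W' : Subrepresentation (Cfsg.permRep K G Ω) :=
    ⟨LinearMap.range T, fun g v ⟨w, hw⟩ => ⟨Cfsg.permRep K G Ω g w, by rw [hT, hw]⟩⟩
  let W : Subrepresentation (Cfsg.permRep K G Ω) :=
    ⟨S.toSubmodule.map T, fun g v ⟨w, hwS, hw⟩ =>
      ⟨Cfsg.permRep K G Ω g w, S.apply_mem_toSubmodule g hwS, by rw [hT, hw]⟩⟩
  have hker1 : T (fun _ => 1) = 0 := funext fun y => by simp [T, Lib.Perm.kernelMap_apply, hrow]
  by_cases hW : W.toSubmodule = ⊥
  · refine Lib.Perm.row_constant (fun w hw => ?_) y x x'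
    have : T w ∈ W.toSubmodule := ⟨w, hw, rfl⟩
    rw [hW] at this
    exact (Submodule.mem_bot K).mp this
  exfalso
  have hne : Nonempty Ω := ⟨y⟩
  have hW'top : W'.toSubmodule ≠ ⊤ := by
    intro htop
    have hsurj : Function.Surjective T := LinearMap.range_eq_top.mp htop
    have := (LinearMap.injective_iff_surjective.mpr hsurj) (hker1.trans (map_zero T).symm)
    exact one_ne_zero (congrFun this y)
  have hW'S := Lib.Perm.le_sumZero hcard W' hW'top
  have hle : W.toSubmodule ≤ W'.toSubmodule := by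
    rintro v ⟨w, _, hw⟩
    exact ⟨w, hw⟩
  rcases hle.lt_or_eq with hlt | heq
  · obtain ⟨g, v, ⟨w, hw⟩, hvW⟩ := h W W' (Lib.Perm.constants_le hcard W hW) hlt hW'S
    refine hvW ⟨Cfsg.permRep K G Ω g w - w, ?_, by rw [map_sub, hT, hw]⟩
    show (∑ z, (Cfsg.permRep K G Ω g w - w) z) = 0
    simp only [Pi.sub_apply, Finset.sum_sub_distrib, sub_eq_zero]
    exact (Fintype.sum_equiv (MulAction.toPerm g) _ _ fun z => by
      rw [Lib.Perm.permRep_apply, MulAction.toPerm_apply, inv_smul_smul]).symm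
  · have h1 : T (Pi.single y (1 : K)) ∈ W.toSubmodule := by rw [heq]; exact ⟨_, rfl⟩
    obtain ⟨s, hs, hs'⟩ := h1
    let Z : Subrepresentation (Cfsg.permRep K G Ω) :=
      ⟨LinearMap.ker T, fun g v hv => by
        rw [LinearMap.mem_ker] at hv ⊢; rw [hT, hv, map_zero]⟩
    have hZ : Z.toSubmodule ≠ ⊤ := by
      intro htop
      apply hW
      refine (Submodule.eq_bot_iff _).mpr ?_
      rintro _ ⟨w, _, rfl⟩
      exact LinearMap.mem_ker.mp (show w ∈ Z.toSubmodule from htop ▸ Submodule.mem_top)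
    have h2 := Lib.Perm.le_sumZero hcard Z hZ (show Pi.single y (1 : K) - s ∈ LinearMap.ker T by
      rw [LinearMap.mem_ker, map_sub, hs', sub_self])
    rw [Lib.Perm.mem_permSumZero] at h2
    simp [Lib.Perm.mem_permSumZero.mp hs] at h2


/-- If the heart of the permutation module in characteristic `p` of a transitive action of degree `p ^ f` has no trivial composition factor, the action is doubly transitive. The hypothesis is phrased without composition series: no invariant subspaces `W < W'` between the constants and the sum-zero functions with trivial action on the quotient. -/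
theorem result {G : Type*} [Group G] [Finite G] {K : Type*} [Field K] {p f : ℕ} [Fact p.Prime] [CharP K p] {Ω : Type*} [Fintype Ω] [MulAction G Ω] [MulAction.IsPretransitive G Ω] (hf : 1 ≤ f) (hcard : Fintype.card Ω = p ^ f) (h : ∀ W W' : Subrepresentation (Cfsg.permRep K G Ω), (Cfsg.permConstants K G Ω).toSubmodule ≤ W.toSubmodule → W.toSubmodule < W'.toSubmodule → W'.toSubmodule ≤ (Cfsg.permSumZero K G Ω).toSubmodule → ∃ g : G, ∃ v ∈ W'.toSubmodule, Cfsg.permRep K G Ω g v - v ∉ W.toSubmodule) : MulAction.IsMultiplyPretransitive G Ω 2 := by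
  classical
  have hcard' : Nat.card Ω = p ^ f := by rw [Nat.card_eq_fintype_card]; exact hcard
  rw [MulAction.is_two_pretransitive_iff]
  intro a b c d hab hcd
  let q : Ω × Ω := (a, b)
  let ψ : Ω → Ω → K := Lib.Perm.orbitKernel G K q
  let s : K := ∑ x, ψ a x
  have hs : ∀ y, ∑ x, ψ y x = s := by
    intro y
    obtain ⟨g, rfl⟩ := MulAction.exists_smul_eq G a y
    exact (Fintype.sum_equiv (MulAction.toPerm g) _ _ fun x => (Lib.Perm.orbitKernel_inv q g a x).symm).symm
  let φ : Ω → Ω → K := fun y x => ψ y x - s * if x = y then 1 else 0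
  have hφ : ∀ (g : G) y x, φ (g • y) (g • x) = φ y x := fun g y x => by
    simp only [φ, MulAction.injective g |>.eq_iff, ψ, Lib.Perm.orbitKernel_inv]
  have hrow : ∀ y, ∑ x, φ y x = 0 := fun y => by
    simp [φ, Finset.sum_sub_distrib, hs y, ← Finset.mul_sum]
  obtain ⟨g, hg⟩ := MulAction.exists_smul_eq G c a
  have hne : g • d ≠ a := fun e => hcd (MulAction.injective g (hg.trans e.symm))
  have key := invariant_offDiag hcard' h φ hφ hrow a b (g • d)
  simp only [φ, if_neg hab.symm, if_neg hne, mul_zero, sub_zero] at key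
  have hmem : (a, g • d) ∈ MulAction.orbit G q := by
    by_contra hno
    rw [show ψ a b = 1 from Lib.Perm.orbitKernel_self q,
      show ψ a (g • d) = 0 from Lib.Perm.orbitKernel_of_notMem hno] at key
    exact one_ne_zero key
  obtain ⟨k, hk⟩ := hmem
  refine ⟨g⁻¹ * k, ?_, ?_⟩
  · rw [mul_smul, show k • a = a from congrArg Prod.fst hk, inv_smul_eq_iff, hg]
  · rw [mul_smul, show k • b = g • d from congrArg Prod.snd hk, inv_smul_smul]

end Cfsg.Agent.S0671
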