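import Cfsg.Statements.S4364
import Cfsg.Agent.Lib.Char.Kazarin
import Cfsg.Agent.Lib.Components.Cores
import Cfsg.Agent.Lib.Hall.Solvable
import Cfsg.Agent.Lib.PLength.Basic
-- import your own Cfsg.Agent.* helpers here

set_option autoImplicit false
open Cfsg

namespace Cfsg.Agent.S4364

/-- With trivial `p`-core the conjugates of an element with `p`-power class size commute. -/
theorem commute_conj {H : Type*} [Group H] [Finite H] {p a : ℕ} [Fact p.Prime] (hO : Cfsg.pCore p H = ⊥) (x : H)
    (hx : (Subgroup.centralizer ({x} : Set H)).index = p ^ a) (u v : H) :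
    u * x * u⁻¹ * (v * x * v⁻¹) = v * x * v⁻¹ * (u * x * u⁻¹) := by
  have hq : ∀ q : ℕ, ∀ _ : Fact q.Prime,
      Cfsg.pCore q H ≤ Subgroup.centralizer ({x} : Set H) := by
    intro q _
    by_cases hqp : q = p
    · subst hqp
      rw [hO]
      exact bot_le
    obtain ⟨S⟩ : Nonempty (Sylow q ↥(Subgroup.centralizer ({x} : Set H))) := inferInstance
    have hidx : ¬ q ∣ ((S : Subgroup ↥(Subgroup.centralizer ({x} : Set H))).map
        (Subgroup.centralizer ({x} : Set H)).subtype).index := by
      rw [Subgroup.index_map_subtype, hx]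
      intro h
      rcases (Fact.out : q.Prime).dvd_mul.1 h with h | h
      · exact S.not_dvd_index h
      · exact hqp ((Nat.prime_dvd_prime_iff_eq Fact.out Fact.out).1
          ((Fact.out : q.Prime).dvd_of_dvd_pow h))
    have hp := (S.isPGroup'.map (Subgroup.centralizer ({x} : Set H)).subtype)
    have := ((Lib.Components.pCore_isPGroup (G := H) q).to_sup_of_normal_left hp)
    have hle := (hp.toSylow hidx).is_maximal' this (by rw [IsPGroup.toSylow_coe]; exact le_sup_right)
    rw [IsPGroup.toSylow_coe] at hle
    exact le_sup_left.trans (hle.le.trans (Subgroup.map_subtype_le _))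
  set N := Subgroup.normalClosure ({x} : Set H) with hN
  have : Group.IsSolvable ↥N := Lib.Kazarin.isSolvable_normalClosure _ H x p a rfl Fact.out hx
  have hxN : x ∈ N := Subgroup.subset_normalClosure rfl
  have hNn : N.Normal := Subgroup.normalClosure_normal
  set F := Cfsg.fittingSubgroup ↥N with hF
  have hFn : (F.map N.subtype).Normal := by
    have : F.Characteristic := by
      refine Subgroup.characteristic_iff_map_le.2 fun e => ?_
      have := (Subgroup.Normal.map (H := F) inferInstance e.toMonoidHom e.surjective)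
      have := Lib.Components.fittingSubgroup_nilpotent (G := ↥N)
      exact Lib.Components.le_fittingSubgroup (Group.nilpotent_of_surjective
        (e.toMonoidHom.subgroupMap F) (MonoidHom.subgroupMap_surjective _ _))
    exact ConjAct.normal_of_characteristic_of_normal
  have hFc : F.map N.subtype ≤ Subgroup.centralizer ({x} : Set H) := by
    have := Lib.Components.fittingSubgroup_nilpotent (G := ↥N)
    have hn : Group.IsNilpotent ↥(F.map N.subtype) := Group.nilpotent_of_surjective
      (N.subtype.subgroupMap F) (MonoidHom.subgroupMap_surjective _ _)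
    refine (Lib.Components.le_fittingSubgroup hn).trans ?_
    rw [Lib.Components.fittingSubgroup_eq_iSup]
    exact iSup_le fun q => hq _ ⟨q.2⟩
  have hxc : (⟨x, hxN⟩ : ↥N) ∈ Subgroup.centralizer (F : Set ↥N) := by
    refine Subgroup.mem_centralizer_iff.2 fun f hf => Subtype.ext ?_
    exact Subgroup.mem_centralizer_singleton_iff.1 (hFc (Subgroup.mem_map_of_mem N.subtype hf))
  have hxF : x ∈ F.map N.subtype :=
    Subgroup.mem_map_of_mem N.subtype (Lib.Hall.centralizer_fittingSubgroup_le hxc)
  set w := u⁻¹ * v
  have h1 : w * x * w⁻¹ * x = x * (w * x * w⁻¹) :=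
    Subgroup.mem_centralizer_singleton_iff.1 (hFc (hFn.conj_mem x hxF w))
  calc u * x * u⁻¹ * (v * x * v⁻¹) = u * (x * (w * x * w⁻¹)) * u⁻¹ := by simp only [w]; group
    _ = u * (w * x * w⁻¹ * x) * u⁻¹ := by rw [h1]
    _ = v * x * v⁻¹ * (u * x * u⁻¹) := by simp only [w]; group

/-- Let G be a finite group, p a prime and x an element whose conjugacy class has p-power size. Then for any two conjugates y and z of x, the commutator y z y⁻¹ z⁻¹ lies in O_p(G), the largest normal p-subgroup of G. -/
theorem result {G : Type*} [Group G] [Finite G] (p : ℕ) [Fact p.Prime]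
    (x : G) (hx : ∃ a : ℕ, (Subgroup.centralizer ({x} : Set G)).index = p ^ a) (g h : G) :
    (g * x * g⁻¹) * (h * x * h⁻¹) * (g * x * g⁻¹)⁻¹ * (h * x * h⁻¹)⁻¹ ∈ Cfsg.pCore p G := by
  obtain ⟨a, ha⟩ := hx
  obtain ⟨b, -, hb⟩ := (Nat.dvd_prime_pow (Fact.out : p.Prime)).1 (ha ▸
    Lib.Kazarin.index_centralizer_map_dvd (QuotientGroup.mk'_surjective (Cfsg.pCore p G)) x)
  have h := commute_conj Lib.PLength.pCore_quotient_pCore_eq_bot
    (QuotientGroup.mk' (Cfsg.pCore p G) x) hb (QuotientGroup.mk' _ g) (QuotientGroup.mk' _ h)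
  rw [← QuotientGroup.eq_one_iff]
  rw [← commutatorElement_eq_one_iff_mul_comm, commutatorElement_def] at h
  exact h


end Cfsg.Agent.S4364
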