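import Cfsg.Statements.S2010
import Mathlib
import Cfsg.Agent.Lib.Offender.Operator
import Cfsg.Agent.Lib.Fusion.Involves
import Cfsg.Agent.Lib.LocalFusion.PSolvable
import Cfsg.Agent.Lib.HallHigman.Solvable
import Cfsg.Agent.Lib.FPF.Thompson
import Cfsg.Agent.Lib.Components.PComponent
import Cfsg.Agent.Lib.Coprime.Action
import Cfsg.Agent.Lib.Thompson.Elementary

set_option autoImplicit false
open Cfsg

namespace Cfsg.Agent.S2010

open Subgroup
open scoped commutatorElement

universe v
variable {G : Type v} [Group G] [Finite G]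

instance instFactTwoPrime : Fact (Nat.Prime 2) := ⟨Nat.prime_two⟩

/-- A group acting on a four-group `W` as `SL(2, 2)` yields a section isomorphic to `S₄`. -/
theorem involves_S4_of_plane {W D : Subgroup G} (hW : IsElementaryAbelian 2 W) (hWc : Nat.card W = 2 ^ 2)
    (hDW : D ≤ normalizer (W : Set G)) (ψ : D →* Matrix.SpecialLinearGroup (Fin 2) (ZMod 2))
    (hψ : Function.Surjective ψ) (hker : ∀ x : D, ψ x = 1 ↔ (x : G) ∈ centralizer (W : Set G)) :
    Cfsg.Involves (Equiv.Perm (Fin 4)) G := by
  classical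
  have h6 : Nat.card (Matrix.SpecialLinearGroup (Fin 2) (ZMod 2)) = 6 := by
    rw [Nat.card_eq_fintype_card]; decide +kernel
  have : Fact (Nat.Prime 3) := ⟨Nat.prime_three⟩
  obtain ⟨y, hy⟩ := exists_prime_orderOf_dvd_card' (G := Matrix.SpecialLinearGroup (Fin 2) (ZMod 2)) 3
    (by rw [h6]; decide)
  -- the preimage of the subgroup of order 3
  set D3 : Subgroup D := (zpowers y).comap ψ with hD3
  have hy2 : (zpowers y).index = 2 := by
    have h1 := (zpowers y).card_mul_index
    rw [Nat.card_zpowers, hy, h6] at h1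
    omega
  have hD3n : D3.Normal := (normal_of_index_eq_two hy2).comap ψ
  obtain ⟨R⟩ := (inferInstance : Nonempty (Sylow 3 D3))
  set RD : Subgroup D := (R : Subgroup D3).map D3.subtype with hRD
  have hRsurj : ∀ z ∈ zpowers y, ∃ r ∈ RD, ψ r = z := by
    let f : D3 →* zpowers y := ψ.subgroupComap (zpowers y)
    have hf : Function.Surjective f := ψ.subgroupComap_surjective_of_surjective _ hψ
    have hp : IsPGroup 3 (⊤ : Subgroup (zpowers y)) := by
      refine IsPGroup.of_card (n := 1) ?_
      rw [card_top, Nat.card_zpowers, hy, pow_one]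
    have htop := (R.mapSurjective hf).3 hp le_top
    rw [Sylow.coe_mapSurjective] at htop
    intro z hz
    obtain ⟨r, hr, hrz⟩ := htop.le (mem_top (⟨z, hz⟩ : zpowers y))
    exact ⟨r, mem_map_of_mem _ hr, congrArg Subtype.val hrz⟩
  set ND : Subgroup D := normalizer (RD : Set D) with hND
  have hfr : ND ⊔ D3 = ⊤ := Sylow.normalizer_sup_eq_top R
  set N : Subgroup G := ND.map D.subtype with hN
  have hND' : N ≤ D := map_subtype_le _
  have hsurjN : ∀ z, ∃ n ∈ N, ∃ hn : n ∈ D, ψ ⟨n, hn⟩ = z := by
    intro z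
    obtain ⟨d, rfl⟩ := hψ z
    obtain ⟨n, hn, e, he, rfl⟩ := mem_sup_of_normal_right.mp (hfr.symm ▸ mem_top d)
    obtain ⟨r, hr, hre⟩ := hRsurj (ψ e) he
    refine ⟨((n * r : D) : G), mem_map_of_mem _ (mul_mem hn (le_normalizer hr)), (n * r : D).2, ?_⟩
    show ψ (n * r) = ψ (n * e)
    rw [map_mul, map_mul, hre]
  obtain ⟨x, hxR, hxy⟩ := hRsurj y (mem_zpowers y)
  have hRp : IsPGroup 3 (RD.map D.subtype) := (R.2.map _).map _
  have hWp : IsPGroup 2 W := Lib.Thompson.isPGroup_of_elementary hW
  have hWD : ∀ d ∈ D, ∀ w ∈ W, d * w * d⁻¹ ∈ W := fun d hd w hw => (mem_normalizer_iff.mp (hDW hd) w).mp hw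
  have hdisj : W ⊓ RD.map D.subtype = ⊥ :=
    disjoint_iff.mp (IsPGroup.disjoint_of_ne 2 3 (by decide) _ _ hWp hRp)
  -- `x` fixes no involution of `W`
  have hxfix : ∀ w ∈ W, (x : G) * w = w * (x : G) → w = 1 := by
    intro w hw hxw
    by_contra hw1
    have hxW : ∀ v ∈ W, (x : G) ^ 2 * v * ((x : G) ^ 2)⁻¹ = v := by
      intro v hv
      have hk : IsKleinFour W := by
        refine ⟨by rw [hWc]; rfl, ?_⟩
        have : Nontrivial W := ⟨⟨⟨w, hw⟩, 1, fun e => hw1 (congrArg Subtype.val e)⟩⟩
        have hd : Monoid.exponent W ∣ 2 :=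
          Monoid.exponent_dvd_of_forall_pow_eq_one (fun a => Subtype.ext (hW.2 a a.2))
        rcases (Nat.dvd_prime Nat.prime_two).mp hd with h | h
        · exact absurd (Monoid.exp_eq_one_iff.mp h) (not_subsingleton W)
        · exact h
      by_cases hv1 : v = 1
      · simp [hv1]
      by_cases hvw : v = w
      · subst hvw
        have h1 : (x : G) * v * (x : G)⁻¹ = v := by rw [hxw, mul_inv_cancel_right]
        calc (x : G) ^ 2 * v * ((x : G) ^ 2)⁻¹ = (x : G) * ((x : G) * v * (x : G)⁻¹) * (x : G)⁻¹ := by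
              rw [pow_two]; group
          _ = v := by rw [h1, h1]
      have hcase : ∀ u ∈ W, u = 1 ∨ u = w ∨ u = v ∨ u = w * v := by
        intro u hu
        by_contra h
        simp only [not_or] at h
        obtain ⟨a, b, c, d⟩ := h
        have := hk
        refine d (congrArg Subtype.val (IsKleinFour.eq_mul_of_ne_all (G := W) (x := ⟨w, hw⟩) (y := ⟨v, hv⟩)
          (z := ⟨u, hu⟩) ?_ ?_ ?_ ?_ ?_ ?_)) <;>
          simp only [ne_eq, Subtype.ext_iff, OneMemClass.coe_one] <;> first | assumption | exact Ne.symm hvw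
      have hstep : (x : G) * v * (x : G)⁻¹ = v ∨ (x : G) * v * (x : G)⁻¹ = w * v := by
        rcases hcase _ (hWD _ x.2 v hv) with h | h | h | h
        · exact absurd (by simpa using h) hv1
        · refine absurd (mul_left_cancel (a := (x : G)) ?_) hvw
          calc (x : G) * v = (x : G) * v * (x : G)⁻¹ * x := by group
            _ = w * x := by rw [h]
            _ = (x : G) * w := hxw.symm
        · exact Or.inl h
        · exact Or.inr h
      rw [pow_two, show (x : G) * x * v * ((x : G) * x)⁻¹ = (x : G) * ((x : G) * v * (x : G)⁻¹) * (x : G)⁻¹ by group]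
      rcases hstep with h | h
      · rw [h, h]
      · rw [h, show (x : G) * (w * v) * (x : G)⁻¹ = ((x : G) * w) * v * (x : G)⁻¹ by group, hxw,
          show w * (x : G) * v * (x : G)⁻¹ = w * ((x : G) * v * (x : G)⁻¹) by group, h, ← mul_assoc,
          show w * w = 1 by rw [← pow_two]; exact hW.2 w hw, one_mul]
    have h1 : ψ (x ^ 2) = 1 := by
      rw [hker, SubmonoidClass.coe_pow, mem_centralizer_iff]
      intro v hv
      conv_lhs => rw [← hxW v hv]
      group
    rw [map_pow, hxy] at h1
    have := orderOf_dvd_of_pow_eq_one h1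
    rw [hy] at this
    omega
  have hWN : W ⊓ N = ⊥ := by
    rw [eq_bot_iff]
    rintro w ⟨hw, n, hn, rfl⟩
    refine mem_bot.mpr (hxfix _ hw ?_)
    have h1 : (D.subtype n) * (x : G) * (D.subtype n)⁻¹ * (x : G)⁻¹ ∈ W ⊓ RD.map D.subtype := by
      refine mem_inf.mpr ⟨?_, ⟨n * x * n⁻¹ * x⁻¹,
        mul_mem ((mem_normalizer_iff.mp hn x).mp hxR) (inv_mem hxR), by simp⟩⟩
      rw [show D.subtype n * (x : G) * (D.subtype n)⁻¹ * (x : G)⁻¹ =
        D.subtype n * ((x : G) * (D.subtype n)⁻¹ * (x : G)⁻¹) by group]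
      exact mul_mem hw (hWD _ x.2 _ (inv_mem hw))
    rw [hdisj, mem_bot, mul_inv_eq_one, mul_inv_eq_iff_eq_mul] at h1
    exact h1.symm
  have hNn : N ≤ normalizer (W : Set G) := hND'.trans hDW
  set H : Subgroup G := W ⊔ N with hH
  have hNH : N ≤ H := le_sup_right
  have hWH : W ≤ H := le_sup_left
  -- orders
  let φ : N →* Matrix.SpecialLinearGroup (Fin 2) (ZMod 2) := ψ.comp (inclusion hND')
  have hφ : Function.Surjective φ := fun z => by
    obtain ⟨n, hn, hnD, e⟩ := hsurjN z
    exact ⟨⟨n, hn⟩, e⟩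
  set K : Subgroup G := N ⊓ centralizer (W : Set G) with hK
  have hK6 : Nat.card N = 6 * Nat.card K := by
    have h1 := φ.ker.card_mul_index
    rw [index_ker, MonoidHom.range_eq_top.mpr hφ, card_top, h6] at h1
    have h2 : φ.ker = K.subgroupOf N := by
      ext a
      rw [MonoidHom.mem_ker, mem_subgroupOf, hK, mem_inf]
      exact (hker _).trans (and_iff_right a.2).symm
    rw [h2, Nat.card_congr (subgroupOfEquivOfLe (inf_le_left : K ≤ N)).toEquiv] at h1
    rw [← h1, mul_comm]
  have hHc : Nat.card H = 4 * Nat.card N := by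
    have h1 := Lib.Coprime.card_sup_mul_card_inf_of_le_normalizer (A := N) (N := W) hNn
    rw [inf_comm, hWN, card_bot, mul_one, sup_comm, hWc] at h1
    rw [h1]; ring
  -- action on the cosets of `N`
  set NH := N.subgroupOf H with hNHdef
  have hi : Nat.card (H ⧸ NH) = 4 := by
    have h1 := NH.card_mul_index
    rw [Nat.card_congr (subgroupOfEquivOfLe hNH).toEquiv, hHc] at h1
    show NH.index = 4
    have h0 : 0 < Nat.card N := Nat.card_pos
    exact Nat.eq_of_mul_eq_mul_left h0 (by linarith)
  let f := MulAction.toPermHom H (H ⧸ NH)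
  have hkerf : f.ker = K.subgroupOf H := by
    rw [show f.ker = NH.normalCore from (Subgroup.normalCore_eq_ker NH).symm]
    apply le_antisymm
    · intro k hk
      have hkN : (k : G) ∈ N := NH.normalCore_le hk
      refine mem_subgroupOf.mpr ⟨hkN, mem_centralizer_iff.mpr fun w hw => ?_⟩
      have h1 : w * (k : G) * w⁻¹ * (k : G)⁻¹ ∈ W ⊓ N := by
        refine mem_inf.mpr ⟨?_, mul_mem (hk ⟨w, hWH hw⟩) (inv_mem hkN)⟩
        rw [show w * (k : G) * w⁻¹ * (k : G)⁻¹ = w * ((k : G) * w⁻¹ * (k : G)⁻¹) by group]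
        exact mul_mem hw (hWD _ (hND' hkN) _ (inv_mem hw))
      rw [hWN, mem_bot, mul_inv_eq_one, mul_inv_eq_iff_eq_mul] at h1
      exact h1
    · have hn : (K.subgroupOf H).Normal := by
        refine normal_subgroupOf_of_le_normalizer (sup_le ?_ ?_)
        · refine le_trans ?_ (centralizer_le_normalizer _)
          exact le_centralizer_iff.mp (inf_le_right : K ≤ centralizer (W : Set G))
        · exact (le_inf le_normalizer (hNn.trans (normal_subgroupOf_iff_le_normalizer
            (centralizer_le_normalizer _) |>.mp (normal_subgroupOf_centralizer_normalizer _)))).trans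
            inf_normalizer_le_normalizer_inf
      exact Subgroup.normal_le_normalCore.mpr (fun a ha => mem_subgroupOf.mpr (mem_subgroupOf.mp ha).1)
  have hrange : f.range = ⊤ := by
    refine eq_top_of_card_eq _ ?_
    have h1 := f.ker.card_mul_index
    rw [index_ker, hHc, hK6] at h1
    nth_rewrite 1 [hkerf] at h1
    rw [Nat.card_congr (subgroupOfEquivOfLe (inf_le_left.trans hNH : K ≤ H)).toEquiv] at h1
    rw [Nat.card_perm, hi]
    have h0 : 0 < Nat.card K := Nat.card_pos
    refine Nat.eq_of_mul_eq_mul_left h0 (h1.trans ?_)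
    rw [show Nat.factorial 4 = 24 from rfl]; ring
  let e : Equiv.Perm (H ⧸ NH) ≃* Equiv.Perm (Fin 4) := (Finite.equivFinOfCardEq hi).permCongrHom
  exact Lib.Fusion.involves_of_surjective (e.toMonoidHom.comp f)
    (e.surjective.comp (MonoidHom.range_eq_top.mp hrange))

/-- Failure of the Thompson factorisation at `2` gives a section `S₄`. -/
theorem factorizable (hs : Group.IsSolvable G) (hS4 : ¬ Cfsg.Involves (Equiv.Perm (Fin 4)) G)
    (hO : Cfsg.pPrimeCore 2 G = ⊥) : Cfsg.IsThompsonFactorizable 2 G := by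
  by_contra hnf
  obtain ⟨q, hq, hqp⟩ := Nat.exists_infinite_primes (Nat.card G + 1)
  have := Fact.mk hqp
  have hn : (MonoidHom.id G).range.Normal := by
    rw [MonoidHom.range_eq_top.mpr Function.surjective_id]; infer_instance
  obtain ⟨-, W, D, -, -, hW, hWc, hDW, ψ, hψ, hker⟩ := Lib.Offender.fixed_plane (f := MonoidHom.id G) (p := 2)
    (q := q) (X := (⊥ : Subgroup G)) Function.injective_id Lib.Thompson.isElementaryAbelian_bot
    (fun hd => by have := Nat.le_of_dvd Nat.card_pos hd; omega)
    (@Lib.HallHigman.isPSolvable_of_isSolvable G _ _ hs 2 _) hO hnf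
  exact hS4 (involves_S4_of_plane hW hWc hDW ψ hψ hker)

/-- If `Ω₁(Z(S))` is central then so is `Z(S)`. -/
theorem center_sylow_central (S : Sylow 2 G) (hcons : centralizer (pCore 2 G : Set G) ≤ pCore 2 G)
    (hΩ : ∀ c ∈ (S : Subgroup G), (∀ s ∈ (S : Subgroup G), s * c = c * s) → c ^ 2 = 1 →
      ∀ g : G, g * c = c * g) :
    ∀ d ∈ (S : Subgroup G), (∀ s ∈ (S : Subgroup G), s * d = d * s) → ∀ g : G, g * d = d * g := by
  classical
  intro d
  induction hn : orderOf d using Nat.strong_induction_on generalizing d with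
  | _ n ih =>
  subst hn
  intro hd hdc
  by_cases hd1 : d = 1
  · intro g; simp [hd1]
  set Q := pCore 2 G with hQdef
  have hQn : Q.Normal := Lib.Hall.pCore_normal 2
  have hQS : Q ≤ (S : Subgroup G) := Lib.Hall.pCore_le_sylow S
  set A : Subgroup G := Q ⊓ centralizer (Q : Set G) with hA
  have hAn : A.Normal := inferInstance
  have hAc : IsMulCommutative A :=
    le_centralizer_iff_isMulCommutative.1 (inf_le_right.trans (centralizer_le (SetLike.coe_subset_coe.2 inf_le_left)))
  let iA : CommGroup A := { (inferInstance : Group A) with mul_comm := fun a b => mul_comm' a b }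
  have hdC : d ∈ centralizer (Q : Set G) := mem_centralizer_iff.mpr fun q hq => hdc q (hQS hq)
  have hdA : d ∈ A := ⟨hcons hdC, hdC⟩
  obtain ⟨k, hk⟩ := IsPGroup.iff_orderOf.mp S.2 ⟨d, hd⟩
  rw [orderOf_mk] at hk
  have hk0 : 0 < k := by
    rcases Nat.eq_zero_or_pos k with h | h
    · subst h; exact absurd (orderOf_eq_one_iff.mp (by simpa using hk)) hd1
    · exact h
  have hlt : orderOf (d ^ 2) < orderOf d := by
    rw [orderOf_pow_of_dvd two_ne_zero (hk ▸ dvd_pow_self 2 hk0.ne')]
    exact Nat.div_lt_self (orderOf_pos d) one_lt_two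
  have hd2 : ∀ g : G, g * d ^ 2 = d ^ 2 * g := ih _ hlt (d ^ 2) rfl (pow_mem hd 2)
    (fun s hs => ((show Commute s d from hdc s hs).pow_right 2).eq)
  let T : Subgroup G := (S : Subgroup G)
  let _ : Fintype (G ⧸ T) := Fintype.ofFinite _
  let a : G ⧸ T → A := fun c => ⟨c.out * d * c.out⁻¹, hAn.conj_mem d hdA _⟩
  let t : A := ∏ c : G ⧸ T, a c
  have hfix : ∀ g : G, g * (t : G) = (t : G) * g := by
    intro g
    let φ : A →* A :=
      { toFun := fun b => ⟨g * b * g⁻¹, hAn.conj_mem b b.2 g⟩
        map_one' := by ext; simp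
        map_mul' := fun b c => by ext; simp [mul_assoc] }
    have hφ : φ t = t := by
      show φ (∏ c : G ⧸ T, _) = ∏ c : G ⧸ T, _
      rw [map_prod]
      refine Fintype.prod_equiv (MulAction.toPerm g) _ _ fun c => ?_
      obtain ⟨s, hs⟩ := QuotientGroup.mk_out_eq_mul T (g * c.out)
      have hc : MulAction.toPerm g c = ((g * c.out : G) : G ⧸ T) := by
        conv_lhs => rw [← QuotientGroup.out_eq' c]
        rfl
      ext
      show g * (c.out * d * c.out⁻¹) * g⁻¹ = _
      simp only [a, hc, hs]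
      have hsd : (s : G) * d = d * s := hdc s s.2
      calc g * (c.out * d * c.out⁻¹) * g⁻¹ = g * c.out * (d * (s : G) * (s : G)⁻¹) * (g * c.out)⁻¹ := by
            simp [mul_assoc]
        _ = g * c.out * ((s : G) * d * (s : G)⁻¹) * (g * c.out)⁻¹ := by rw [hsd]
        _ = _ := by simp [mul_assoc]
    have h1 : g * (t : G) * g⁻¹ = t := congrArg Subtype.val hφ
    exact mul_inv_eq_iff_eq_mul.mp h1
  set m := Fintype.card (G ⧸ T) with hm
  have hodd : ¬ 2 ∣ m := by
    rw [hm, ← Nat.card_eq_fintype_card]; exact S.not_dvd_index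
  let dA : A := ⟨d, hdA⟩
  have ht2 : (t / dA ^ m) ^ 2 = 1 := by
    rw [div_pow, ← pow_mul, mul_comm, pow_mul, ← Finset.prod_pow, div_eq_one, hm, ← Finset.card_univ]
    refine Finset.prod_eq_pow_card fun c _ => Subtype.ext ?_
    show (c.out * d * c.out⁻¹) ^ 2 = d ^ 2
    rw [conj_pow, hd2, mul_inv_cancel_right]
  have hcG : ∀ g : G, g * ((t / dA ^ m : A) : G) = ((t / dA ^ m : A) : G) * g := by
    refine hΩ _ (hQS (t / dA ^ m : A).2.1) (fun s hs => ?_) (congrArg Subtype.val ht2)
    rw [div_eq_mul_inv, coe_mul, coe_inv, SubmonoidClass.coe_pow]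
    exact (Commute.mul_right (hfix s) ((Commute.pow_right (hdc s hs) m).inv_right)).eq
  intro g
  have h1 : Commute g (d ^ m) := by
    have e : d ^ m = ((t / dA ^ m : A) : G)⁻¹ * (t : G) := by
      have : dA ^ m = (t / dA ^ m)⁻¹ * t := by rw [inv_div, div_mul_cancel]
      exact congrArg Subtype.val this
    rw [e]
    exact (Commute.inv_right (hcG g)).mul_right (hfix g)
  obtain ⟨j, hj⟩ : ∃ j, m = 2 * j + 1 := ⟨m / 2, by omega⟩
  have h2 : Commute g ((d ^ 2) ^ j) := (show Commute g (d ^ 2) from hd2 g).pow_right j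
  have e : d = ((d ^ 2) ^ j)⁻¹ * d ^ m := by rw [hj, pow_succ d (2 * j), pow_mul, inv_mul_cancel_left]
  rw [e]
  exact ((h2.inv_right).mul_right h1).eq

/-- The case of trivial core. -/
theorem normalizer_eq_top_of_core (n : ℕ) : ∀ (G : Type v) [Group G] [Finite G], Nat.card G = n →
    Group.IsSolvable G → ¬ Cfsg.Involves (Equiv.Perm (Fin 4)) G → Cfsg.pPrimeCore 2 G = ⊥ →
    ∀ S : Sylow 2 G, Subgroup.lowerCentralSeries (S : Subgroup G) 2 = ⊥ →
      normalizer (Cfsg.thompsonSubgroupOf 2 (S : Subgroup G) : Set G) = ⊤ := by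
  induction n using Nat.strongRecOn with | ind n ih => ?_
  intro G _ _ hn hs hS4 hO S hcl
  set Q := pCore 2 G with hQdef
  have hQn : Q.Normal := Lib.Hall.pCore_normal 2
  have hQS : Q ≤ (S : Subgroup G) := Lib.Hall.pCore_le_sylow S
  have hcons : centralizer (Q : Set G) ≤ Q := Lib.LocalFusion.centralizer_pCore_le_of_isPSolvable
    (@Lib.HallHigman.isPSolvable_of_isSolvable G _ _ hs 2 _) hO
  set Ω := omegaOne 2 ((S : Subgroup G) ⊓ centralizer ((S : Subgroup G) : Set G)) with hΩdef
  set C := centralizer (Ω : Set G) with hC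
  have hSC : (S : Subgroup G) ≤ C := by
    rw [hC, le_centralizer_iff, hΩdef, omegaOne, closure_le]
    exact fun x hx => hx.1.2
  have hfac := factorizable hs hS4 hO
  by_cases hCtop : C = ⊤
  · -- then `S` is normal
    have hZ : ∀ d ∈ (S : Subgroup G), (∀ s ∈ (S : Subgroup G), s * d = d * s) → ∀ g : G, g * d = d * g :=
      center_sylow_central S hcons fun c hc hcc hc2 g => by
        have hcΩ : c ∈ Ω := subset_closure ⟨⟨hc, mem_centralizer_iff.mpr hcc⟩, hc2⟩
        exact (mem_centralizer_iff.mp (show g ∈ C from hCtop ▸ mem_top g) c hcΩ).symm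
    let π := QuotientGroup.mk' (center G)
    have hπs : Function.Surjective π := QuotientGroup.mk'_surjective _
    have hQm : (Q.map π).Normal := hQn.map π hπs
    let A : Subgroup G := (centralizer (Q.map π : Set (G ⧸ center G))).comap π
    have hAn : A.Normal := inferInstance
    have hSA : (S : Subgroup G) ≤ A := by
      intro s hs'
      rw [mem_comap, mem_centralizer_iff]
      rintro _ ⟨q, hq, rfl⟩
      refine commutatorElement_eq_one_iff_mul_comm.mp ?_
      rw [← map_commutatorElement]
      have h1 : ⁅q, s⁆ ∈ ⁅(S : Subgroup G), (S : Subgroup G)⁆ := commutator_mem_commutator (hQS hq) hs'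
      have h2 : ⁅q, s⁆ ∈ (S : Subgroup G) := commutator_le_self _ h1
      refine (QuotientGroup.eq_one_iff _).mpr (mem_center_iff.mpr (hZ _ h2 fun s' hs'' => ?_))
      have h3 : ⁅⁅q, s⁆, s'⁆ ∈ Subgroup.lowerCentralSeries (S : Subgroup G) 2 :=
        commutator_mem_commutator h1 hs''
      rw [hcl, mem_bot, commutatorElement_eq_one_iff_mul_comm] at h3
      exact h3.symm
    have hA : IsPGroup 2 A := by
      intro a
      obtain ⟨k, hk⟩ := (Lib.Hall.isPGroup_pCore (G := G) 2).exists_card_eq
      have hmem : (a : G) ^ 2 ^ k ∈ centralizer (Q : Set G) := by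
        rw [mem_centralizer_iff]
        intro q hq
        set c := (a : G) * q * (a : G)⁻¹ * q⁻¹ with hc
        have hcQ : c ∈ Q := mul_mem (hQn.conj_mem q hq a) (inv_mem hq)
        have hcZ : c ∈ center G := by
          have h1 := mem_centralizer_iff.mp (mem_comap.mp a.2) (π q) (mem_map_of_mem π hq)
          refine (QuotientGroup.eq_one_iff c).mp ?_
          show π c = 1
          rw [hc, map_mul, map_mul, map_mul, map_inv, map_inv, ← h1]; group
        have hpow : ∀ i : ℕ, (a : G) ^ i * q * ((a : G) ^ i)⁻¹ = c ^ i * q := by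
          intro i
          induction i with
          | zero => simp
          | succ i ih2 =>
            have hcomm : (a : G) * c ^ i = c ^ i * (a : G) :=
              ((show Commute (a : G) c from mem_center_iff.mp hcZ a).pow_right i).eq
            calc (a : G) ^ (i + 1) * q * ((a : G) ^ (i + 1))⁻¹
                = (a : G) * ((a : G) ^ i * q * ((a : G) ^ i)⁻¹) * (a : G)⁻¹ := by rw [pow_succ']; group
              _ = (a : G) * (c ^ i * q) * (a : G)⁻¹ := by rw [ih2]
              _ = c ^ i * ((a : G) * q * (a : G)⁻¹) := by rw [← mul_assoc, hcomm]; group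
              _ = c ^ (i + 1) * q := by rw [pow_succ, hc]; group
        have h2 := hpow (2 ^ k)
        have hc1 : c ^ 2 ^ k = 1 := by
          have : (⟨c, hcQ⟩ : Q) ^ Nat.card Q = 1 := pow_card_eq_one'
          rw [hk] at this
          simpa using congrArg Subtype.val this
        rw [hc1, one_mul, mul_inv_eq_iff_eq_mul] at h2
        exact h2.symm
      obtain ⟨i, hi⟩ := Lib.Hall.isPGroup_pCore (G := G) 2 ⟨_, hcons hmem⟩
      refine ⟨k + i, Subtype.ext ?_⟩
      have := congrArg Subtype.val hi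
      simp only [SubmonoidClass.coe_pow, OneMemClass.coe_one] at this ⊢
      rw [pow_add, pow_mul]
      exact this
    have hSQ : (S : Subgroup G) = Q := le_antisymm (hSA.trans (Lib.Hall.le_pCore hA)) hQS
    rw [eq_top_iff, ← normalizer_eq_top Q, ← hSQ]
    exact Lib.FPF.normalizer_le_normalizer_thompson _
  · -- the factorisation reduces to `C`
    have hCle : C ≤ normalizer (Cfsg.thompsonSubgroupOf 2 (S : Subgroup G) : Set G) := by
      let SC : Sylow 2 C := S.subtype hSC
      have hmap : (SC : Subgroup C).map C.subtype = S := by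
        rw [Sylow.coe_subtype, map_subgroupOf_eq_of_le hSC]
      have hOC : Cfsg.pPrimeCore 2 C = ⊥ := by
        set R := Cfsg.pPrimeCore 2 C with hR
        have : R.Normal := Lib.Hall.pPrimeCore_normal 2
        have hdisj : Q.subgroupOf C ⊓ R = ⊥ := by
          refine disjoint_iff.mp (disjoint_of_coprime_natCard ?_)
          obtain ⟨k, hk⟩ := ((Lib.Hall.isPGroup_pCore (G := G) 2).comap_subtype (K := C)).exists_card_eq
          exact hk ▸ (Lib.Hall.coprime_card_pPrimeCore 2).symm.pow_left k
        rw [eq_bot_iff]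
        intro r hr
        have h1 : (r : G) ∈ Q := hcons (mem_centralizer_iff.mpr fun q hq =>
          congrArg Subtype.val (commute_of_normal_of_disjoint (Q.subgroupOf C) R inferInstance inferInstance
            (disjoint_iff.mpr hdisj) ⟨q, hSC (hQS hq)⟩ r (mem_subgroupOf.mpr hq) hr).eq)
        exact hdisj ▸ mem_inf.mpr ⟨mem_subgroupOf.mpr h1, hr⟩
      have hclC : Subgroup.lowerCentralSeries (SC : Subgroup C) 2 = ⊥ := by
        apply (Subgroup.map_eq_bot_iff_of_injective _ C.subtype_injective).mp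
        show (⁅⁅(SC : Subgroup C), (SC : Subgroup C)⁆, (SC : Subgroup C)⁆).map C.subtype = ⊥
        rw [map_commutator, map_commutator, hmap]
        exact hcl
      have h := ih (Nat.card C) (hn ▸ Lib.Coprime.card_lt_of_ne_top hCtop) C rfl
        (Lib.Coprime.isSolvable_of_le (le_top : C ≤ ⊤) (by
          exact Group.isSolvable_of_surjective (f := (topEquiv (G := G)).symm.toMonoidHom)
            (topEquiv (G := G)).symm.surjective))
        (fun hi => hS4 (Lib.Fusion.involves_mono C.subtype C.subtype_injective hi)) hOC SC hclC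
      intro c hc
      have h2 := le_normalizer_map C.subtype (mem_map_of_mem C.subtype (h.symm ▸ mem_top (⟨c, hc⟩ : C)))
      rwa [Lib.FPF.thompsonSubgroupOf_map C.subtype C.subtype_injective.injOn, hmap] at h2
    rw [eq_top_iff]
    intro g _
    obtain ⟨x, hx, c, hc, m, hm, rfl⟩ := hfac S g
    rw [hO, mem_bot] at hx
    rw [hx, one_mul]
    exact mul_mem (hCle hc) hm


/-- Let G be a finite solvable group with no section isomorphic to the symmetric group of degree 4, whose Sylow 2-subgroup S has nilpotency class at most 2. Then G = N_G(J_e(S)) · O_{2'}(G), where J_e(S) is the subgroup generated by the elementary abelian subgroups of S of largest order. -/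
theorem result {G : Type*} [Group G] [Finite G]
    [Group.IsSolvable G] (hS4 : ¬ Cfsg.Involves (Equiv.Perm (Fin 4)) G) (S : Sylow 2 G)
    (hcl : Subgroup.lowerCentralSeries (S : Subgroup G) 2 = ⊥) :
    Subgroup.normalizer ((Cfsg.thompsonSubgroupOf 2 (S : Subgroup G)) : Set G) ⊔ Cfsg.pPrimeCore 2 G = ⊤ := by
  have hOn : (Cfsg.pPrimeCore 2 G).Normal := Lib.Hall.pPrimeCore_normal 2
  set O := Cfsg.pPrimeCore 2 G with hOdef
  let π := QuotientGroup.mk' O
  have hπ : Function.Surjective π := QuotientGroup.mk'_surjective O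
  have hinj : Set.InjOn π (S : Subgroup G) := fun u hu v hv e => by
    have hu' : u ∈ (S : Subgroup G) := hu
    have hv' : v ∈ (S : Subgroup G) := hv
    have h2 : (S : Subgroup G) ⊓ O = ⊥ := by
      refine disjoint_iff.mp (Subgroup.disjoint_of_coprime_natCard ?_)
      obtain ⟨k, hk⟩ := S.2.exists_card_eq
      exact hk ▸ (Lib.Hall.coprime_card_pPrimeCore 2).symm.pow_left k
    exact inv_mul_eq_one.mp (Subgroup.mem_bot.mp
      (h2 ▸ Subgroup.mem_inf.mpr ⟨mul_mem (inv_mem hu') hv', QuotientGroup.eq.mp e⟩))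
  have h4 : ¬ Cfsg.Involves (Equiv.Perm (Fin 4)) (G ⧸ O) := fun hi => hS4 (by
    obtain ⟨K, f, hf⟩ := Lib.Fusion.exists_surjective_of_involves hi
    exact Lib.Fusion.involves_of_surjective (f.comp (π.subgroupComap K))
      (hf.comp (π.subgroupComap_surjective_of_surjective K hπ)))
  have hcl' : Subgroup.lowerCentralSeries (S.mapSurjective hπ : Subgroup (G ⧸ O)) 2 = ⊥ := by
    rw [Sylow.coe_mapSurjective]
    show ⁅⁅(S : Subgroup G).map π, (S : Subgroup G).map π⁆, (S : Subgroup G).map π⁆ = ⊥
    rw [← Subgroup.map_commutator, ← Subgroup.map_commutator]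
    exact (congrArg (Subgroup.map π) hcl).trans (Subgroup.map_bot π)
  have h := normalizer_eq_top_of_core _ (G ⧸ O) rfl (Group.isSolvable_of_surjective hπ) h4
    (Lib.Components.pPrimeCore_quotient (G := G) 2) (S.mapSurjective hπ) hcl'
  rw [Sylow.coe_mapSurjective, ← Lib.FPF.thompsonSubgroupOf_map π hinj] at h
  rw [eq_top_iff]
  intro g _
  obtain ⟨m, hm, hmg⟩ := Lib.FPF.normalizer_map_le_map_normalizer (p := 2) O
    (Lib.Hall.coprime_card_pPrimeCore 2) (S.2.to_le (Lib.FPF.thompsonSubgroupOf_le _))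
    (h.symm ▸ Subgroup.mem_top (π g))
  rw [show g = m * (m⁻¹ * g) by group]
  exact mul_mem (Subgroup.mem_sup_left hm) (Subgroup.mem_sup_right (QuotientGroup.eq.mp hmg))

end Cfsg.Agent.S2010
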