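import Cfsg.Statements.S4394
import Cfsg.Agent.Lib.Hall.Schmidt
import Cfsg.Agent.Lib.PLength.Basic
import Cfsg.Agent.Lib.Coprime.Abelian
import Cfsg.Agent.Lib.HallHigman.Prime
import Cfsg.Agent.Lib.LocalFusion.PSolvable
import Cfsg.Agent.Lib.Components.PComponent

set_option autoImplicit false
open Cfsg

namespace Cfsg.Agent.S4394

open Subgroup Cfsg.Agent.Lib
open scoped commutatorElement

section Internal

variable {P : Type*} [Group P] [Finite P] {p q : ℕ} [hp : Fact p.Prime] {c : MulAut P}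

/-- The properties of a Sylow subgroup of a minimal non-nilpotent group with the automorphism
induced by a generator of the other Sylow subgroup. -/
structure Crit (p q : ℕ) (c : MulAut P) : Prop where
  pgrp : IsPGroup p P
  hq : q.Prime
  hpq : p ≠ q
  pow : c ^ q = 1
  ne : c ≠ 1
  fix : ∀ R : Subgroup P, R ≠ ⊤ → (∀ u ∈ R, c u ∈ R) → ∀ u ∈ R, c u = u

omit [Finite P] in
theorem Crit.transport {P' : Type*} [Group P'] (h : Crit p q c) (e : P ≃* P') :
    Crit p q (MulAut.congr e c) where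
  pgrp := h.pgrp.of_equiv e
  hq := h.hq
  hpq := h.hpq
  pow := by rw [← map_pow, h.pow, map_one]
  ne := fun e1 => h.ne ((MulAut.congr e).injective (e1.trans (map_one _).symm))
  fix R hR hinv u hu := by
    have hne : R.comap e.toMonoidHom ≠ ⊤ := fun e1 => hR (eq_top_iff.2 fun y _ => by
      have : e.symm y ∈ R.comap e.toMonoidHom := e1.symm ▸ mem_top _
      simpa using this)
    have := h.fix _ hne (fun x hx => by simpa using hinv (e x) hx) (e.symm u) (by simpa using hu)
    show e (c (e.symm u)) = u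
    rw [this, MulEquiv.apply_symm_apply]

theorem Crit.nontrivial (h : Crit p q c) : Nontrivial P := by
  by_contra hn
  rw [not_nontrivial_iff_subsingleton] at hn
  exact h.ne (MulEquiv.ext fun x => Subsingleton.elim _ _)

/-- `P = [P, c]`. -/
theorem Crit.gens (h : Crit p q c) : Subgroup.closure (Set.range fun u : P => u⁻¹ * c u) = ⊤ := by
  set S := Subgroup.closure (Set.range fun u : P => u⁻¹ * c u) with hS
  by_contra hne
  have hinv : S ≤ S.comap c.toMonoidHom := (Subgroup.closure_le _).2 fun x hx => by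
    obtain ⟨u, rfl⟩ := hx
    exact Subgroup.subset_closure ⟨c u, by simp⟩
  refine h.ne (MulEquiv.ext fun u => ?_)
  set d := u⁻¹ * c u with hd
  have hdS : d ∈ S := Subgroup.subset_closure ⟨u, rfl⟩
  have hdfix : c d = d := h.fix S hne (fun x hx => hinv hx) d hdS
  have hit : ∀ i : ℕ, (c ^ i) u = u * d ^ i := by
    intro i
    induction i with
    | zero => simp
    | succ i ih =>
      rw [pow_succ', MulAut.mul_apply, ih, map_mul, map_pow, hdfix, pow_succ', ← mul_assoc, hd,
        mul_inv_cancel_left]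
  have h1 : d ^ q = 1 := by
    have := hit q
    rw [h.pow, MulAut.one_apply] at this
    exact left_eq_mul.1 this
  obtain ⟨k, hk⟩ := IsPGroup.iff_orderOf.1 h.pgrp d
  have hd1 : d = 1 := orderOf_eq_one_iff.1 (Nat.eq_one_of_dvd_coprimes
    (Nat.Coprime.pow_left k ((Nat.coprime_primes hp.out h.hq).2 h.hpq)) (hk ▸ dvd_rfl)
    (orderOf_dvd_of_pow_eq_one h1))
  rw [MulAut.one_apply]
  exact (inv_mul_eq_one.1 hd1).symm

theorem Crit.commutator_ne_top (h : Crit p q c) : commutator P ≠ ⊤ := by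
  haveI := h.nontrivial
  haveI := h.pgrp.isNilpotent
  exact (Group.IsSolvable.commutator_lt_top_of_nontrivial P).ne

theorem Crit.fix_commutator (h : Crit p q c) {u : P} (hu : u ∈ commutator P) : c u = u := by
  refine h.fix _ h.commutator_ne_top (fun x hx => ?_) u hu
  have hc : (commutator P).map c.toMonoidHom = commutator P :=
    characteristic_iff_map_eq.1 inferInstance c
  rw [← hc]
  exact mem_map_of_mem _ hx

theorem Crit.central_of_fixed (h : Crit p q c) {d : P} (hd : c d = d) : d ∈ center P := by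
  have hfix : ∀ u : P, c (u * d * u⁻¹) = u * d * u⁻¹ := fun u => by
    have e : u * d * u⁻¹ = ⁅u, d⁆ * d := by rw [commutatorElement_def]; group
    rw [e, map_mul, hd, h.fix_commutator
      (by rw [commutator_def]; exact commutator_mem_commutator (mem_top _) (mem_top _))]
  rw [mem_center_iff]
  intro g
  have hle : Subgroup.closure (Set.range fun u : P => u⁻¹ * c u) ≤ centralizer {d} :=
    (Subgroup.closure_le _).2 fun x hx => by
      obtain ⟨u, rfl⟩ := hx
      refine mem_centralizer_singleton_iff.2 ?_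
      have e := hfix u
      rw [map_mul, map_mul, map_inv, hd] at e
      calc u⁻¹ * c u * d = u⁻¹ * (c u * d * (c u)⁻¹) * c u := by group
        _ = d * (u⁻¹ * c u) := by rw [e]; group
  rw [h.gens] at hle
  exact mem_centralizer_singleton_iff.1 (hle (mem_top g))

theorem Crit.commutator_le_center (h : Crit p q c) : commutator P ≤ center P := fun _ hu =>
  h.central_of_fixed (h.fix_commutator hu)

theorem center_ne_top (hna : ¬ IsMulCommutative P) : center P ≠ ⊤ := fun e =>
  hna ((_root_.commutator_eq_bot_iff P).1 ((commutator_eq_bot_iff_center_eq_top P).2 e))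

theorem Crit.fix_center (h : Crit p q c) (hna : ¬ IsMulCommutative P) {u : P} (hu : u ∈ center P) :
    c u = u := by
  refine h.fix _ (center_ne_top hna) (fun x hx => ?_) u hu
  have hc : (center P).map c.toMonoidHom = center P :=
    characteristic_iff_map_eq.1 inferInstance c
  rw [← hc]
  exact mem_map_of_mem _ hx

theorem Crit.fixed_mem_commutator (h : Crit p q c) {d : P} (hd : c d = d) : d ∈ commutator P := by
  let φ : P →* Abelianization P := (Abelianization.of.comp c.toMonoidHom) * (Abelianization.of)⁻¹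
  have hφ : ∀ u, φ u = Abelianization.of (u⁻¹ * c u) := fun u => by
    simp [φ, mul_comm]
  have hsurj : Function.Surjective (Abelianization.lift φ) := by
    have hle : Subgroup.closure (Set.range fun u : P => u⁻¹ * c u) ≤
        ((Abelianization.lift φ).range).comap Abelianization.of :=
      (Subgroup.closure_le _).2 fun x hx => by
        obtain ⟨u, rfl⟩ := hx
        exact ⟨Abelianization.of u, by rw [Abelianization.lift_apply_of, hφ]⟩
    rw [h.gens] at hle
    intro y
    obtain ⟨x, rfl⟩ := QuotientGroup.mk_surjective y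
    exact hle (mem_top x)
  have hinj := Finite.injective_iff_surjective.2 hsurj
  have h1 : Abelianization.lift φ (Abelianization.of d) = Abelianization.lift φ 1 := by
    rw [Abelianization.lift_apply_of, hφ, hd, inv_mul_cancel, map_one, map_one]
  have h2 := hinj h1
  rw [← MonoidHom.mem_ker, Abelianization.ker_of] at h2
  exact h2

theorem Crit.center_eq (h : Crit p q c) (hna : ¬ IsMulCommutative P) : center P = commutator P :=
  le_antisymm (fun _ hu => h.fixed_mem_commutator (h.fix_center hna hu)) h.commutator_le_center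

theorem Crit.pow_mem_commutator (h : Crit p q c) (u : P) : u ^ p ∈ commutator P := by
  set f : Abelianization P →* Abelianization P := powMonoidHom p with hf
  set R := f.range.comap Abelianization.of with hR
  have hne : R ≠ ⊤ := by
    intro hRtop
    have hsurj : Function.Surjective f := fun y => by
      obtain ⟨x, rfl⟩ := QuotientGroup.mk_surjective y
      exact (hRtop.symm ▸ mem_top x : x ∈ R)
    have hinj := Finite.injective_iff_surjective.2 hsurj
    have key : ∀ (k : ℕ) (a : Abelianization P), a ^ p ^ k = 1 → a = 1 := by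
      intro k
      induction k with
      | zero => simp
      | succ k ih =>
        intro a ha
        refine ih a (hinj ?_)
        rw [map_one, hf, powMonoidHom_apply, ← pow_mul, ← pow_succ]
        exact ha
    apply h.commutator_ne_top
    rw [eq_top_iff]
    intro x _
    obtain ⟨k, hk⟩ := h.pgrp x
    rw [← Abelianization.ker_of, MonoidHom.mem_ker]
    exact key k _ (by rw [← map_pow, hk, map_one])
  refine h.fixed_mem_commutator (h.fix R hne (fun x hx => ?_) _ ⟨Abelianization.of u, by simp [hf]⟩)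
  obtain ⟨y₁, hy⟩ := hx
  obtain ⟨y, rfl⟩ : ∃ y₀, Abelianization.of y₀ = y₁ := QuotientGroup.mk_surjective y₁
  refine ⟨Abelianization.of (c y), ?_⟩
  rw [hf, powMonoidHom_apply] at hy ⊢
  have := congrArg (Abelianization.map c.toMonoidHom) hy
  rw [map_pow, Abelianization.map_of, Abelianization.map_of] at this
  exact this

theorem Crit.center_pow (h : Crit p q c) (hna : ¬ IsMulCommutative P) {z : P} (hz : z ∈ center P) :
    z ^ p = 1 := by
  have hle : commutator P ≤
      { carrier := {z | z ∈ center P ∧ z ^ p = 1}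
        one_mem' := ⟨one_mem _, one_pow p⟩
        mul_mem' := fun {a b} ha hb => ⟨mul_mem ha.1 hb.1, by
          rw [(show Commute a b from (mem_center_iff.1 hb.1 a)).mul_pow, ha.2, hb.2, one_mul]⟩
        inv_mem' := fun {a} ha => ⟨inv_mem ha.1, by rw [inv_pow, ha.2, inv_one]⟩ } := by
    rw [commutator_def]
    refine commutator_le.2 fun u _ w _ => ?_
    have hzc : ⁅u, w⁆ ∈ center P := h.commutator_le_center
      (by rw [commutator_def]; exact commutator_mem_commutator (mem_top u) (mem_top w))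
    refine ⟨hzc, ?_⟩
    have hwp := mem_center_iff.1 (h.commutator_le_center (h.pow_mem_commutator w)) u
    have e1 : (u * w * u⁻¹) ^ p = ⁅u, w⁆ ^ p * w ^ p := by
      rw [← (show Commute ⁅u, w⁆ w from (mem_center_iff.1 hzc w).symm).mul_pow, commutatorElement_def]
      congr 1
      group
    rw [conj_pow, hwp, mul_inv_cancel_right] at e1
    exact right_eq_mul.1 e1
  exact (hle (h.center_eq hna ▸ hz)).2

theorem Crit.center_le_of_small (h : Crit p q c) (hna : ¬ IsMulCommutative P) {K : Subgroup P}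
    {w : P} (hw : w ∉ center P) (hK : ∀ u, ⁅w, u⁆ ∈ K) : center P ≤ K := by
  have hc : ∀ a b : P, ⁅a, b⁆ ∈ commutator P := fun a b => by
    rw [commutator_def]; exact commutator_mem_commutator (mem_top a) (mem_top b)
  let A : Subgroup P :=
    { carrier := {a | ∀ u, ⁅a, u⁆ ∈ K}
      one_mem' := fun u => by simp
      mul_mem' := fun {a b} ha hb u => by
        have hz := mem_center_iff.1 (h.commutator_le_center (hc b u)) a
        have e : ⁅a * b, u⁆ = ⁅b, u⁆ * ⁅a, u⁆ := by
          calc ⁅a * b, u⁆ = a * ⁅b, u⁆ * (u * a⁻¹ * u⁻¹) := by simp only [commutatorElement_def]; group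
            _ = ⁅b, u⁆ * a * (u * a⁻¹ * u⁻¹) := by rw [hz]
            _ = _ := by simp only [commutatorElement_def]; group
        rw [e]
        exact mul_mem (hb u) (ha u)
      inv_mem' := fun {a} ha u => by
        have hz := mem_center_iff.1 (inv_mem (h.commutator_le_center (hc a u))) a⁻¹
        have e : ⁅a⁻¹, u⁆ = ⁅a, u⁆⁻¹ := by
          calc ⁅a⁻¹, u⁆ = a⁻¹ * ⁅a, u⁆⁻¹ * a := by simp only [commutatorElement_def]; group
            _ = ⁅a, u⁆⁻¹ := by rw [hz, inv_mul_cancel_right]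
        rw [e]
        exact inv_mem (ha u) }
  by_cases hA : A = ⊤
  · rw [h.center_eq hna, _root_.commutator_def]
    exact commutator_le.2 fun a _ b _ => (hA.symm ▸ mem_top a : a ∈ A) b
  · refine absurd (h.central_of_fixed (h.fix A hA (fun a ha u => ?_) w hK)) hw
    have e : ⁅c a, u⁆ = c ⁅a, c.symm u⁆ := by rw [map_commutatorElement, MulEquiv.apply_symm_apply]
    rw [e, h.fix_commutator (hc _ _)]
    exact ha _

/-- The three-parameter situation `|P : Z(P)| = p^2`, `|Z(P)| = p`. -/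
theorem Crit.small_false (h : Crit p q c) (hna : ¬ IsMulCommutative P) (hp3 : p ≤ 3)
    (M : Subgroup P) (hMc : ∀ a ∈ M, ∀ b ∈ M, a * b = b * a) {v u₀ : P} (hv : v ∈ M)
    (hvZ : v ∉ center P) (hvp : v ^ p = 1) (hM : M ⊔ zpowers u₀ = ⊤) (hZM : center P ≤ M)
    (hgen : ∀ m ∈ M, ∃ i : ℕ, ⁅u₀, m⁆ = ⁅u₀, v⁆ ^ i) : False := by
  have hcc : ∀ a b : P, ⁅a, b⁆ ∈ center P := fun a b => h.commutator_le_center
    (by rw [commutator_def]; exact commutator_mem_commutator (mem_top a) (mem_top b))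
  set A := P ⧸ center P
  let π : P →* A := QuotientGroup.mk' (center P)
  have hπ1 : ∀ x, π x = 1 ↔ x ∈ center P := fun x => QuotientGroup.eq_one_iff x
  have hAc : ∀ a b : A, a * b = b * a := fun a b => by
    obtain ⟨x, rfl⟩ := QuotientGroup.mk'_surjective (center P) a
    obtain ⟨y, rfl⟩ := QuotientGroup.mk'_surjective (center P) b
    have := (hπ1 _).2 (hcc x y)
    rw [map_commutatorElement, commutatorElement_eq_one_iff_mul_comm] at this
    exact this
  have hAp : ∀ x, π x ^ p = 1 := fun x => by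
    rw [← map_pow, hπ1]; exact h.commutator_le_center (h.pow_mem_commutator x)
  have hpos := hp.out.pos
  -- every element is `v^i u₀^j` modulo the centre
  have hMi : ∀ m ∈ M, ∃ i : ℕ, π m = π v ^ i := by
    intro m hm
    obtain ⟨i, hi⟩ := hgen m hm
    refine ⟨i, ?_⟩
    have hmem : m * (v ^ i)⁻¹ ∈ center P := by
      rw [mem_center_iff]
      intro g
      have hg : g ∈ M ⊔ zpowers u₀ := hM ▸ mem_top g
      have hle : M ⊔ zpowers u₀ ≤ centralizer {m * (v ^ i)⁻¹} := by
        have hmM : m * (v ^ i)⁻¹ ∈ M := mul_mem hm (inv_mem (pow_mem hv i))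
        refine sup_le (fun a ha => mem_centralizer_singleton_iff.2 (hMc a ha _ hmM))
          (zpowers_le.2 (mem_centralizer_singleton_iff.2 ?_))
        have hvi : ⁅u₀, v ^ i⁆ = ⁅u₀, v⁆ ^ i := by
          have hz := hcc u₀ v
          rw [commutatorElement_def u₀ (v ^ i), ← conj_pow,
            show u₀ * v * u₀⁻¹ = ⁅u₀, v⁆ * v by rw [commutatorElement_def]; group,
            (show Commute ⁅u₀, v⁆ v from (mem_center_iff.1 hz v).symm).mul_pow, mul_inv_cancel_right]
        rw [← hvi] at hi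
        simp only [commutatorElement_def] at hi
        calc u₀ * (m * (v ^ i)⁻¹) = (u₀ * m * u₀⁻¹) * (u₀ * v ^ i * u₀⁻¹)⁻¹ * u₀ := by group
          _ = (u₀ * m * u₀⁻¹ * m⁻¹) * m * (v ^ i)⁻¹ * (u₀ * v ^ i * u₀⁻¹ * (v ^ i)⁻¹)⁻¹ * u₀ := by
              group
          _ = m * (v ^ i)⁻¹ * u₀ := by
            rw [hi]
            have hz : u₀ * v ^ i * u₀⁻¹ * (v ^ i)⁻¹ ∈ center P := hcc u₀ (v ^ i)
            set z := u₀ * v ^ i * u₀⁻¹ * (v ^ i)⁻¹
            rw [mul_assoc z m, ← mem_center_iff.1 hz (m * (v ^ i)⁻¹)]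
            group
      exact mem_centralizer_singleton_iff.1 (hle hg)
    rw [← hπ1, map_mul, map_inv, mul_inv_eq_one, map_pow] at hmem
    exact hmem
  have hcard : Nat.card A ≤ p * p := by
    have hsurj : Function.Surjective (fun ij : Fin p × Fin p => π v ^ (ij.1 : ℕ) * π u₀ ^ (ij.2 : ℕ)) := by
      intro a
      obtain ⟨x, rfl⟩ := QuotientGroup.mk'_surjective (center P) a
      have hle : M ⊔ zpowers u₀ ≤ (zpowers (π v) ⊔ zpowers (π u₀)).comap π := by
        refine sup_le (fun m hm => ?_) (zpowers_le.2 (mem_sup_right (mem_zpowers _)))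
        obtain ⟨i, hi⟩ := hMi m hm
        rw [mem_comap, hi]
        exact mem_sup_left (pow_mem (mem_zpowers _) i)
      have hx : π x ∈ zpowers (π v) ⊔ zpowers (π u₀) := hle (hM ▸ mem_top x)
      have hnorm : zpowers (π v) ≤ normalizer (zpowers (π u₀) : Set A) := fun a _ => by
        rw [mem_normalizer_iff]
        intro b
        rw [hAc a b, mul_inv_cancel_right]
      obtain ⟨a, ha, b, hb, hab⟩ := (Coprime.mem_sup_of_le_normalizer hnorm).1 hx
      obtain ⟨i, hi, rfl⟩ : ∃ i, i < p ∧ π v ^ i = a := by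
        obtain ⟨i, rfl⟩ := (mem_powers_iff_mem_zpowers).2 ha
        exact ⟨i % p, Nat.mod_lt _ hpos, (pow_eq_pow_mod i (hAp v)).symm⟩
      obtain ⟨j, hj, rfl⟩ : ∃ j, j < p ∧ π u₀ ^ j = b := by
        obtain ⟨j, rfl⟩ := (mem_powers_iff_mem_zpowers).2 hb
        exact ⟨j % p, Nat.mod_lt _ hpos, (pow_eq_pow_mod j (hAp u₀)).symm⟩
      exact ⟨(⟨i, hi⟩, ⟨j, hj⟩), hab⟩
    simpa using Nat.card_le_card_of_surjective _ hsurj
  have hAcard : Nat.card A = p ^ 2 := by
    obtain ⟨n, hn⟩ := IsPGroup.iff_card.1 (h.pgrp.to_quotient (center P))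
    have hn2 : 2 ≤ n := by
      by_contra! hlt
      have : IsCyclic A := by
        interval_cases n
        · haveI : Subsingleton A := (Nat.card_eq_one_iff_unique.1 (by simpa using hn)).1
          exact isCyclic_of_subsingleton
        · exact isCyclic_of_prime_card (p := p) (by simpa using hn)
      haveI := this
      exact hna ⟨⟨commutative_of_cyclic_center_quotient π (QuotientGroup.ker_mk' (center P)).le⟩⟩
    have : n ≤ 2 := (Nat.pow_le_pow_iff_right hp.out.one_lt).1 (by rw [← hn, pow_two]; exact hcard)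
    rw [hn, le_antisymm this hn2]
  -- the induced automorphism
  have hchar : (center P).map c.toMonoidHom = center P :=
    characteristic_iff_map_eq.1 inferInstance c
  let cA : MulAut A := QuotientGroup.congr (center P) (center P) c hchar
  have hcA : ∀ x, cA (π x) = π (c x) := fun x => rfl
  have hnofix : ∀ x, π (c x) = π x → π x = 1 := by
    intro x hx
    by_contra hx1
    refine hx1 ((hπ1 x).2 ?_)
    set R := center P ⊔ zpowers x
    have hRne : R ≠ ⊤ := fun e => hna ⟨⟨fun a b => by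
      have hle : R ≤ centralizer (R : Set P) := by
        refine sup_le (fun z hz => mem_centralizer_iff.2 fun y _ => mem_center_iff.1 hz y)
          (zpowers_le.2 (mem_centralizer_iff.2 fun y hy => ?_))
        have : R ≤ centralizer {x} := sup_le
          (fun z hz => mem_centralizer_singleton_iff.2 (mem_center_iff.1 hz x).symm)
          (zpowers_le.2 (mem_centralizer_singleton_iff.2 rfl))
        exact mem_centralizer_singleton_iff.1 (this hy)
      exact (mem_centralizer_iff.1 (hle (e.symm ▸ mem_top b)) a (by rw [e]; exact mem_top a))⟩⟩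
    have hcx : c x ∈ R := by
      have : x⁻¹ * c x ∈ center P := (hπ1 _).1 (by rw [map_mul, map_inv, hx, inv_mul_cancel])
      have := mul_mem (mem_sup_right (mem_zpowers x) : x ∈ R) (mem_sup_left this)
      rwa [mul_inv_cancel_left] at this
    have hinv : R ≤ R.comap c.toMonoidHom := sup_le (fun z hz => mem_sup_left (by
      show c z ∈ center P
      rw [h.fix_center hna hz]; exact hz)) (zpowers_le.2 hcx)
    exact h.central_of_fixed (h.fix R hRne (fun a ha => hinv ha) x (mem_sup_right (mem_zpowers x)))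
  have hπv : π v ≠ 1 := fun e => hvZ ((hπ1 v).1 e)
  have hcq : ∀ x, (c ^ q) x = x := fun x => by rw [h.pow]; rfl
  rcases (show p = 2 ∨ p = 3 by have := hp.out.two_le; omega) with rfl | rfl
  · -- `p = 2`
    have hq2 : Odd q := h.hq.odd_of_ne_two (fun e => h.hpq e.symm)
    have hcgr : ∀ x y, π x = π y → π (c x) = π (c y) := fun x y e => by rw [← hcA, ← hcA, e]
    have hcA2 : ∀ x, π (c (c x)) = π x → π (c x) = π x := by
      intro x hx
      obtain ⟨k, hk⟩ := hq2
      have hstep : ∀ k : ℕ, π ((c ^ (2 * k + 1)) x) = π (c x) := by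
        intro k
        induction k with
        | zero => simp
        | succ k ih =>
          rw [show 2 * (k + 1) + 1 = 2 + (2 * k + 1) by ring, pow_add, MulAut.mul_apply, pow_two,
            MulAut.mul_apply, hcgr _ _ (hcgr _ _ ih)]
          exact hcgr _ _ hx
      rw [← hstep k, ← hk, hcq]
    set a := π v
    set b := π (c v)
    set d := π (c (c v))
    have hba : b ≠ a := fun e => hπv (hnofix v e)
    have hb1 : b ≠ 1 := fun e => hπv (cA.injective (by rw [hcA, map_one]; exact e))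
    have hd1 : d ≠ 1 := fun e => hb1 (cA.injective (by rw [hcA, map_one]; exact e))
    have hdb : d ≠ b := fun e => hba (cA.injective (by rw [hcA, hcA]; exact e))
    have hda : d ≠ a := fun e => hba (hcA2 v e)
    have habd : d = a * b := by
      by_contra hne
      classical
      haveI : Fintype A := Fintype.ofFinite A
      have ha2 : a * a = 1 := by rw [← pow_two]; exact hAp v
      have hb2 : b * b = 1 := by rw [← pow_two]; exact hAp _
      have hab1 : a * b ≠ 1 := fun e => hba (by rw [← mul_left_cancel (ha2.trans e.symm)])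
      have haba : a * b ≠ a := fun e => hb1 (mul_eq_left.1 e)
      have habb : a * b ≠ b := fun e => hπv (mul_eq_right.1 e)
      have hnd : List.Nodup [(1 : A), a, b, a * b, d] := by
        simp [hπv, Ne.symm hπv, hb1.symm, hba.symm, hab1.symm, haba.symm, habb.symm, hd1.symm,
          hda.symm, hdb.symm, Ne.symm hne, a]
      have := hnd.length_le_card
      rw [← Nat.card_eq_fintype_card, hAcard] at this
      simp at this
    set z := (v * c v)⁻¹ * c (c v) with hz
    have hzc : z ∈ center P := by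
      rw [← hπ1, map_mul, map_inv, map_mul]
      exact inv_mul_eq_one.2 habd.symm
    have hz2 : z * z = 1 := by rw [← pow_two]; exact h.center_pow hna hzc
    have hv2 : v * v = 1 := by rw [← pow_two]; exact hvp
    have hcv2 : c v * c v = 1 := by rw [← map_mul, hv2, map_one]
    have hccv2 : c (c v) * c (c v) = 1 := by rw [← map_mul, hcv2, map_one]
    have hcomm : v * c v = c v * v := by
      have e : c (c v) = v * c v * z := by rw [hz, mul_inv_cancel_left]
      rw [e] at hccv2
      have e2 : (v * c v) * (v * c v) = 1 := by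
        calc (v * c v) * (v * c v) = (v * c v) * (v * c v) * (z * z) := by rw [hz2, mul_one]
          _ = v * c v * (v * c v * z) * z := by group
          _ = v * c v * (z * (v * c v)) * z := by rw [← mem_center_iff.1 hzc (v * c v)]
          _ = 1 := by rw [← hccv2]; group
      have := eq_inv_of_mul_eq_one_left e2
      rw [mul_inv_rev, inv_eq_of_mul_eq_one_right hv2, inv_eq_of_mul_eq_one_right hcv2] at this
      exact this
    -- then `v` is central
    refine hvZ (mem_center_iff.2 fun g => ?_)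
    classical
    haveI : Fintype A := Fintype.ofFinite A
    have hπg : π g ∈ ([1, a, b, d] : List A) := by
      by_contra hne
      have hnd : List.Nodup [(1 : A), a, b, d, π g] := by
        simp only [List.mem_cons, List.not_mem_nil, or_false, not_or] at hne
        simp [hπv, Ne.symm hπv, hb1.symm, hba.symm, hd1.symm, hda.symm, hdb.symm, Ne.symm hne.1,
          Ne.symm hne.2.1, Ne.symm hne.2.2.1, Ne.symm hne.2.2.2, a]
      have := hnd.length_le_card
      rw [← Nat.card_eq_fintype_card, hAcard] at this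
      simp at this
    have hlift : ∀ y, π g = π y → v * y = y * v → g * v = v * g := by
      intro y hy hvy
      have hzy : y⁻¹ * g ∈ center P := (hπ1 _).1 (by rw [map_mul, map_inv, hy, inv_mul_cancel])
      calc g * v = y * ((y⁻¹ * g) * v) := by group
        _ = y * (v * (y⁻¹ * g)) := by rw [mem_center_iff.1 hzy v]
        _ = v * g := by rw [← mul_assoc, ← hvy]; group
    simp only [List.mem_cons, List.not_mem_nil, or_false] at hπg
    rcases hπg with e | e | e | e
    · exact hlift 1 (by rw [e, map_one]) (by simp)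
    · exact hlift v e rfl
    · exact hlift (c v) e hcomm
    · refine hlift (v * c v) (by rw [e, habd, map_mul]) ?_
      rw [← mul_assoc, mul_assoc v (c v) v, ← hcomm, ← mul_assoc]
  · -- `p = 3`
    haveI := Fact.mk h.hq
    have hpowA : ∀ n : ℕ, ∀ x, (cA ^ n) (π x) = π ((c ^ n) x) := by
      intro n
      induction n with
      | zero => simp
      | succ n ih => intro x; rw [pow_succ', pow_succ', MulAut.mul_apply, MulAut.mul_apply, ih, hcA]
    have hcAq : cA ^ q = 1 := MulEquiv.ext fun a => by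
      obtain ⟨x, rfl⟩ := QuotientGroup.mk'_surjective (center P) a
      rw [hpowA, hcq]; rfl
    have hC : IsPGroup q (zpowers cA) := fun g => ⟨1, Subtype.ext (by
      obtain ⟨i, hi⟩ := mem_zpowers_iff.1 g.2
      rw [pow_one, SubmonoidClass.coe_pow, OneMemClass.coe_one, ← hi, ← zpow_natCast, ← zpow_mul,
        mul_comm, zpow_mul, zpow_natCast, hcAq, one_zpow])⟩
    have hmod := hC.card_modEq_card_fixedPoints (α := A)
    have hfix : MulAction.fixedPoints (zpowers cA) A = {1} := by
      ext a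
      refine ⟨fun ha => ?_, fun ha g => ?_⟩
      · obtain ⟨x, rfl⟩ := QuotientGroup.mk'_surjective (center P) a
        exact hnofix x (ha ⟨cA, mem_zpowers _⟩)
      · rw [Set.mem_singleton_iff.1 ha]
        exact map_one (g : MulAut A)
    rw [hAcard, hfix, Nat.card_coe_set_eq, Set.ncard_singleton] at hmod
    have hq8 : q ∣ 3 ^ 2 - 1 := (Nat.modEq_iff_dvd' (by norm_num)).1 hmod.symm
    have hq2 : q = 2 := (Nat.prime_dvd_prime_iff_eq h.hq Nat.prime_two).1
      (h.hq.dvd_of_dvd_pow (show q ∣ 2 ^ 3 by simpa using hq8))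
    subst hq2
    have hinvx : ∀ x, π (c x) = (π x)⁻¹ := by
      intro x
      have h2 : c (c x) = x := by
        have := hcq x
        rwa [pow_two, MulAut.mul_apply] at this
      have := hnofix (x * c x) (by rw [map_mul, map_mul, map_mul, h2, hAc])
      rw [map_mul] at this
      exact eq_inv_of_mul_eq_one_right this
    -- `center ⊔ ⟨v⟩` is invariant
    set R := center P ⊔ zpowers v
    have hRM : R ≤ M := sup_le hZM (zpowers_le.2 hv)
    have hRne : R ≠ ⊤ := fun e => hna ⟨⟨fun a b =>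
      hMc a (hRM (e.symm ▸ mem_top a)) b (hRM (e.symm ▸ mem_top b))⟩⟩
    have hcv : c v ∈ R := by
      have : v * c v ∈ center P := (hπ1 _).1 (by rw [map_mul, hinvx, mul_inv_cancel])
      have := mul_mem (inv_mem (mem_sup_right (mem_zpowers v) : v ∈ R)) (mem_sup_left this)
      rwa [inv_mul_cancel_left] at this
    have hinv : R ≤ R.comap c.toMonoidHom := sup_le (fun z hz => mem_sup_left (by
      show c z ∈ center P
      rw [h.fix_center hna hz]; exact hz)) (zpowers_le.2 hcv)
    exact hvZ (h.central_of_fixed (h.fix R hRne (fun a ha => hinv ha) v (mem_sup_right (mem_zpowers v))))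

end Internal

section Aux

variable {G : Type*} [Group G]

theorem centralizer_sup_aux {A B : Subgroup G} :
    centralizer ((A ⊔ B : Subgroup G) : Set G) = centralizer (A : Set G) ⊓ centralizer (B : Set G) := by
  refine le_antisymm (le_inf (centralizer_le (SetLike.coe_subset_coe.2 le_sup_left)) (centralizer_le (SetLike.coe_subset_coe.2 le_sup_right))) ?_
  rw [Subgroup.le_centralizer_iff]
  exact sup_le (Subgroup.le_centralizer_iff.1 inf_le_left) (Subgroup.le_centralizer_iff.1 inf_le_right)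

theorem centralizer_le_zpowers (b : G) :
    centralizer ({b} : Set G) ≤ centralizer ((zpowers b : Subgroup G) : Set G) := by
  rw [Subgroup.le_centralizer_iff, zpowers_le]
  exact mem_centralizer_iff.2 fun y hy => mem_centralizer_singleton_iff.1 hy

theorem card_le_of_le [Finite G] {A B : Subgroup G} (h : A ≤ B) : Nat.card A ≤ Nat.card B :=
  Nat.card_le_card_of_injective _ (Subgroup.inclusion_injective h)

end Aux

section External

variable {H : Type*} [Group H] [Finite H] {p : ℕ} [hp : Fact p.Prime]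

theorem pow_conj_shift {x v z : H} (hv : x * v * x⁻¹ = v) (hz : x * z * x⁻¹ = v * z)
    (hc : Commute v z) (n a b : ℕ) :
    x ^ n * (z ^ a * v ^ b) * (x ^ n)⁻¹ = z ^ a * v ^ (b + n * a) := by
  induction n generalizing b with
  | zero => simp
  | succ n ih =>
    have e : x * (z ^ a * v ^ b) * x⁻¹ = z ^ a * v ^ (b + a) := by
      rw [show x * (z ^ a * v ^ b) * x⁻¹ = (x * z ^ a * x⁻¹) * (x * v ^ b * x⁻¹) by group,
        ← conj_pow, ← conj_pow, hz, hv, hc.mul_pow, (hc.pow_pow a a).eq, mul_assoc, ← pow_add,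
        add_comm a b]
    rw [pow_succ, mul_inv_rev,
      show x ^ n * x * (z ^ a * v ^ b) * (x⁻¹ * (x ^ n)⁻¹) =
        x ^ n * (x * (z ^ a * v ^ b) * x⁻¹) * (x ^ n)⁻¹ by group, e, ih]
    ring_nf

theorem zpowers_eq_of_pow {z a : H} (hz : z ^ p = 1) (ha : a ∈ zpowers z) (ha1 : a ≠ 1) :
    zpowers a = zpowers z := by
  refine Subgroup.eq_of_le_of_card_ge (zpowers_le.2 ha) ?_
  rw [Nat.card_zpowers, Nat.card_zpowers]
  have h1 := orderOf_dvd_of_pow_eq_one hz
  have h2 : orderOf a ∣ orderOf z := orderOf_dvd_of_mem_zpowers ha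
  rcases (Nat.dvd_prime hp.out).1 (h2.trans h1) with e | e
  · exact absurd (orderOf_eq_one_iff.1 e) ha1
  · rw [e]; exact Nat.le_of_dvd hp.out.pos h1

theorem mem_normalizer_of_conj_le {S : Subgroup H} {g : H} (h : ∀ x ∈ S, g * x * g⁻¹ ∈ S) :
    g ∈ normalizer (S : Set H) := by
  rw [mem_normalizer_iff]
  intro x
  refine ⟨h x, fun hx => ?_⟩
  let f : S → S := fun y => ⟨g * y * g⁻¹, h y y.2⟩
  have hf : Function.Injective f := fun a b e =>
    Subtype.ext (mul_left_cancel (mul_right_cancel (congrArg Subtype.val e : g * (a : H) * g⁻¹ = _)))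
  obtain ⟨⟨y, hy⟩, hy'⟩ := Finite.injective_iff_surjective.1 hf ⟨_, hx⟩
  have := mul_left_cancel (mul_right_cancel (congrArg Subtype.val hy'))
  exact this ▸ hy

theorem conj_mem_zpowers {z : H} {g : H} (h : g * z * g⁻¹ ∈ zpowers z) :
    g ∈ normalizer ((zpowers z : Subgroup H) : Set H) := by
  refine mem_normalizer_of_conj_le fun x hx => ?_
  obtain ⟨i, rfl⟩ := mem_zpowers_iff.1 hx
  rw [← conj_zpow]
  exact zpow_mem h i

/-- A Sylow subgroup like that of a minimal non-nilpotent group lies in the `p`-core of a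
`p`-solvable group with trivial `p'`-core. -/
theorem sylow_le_pCore (hS : Cfsg.IsPSolvable p H) (hred : Cfsg.pPrimeCore p H = ⊥) (Q : Sylow p H)
    {q : ℕ} {c : MulAut (Q : Subgroup H)} (hc : Crit p q c) :
    (Q : Subgroup H) ≤ Cfsg.pCore p H := by
  set V := Cfsg.pCore p H with hV
  haveI hVn : V.Normal := Hall.pCore_normal p
  have hVQ : V ≤ Q := Hall.pCore_le_sylow Q
  have hCV : centralizer (V : Set H) ≤ V := LocalFusion.centralizer_pCore_le_of_isPSolvable hS hred
  by_cases hab : IsMulCommutative (Q : Subgroup H)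
  · exact fun x hx => hCV (mem_centralizer_iff.2 fun y hy =>
      congrArg Subtype.val (hab.is_comm.comm (⟨y, hVQ hy⟩ : (Q : Subgroup H)) ⟨x, hx⟩))
  by_contra hQV
  set Z := (center (Q : Subgroup H)).map (Q : Subgroup H).subtype with hZ
  have hZQ : Z ≤ Q := map_subtype_le _
  have hZc : ∀ z ∈ Z, ∀ u ∈ (Q : Subgroup H), u * z = z * u := by
    rintro _ ⟨z, hz, rfl⟩ u hu
    exact congrArg Subtype.val (mem_center_iff.1 hz ⟨u, hu⟩)
  have hZmem : ∀ z ∈ (Q : Subgroup H), (∀ u ∈ (Q : Subgroup H), u * z = z * u) → z ∈ Z :=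
    fun z hz h => ⟨⟨z, hz⟩, mem_center_iff.2 fun u => Subtype.ext (h u u.2), rfl⟩
  have hZp : ∀ z ∈ Z, z ^ p = 1 := by
    rintro _ ⟨z, hz, rfl⟩
    rw [← map_pow, hc.center_pow hab hz, map_one]
  have hcomZ : ∀ a ∈ (Q : Subgroup H), ∀ b ∈ (Q : Subgroup H), ⁅a, b⁆ ∈ Z := fun a ha b hb =>
    ⟨⁅(⟨a, ha⟩ : (Q : Subgroup H)), ⟨b, hb⟩⁆, hc.commutator_le_center
      (by rw [commutator_def]; exact commutator_mem_commutator (mem_top _) (mem_top _)), rfl⟩
  have hpowZ : ∀ a ∈ (Q : Subgroup H), a ^ p ∈ Z := fun a ha =>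
    ⟨(⟨a, ha⟩ : (Q : Subgroup H)) ^ p, hc.commutator_le_center (hc.pow_mem_commutator _), rfl⟩
  have hZV : Z ≤ V := fun z hz => hCV (mem_centralizer_iff.2 fun y hy => hZc z hz y (hVQ hy))
  have hcommpow : ∀ a ∈ (Q : Subgroup H), ∀ b ∈ (Q : Subgroup H), ∀ i : ℕ,
      ⁅a ^ i, b⁆ = ⁅a, b⁆ ^ i := by
    intro a ha b hb i
    induction i with
    | zero => simp
    | succ i ih =>
      have hz := hcomZ a ha b hb
      have e : ⁅a ^ (i + 1), b⁆ = a ^ i * ⁅a, b⁆ * (a ^ i)⁻¹ * ⁅a ^ i, b⁆ := by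
        rw [pow_succ]; simp only [commutatorElement_def]; group
      rw [e, hZc _ hz _ (pow_mem ha i), mul_inv_cancel_right, ih, ← pow_succ']
  -- the quotient
  set π := QuotientGroup.mk' V with hπ
  have hπ1 : ∀ x, π x = 1 ↔ x ∈ V := fun x => QuotientGroup.eq_one_iff x
  set Rb := Cfsg.pPrimeCore p (H ⧸ V) with hRb
  haveI hRbn : Rb.Normal := Hall.pPrimeCore_normal p
  have hbar : Cfsg.pCore p (H ⧸ V) = ⊥ := PLength.pCore_quotient_pCore_eq_bot
  have hCR : centralizer (Rb : Set (H ⧸ V)) ≤ Rb := HallHigman.centralizer_pPrimeCore_le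
    (PLength.isPSolvable_map (QuotientGroup.mk'_surjective V) hS) hbar
  have hcopR : (Nat.card Rb).Coprime p := Hall.coprime_card_pPrimeCore p
  set R₀ := Rb.comap π with hR₀
  haveI : R₀.Normal := inferInstance
  set N := normalizer (Z : Set H) with hN
  have hQN : (Q : Subgroup H) ≤ N := fun u hu => mem_normalizer_of_conj_le fun z hz => by
    rw [hZc z hz u hu, mul_inv_cancel_right]; exact hz
  -- elements acting trivially on `Z` and `V / Z`
  let Triv : H → Prop := fun s => (∀ z ∈ Z, s * z = z * s) ∧ ∀ v ∈ V, s * v * s⁻¹ * v⁻¹ ∈ Z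
  have hTQ : ∀ u ∈ (Q : Subgroup H), Triv u := fun u hu =>
    ⟨fun z hz => hZc z hz u hu, fun v hv => hcomZ u hu v (hVQ hv)⟩
  have hTmul : ∀ a b, Triv a → Triv b → Triv (a * b) := by
    refine fun a b ha hb => ⟨fun z hz => ?_, fun v hv => ?_⟩
    · rw [mul_assoc, hb.1 z hz, ← mul_assoc, ha.1 z hz, mul_assoc]
    · set v' := b * v * b⁻¹
      have hv' : v' ∈ V := hVn.conj_mem v hv b
      have := mul_mem (ha.2 v' hv') (hb.2 v hv)
      rw [show a * b * v * (a * b)⁻¹ * v⁻¹ = a * v' * a⁻¹ * v'⁻¹ * (b * v * b⁻¹ * v⁻¹) by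
        simp only [v']; group]
      exact this
  have hTconj : ∀ g ∈ N, ∀ a, Triv a → Triv (g * a * g⁻¹) := by
    intro g hg a ha
    have hgi := inv_mem hg
    refine ⟨fun z hz => ?_, fun v hv => ?_⟩
    · have hz' : g⁻¹ * z * g ∈ Z := by
        have := (mem_normalizer_iff.1 hgi z).1 hz
        rwa [inv_inv] at this
      calc g * a * g⁻¹ * z = g * (a * (g⁻¹ * z * g)) * g⁻¹ := by group
        _ = z * (g * a * g⁻¹) := by rw [ha.1 _ hz']; group
    · have hv' : g⁻¹ * v * g ∈ V := by simpa using hVn.conj_mem v hv g⁻¹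
      have := (mem_normalizer_iff.1 hg _).1 (ha.2 _ hv')
      rw [show g * a * g⁻¹ * v * (g * a * g⁻¹)⁻¹ * v⁻¹ =
        g * (a * (g⁻¹ * v * g) * a⁻¹ * (g⁻¹ * v * g)⁻¹) * g⁻¹ by group]
      exact this
  have hTpow : ∀ a, Triv a → ∀ i : ℕ, Triv (a ^ i) := by
    intro a ha i
    induction i with
    | zero => exact ⟨fun z _ => by simp, fun v _ => by simp⟩
    | succ i ih => rw [pow_succ]; exact hTmul _ _ ih ha
  have hkill : ∀ s ∈ R₀, Triv s → s ∈ V := by
    intro s hs hT
    obtain ⟨k, m, hm, hord⟩ := Nat.exists_eq_pow_mul_and_not_dvd (orderOf_pos s).ne' p hp.out.ne_one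
    set t := s ^ p ^ k with ht
    have htm : t ^ m = 1 := by rw [ht, ← pow_mul, ← hord, pow_orderOf_eq_one]
    have htT : Triv t := hTpow s hT _
    have hcent : t ∈ centralizer (V : Set H) := by
      refine mem_centralizer_iff.2 fun v hv => ?_
      set z := t * v * t⁻¹ * v⁻¹ with hz
      have hzZ : z ∈ Z := htT.2 v hv
      have hit : ∀ i : ℕ, t ^ i * v * (t ^ i)⁻¹ = z ^ i * v := by
        intro i
        induction i with
        | zero => simp
        | succ i ih =>
          rw [pow_succ', mul_inv_rev, show t * t ^ i * v * ((t ^ i)⁻¹ * t⁻¹) =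
            t * (t ^ i * v * (t ^ i)⁻¹) * t⁻¹ by group, ih,
            show t * (z ^ i * v) * t⁻¹ = (t * z ^ i) * t⁻¹ * (t * v * t⁻¹) by group,
            htT.1 _ (pow_mem hzZ i), mul_inv_cancel_right, pow_succ, mul_assoc, hz]
          group
      have h1 := hit m
      rw [htm, one_mul, inv_one, mul_one] at h1
      have hz1 : z = 1 := orderOf_eq_one_iff.1 (Nat.eq_one_of_dvd_coprimes
        ((hp.out.coprime_iff_not_dvd).2 hm) (orderOf_dvd_of_pow_eq_one (hZp z hzZ))
        (orderOf_dvd_of_pow_eq_one (right_eq_mul.1 h1)))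
      rw [hz, mul_inv_eq_one, mul_inv_eq_iff_eq_mul] at hz1
      exact hz1.symm
    have ht1 : t = 1 := by
      obtain ⟨l, hl⟩ := IsPGroup.iff_orderOf.1 (Hall.isPGroup_pCore (G := H) p) ⟨t, hCV hcent⟩
      rw [Subgroup.orderOf_mk] at hl
      exact orderOf_eq_one_iff.1 (Nat.eq_one_of_dvd_coprimes
        (Nat.Coprime.pow_left l ((hp.out.coprime_iff_not_dvd).2 hm)) (hl ▸ dvd_rfl)
        (orderOf_dvd_of_pow_eq_one htm))
    rw [← hπ1]
    exact orderOf_eq_one_iff.1 (Nat.eq_one_of_dvd_coprimes (hcopR.pow_right k)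
      (Subgroup.orderOf_dvd_natCard Rb hs)
      (orderOf_dvd_of_pow_eq_one (by rw [← map_pow, ← ht, ht1, map_one])))
  -- it is enough that the preimage of `Rb` normalizes `Z`
  suffices hnorm : R₀ ≤ N by
    refine hQV fun u hu => ?_
    have huC : π u ∈ centralizer (Rb : Set (H ⧸ V)) := by
      refine mem_centralizer_iff.2 fun r hr => ?_
      obtain ⟨g, rfl⟩ := QuotientGroup.mk'_surjective V r
      have hgR : g ∈ R₀ := hr
      have hs : g * u * g⁻¹ * u⁻¹ ∈ V := by
        refine hkill _ ?_ (hTmul _ _ (hTconj g (hnorm hgR) u (hTQ u hu)) (hTQ _ (inv_mem hu)))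
        rw [show g * u * g⁻¹ * u⁻¹ = g * (u * g⁻¹ * u⁻¹) by group]
        exact mul_mem hgR (Subgroup.Normal.conj_mem inferInstance _ (inv_mem hgR) u)
      rw [← hπ1, map_mul, map_mul, map_mul, map_inv, map_inv, mul_inv_eq_one,
        mul_inv_eq_iff_eq_mul] at hs
      exact hs
    rw [← hπ1]
    obtain ⟨k, hk⟩ := IsPGroup.iff_orderOf.1 Q.2 ⟨u, hu⟩
    rw [Subgroup.orderOf_mk] at hk
    exact orderOf_eq_one_iff.1 (Nat.eq_one_of_dvd_coprimes (hcopR.pow_right k)
      (Subgroup.orderOf_dvd_natCard Rb (hCR huC)) (hk ▸ orderOf_map_dvd π u))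
  set Ab := (Q : Subgroup H).map π with hAb
  have hAbc : ∀ a ∈ Ab, ∀ b ∈ Ab, a * b = b * a := by
    rintro _ ⟨a, ha, rfl⟩ _ ⟨b, hb, rfl⟩
    have := (hπ1 _).2 (hZV (hcomZ a ha b hb))
    rwa [map_commutatorElement, commutatorElement_eq_one_iff_mul_comm] at this
  have hAbp : ∀ a ∈ Ab, a ^ p = 1 := by
    rintro _ ⟨a, ha, rfl⟩
    rw [← map_pow, hπ1]; exact hZV (hpowZ a ha)
  have hQcomap : Ab.comap π = Q := by
    rw [hAb, hπ, QuotientGroup.comap_map_mk', sup_eq_right.2 hVQ]
  -- subgroups of `Q` with cyclic quotient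
  have hnormOr : ∀ (M : Subgroup H) (u₀ g : H), V ≤ M → M ≤ Q → u₀ ∈ (Q : Subgroup H) →
      (Q : Subgroup H) ≤ M ⊔ zpowers u₀ → g ∈ normalizer (M : Set H) →
      g ∈ N ∨ ((∀ a ∈ M, ∀ b ∈ M, a * b = b * a) ∧ ∃ z₀ ∈ Z, Z ≤ zpowers z₀) := by
    intro M u₀ g hVM hMQ hu₀ hM hg
    have hconjM : ∀ a ∈ M, g⁻¹ * a * g ∈ M := fun a ha => by
      have := (mem_normalizer_iff.1 (inv_mem hg) a).1 ha
      rwa [inv_inv] at this
    by_cases hw : ∀ w ∈ M, (∀ m ∈ M, m * w = w * m) → w ∈ Z
    · left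
      refine mem_normalizer_of_conj_le fun z hz => hw _
        ((mem_normalizer_iff.1 hg z).1 (hVM (hZV hz))) fun m hm => ?_
      have hzc := hZc z hz _ (hMQ (hconjM m hm))
      calc m * (g * z * g⁻¹) = g * ((g⁻¹ * m * g) * z) * g⁻¹ := by group
        _ = g * z * g⁻¹ * m := by rw [hzc]; group
    push Not at hw
    obtain ⟨w, hwM, hwc, hwZ⟩ := hw
    set z₀ := ⁅w, u₀⁆ with hz₀
    have hz₀Z : z₀ ∈ Z := hcomZ w (hMQ hwM) u₀ hu₀
    have hZle : Z ≤ zpowers z₀ := by
      have hle : (Q : Subgroup H) ≤ M ⊔ zpowers u₀ := hM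
      have hall : ∀ u ∈ M ⊔ zpowers u₀, u ∈ (Q : Subgroup H) ∧ ⁅w, u⁆ ∈ zpowers z₀ := by
        intro u hu
        have huQ : u ∈ (Q : Subgroup H) := sup_le hMQ (zpowers_le.2 hu₀) hu
        refine ⟨huQ, ?_⟩
        let A : Subgroup H :=
          { carrier := {u | u ∈ (Q : Subgroup H) ∧ ⁅w, u⁆ ∈ zpowers z₀}
            one_mem' := ⟨one_mem _, by simp⟩
            mul_mem' := fun {a b} ha hb => ⟨mul_mem ha.1 hb.1, by
              have hz := hZc _ (hcomZ w (hMQ hwM) b hb.1) a ha.1
              have e : ⁅w, a * b⁆ = ⁅w, a⁆ * ⁅w, b⁆ := by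
                calc ⁅w, a * b⁆ = ⁅w, a⁆ * (a * ⁅w, b⁆ * a⁻¹) := by
                      simp only [commutatorElement_def]; group
                  _ = _ := by rw [hz, mul_inv_cancel_right]
              rw [e]; exact mul_mem ha.2 hb.2⟩
            inv_mem' := fun {a} ha => ⟨inv_mem ha.1, by
              have hz := hZc _ (hcomZ w (hMQ hwM) a ha.1) a ha.1
              have e : ⁅w, a⁻¹⁆ = ⁅w, a⁆⁻¹ := by
                calc ⁅w, a⁻¹⁆ = a⁻¹ * (⁅w, a⁆⁻¹) * a := by simp only [commutatorElement_def]; group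
                  _ = a⁻¹ * (⁅w, a⁆⁻¹ * a) := by group
                  _ = ⁅w, a⁆⁻¹ := by
                    rw [← (show Commute a ⁅w, a⁆⁻¹ from (show Commute a ⁅w, a⁆ from hz).inv_right).eq]
                    group
              rw [e]; exact inv_mem ha.2⟩ }
        have : M ⊔ zpowers u₀ ≤ A := sup_le (fun m hm => ⟨hMQ hm, by
            rw [commutatorElement_eq_one_iff_mul_comm.2 (hwc m hm).symm]; exact one_mem _⟩)
          (zpowers_le.2 ⟨hu₀, mem_zpowers _⟩)
        exact (this hu).2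
      have hwc' : (⟨w, hMQ hwM⟩ : (Q : Subgroup H)) ∉ center (Q : Subgroup H) := fun e =>
        hwZ ⟨_, e, rfl⟩
      have := hc.center_le_of_small hab (K := (zpowers z₀).comap (Q : Subgroup H).subtype) hwc'
        fun u => (hall u (hle u.2)).2
      exact (map_mono this).trans (map_comap_le _ _)
    by_cases hMc : ∀ a ∈ M, ∀ b ∈ M, a * b = b * a
    · exact Or.inr ⟨hMc, z₀, hz₀Z, hZle⟩
    left
    push Not at hMc
    obtain ⟨a, ha, b, hb, hab'⟩ := hMc
    have hd1 : ⁅a, b⁆ ≠ 1 := fun e => hab' (commutatorElement_eq_one_iff_mul_comm.1 e)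
    have hd : zpowers ⁅a, b⁆ = zpowers z₀ :=
      zpowers_eq_of_pow (hZp z₀ hz₀Z) (hZle (hcomZ a (hMQ ha) b (hMQ hb))) hd1
    have hZeq : Z = zpowers z₀ := le_antisymm hZle (zpowers_le.2 hz₀Z)
    refine mem_normalizer_of_conj_le fun z hz => ?_
    rw [hZeq, ← hd] at hz
    obtain ⟨i, rfl⟩ := mem_zpowers_iff.1 hz
    rw [← conj_zpow]
    refine zpow_mem ?_ i
    rw [show g * ⁅a, b⁆ * g⁻¹ = ⁅g * a * g⁻¹, g * b * g⁻¹⁆ by
      simp only [commutatorElement_def]; group]
    exact hcomZ _ (hMQ ((mem_normalizer_iff.1 hg a).1 ha)) _ (hMQ ((mem_normalizer_iff.1 hg b).1 hb))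
  -- the case `|Q : V| = p`, `V` abelian
  have hspecial : ∀ (u₀ g : H), u₀ ∈ (Q : Subgroup H) → g ∈ R₀ →
      (Q : Subgroup H) ≤ V ⊔ zpowers u₀ → (∀ a ∈ V, ∀ b ∈ V, a * b = b * a) →
      (∃ z₀ ∈ Z, Z ≤ zpowers z₀) → g ∈ N := by
    intro u₀ g hu₀ hgR hQle hVc ⟨z₀, hz₀, hZle⟩
    by_contra hgN
    have hZeq : Z = zpowers z₀ := le_antisymm hZle (zpowers_le.2 hz₀)
    set v := g * z₀ * g⁻¹ with hv
    have hvV : v ∈ V := hVn.conj_mem z₀ (hZV hz₀) g
    have hvZ : v ∉ Z := fun h => hgN (by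
      rw [hN, hZeq]; exact conj_mem_zpowers (hZeq ▸ h))
    have hz₀1 : z₀ ≠ 1 := fun e => hvZ (by rw [hv, e]; simp)
    have hvp : v ^ p = 1 := by rw [hv, conj_pow, hZp z₀ hz₀]; group
    have hcentral : ∀ x ∈ V, u₀ * x = x * u₀ → x ∈ Z := by
      intro x hx hux
      refine hZmem x (hVQ hx) fun u hu => ?_
      have : V ⊔ zpowers u₀ ≤ centralizer {x} := sup_le
        (fun a ha => mem_centralizer_singleton_iff.2 (hVc a ha x hx))
        (zpowers_le.2 (mem_centralizer_singleton_iff.2 hux))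
      exact mem_centralizer_singleton_iff.1 (this (hQle hu))
    have he1 : ⁅u₀, v⁆ ≠ 1 := fun e =>
      hvZ (hcentral v hvV (commutatorElement_eq_one_iff_mul_comm.1 e))
    have he : zpowers ⁅u₀, v⁆ = zpowers z₀ :=
      zpowers_eq_of_pow (hZp z₀ hz₀) (hZle (hcomZ u₀ hu₀ v (hVQ hvV))) he1
    by_cases hp5 : p ≤ 3
    · have hQtop : ∀ (M' : Subgroup (Q : Subgroup H)), M' = V.subgroupOf Q →
          M' ⊔ zpowers (⟨u₀, hu₀⟩ : (Q : Subgroup H)) = ⊤ := by
        rintro M' rfl
        refine map_injective (Q : Subgroup H).subtype_injective ?_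
        rw [Subgroup.map_sup, map_subgroupOf_eq_of_le hVQ, MonoidHom.map_zpowers,
          ← MonoidHom.range_eq_map, range_subtype]
        exact le_antisymm (sup_le hVQ (zpowers_le.2 hu₀)) hQle
      refine hc.small_false hab hp5 (V.subgroupOf Q)
        (fun a ha b hb => Subtype.ext (hVc a ha b hb)) (v := ⟨v, hVQ hvV⟩) (u₀ := ⟨u₀, hu₀⟩) hvV
        (fun e => hvZ ⟨_, e, rfl⟩) (Subtype.ext (by simpa using hvp)) (hQtop _ rfl)
        (fun z hz => hZV ⟨z, hz, rfl⟩) fun m hm => ?_
      have hmem : ⁅u₀, (m : H)⁆ ∈ zpowers ⁅u₀, v⁆ := he ▸ hZle (hcomZ u₀ hu₀ m m.2)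
      obtain ⟨i, hi⟩ := (mem_powers_iff_mem_zpowers).2 hmem
      exact ⟨i, Subtype.ext (by simpa [commutatorElement_def] using hi.symm)⟩
    · -- `p ≥ 5`
      push Not at hp5
      have hodd : p % 2 = 1 := hp.out.eq_two_or_odd.resolve_left (by omega)
      obtain ⟨i, hi⟩ := (mem_powers_iff_mem_zpowers).2 (he.symm ▸ mem_zpowers z₀ : z₀ ∈ zpowers ⁅u₀, v⁆)
      change ⁅u₀, v⁆ ^ i = z₀ at hi
      set u₁ := u₀ ^ i with hu₁
      have h11 : u₁ * v * u₁⁻¹ = z₀ * v := by
        rw [← hi, ← hcommpow u₀ hu₀ v (hVQ hvV) i, ← hu₁, commutatorElement_def,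
          inv_mul_cancel_right]
      have h10 : u₁ * z₀ * u₁⁻¹ = z₀ := by
        rw [hZc z₀ hz₀ _ (pow_mem hu₀ i), mul_inv_cancel_right]
      set h₀ := g⁻¹ * z₀ * g with hh₀
      have hh₀V : h₀ ∈ V := by simpa using hVn.conj_mem z₀ (hZV hz₀) g⁻¹
      have hf1 : ⁅u₀, h₀⁆ ≠ 1 := fun e => by
        have hh : h₀ ∈ Z := hcentral h₀ hh₀V (commutatorElement_eq_one_iff_mul_comm.1 e)
        have h1 : zpowers h₀ = zpowers z₀ := zpowers_eq_of_pow (hZp z₀ hz₀) (hZle hh) (by
          rw [hh₀]; simpa [mul_assoc, inv_mul_eq_one] using hz₀1)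
        apply hgN
        rw [hN, hZeq]
        have h2 : g⁻¹ ∈ normalizer ((zpowers z₀ : Subgroup H) : Set H) :=
          conj_mem_zpowers (by rw [inv_inv, ← h1]; exact mem_zpowers h₀)
        simpa using inv_mem h2
      have hf : zpowers ⁅u₀, h₀⁆ = zpowers z₀ :=
        zpowers_eq_of_pow (hZp z₀ hz₀) (hZle (hcomZ u₀ hu₀ h₀ (hVQ hh₀V))) hf1
      obtain ⟨j, hj⟩ := (mem_powers_iff_mem_zpowers).2 (hf.symm ▸ mem_zpowers z₀ : z₀ ∈ zpowers ⁅u₀, h₀⁆)
      change ⁅u₀, h₀⁆ ^ j = z₀ at hj
      set u₂ := g * u₀ ^ j * g⁻¹ with hu₂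
      have h21 : u₂ * v * u₂⁻¹ = v := by
        calc u₂ * v * u₂⁻¹ = g * (u₀ ^ j * z₀ * (u₀ ^ j)⁻¹) * g⁻¹ := by rw [hu₂, hv]; group
          _ = v := by rw [hZc z₀ hz₀ _ (pow_mem hu₀ j), mul_inv_cancel_right]
      have h20 : u₂ * z₀ * u₂⁻¹ = v * z₀ := by
        calc u₂ * z₀ * u₂⁻¹ = g * (⁅u₀ ^ j, h₀⁆ * h₀) * g⁻¹ := by
              rw [hu₂, hh₀, commutatorElement_def]; group
          _ = v * z₀ := by rw [hcommpow u₀ hu₀ h₀ (hVQ hh₀V) j, hj, hh₀, hv]; group
      have hcvz : Commute v z₀ := hVc v hvV z₀ (hZV hz₀)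
      set l := (p - 1) / 2 with hl
      set w := u₂ ^ l * u₁ * u₂ with hw
      have e2 : ∀ n a b : ℕ, u₂ ^ n * (z₀ ^ a * v ^ b) * (u₂ ^ n)⁻¹ = z₀ ^ a * v ^ (b + n * a) :=
        pow_conj_shift h21 h20 hcvz
      have e1 : ∀ a b : ℕ, u₁ * (z₀ ^ a * v ^ b) * u₁⁻¹ = z₀ ^ (a + b) * v ^ b := by
        intro a b
        have := pow_conj_shift h10 h11 hcvz.symm 1 b a
        rw [pow_one, one_mul] at this
        rw [← (hcvz.pow_pow b a).eq, this, (hcvz.pow_pow b (a + b)).eq]
      have e3 : ∀ a b : ℕ, w * (z₀ ^ a * v ^ b) * w⁻¹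
          = z₀ ^ (a + (b + a)) * v ^ (b + a + l * (a + (b + a))) := by
        intro a b
        have h' := e2 1 a b
        rw [pow_one, one_mul] at h'
        rw [hw, show u₂ ^ l * u₁ * u₂ * (z₀ ^ a * v ^ b) * (u₂ ^ l * u₁ * u₂)⁻¹ =
          u₂ ^ l * (u₁ * (u₂ * (z₀ ^ a * v ^ b) * u₂⁻¹) * u₁⁻¹) * (u₂ ^ l)⁻¹ by group, h', e1, e2]
      have hwz : w * z₀ * w⁻¹ = z₀ ^ 2 := by
        have := e3 1 0
        rw [pow_one, pow_zero, mul_one] at this
        rw [this]
        have : 0 + 1 + l * (1 + (0 + 1)) = p := by omega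
        rw [this, hvp, mul_one]
      have hwN : w ∈ N := by
        rw [hN, hZeq]; exact conj_mem_zpowers (by rw [hwz]; exact pow_mem (mem_zpowers z₀) 2)
      set s := w * u₁ * w⁻¹ * u₁⁻¹ with hs
      have hsR : s ∈ R₀ := by
        let χ : H →* (H ⧸ V) ⧸ Rb := (QuotientGroup.mk' Rb).comp π
        have hχ : ∀ x, χ x = 1 ↔ x ∈ R₀ := fun x => QuotientGroup.eq_one_iff (π x)
        have hg1 : χ g = 1 := (hχ g).2 hgR
        rw [← hχ]
        simp only [hs, hw, hu₂, hu₁, map_mul, map_inv, map_pow, hg1, one_mul, inv_one, mul_one]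
        group
      have hsT : Triv s := hTmul _ _ (hTconj w hwN u₁ (hTQ u₁ (pow_mem hu₀ i)))
        (hTQ _ (inv_mem (pow_mem hu₀ i)))
      have hsV := hkill s hsR hsT
      set x := u₁ * (w * v * w⁻¹) * u₁⁻¹ with hx
      have hxV : x ∈ V := hVn.conj_mem _ (hVn.conj_mem v hvV w) u₁
      have hfix : w * (u₁ * v * u₁⁻¹) * w⁻¹ = x := by
        calc w * (u₁ * v * u₁⁻¹) * w⁻¹ = s * x * s⁻¹ := by rw [hs, hx]; group
          _ = x := by rw [hVc s hsV x hxV, mul_inv_cancel_right]
      have hA := e3 1 1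
      rw [pow_one, pow_one] at hA
      have hB := e3 0 1
      rw [pow_zero, one_mul, pow_one] at hB
      rw [h11, hA, hx, hB, e1] at hfix
      have hexp : z₀ ^ (1 + (1 + 1)) * v ^ (1 + 1 + l * (1 + (1 + 1))) =
          z₀ ^ (0 + (1 + 0) + (1 + 0 + l * (0 + (1 + 0)))) * v ^ (1 + 0 + l * (0 + (1 + 0))) := hfix
      have hvl : v ^ (1 + 1 + l * (1 + (1 + 1))) = v ^ (1 + 0 + l * (0 + (1 + 0))) := by
        rw [show 1 + 1 + l * (1 + (1 + 1)) = (1 + 0 + l * (0 + (1 + 0))) + p by
          rw [show p = 2 * l + 1 by omega]; ring, pow_add v _ p, hvp, mul_one]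
      rw [hvl, mul_left_inj, show 0 + (1 + 0) + (1 + 0 + l * (0 + (1 + 0))) = 2 + l by omega,
        show 1 + (1 + 1) = 2 + 1 by rfl, pow_add, pow_add, mul_right_inj, pow_one] at hexp
      have hord : orderOf z₀ = p := orderOf_eq_prime (hZp z₀ hz₀) hz₀1
      have := (pow_inj_mod (x := z₀) (m := 1) (n := l)).1 (by rw [pow_one]; first | exact hexp | exact hexp.symm)
      rw [hord, Nat.mod_eq_of_lt (by omega), Nat.mod_eq_of_lt (by omega)] at this
      omega
  -- generation
  have hgen : ∀ (n : ℕ) (L : Subgroup (H ⧸ V)), Nat.card Ab - Nat.card L = n → L ≤ Ab →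
      Rb ⊓ centralizer (L : Set (H ⧸ V)) ≤ N.map π := by
    intro n
    induction n using Nat.strong_induction_on with
    | _ n ih =>
    intro L hn hL
    by_cases hbig : ∃ x ∈ Ab, Ab ≤ L ⊔ zpowers x
    · obtain ⟨xb, hxb, hle⟩ := hbig
      obtain ⟨u₀, hu₀, rfl⟩ := hxb
      rintro r ⟨hr, hrL⟩
      obtain ⟨g, rfl⟩ := QuotientGroup.mk'_surjective V r
      set M := L.comap π with hM
      have hgM : g ∈ normalizer (M : Set H) := mem_normalizer_of_conj_le fun m hm => by
        have hc := mem_centralizer_iff.1 hrL (π m) hm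
        show π (g * m * g⁻¹) ∈ L
        rw [map_mul, map_mul, map_inv, ← hc, mul_inv_cancel_right]
        exact hm
      have hVM : V ≤ M := fun x hx => by
        show π x ∈ L
        rw [(hπ1 x).2 hx]; exact one_mem _
      have hMQ : M ≤ Q := (comap_mono hL).trans hQcomap.le
      have hQle : (Q : Subgroup H) ≤ M ⊔ zpowers u₀ := by
        intro u hu
        have h1 : (M ⊔ zpowers u₀).map π = L ⊔ zpowers (π u₀) := by
          rw [Subgroup.map_sup, hM, map_comap_eq_self_of_surjective (QuotientGroup.mk'_surjective V),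
            MonoidHom.map_zpowers]
        have h2 : π u ∈ (M ⊔ zpowers u₀).map π := h1 ▸ hle (mem_map_of_mem π hu)
        obtain ⟨y, hy, hyu⟩ := h2
        have h3 : y⁻¹ * u ∈ M ⊔ zpowers u₀ := mem_sup_left (hVM ((hπ1 _).1 (by
          rw [map_mul, map_inv, hyu, inv_mul_cancel])))
        simpa using mul_mem hy h3
      rcases hnormOr M u₀ g hVM hMQ hu₀ hQle hgM with h | ⟨hMc, hz⟩
      · exact mem_map_of_mem π h
      · have hMV : M ≤ V := fun m hm => hCV (mem_centralizer_iff.2 fun y hy => hMc y (hVM hy) m hm)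
        have hMeq : M = V := le_antisymm hMV hVM
        exact mem_map_of_mem π (hspecial u₀ g hu₀ hr (hMeq ▸ hQle) (hMeq ▸ hMc) hz)
    · push Not at hbig
      obtain ⟨x, hx, hxL⟩ : ∃ x ∈ Ab, x ∉ L := by
        obtain ⟨y, hy, hyL⟩ := SetLike.not_le_iff_exists.1 (hbig 1 (one_mem _))
        exact ⟨y, hy, fun h => hyL (mem_sup_left h)⟩
      obtain ⟨y, hy, hyL⟩ := SetLike.not_le_iff_exists.1 (hbig x hx)
      have hpow : ∀ (a : H ⧸ V) (S : Subgroup (H ⧸ V)), a ∈ Ab → a ∉ S →
          ∀ b ∈ zpowers a, b ∈ S → b = 1 := by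
        intro a S ha haS b hb hbS
        by_contra hb1
        exact haS (zpowers_le.1 ((zpowers_eq_of_pow (hAbp a ha) hb hb1).ge.trans (zpowers_le.2 hbS)))
      set B := zpowers x ⊔ zpowers y with hB
      have hBAb : B ≤ Ab := sup_le (zpowers_le.2 hx) (zpowers_le.2 hy)
      have hnxy : zpowers x ≤ normalizer (zpowers y : Set (H ⧸ V)) := fun a ha =>
        mem_normalizer_of_conj_le fun b hb => by
          rw [hAbc a (zpowers_le.2 hx ha) b (zpowers_le.2 hy hb), mul_inv_cancel_right]; exact hb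
      have hBL : ∀ b ∈ B, b ∈ L → b = 1 := by
        intro b hb hbL
        obtain ⟨a, ha, a', ha', rfl⟩ := (Coprime.mem_sup_of_le_normalizer hnxy).1 hb
        have h1 : a' = 1 := hpow y (L ⊔ zpowers x) hy hyL a' ha' (by
          have := mul_mem (mem_sup_right (S := L) (inv_mem ha)) (mem_sup_left (T := zpowers x) hbL)
          rwa [inv_mul_cancel_left] at this)
        rw [h1, mul_one] at hbL ⊢
        exact hpow x L hx hxL a ha hbL
      have hox : orderOf x = p := orderOf_eq_prime (hAbp x hx) (fun e => hxL (e ▸ one_mem L))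
      have hoy : orderOf y = p := orderOf_eq_prime (hAbp y hy) (fun e => hyL (e ▸ one_mem _))
      have hBcard : Nat.card B = p ^ 2 := by
        have h1 := Coprime.card_sup_mul_card_inf_of_le_normalizer hnxy
        have h2 : zpowers x ⊓ zpowers y = ⊥ := (eq_bot_iff_forall _).2 fun b hb =>
          hpow y (L ⊔ zpowers x) hy hyL b hb.2 (mem_sup_right hb.1)
        rw [h2, card_bot, mul_one, Nat.card_zpowers, Nat.card_zpowers, hox, hoy] at h1
        rw [hB, h1, pow_two]
      set K := Rb ⊓ centralizer (L : Set (H ⧸ V)) with hK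
      have hBK : B ≤ normalizer (K : Set (H ⧸ V)) := fun b hb =>
        mem_normalizer_of_conj_le fun r hr => by
          refine Subgroup.mem_inf.2 ⟨hRbn.conj_mem r hr.1 b, mem_centralizer_iff.2 fun a ha => ?_⟩
          have hab' := hAbc a (hL ha) b (hBAb hb)
          have hab'' := hAbc a (hL ha) b⁻¹ (inv_mem (hBAb hb))
          calc a * (b * r * b⁻¹) = (a * b) * r * b⁻¹ := by group
            _ = b * (a * r) * b⁻¹ := by rw [hab']; group
            _ = b * r * (a * b⁻¹) := by rw [mem_centralizer_iff.1 hr.2 a ha]; group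
            _ = b * r * b⁻¹ * a := by rw [hab'']; group
      have hgenK := Coprime.fixGen_eq_of_elementary hp.out
        (fun a ha b hb => hAbc a (hBAb ha) b (hBAb hb)) (fun a ha => hAbp a (hBAb ha)) hBcard hBK
        (by rw [hBcard]; exact (hcopR.symm.coprime_dvd_right (card_dvd_of_le inf_le_left)).pow_left 2)
      refine le_trans hgenK.ge (iSup₂_le fun b hb => ?_)
      have hle' : L ⊔ zpowers b ≤ Ab := sup_le hL (zpowers_le.2 (hBAb hb.1))
      have hlt : Nat.card L < Nat.card ↥(L ⊔ zpowers b) := by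
        by_contra! hle''
        exact hb.2 (hBL b hb.1 (Subgroup.eq_of_le_of_card_ge le_sup_left hle'' ▸
          mem_sup_right (mem_zpowers b)))
      have hleAb := card_le_of_le hle'
      refine le_trans ?_ (ih _ (by omega) (L ⊔ zpowers b) rfl hle')
      rw [centralizer_sup_aux]
      exact le_inf (inf_le_left.trans inf_le_left) (le_inf (inf_le_left.trans inf_le_right)
        (inf_le_right.trans (centralizer_le_zpowers b)))
  intro g hg
  have hmem := hgen _ ⊥ rfl bot_le (show π g ∈ Rb ⊓ centralizer ((⊥ : Subgroup (H ⧸ V)) : Set (H ⧸ V))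
    from ⟨hg, mem_centralizer_iff.2 fun a ha => by
      rw [SetLike.mem_coe, mem_bot] at ha; simp [ha]⟩)
  obtain ⟨g', hg', hgg'⟩ := hmem
  have : g'⁻¹ * g ∈ N := hQN (hVQ ((hπ1 _).1 (by rw [map_mul, map_inv, hgg', inv_mul_cancel])))
  simpa using mul_mem hg' this

end External


/-- Let X be a finite minimal non-nilpotent group (not nilpotent, every proper subgroup nilpotent) with a nontrivial normal Sylow p-subgroup P. If G is a finite p-solvable group whose Sylow p-subgroups are isomorphic to P, then G has p-length at most 1. -/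
theorem result {G X : Type*} [Group G] [Finite G] [Group X] [Finite X] (p : ℕ) [Fact p.Prime]
    (hX : Cfsg.IsMinimalNonNilpotent X) (P : Sylow p X) (hPn : (P : Subgroup X).Normal) (hP1 : (P : Subgroup X) ≠ ⊥)
    (hG : Cfsg.IsPSolvable p G) (Q : Sylow p G) (hQ : Nonempty (↥(Q : Subgroup G) ≃* ↥(P : Subgroup X))) : Cfsg.PLengthLE p 1 G := by
  obtain ⟨p₀, q₀, hp₀, hq₀, hne, P₀, Q₀, x, hP₀, hQ₀n, hsup, hxC⟩ :=
    Hall.minimal_non_nilpotent_structure hX
  haveI := Fact.mk hq₀
  haveI := Fact.mk hp₀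
  -- `p` is the prime of the normal Sylow subgroup
  have hpq₀ : p = q₀ := by
    by_contra hpne
    have hdisj : (Q₀ : Subgroup X) ⊓ (P : Subgroup X) = ⊥ :=
      disjoint_iff.1 (IsPGroup.disjoint_of_ne q₀ p (Ne.symm hpne) _ _ Q₀.2 P.2)
    haveI := hPn
    haveI := hQ₀n
    have hcomm : ∀ a ∈ (Q₀ : Subgroup X), ∀ b ∈ (P : Subgroup X), a * b = b * a := fun a ha b hb =>
      (Subgroup.commute_of_normal_of_disjoint _ _ hQ₀n hPn (disjoint_iff.2 hdisj) a b ha hb)
    -- `P` is contained in the cyclic Sylow subgroup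
    have hp0 : p = p₀ := by
      by_contra hp0
      have hle : (P : Subgroup X) ≤ Q₀ := by
        intro u hu
        have : u ∈ (P₀ : Subgroup X) ⊔ (Q₀ : Subgroup X) := hsup ▸ mem_top u
        obtain ⟨a, ha, b, hb, rfl⟩ := (Subgroup.mem_sup_of_normal_right).1 this
        obtain ⟨k, hk⟩ := IsPGroup.iff_orderOf.1 P.2 ⟨a * b, hu⟩
        rw [Subgroup.orderOf_mk] at hk
        obtain ⟨i, hi⟩ := IsPGroup.iff_orderOf.1 P₀.2 ⟨a, ha⟩
        rw [Subgroup.orderOf_mk] at hi
        have hb1 : QuotientGroup.mk' (Q₀ : Subgroup X) b = 1 := (QuotientGroup.eq_one_iff b).2 hb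
        have h1 : QuotientGroup.mk' (Q₀ : Subgroup X) a = 1 := orderOf_eq_one_iff.1
          (Nat.eq_one_of_dvd_coprimes (Nat.Coprime.pow k i ((Nat.coprime_primes (Fact.out) hp₀).2 hp0))
            (hk ▸ (show orderOf (QuotientGroup.mk' (Q₀ : Subgroup X) a) ∣ orderOf (a * b) by
              have := orderOf_map_dvd (QuotientGroup.mk' (Q₀ : Subgroup X)) (a * b)
              rwa [map_mul, hb1, mul_one] at this))
            (hi ▸ orderOf_map_dvd (QuotientGroup.mk' (Q₀ : Subgroup X)) a))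
        exact mul_mem ((QuotientGroup.eq_one_iff a).1 h1) hb
      exact hP1 (le_bot_iff.1 (hdisj ▸ le_inf hle le_rfl))
    subst hp0
    haveI := Sylow.unique_of_normal P hPn
    have hxP : x ∈ (P : Subgroup X) := by
      rw [Subsingleton.elim P P₀, hP₀]; exact mem_zpowers x
    exact hxC (mem_centralizer_iff.2 fun a ha => hcomm a ha x hxP)
  subst hpq₀
  haveI := Sylow.unique_of_normal P hPn
  have hQP : Q₀ = P := Subsingleton.elim _ _
  subst hQP
  haveI := hPn
  let c : MulAut (Q₀ : Subgroup X) := MulAut.conjNormal x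
  obtain ⟨k, hk⟩ := IsPGroup.iff_orderOf.1 P₀.2 ⟨x, hP₀.symm ▸ mem_zpowers x⟩
  rw [Subgroup.orderOf_mk] at hk
  have hmeet : ∀ y ∈ zpowers x, y ∈ (Q₀ : Subgroup X) → y = 1 := fun y hy hyQ => by
    have hy0 : y ∈ (P₀ : Subgroup X) := hP₀.symm ▸ hy
    exact (eq_bot_iff_forall _).1
      (disjoint_iff.1 (IsPGroup.disjoint_of_ne p₀ p hne _ _ P₀.2 Q₀.2)) y ⟨hy0, hyQ⟩
  have hx1 : x ≠ 1 := fun e => hxC (e ▸ one_mem _)
  have hk1 : k ≠ 0 := fun e => hx1 (orderOf_eq_one_iff.1 (by rw [hk, e, pow_zero]))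
  have hnil : ∀ K : Subgroup X, K ≠ ⊤ → ∀ a ∈ K, ∀ b ∈ K, (orderOf a).Coprime (orderOf b) →
      a * b = b * a := fun K hK a ha b hb hab => by
    haveI := hX.2 K hK
    exact congrArg Subtype.val (Lib.Transfer.commute_of_coprime_orderOf
      (x := (⟨a, ha⟩ : K)) (y := ⟨b, hb⟩) (by simpa using hab)).eq
  have hcopx : ∀ (a : X) (i : ℕ), a ∈ (Q₀ : Subgroup X) → (orderOf (x ^ i)).Coprime (orderOf a) := by
    intro a i ha
    obtain ⟨j, hj⟩ := IsPGroup.iff_orderOf.1 Q₀.2 ⟨a, ha⟩
    rw [Subgroup.orderOf_mk] at hj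
    rw [hj]
    exact (Nat.Coprime.pow_left k ((Nat.coprime_primes hp₀ Fact.out).2 hne)).coprime_dvd_left
      (hk ▸ orderOf_pow_dvd i) |>.pow_right j
  have hcrit : Crit p p₀ c := by
    refine ⟨Q₀.2, hp₀, hne.symm, ?_, ?_, ?_⟩
    · -- `x ^ p₀` centralizes
      refine MulEquiv.ext fun u => Subtype.ext ?_
      rw [← map_pow, MulAut.conjNormal_apply, MulAut.one_apply]
      have hne' : (Q₀ : Subgroup X) ⊔ zpowers (x ^ p₀) ≠ ⊤ := by
        intro htop
        have hx : x ∈ zpowers (x ^ p₀) ⊔ (Q₀ : Subgroup X) := by rw [sup_comm, htop]; exact mem_top x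
        obtain ⟨a, ha, b, hb, hab⟩ := (Subgroup.mem_sup_of_normal_right).1 hx
        have hb1 : b = 1 := hmeet b (by
          have : b = a⁻¹ * x := by rw [← hab, inv_mul_cancel_left]
          rw [this]
          exact mul_mem (inv_mem (zpowers_le.2 (pow_mem (mem_zpowers x) p₀) ha)) (mem_zpowers x)) hb
        rw [hb1, mul_one] at hab
        have hdvd : orderOf x ∣ orderOf (x ^ p₀) := by
          have := orderOf_dvd_of_mem_zpowers ha
          rwa [hab] at this
        rw [orderOf_pow' x hp₀.ne_zero, hk, Nat.gcd_eq_right (dvd_pow_self p₀ hk1)] at hdvd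
        exact absurd (Nat.le_of_dvd (Nat.div_pos (Nat.le_of_dvd (pow_pos hp₀.pos _)
          (dvd_pow_self p₀ hk1)) hp₀.pos) hdvd)
          (not_le.2 (Nat.div_lt_self (pow_pos hp₀.pos _) hp₀.one_lt))
      rw [hnil _ hne' (x ^ p₀) (mem_sup_right (mem_zpowers _)) (u : X) (mem_sup_left u.2)
        (hcopx u p₀ u.2), mul_inv_cancel_right]
    · intro e
      refine hxC (mem_centralizer_iff.2 fun a ha => ?_)
      have h1 : x * a * x⁻¹ = a := by
        simpa [c] using congrArg Subtype.val (DFunLike.congr_fun e (⟨a, ha⟩ : (Q₀ : Subgroup X)))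
      exact (mul_inv_eq_iff_eq_mul.1 h1).symm
    · intro R hR hinv u hu
      set R' := R.map (Q₀ : Subgroup X).subtype with hR'
      have hnR : zpowers x ≤ normalizer (R' : Set X) := zpowers_le.2 (mem_normalizer_of_conj_le (by
        rintro _ ⟨a, ha, rfl⟩
        exact ⟨c a, hinv a ha, MulAut.conjNormal_apply x a⟩))
      have hne' : zpowers x ⊔ R' ≠ ⊤ := by
        intro htop
        refine hR (eq_top_iff.2 fun a _ => ?_)
        have ha : (a : X) ∈ zpowers x ⊔ R' := htop ▸ mem_top (a : X)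
        obtain ⟨y, hy, r, hr, hyr⟩ := (Lib.Coprime.mem_sup_of_le_normalizer hnR).1 ha
        have hy1 : y = 1 := hmeet y hy (by
          have : y = (a : X) * r⁻¹ := by rw [← hyr, mul_inv_cancel_right]
          rw [this]
          exact mul_mem a.2 (inv_mem (Subgroup.map_subtype_le _ hr)))
        rw [hy1, one_mul] at hyr
        obtain ⟨r', hr', rfl⟩ := hr
        exact (Subtype.ext hyr : r' = a) ▸ hr'
      refine Subtype.ext ?_
      rw [MulAut.conjNormal_apply]
      have := hnil _ hne' x (mem_sup_left (mem_zpowers x)) (u : X) (mem_sup_right (mem_map_of_mem _ hu))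
        (by simpa using hcopx u 1 u.2)
      rw [this, mul_inv_cancel_right]
  obtain ⟨e⟩ := hQ
  -- pass to the quotient by the `p'`-core
  haveI : (Cfsg.pPrimeCore p G).Normal := Lib.Hall.pPrimeCore_normal p
  set π := QuotientGroup.mk' (Cfsg.pPrimeCore p G) with hπ
  have hπs : Function.Surjective π := QuotientGroup.mk'_surjective _
  let Qb : Sylow p (G ⧸ Cfsg.pPrimeCore p G) := Q.mapSurjective hπs
  let f : (Q : Subgroup G) →* (Qb : Subgroup (G ⧸ Cfsg.pPrimeCore p G)) :=
    π.subgroupMap (Q : Subgroup G)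
  have hf : Function.Bijective f := by
    refine ⟨(injective_iff_map_eq_one f).2 fun u hu => ?_, π.subgroupMap_surjective (Q : Subgroup G)⟩
    have h1 : (u : G) ∈ Cfsg.pPrimeCore p G :=
      (QuotientGroup.eq_one_iff (u : G)).1 (congrArg Subtype.val hu)
    obtain ⟨i, hi⟩ := IsPGroup.iff_orderOf.1 Q.2 u
    refine orderOf_eq_one_iff.1 (Nat.eq_one_of_dvd_coprimes
      (((Lib.Hall.coprime_card_pPrimeCore (G := G) p).symm).pow_left i) (hi ▸ dvd_rfl) ?_)
    rw [← Subgroup.orderOf_coe]
    exact Subgroup.orderOf_dvd_natCard _ h1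
  let e' : (Q₀ : Subgroup X) ≃* (Qb : Subgroup (G ⧸ Cfsg.pPrimeCore p G)) :=
    e.symm.trans (MulEquiv.ofBijective f hf)
  have hle := sylow_le_pCore (PLength.isPSolvable_map hπs hG) (Components.pPrimeCore_quotient p) Qb
    (hcrit.transport e')
  refine PLength.pLengthLE_one fun h => Qb.not_dvd_index (h.trans ?_)
  exact index_dvd_of_le hle

end Cfsg.Agent.S4394
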