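import Cfsg.Statements.S0678
import Cfsg.Agent.Lib.Perm.SmallPrimeDegree
import Mathlib.GroupTheory.Perm.Centralizer

set_option autoImplicit false
open Cfsg

namespace Cfsg.Agent.S0678

open Equiv MulAction Cfsg.Agent.Lib.Perm Cfsg.Agent.Lib.SmallSimple

/-- The translation. -/
def x0 : Perm (Fin 7) :=
  ⟨fun i => i + 1, fun i => i + 6, by decide, by decide⟩

/-- Multiplication by a primitive root. -/
def z0 : Perm (Fin 7) :=
  ⟨fun i => 3 * i, fun i => 5 * i, by decide, by decide⟩

/-- Some word in the translation, the multiplication and an even involution has order `5`. -/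
theorem key : ∀ a b c d : Fin 7, a ≠ 0 → b ≠ 0 → c ≠ 0 → d ≠ 0 → a ≠ b → a ≠ c → a ≠ d →
    b ≠ c → b ≠ d → c ≠ d →
    let s : Perm (Fin 7) := swap a b * swap c d
    let x : Perm (Fin 7) := x0
    let z : Perm (Fin 7) := z0
    let bad := fun w : Perm (Fin 7) => w * w * (w * w) * w * (w * w * (w * w) * w) = 1 ∧ w * w ≠ 1
    bad (z * z * s) ∨ bad (x * z * z * s * x * z * s) ∨ bad (x * z * z * s * x * s * z) ∨
      bad (x * z * s) ∨ bad (x * x * s * z * x * s) ∨ bad (x * s) ∨ bad (x * x * x * s) := by
  decide +kernel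

/-- A non-solvable transitive permutation group on 7 points that does not contain the alternating group is a simple group of order 168. -/
theorem result {α : Type*} [Fintype α] [DecidableEq α] (hα : Fintype.card α = 7) (G : Subgroup (Equiv.Perm α)) [MulAction.IsPretransitive G α] (hG : ¬ Group.IsSolvable G) (hA : ¬ alternatingGroup α ≤ G) : Nat.card G = 168 ∧ IsSimpleGroup G := by
  classical
  have hp : Fact (Nat.Prime 7) := ⟨by norm_num⟩
  have hα' : Nat.card α = 7 := by rw [Nat.card_eq_fintype_card, hα]
  have : Nontrivial α := Fintype.one_lt_card_iff_nontrivial.1 (by omega)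
  set M : Subgroup (Perm α) := G ⊓ alternatingGroup α with hMdef
  -- an element of order `7`
  obtain ⟨x', hx'⟩ := exists_prime_orderOf_dvd_card' 7 (dvd_card_of_transitive hα G)
  set x : Perm α := x'.1 with hxdef
  have hx : orderOf x = 7 := by rw [hxdef, ← hx']; exact orderOf_injective G.subtype G.subtype_injective x'
  have hx7 : x ^ 7 = 1 := hx ▸ pow_orderOf_eq_one x
  have hxA : x ∈ alternatingGroup α := by
    rw [Perm.mem_alternatingGroup]
    rcases Int.units_eq_one_or (Perm.sign x) with h | h
    · exact h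
    · have h1 := congrArg Perm.sign hx7
      rw [map_pow, h, map_one] at h1
      exact absurd h1 (by decide)
  have hzt : IsPretransitive (Subgroup.zpowers x) α := zpowers_pretransitive_of_prime hα' hx
  have hxM : x ∈ M := ⟨x'.2, hxA⟩
  have hMt : IsPretransitive M α := ⟨fun u v => by
    obtain ⟨g, hg⟩ := exists_smul_eq (Subgroup.zpowers x) u v
    exact ⟨⟨g, (Subgroup.zpowers_le.2 hxM) g.2⟩, hg⟩⟩
  -- orders
  obtain ⟨P⟩ : Nonempty (Sylow 7 M) := inferInstance
  set N := Nat.card ↥(Subgroup.normalizer ((P : Subgroup M) : Set M)) with hN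
  have hP7 : Nat.card P = 7 := card_sylow_of_prime (Ω := α) hα' P
  have hN21 : N ∣ 21 := by
    have h := two_mul_card_normalizer_dvd hα (by norm_num) M inf_le_right P
    rw [show 7 * (7 - 1) = 2 * 21 from rfl] at h
    exact Nat.dvd_of_mul_dvd_mul_left two_pos h
  have h7N : 7 ∣ N := hP7 ▸ Subgroup.card_dvd_of_le Subgroup.le_normalizer
  have hcard : Nat.card M = Nat.card (Sylow 7 M) * N := by
    rw [show Nat.card (Sylow 7 M) = (Subgroup.normalizer ((P : Subgroup M) : Set M)).index from
      P.card_eq_index_normalizer, hN, mul_comm, Subgroup.card_mul_index]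
  have hmod : Nat.card (Sylow 7 M) % 7 = 1 := card_sylow_modEq_one 7 M
  have hA7 : Nat.card (alternatingGroup α) = 2520 := by
    rw [nat_card_alternatingGroup, hα']; rfl
  have hdvd : Nat.card M ∣ 2520 := hA7 ▸ Subgroup.card_dvd_of_le inf_le_right
  have hN2 : N = 21 := by
    rcases (Nat.dvd_prime (show Nat.Prime 3 by norm_num)).1
      (Nat.dvd_of_mul_dvd_mul_left (show 0 < 7 by norm_num)
        (show 7 * (N / 7) ∣ 7 * 3 by rw [Nat.mul_div_cancel' h7N]; exact hN21)) with h | h
    · exfalso
      refine hG (solvable_of_even_part G ?_)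
      rw [← hMdef, card_eq_of_normalizer_eq hα M P (by rw [← hN]; omega)]
      exact (show Nat.Prime 7 by norm_num).squarefree
    · omega
  have hn : Nat.card (Sylow 7 M) = 8 ∨ Nat.card (Sylow 7 M) = 15 := by
    have hd : Nat.card (Sylow 7 M) ∣ 120 := by
      refine Nat.dvd_of_mul_dvd_mul_right (show 0 < 21 by norm_num) ?_
      rw [← hN2, ← hcard, hN2]
      exact hdvd
    have hle := Nat.le_of_dvd (by norm_num) hd
    have h1 : Nat.card (Sylow 7 M) ≠ 1 := fun h1 => by
      refine hG (solvable_of_even_part G ?_)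
      rw [← hMdef, hcard, h1, hN2, one_mul]
      exact Nat.squarefree_mul_iff.2 ⟨show Nat.Coprime 3 7 by norm_num,
        (show Nat.Prime 3 by norm_num).squarefree, (show Nat.Prime 7 by norm_num).squarefree⟩
    have h120 : Nat.card (Sylow 7 M) ≠ 120 := fun h => by
      refine hA ?_
      rw [← Subgroup.eq_of_le_of_card_ge (show M ≤ alternatingGroup α from inf_le_right)
        (by rw [hA7, hcard, h, hN2])]
      exact inf_le_left
    generalize Nat.card (Sylow 7 M) = n at *
    have hdiv : n ∈ Nat.divisors 120 := Nat.mem_divisors.2 ⟨hd, by norm_num⟩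
    rw [show Nat.divisors 120 = {1, 2, 3, 4, 5, 6, 8, 10, 12, 15, 20, 24, 30, 40, 60, 120} from
      by decide] at hdiv
    simp only [Finset.mem_insert, Finset.mem_singleton] at hdiv
    omega
  rcases hn with hn | hn
  swap
  · exfalso
    have hM : Nat.card M = 315 := by rw [hcard, hn, hN2]
    have h5 : Fact (Nat.Prime 5) := ⟨by norm_num⟩
    obtain ⟨Q⟩ : Nonempty (Sylow 5 M) := inferInstance
    have hQ : Nat.card Q = 5 := by
      rw [card_sylow_subgroup Q (k := 1) (m := 63) (by rw [hM]; norm_num) (by norm_num)]; rfl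
    have hq : Nat.card (Sylow 5 M) * 5 ∣ 315 := by
      have h := Subgroup.card_mul_index (Q : Subgroup M)
      rw [hQ, hM] at h
      have h2 := Sylow.card_dvd_index Q
      rw [← h, mul_comm 5]
      exact Nat.mul_dvd_mul_right h2 5
    have hq5 : Nat.card (Sylow 5 M) % 5 = 1 := card_sylow_modEq_one 5 M
    have hq21 : Nat.card (Sylow 5 M) = 1 ∨ Nat.card (Sylow 5 M) = 21 := by
      generalize Nat.card (Sylow 5 M) = q at hq hq5
      have hd : q ∈ Nat.divisors 63 := Nat.mem_divisors.2
        ⟨Nat.dvd_of_mul_dvd_mul_right (show 0 < 5 by norm_num) hq, by norm_num⟩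
      rw [show Nat.divisors 63 = {1, 3, 7, 9, 21, 63} by decide] at hd
      simp only [Finset.mem_insert, Finset.mem_singleton] at hd
      omega
    rcases hq21 with hq | hq
    · have : Subsingleton (Sylow 5 M) := (Nat.card_eq_one_iff_unique.1 hq).1
      have hQn : (Q : Subgroup M).Normal := Sylow.normal_of_subsingleton Q
      have hQb : (Q : Subgroup M) ≠ ⊥ := fun h => by
        rw [h, Subgroup.card_bot] at hQ; omega
      have := (dvd_card_normal_of_prime hα M (Q : Subgroup M) hQb).1
      rw [hQ] at this
      omega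
    · set NQ := Subgroup.normalizer ((Q : Subgroup M) : Set M)
      have h15 : Nat.card NQ = 15 := by
        have := Q.card_eq_index_normalizer ▸ Subgroup.card_mul_index NQ
        rw [hq, hM] at this
        omega
      have h3 : Fact (Nat.Prime 3) := ⟨by norm_num⟩
      obtain ⟨c, hc⟩ := exists_prime_orderOf_dvd_card' 3 (show 3 ∣ Nat.card NQ by rw [h15]; norm_num)
      obtain ⟨q', hq'⟩ := exists_prime_orderOf_dvd_card' 5 (show 5 ∣ Nat.card NQ by rw [h15]; norm_num)
      have hcy : IsCyclic NQ := by
        refine (isCyclic_iff_exists_orderOf_eq_natCard).2 ⟨c * q', ?_⟩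
        have hcomm : Commute c q' := by
          have hS : ∀ S : Sylow 5 NQ, Nat.card (Sylow 5 NQ) = 1 := fun S => by
            have hS1 := Sylow.card_dvd_index S
            have h := Subgroup.card_mul_index (S : Subgroup NQ)
            rw [card_sylow_subgroup S (k := 1) (m := 3) (by rw [h15]; norm_num) (by norm_num), h15] at h
            have hmod : Nat.card (Sylow 5 NQ) % 5 = 1 := card_sylow_modEq_one 5 NQ
            have hi : (S : Subgroup NQ).index = 3 := by omega
            rw [hi] at hS1
            have := Nat.le_of_dvd (by norm_num) hS1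
            omega
          have hT : ∀ S : Sylow 3 NQ, Nat.card (Sylow 3 NQ) = 1 := fun S => by
            have hS1 := Sylow.card_dvd_index S
            have h := Subgroup.card_mul_index (S : Subgroup NQ)
            rw [card_sylow_subgroup S (k := 1) (m := 5) (by rw [h15]; norm_num) (by norm_num), h15] at h
            have hmod : Nat.card (Sylow 3 NQ) % 3 = 1 := card_sylow_modEq_one 3 NQ
            have hi : (S : Subgroup NQ).index = 5 := by omega
            rw [hi] at hS1
            rcases (Nat.dvd_prime (show Nat.Prime 5 by norm_num)).1 hS1 with h | h <;> omega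
          obtain ⟨S, hS'⟩ := (IsPGroup.of_card (G := Subgroup.zpowers q') (p := 5) (n := 1)
            (by rw [Nat.card_zpowers, hq', pow_one])).exists_le_sylow
          obtain ⟨T, hT'⟩ := (IsPGroup.of_card (G := Subgroup.zpowers c) (p := 3) (n := 1)
            (by rw [Nat.card_zpowers, hc, pow_one])).exists_le_sylow
          have : Subsingleton (Sylow 5 NQ) := (Nat.card_eq_one_iff_unique.1 (hS S)).1
          have : Subsingleton (Sylow 3 NQ) := (Nat.card_eq_one_iff_unique.1 (hT T)).1
          refine Subgroup.commute_of_normal_of_disjoint _ _ (Sylow.normal_of_subsingleton T)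
            (Sylow.normal_of_subsingleton S) (IsPGroup.disjoint_of_ne (G := NQ) 3 5 (by norm_num)
              (T : Subgroup NQ) (S : Subgroup NQ) T.isPGroup' S.isPGroup') c q' (hT' (Subgroup.mem_zpowers c))
            (hS' (Subgroup.mem_zpowers q'))
        rw [hcomm.orderOf_mul_eq_mul_orderOf_of_coprime (by rw [hc, hq']; norm_num), hc, hq', h15]
      obtain ⟨g, hg⟩ := hcy.exists_generator
      have hg15 : orderOf ((g : M) : Perm α) = 15 := by
        rw [show orderOf ((g : M) : Perm α) = orderOf (g : M) from
          orderOf_injective M.subtype M.subtype_injective _,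
          show orderOf (g : M) = orderOf g from orderOf_injective NQ.subtype NQ.subtype_injective g,
          orderOf_eq_card_of_forall_mem_zpowers hg, h15]
      set σ : Perm α := ((g : M) : Perm α)
      have hl := σ.lcm_cycleType
      rw [hg15] at hl
      have hsum : σ.cycleType.sum ≤ 7 := by
        rw [Perm.sum_cycleType, ← hα]; exact Finset.card_le_univ _
      have hparts : ∀ n ∈ σ.cycleType, n = 3 ∨ n = 5 := by
        intro n hn
        have h1 : n ∈ Nat.divisors 15 :=
          Nat.mem_divisors.2 ⟨hl ▸ Multiset.dvd_lcm hn, by norm_num⟩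
        have h2 := Perm.two_le_of_mem_cycleType hn
        have h3 := (Multiset.le_sum_of_mem hn).trans hsum
        revert h1 h2 h3
        revert n
        intro n _ h1 h2 h3
        have : n ≤ 7 := h3
        interval_cases n <;> simp_all [Nat.mem_divisors]
      by_cases h5m : 5 ∈ σ.cycleType
      · by_cases h3m : 3 ∈ σ.cycleType
        · obtain ⟨t, ht⟩ := Multiset.exists_cons_of_mem h5m
          rw [ht] at hsum h3m
          rw [Multiset.sum_cons] at hsum
          rw [Multiset.mem_cons] at h3m
          have := Multiset.le_sum_of_mem (h3m.resolve_left (by norm_num))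
          omega
        · have : (15 : ℕ) ∣ 5 := hl ▸ Multiset.lcm_dvd.2 fun n hn => by
            rcases hparts n hn with rfl | rfl
            · exact absurd hn h3m
            · exact dvd_rfl
          omega
      · have : (15 : ℕ) ∣ 3 := hl ▸ Multiset.lcm_dvd.2 fun n hn => by
          rcases hparts n hn with rfl | rfl
          · exact dvd_rfl
          · exact absurd hn h5m
        omega
  -- `M` has order `168` and is simple
  have hM : Nat.card M = 168 := by rw [hcard, hn, hN2]
  have hsimple : IsSimpleGroup M := by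
    have : Nontrivial M := Finite.one_lt_card_iff_nontrivial.1 (by omega)
    refine ⟨fun K hK => ?_⟩
    by_contra hK'
    push Not at hK'
    obtain ⟨hK1, hKtop⟩ := hK'
    obtain ⟨h7K, hKt⟩ := dvd_card_normal_of_prime hα M K hK1
    obtain ⟨k, hk⟩ := exists_prime_orderOf_dvd_card' 7 h7K
    have hKd : Nat.card K ∣ 168 := hM ▸ K.card_subgroup_dvd_card
    have hK168 : Nat.card K ≠ 168 := fun h => hKtop
      (Subgroup.eq_top_of_card_eq K (by rw [h, hM]))
    -- all Sylow `7`-subgroups lie in `K`
    obtain ⟨S, hS⟩ := (IsPGroup.of_card (G := Subgroup.zpowers (k : M)) (p := 7) (n := 1)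
      (by rw [Nat.card_zpowers, Subgroup.orderOf_coe, hk, pow_one])).exists_le_sylow
    have hSK : ∀ T : Sylow 7 M, (T : Subgroup M) ≤ K := by
      have hS' : (S : Subgroup M) ≤ K := by
        rw [← Subgroup.eq_of_le_of_card_ge hS (by
          rw [card_sylow_of_prime (Ω := α) hα' S, Nat.card_zpowers, Subgroup.orderOf_coe, hk]),
          Subgroup.zpowers_le]
        exact k.2
      intro T
      obtain ⟨g, rfl⟩ := MulAction.exists_smul_eq M S T
      rw [Sylow.coe_subgroup_smul]
      intro y hy
      rw [Subgroup.mem_pointwise_smul_iff_inv_smul_mem] at hy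
      have := hK.conj_mem _ (hS' hy) g
      simpa [mul_assoc] using this
    set K' : Subgroup (Perm α) := K.map M.subtype
    have hK'c : Nat.card K' = Nat.card K := Subgroup.card_map_of_injective Subtype.val_injective
    have : IsPretransitive K' α := ⟨fun u v => by
      obtain ⟨g, hg⟩ := exists_smul_eq K u v
      exact ⟨⟨_, ⟨g.1, g.2, rfl⟩⟩, hg⟩⟩
    obtain ⟨R⟩ : Nonempty (Sylow 7 K) := inferInstance
    have hRK : Nat.card (Sylow 7 K) = 8 := by
      rw [← hn]
      refine Nat.card_congr (Equiv.ofBijective (fun T : Sylow 7 K => (T.mapSurjective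
        (f := MonoidHom.id K) Function.surjective_id)) ⟨fun a b h => ?_, fun b => ⟨b, ?_⟩⟩ |>.trans ?_)
      · exact Sylow.ext (by simpa [Subgroup.map_id] using congrArg Sylow.toSubgroup h)
      · exact Sylow.ext (by simp [Subgroup.map_id])
      · exact ((Equiv.ofBijective (fun T : Sylow 7 M => T.subtype (hSK T))
          ⟨fun a b h => Sylow.ext (by
            have := congrArg (fun T : Sylow 7 K => (T : Subgroup K).map K.subtype) h
            simpa [Sylow.coe_subtype, Subgroup.map_subgroupOf_eq_of_le (hSK a),
              Subgroup.map_subgroupOf_eq_of_le (hSK b)] using this),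
          fun T => by
            obtain ⟨U, hU⟩ := (T.isPGroup'.map K.subtype).exists_le_sylow
            refine ⟨U, Sylow.ext (T.3 (U.subtype (hSK U)).2 ?_)⟩
            rw [Sylow.coe_subtype]
            intro y hy
            exact hU ⟨y, hy, rfl⟩⟩).symm)
    have hKcard : Nat.card K = 8 * Nat.card ↥(Subgroup.normalizer ((R : Subgroup K) : Set K)) := by
      rw [← hRK, show Nat.card (Sylow 7 K) = (Subgroup.normalizer ((R : Subgroup K) : Set K)).index from
        R.card_eq_index_normalizer, mul_comm, Subgroup.card_mul_index]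
    have h7R : 7 ∣ Nat.card ↥(Subgroup.normalizer ((R : Subgroup K) : Set K)) :=
      (card_sylow_of_prime (Ω := α) hα' R).symm.dvd.trans
        (Subgroup.card_dvd_of_le Subgroup.le_normalizer)
    have hR : Nat.card ↥(Subgroup.normalizer ((R : Subgroup K) : Set K)) = 7 := by
      obtain ⟨j, hj⟩ := h7R
      have h3 : j ∣ 3 := by
        rw [hj] at hKcard
        rw [hKcard, ← mul_assoc] at hKd
        exact Nat.dvd_of_mul_dvd_mul_left (show 0 < 56 by norm_num) hKd
      rcases (Nat.dvd_prime (show Nat.Prime 3 by norm_num)).1 h3 with rfl | rfl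
      · exact hj
      · omega
    let eK : K ≃* K' := K.equivMapOfInjective M.subtype Subtype.val_injective
    let R' : Sylow 7 K' := R.mapSurjective (f := eK.toMonoidHom) eK.surjective
    have hR' : Nat.card ↥(Subgroup.normalizer ((R' : Subgroup K') : Set K')) = 7 := by
      rw [show ((R' : Subgroup K')) = (R : Subgroup K).map eK.toMonoidHom from rfl,
        ← Subgroup.map_equiv_normalizer_eq, Subgroup.card_map_of_injective eK.injective, hR]
    have := card_eq_of_normalizer_eq hα K' R' hR'
    omega
  -- `G = M`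
  suffices hGM : G = M by
    refine ⟨by rw [hGM, hM], ?_⟩
    exact (MulEquiv.subgroupCongr hGM).isSimpleGroup
  refine le_antisymm (fun g hg => ⟨hg, ?_⟩) inf_le_left
  by_contra hgA
  -- `G` has order `336`
  let f : G →* ℤˣ := Perm.sign.comp G.subtype
  have hk : Nat.card f.ker = 168 := by
    rw [← hM]
    exact Nat.card_congr
      { toFun := fun x => ⟨x.1.1, x.1.2, Perm.mem_alternatingGroup.2 x.2⟩
        invFun := fun x => ⟨⟨x.1, x.2.1⟩, MonoidHom.mem_ker.2 (Perm.mem_alternatingGroup.1 x.2.2)⟩
        left_inv := fun _ => rfl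
        right_inv := fun _ => rfl }
  have hG336 : Nat.card G = 336 := by
    have h := f.ker.card_mul_index
    rw [hk, Subgroup.index_ker] at h
    have hr : f.range = ⊤ := by
      refine top_unique fun u _ => ?_
      rcases Int.units_eq_one_or u with rfl | rfl
      · exact one_mem _
      · refine ⟨⟨g, hg⟩, ?_⟩
        rcases Int.units_eq_one_or (Perm.sign g) with h | h
        · exact absurd (Perm.mem_alternatingGroup.2 h) hgA
        · exact h
    rw [hr, Subgroup.card_top, Nat.card_eq_fintype_card, Fintype.card_units_int] at h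
    exact h.symm
  -- coordinates
  obtain ⟨a⟩ : Nonempty α := inferInstance
  have hmp : ∀ i : ℕ, (x ^ i) a = (x ^ (i % 7)) a := fun i => by
    conv_lhs => rw [← Nat.mod_add_div i 7, pow_add, pow_mul, hx7, one_pow, mul_one]
  have hbij : Function.Bijective fun i : Fin 7 => (x ^ (i : ℕ)) a := by
    rw [Fintype.bijective_iff_surjective_and_card, Fintype.card_fin, hα]
    refine ⟨fun y => ?_, rfl⟩
    obtain ⟨⟨w, hw⟩, hwy⟩ := exists_smul_eq (Subgroup.zpowers x) a y
    obtain ⟨i, -, rfl⟩ := Finset.mem_image.1 ((mem_zpowers_iff_mem_range_orderOf (x := x)).1 hw)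
    exact ⟨⟨i % 7, Nat.mod_lt _ (by norm_num)⟩, (hmp i).symm.trans hwy⟩
  let e : Fin 7 ≃ α := Equiv.ofBijective _ hbij
  have hE : ∀ (f : Perm (Fin 7)) (i : Fin 7), e.permCongrHom f (e i) = e (f i) := fun f i => by
    simp [Equiv.permCongrHom]
  have hxe : e.permCongrHom x0 = x := by
    refine Equiv.ext fun y => ?_
    obtain ⟨i, rfl⟩ := e.surjective y
    rw [hE]
    show (x ^ ((i + 1 : Fin 7) : ℕ)) a = x ((x ^ (i : ℕ)) a)
    rw [Fin.val_add, ← hmp, ← Perm.mul_apply, ← pow_succ']
    rfl
  -- the normalizer of a Sylow subgroup of `G`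
  have hxG : x ∈ G := x'.2
  obtain ⟨S, hS⟩ := (IsPGroup.of_card (p := 7) (n := 1)
    (by rw [Nat.card_zpowers, hx, pow_one])).exists_le_sylow (P := Subgroup.zpowers x)
  have hSx : (S : Subgroup (Perm α)) = Subgroup.zpowers x :=
    (Subgroup.eq_of_le_of_card_ge hS (by
      rw [Nat.card_zpowers, hx, Cfsg.Agent.Lib.SmallSimple.card_sylow_perm (Or.inl hα) S])).symm
  have hzG : e.permCongrHom z0 ∈ G := by
    have hz : e.permCongrHom z0 ∈ Subgroup.normalizer ((S : Subgroup (Perm α)) : Set (Perm α)) := by
      rw [hSx]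
      have h0 : z0 * x0 = x0 ^ 3 * z0 := by decide
      have hzx : e.permCongrHom z0 * x * (e.permCongrHom z0)⁻¹ = x ^ 3 := by
        rw [← hxe, ← map_inv, ← map_mul, ← map_mul, ← map_pow, h0, mul_inv_cancel_right]
      rw [Subgroup.mem_normalizer_iff_map_conj_eq, MonoidHom.map_zpowers]
      show Subgroup.zpowers (e.permCongrHom z0 * x * (e.permCongrHom z0)⁻¹) = Subgroup.zpowers x
      rw [hzx]
      refine Subgroup.eq_of_le_of_card_ge (Subgroup.zpowers_le.2
        (Subgroup.pow_mem _ (Subgroup.mem_zpowers x) 3)) ?_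
      rw [Nat.card_zpowers, Nat.card_zpowers, orderOf_pow, hx]
      norm_num
    -- the `8` Sylow subgroups of `M` are those of `G`
    let x₁ : G := ⟨x, hxG⟩
    obtain ⟨T, hT⟩ := (IsPGroup.of_card (p := 7) (n := 1)
      (by rw [Nat.card_zpowers, Subgroup.orderOf_mk, hx, pow_one])).exists_le_sylow
      (P := Subgroup.zpowers x₁)
    have hTx : (T : Subgroup G) = Subgroup.zpowers x₁ :=
      (Subgroup.eq_of_le_of_card_ge hT (by
        rw [card_sylow_of_prime (Ω := α) hα' T, Nat.card_zpowers, Subgroup.orderOf_mk, hx])).symm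
    have hmap : (T : Subgroup G).map G.subtype = (S : Subgroup (Perm α)) := by
      rw [hTx, hSx, MonoidHom.map_zpowers]; rfl
    have hle : (Subgroup.normalizer ((T : Subgroup G) : Set G)).map G.subtype ≤
        Subgroup.normalizer ((S : Subgroup (Perm α)) : Set (Perm α)) := by
      rw [← hmap]; exact Subgroup.le_normalizer_map G.subtype
    have hnT : Nat.card (Sylow 7 G) = 8 := by
      have h1 := card_sylow_modEq_one 7 G
      have h2 : Nat.card (Sylow 7 G) = (Subgroup.normalizer ((T : Subgroup G) : Set G)).index :=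
        T.card_eq_index_normalizer
      have h3 := Subgroup.card_mul_index (Subgroup.normalizer ((T : Subgroup G) : Set G))
      have h4 := Subgroup.card_dvd_of_le hle
      rw [Subgroup.card_map_of_injective Subtype.val_injective,
        Cfsg.Agent.Lib.SmallSimple.card_normalizer_sylow_perm (Or.inl hα) S] at h4
      rw [← h2, hG336] at h3
      generalize Nat.card (Sylow 7 G) = n at *
      generalize Nat.card (Subgroup.normalizer ((T : Subgroup G) : Set G)) = m at *
      have h5 : m ∈ Nat.divisors 42 := Nat.mem_divisors.2 ⟨h4, by norm_num⟩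
      rw [show Nat.divisors 42 = {1, 2, 3, 6, 7, 14, 21, 42} by decide] at h5
      simp only [Finset.mem_insert, Finset.mem_singleton] at h5
      have h1' : n % 7 = 1 := h1
      rcases h5 with rfl | rfl | rfl | rfl | rfl | rfl | rfl | rfl <;> omega
    have heq : (Subgroup.normalizer ((T : Subgroup G) : Set G)).map G.subtype =
        Subgroup.normalizer ((S : Subgroup (Perm α)) : Set (Perm α)) := by
      refine Subgroup.eq_of_le_of_card_ge hle ?_
      rw [Subgroup.card_map_of_injective Subtype.val_injective,
        Cfsg.Agent.Lib.SmallSimple.card_normalizer_sylow_perm (Or.inl hα) S]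
      have h3 := Subgroup.card_mul_index (Subgroup.normalizer ((T : Subgroup G) : Set G))
      rw [← show Nat.card (Sylow 7 G) = (Subgroup.normalizer ((T : Subgroup G) : Set G)).index from
        T.card_eq_index_normalizer, hnT, hG336] at h3
      omega
    rw [← heq] at hz
    exact Subgroup.map_subtype_le _ hz
  -- an even involution fixing `a`
  have h2 : Fact (Nat.Prime 2) := ⟨Nat.prime_two⟩
  obtain ⟨s, hs⟩ := exists_prime_orderOf_dvd_card' 2 (show 2 ∣ Nat.card (stabilizer M a) by
    have h := Subgroup.card_mul_index (stabilizer M a)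
    rw [index_stabilizer_of_transitive, hα', hM] at h
    omega)
  set σ : Perm α := s.1.1 with hσ
  have hσ2 : orderOf σ = 2 := by
    rw [← hs, hσ, ← Subgroup.orderOf_coe, ← Subgroup.orderOf_coe]
  have hσa : σ a = a := s.2
  have hσA : Perm.sign σ = 1 := Perm.mem_alternatingGroup.1 s.1.2.2
  have hσs : σ * σ = 1 := by rw [← pow_two, ← hσ2, pow_orderOf_eq_one]
  have hinv : ∀ y, σ (σ y) = y := fun y => by rw [← Perm.mul_apply, hσs, Perm.one_apply]
  set τ : Perm (Fin 7) := e.symm.permCongrHom σ with hτ
  have hτe : e.permCongrHom τ = σ := by ext; simp [hτ, Equiv.permCongrHom]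
  have hτ2 : τ * τ = 1 := by rw [hτ, ← map_mul, hσs, map_one]
  have hτ0 : τ 0 = 0 := by
    have h0 : e 0 = a := by show (x ^ 0) a = a; simp
    apply e.injective
    rw [← hE, hτe, h0, hσa]
  have hτs : Perm.sign τ = 1 := by
    rw [← hσA, hτ]; simp [Equiv.permCongrHom, Perm.sign_permCongr]
  have hτ1 : τ ≠ 1 := fun h => by
    rw [← hτe, h, map_one, orderOf_one] at hσ2; omega
  have hτinv : ∀ y, τ (τ y) = y := fun y => by rw [← Perm.mul_apply, hτ2, Perm.one_apply]
  obtain ⟨b, hb⟩ : ∃ b, τ b ≠ b := by
    by_contra h; push Not at h; exact hτ1 (Equiv.ext h)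
  obtain ⟨c, hc, hcb, hcτ⟩ : ∃ c, τ c ≠ c ∧ c ≠ b ∧ c ≠ τ b := by
    by_contra h
    push Not at h
    have he : τ = swap b (τ b) := Equiv.ext fun y => by
      rw [swap_apply_def]
      split_ifs with h1 h2
      · rw [h1]
      · rw [h2, hτinv]
      · by_contra h3; exact h2 (h y h3 h1)
    rw [he, Perm.sign_swap hb.symm] at hτs
    exact absurd hτs (by decide)
  have hsupp : τ = swap b (τ b) * swap c (τ c) := by
    refine Equiv.ext fun y => ?_
    by_contra hy
    have hfix : τ y ≠ y ∧ y ≠ b ∧ y ≠ τ b ∧ y ≠ c ∧ y ≠ τ c := by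
      have d1 : τ c ≠ b := fun h => hcτ (by rw [← h, hτinv])
      have d2 : τ c ≠ τ b := fun h => hcb (τ.injective h)
      refine ⟨fun h => hy ?_, fun h => hy ?_, fun h => hy ?_, fun h => hy ?_, fun h => hy ?_⟩
      · have h1 : y ≠ b := fun e => hb (e ▸ h)
        have h2 : y ≠ τ b := fun e => by subst e; rw [hτinv] at h; exact hb h.symm
        have h3 : y ≠ c := fun e => hc (e ▸ h)
        have h4 : y ≠ τ c := fun e => by subst e; rw [hτinv] at h; exact hc h.symm
        rw [Perm.mul_apply, swap_apply_of_ne_of_ne h3 h4, swap_apply_of_ne_of_ne h1 h2, h]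
      · subst h
        rw [Perm.mul_apply, swap_apply_of_ne_of_ne hcb.symm d1.symm, swap_apply_left]
      · subst h
        rw [hτinv, Perm.mul_apply, swap_apply_of_ne_of_ne hcτ.symm d2.symm, swap_apply_right]
      · subst h
        rw [Perm.mul_apply, swap_apply_left, swap_apply_of_ne_of_ne d1 d2]
      · subst h
        rw [hτinv, Perm.mul_apply, swap_apply_right, swap_apply_of_ne_of_ne hcb hcτ]
    -- six points would be moved, making `τ` odd
    have h6 : Perm.sign τ = -1 := by
      have h0 : ∀ y, τ y ≠ y → y ≠ 0 := fun y h e => h (e ▸ hτ0)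
      have hsupp : τ.support = Finset.univ.erase 0 := by
        refine Finset.eq_of_subset_of_card_le (fun z hz => Finset.mem_erase.2
          ⟨h0 z (Perm.mem_support.1 hz), Finset.mem_univ _⟩) ?_
        have hsub : ({b, τ b, c, τ c, y, τ y} : Finset (Fin 7)) ⊆ τ.support := by
          intro z hz
          simp only [Finset.mem_insert, Finset.mem_singleton] at hz
          rw [Perm.mem_support]
          rcases hz with rfl | rfl | rfl | rfl | rfl | rfl
          · exact hb
          · rw [hτinv]; exact hb.symm
          · exact hc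
          · rw [hτinv]; exact hc.symm
          · exact hfix.1
          · rw [hτinv]; exact hfix.1.symm
        refine le_trans ?_ (Finset.card_le_card hsub)
        obtain ⟨f1, f2, f3, f4, f5⟩ := hfix
        have k1 : τ y ≠ b := fun e => f3 (by rw [← e, hτinv])
        have k2 : τ y ≠ τ b := fun e => f2 (τ.injective e)
        have k3 : τ y ≠ c := fun e => f5 (by rw [← e, hτinv])
        have k4 : τ y ≠ τ c := fun e => f4 (τ.injective e)
        have k5 : τ c ≠ b := fun e => hcτ (by rw [← e, hτinv])
        have k6 : τ c ≠ τ b := fun e => hcb (τ.injective e)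
        simp [hb.symm, hcb.symm, hcτ.symm, hc.symm, f1.symm, f2.symm, f3.symm, f4.symm, f5.symm,
          k1.symm, k2.symm, k3.symm, k4.symm, k5.symm, k6.symm]
      have hcyc : τ.cycleType = Multiset.replicate 3 2 := by
        have ho : orderOf τ = 2 := orderOf_eq_prime (by rw [pow_two, hτ2]) hτ1
        obtain ⟨n, hn⟩ := Perm.cycleType_prime_order (σ := τ) (ho ▸ Nat.prime_two)
        rw [ho] at hn
        have := τ.sum_cycleType
        rw [hn, hsupp, Multiset.sum_replicate, smul_eq_mul] at this
        simp at this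
        rw [hn, show n + 1 = 3 by omega]
      rw [Perm.sign_of_cycleType, hcyc]
      rfl
    rw [hτs] at h6
    exact absurd h6 (by decide)
  have hnz : ∀ y, τ y ≠ y → y ≠ 0 := fun y h e => h (e ▸ hτ0)
  have hb' : τ (τ b) ≠ τ b := by rw [hτinv]; exact hb.symm
  have hc' : τ (τ c) ≠ τ c := by rw [hτinv]; exact hc.symm
  have hw := key b (τ b) c (τ c) (hnz b hb) (hnz _ hb') (hnz c hc) (hnz _ hc') hb.symm hcb.symm
    (fun h => hcτ (by rw [h, hτinv])) hcτ.symm (fun h => hcb (τ.injective h).symm) hc.symm
  simp only [← hsupp] at hw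
  have hX : e.permCongrHom x0 ∈ G := hxe.symm ▸ hxG
  have hT : e.permCongrHom τ ∈ G := hτe.symm ▸ s.1.2.1
  have fin : ∀ w, e.permCongrHom w ∈ G → w * w * (w * w) * w * (w * w * (w * w) * w) = 1 →
      w * w ≠ 1 → False := by
    intro w hw h10 h2
    refine h2 ?_
    have h336 : w ^ 336 = 1 := e.permCongrHom.injective (by
      rw [map_pow, map_one, ← hG336]
      exact congrArg Subtype.val (pow_card_eq_one' (x := (⟨_, hw⟩ : G))))
    have h10' : w ^ 10 = 1 := by
      rw [← h10]; simp only [pow_succ, pow_zero, one_mul, mul_assoc]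
    have := (pow_gcd_eq_one (a := w) (m := 336) (n := 10)).2 ⟨h336, h10'⟩
    rw [show Nat.gcd 336 10 = 2 from rfl, pow_two] at this
    exact this
  rcases hw with h | h | h | h | h | h | h <;>
    exact fin _ (by simp only [map_mul]; repeat' apply G.mul_mem
                    all_goals assumption) h.1 h.2

end Cfsg.Agent.S0678
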