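import Cfsg.Statements.S0998
import Cfsg.Agent.Lib.SmallCofactor.PRQ
import Cfsg.Agent.Lib.Classical.Order

set_option autoImplicit false
open Cfsg

namespace Cfsg.Agent.S0998

open Cfsg.Agent.Lib

/-- A non-cyclic finite simple group whose order has the form p * r * q^b for distinct primes p, q, r is isomorphic to the projective special linear group of dimension 2 over the field with 5 or with 7 elements. -/
theorem result {G : Type*} [Group G] [Finite G] [IsSimpleGroup G] (hG : ¬ IsCyclic G) (p q r b : ℕ) (hp : p.Prime) (hq : q.Prime) (hr : r.Prime) (hpq : p ≠ q) (hpr : p ≠ r) (hqr : q ≠ r) (hG' : Nat.card G = p * r * q ^ b) : (∃ (F : Type) (_ : Field F) (_ : Fintype F), Fintype.card F = 5 ∧ Nonempty (G ≃* Matrix.ProjectiveSpecialLinearGroup (Fin 2) F)) ∨ (∃ (F : Type) (_ : Field F) (_ : Fintype F), Fintype.card F = 7 ∧ Nonempty (G ≃* Matrix.ProjectiveSpecialLinearGroup (Fin 2) F)) := by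
  haveI : Fact (Nat.Prime 5) := ⟨Nat.prime_five⟩
  haveI : Fact (Nat.Prime 7) := ⟨by norm_num⟩
  have hG : ¬ IsMulCommutative G := by
    intro h
    letI : CommGroup G := { (inferInstance : Group G) with mul_comm := h.is_comm.comm }
    exact hG inferInstance
  -- order the two primes
  wlog hlt : p < r generalizing p r
  · exact this r p hr hp hqr.symm hpr.symm hpq.symm (by rw [hG']; ring) (by omega)
  have five : Nonempty (alternatingGroup (Fin 5) ≃* Matrix.ProjectiveSpecialLinearGroup (Fin 2) (ZMod 5)) := by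
    haveI : IsSimpleGroup (Matrix.ProjectiveSpecialLinearGroup (Fin 2) (ZMod 5)) :=
      Matrix.ProjectiveSpecialLinearGroup.rank_two_simple (by rw [Nat.card_zmod]; omega)
    have hc := Classical.two_mul_card_PSL_two_of_odd (F := ZMod 5) (by rw [ZMod.card]; decide)
    rw [ZMod.card] at hc
    obtain ⟨e⟩ := SmallSimple.nonempty_mulEquiv_alternatingFive
      (G := Matrix.ProjectiveSpecialLinearGroup (Fin 2) (ZMod 5)) (by omega)
    exact ⟨e.symm⟩
  have conv : (Nonempty (G ≃* alternatingGroup (Fin 5)) ∨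
      Nonempty (G ≃* Matrix.ProjectiveSpecialLinearGroup (Fin 2) (ZMod 7))) →
      (∃ (F : Type) (_ : Field F) (_ : Fintype F), Fintype.card F = 5 ∧ Nonempty (G ≃* Matrix.ProjectiveSpecialLinearGroup (Fin 2) F)) ∨ (∃ (F : Type) (_ : Field F) (_ : Fintype F), Fintype.card F = 7 ∧ Nonempty (G ≃* Matrix.ProjectiveSpecialLinearGroup (Fin 2) F)) := by
    rintro (⟨⟨e⟩⟩ | ⟨⟨e⟩⟩)
    · obtain ⟨e5⟩ := five
      exact Or.inl ⟨ZMod 5, inferInstance, inferInstance, ZMod.card 5, ⟨e.trans e5⟩⟩
    · exact Or.inr ⟨ZMod 7, inferInstance, inferInstance, ZMod.card 7, ⟨e⟩⟩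
  by_cases hp3 : p = 3
  · subst hp3
    exact conv (SmallCofactor.iso_of_three hG hr hq hqr.symm (a := 1) (b := b) (by norm_num)
      (by rw [hG', pow_one]))
  by_cases hr3 : r = 3
  · subst hr3
    exact conv (SmallCofactor.iso_of_three hG hp hq hpq (a := 1) (b := b) (by norm_num)
      (by rw [hG', pow_one]; ring))
  exfalso
  by_cases hp2 : p = 2
  · subst hp2
    have hodd : Odd (r * q ^ b) :=
      (hr.odd_of_ne_two (by omega)).mul (Odd.pow (hq.odd_of_ne_two hpq.symm))
    rw [Nat.odd_iff] at hodd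
    haveI : Fact (Nat.Prime 2) := ⟨Nat.prime_two⟩
    obtain ⟨T⟩ : Nonempty (Sylow 2 G) := inferInstance
    obtain ⟨hT, -⟩ := Cfsg.Agent.S0992.result hG ⟨r * q ^ b, by rw [hG']; ring⟩
      (by rw [hG', mul_assoc]; omega) T
    have h4 : 4 ∣ 2 * r * q ^ b := hG' ▸ hT.card_four ▸ Subgroup.card_subgroup_dvd_card _
    rw [mul_assoc] at h4
    omega
  refine SmallCofactor.false_of_five_le hG hp hq hr hpq hqr ?_ hlt hG'
  have := hp.two_le
  rcases hp.eq_two_or_odd with h | h <;> omega

end Cfsg.Agent.S0998
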