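import Cfsg.Statements.S0095
import Cfsg.Agent.Lib.Thompson.PGroup

set_option autoImplicit false
open Cfsg Subgroup
open scoped Pointwise commutatorElement

namespace Cfsg.Agent.S0095

/-- The order of an extraspecial p-group is an odd power p^(2n+1) of p with n ≥ 1. -/
theorem result {P : Type*} [Group P] [Finite P] {p : ℕ} [Fact p.Prime] (h : Cfsg.IsExtraspecial p P) : ∃ n : ℕ, 1 ≤ n ∧ Nat.card P = p ^ (2 * n + 1) := by
  classical
  have hp : p.Prime := Fact.out
  obtain ⟨⟨hP, -, hD⟩, hZ⟩ := h
  have hbase : IsMulCommutative (center P) ∧ center P ≤ center P := ⟨inferInstance, le_rfl⟩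
  obtain ⟨A, -, hA⟩ := Finite.exists_le_maximal
    (p := fun A : Subgroup P => IsMulCommutative A ∧ center P ≤ A) (a := center P) hbase
  obtain ⟨hAc, hZA⟩ := hA.prop
  have hAC : A ≤ centralizer (A : Set P) := le_centralizer_iff_isMulCommutative.mpr hAc
  have hCA : centralizer (A : Set P) = A := by
    refine le_antisymm (fun x hx => ?_) hAC
    by_contra hxA
    have hle : A ⊔ zpowers x = closure ((A : Set P) ∪ {x}) := by
      rw [Subgroup.closure_union, closure_eq, zpowers_eq_closure]
    have hc : IsMulCommutative (A ⊔ zpowers x : Subgroup P) := by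
      rw [hle]
      refine isMulCommutative_closure ?_
      rintro u (hu | rfl) v (hv | rfl)
      · exact mem_centralizer_iff.mp (hAC hv) u hu
      · exact mem_centralizer_iff.mp hx u hu
      · exact (mem_centralizer_iff.mp hx v hv).symm
      · rfl
    exact hxA (hA.le_of_ge ⟨hc, hZA.trans le_sup_left⟩ le_sup_left (mem_sup_right (mem_zpowers x)))
  have hcomm : ∀ u w : P, w * u * w⁻¹ * u⁻¹ ∈ center P := fun u w => by
    have := hD.le (commutator_mem_commutator (mem_top w) (mem_top u))
    rwa [commutatorElement_def] at this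
  have hAn : A.Normal := ⟨fun u hu g => by simpa using mul_mem (hZA (hcomm u g)) hu⟩
  obtain ⟨a, ha⟩ := IsPGroup.iff_card.mp (hP.to_subgroup A)
  obtain ⟨b, hb⟩ := IsPGroup.iff_card.mp hP
  have hub : Nat.card P * p ≤ Nat.card A * Nat.card A := by
    obtain ⟨S, hSA, hAS, hcard⟩ := Lib.Thompson.exists_generators hP hZA
    have hCS : centralizer (S : Set P) ≤ A := by
      refine le_trans ?_ hCA.le
      have h1 : closure (S : Set P) ≤ centralizer (centralizer (S : Set P) : Set P) :=
        (closure_le _).mpr fun s hs => mem_centralizer_iff.mpr fun w hw =>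
          (mem_centralizer_iff.mp hw s hs).symm
      exact le_centralizer_iff.mp (hAS.trans (sup_le h1 (center_le_centralizer _)))
    have h2 := Lib.Thompson.relIndex_centralizer_le (Z := center P) (H := ⊤) S
      fun s _ w _ => hcomm s w
    rw [relIndex_top_right, hZ] at h2
    have h3 : A.index ≤ p ^ S.card :=
      (Nat.le_of_dvd (Nat.pos_of_ne_zero index_ne_zero_of_finite) (index_dvd_of_le hCS)).trans h2
    rw [hZ] at hcard
    rw [← card_mul_index A]
    calc Nat.card A * A.index * p ≤ Nat.card A * (p ^ S.card * p) := by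
          rw [mul_assoc]; exact Nat.mul_le_mul_left _ (Nat.mul_le_mul_right _ h3)
      _ ≤ _ := Nat.mul_le_mul_left _ hcard
  have hlb : Nat.card A * Nat.card A ≤ Nat.card P * p := by
    obtain ⟨T, -, hT, hcard⟩ := Lib.Thompson.exists_generators hP (le_top : A ≤ ⊤)
    have hAT : A ⊓ centralizer (T : Set P) ≤ center P := fun x hx => by
      have h1 : closure (T : Set P) ⊔ A ≤ centralizer ({x} : Set P) := by
        refine sup_le ((closure_le _).mpr fun t ht => ?_) fun u hu => ?_
        · exact mem_centralizer_singleton_iff.mpr (mem_centralizer_iff.mp hx.2 t ht)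
        · exact mem_centralizer_singleton_iff.mpr (mem_centralizer_iff.mp (hAC hx.1) u hu)
      exact mem_center_iff.mpr fun g => mem_centralizer_singleton_iff.mp (h1 (hT (mem_top g)))
    have h2 := Lib.Thompson.relIndex_centralizer_le (Z := center P) (H := A) T
      fun t _ w _ => hcomm t w
    rw [hZ] at h2
    have h3 : Nat.card A ≤ p * p ^ T.card := by
      rw [← card_mul_index ((centralizer (T : Set P)).subgroupOf A)]
      refine Nat.mul_le_mul ?_ h2
      rw [← inf_subgroupOf_left, Nat.card_congr (subgroupOfEquivOfLe inf_le_left).toEquiv, ← hZ]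
      exact card_le_of_le hAT
    rw [card_top] at hcard
    calc Nat.card A * Nat.card A ≤ (p * p ^ T.card) * Nat.card A := Nat.mul_le_mul_right _ h3
      _ = p * (p ^ T.card * Nat.card A) := mul_assoc _ _ _
      _ ≤ _ := by rw [mul_comm (Nat.card P)]; exact Nat.mul_le_mul_left _ hcard
  have heq := le_antisymm hub hlb
  rw [ha, hb, ← pow_succ, ← pow_add] at heq
  have hab : b + 1 = a + a := Nat.pow_right_injective hp.two_le heq
  have hb1 : 1 < b := by
    by_contra hb1
    have hb1' : b ≤ 1 := not_lt.mp hb1
    have hc : IsCyclic P := by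
      rcases Nat.le_one_iff_eq_zero_or_eq_one.mp hb1' with rfl | rfl
      · have := (Nat.card_eq_one_iff_unique.mp (hb.trans (pow_zero p))).1
        exact inferInstance
      · exact isCyclic_of_prime_card (p := p) (hb.trans (pow_one p))
    have hD0 : commutator P = ⊥ := by
      rw [_root_.commutator_def, commutator_eq_bot_iff_le_centralizer]
      intro x _
      exact mem_centralizer_iff.mpr fun y _ => (IsCyclic.isMulCommutative.is_comm.comm y x)
    rw [← hD, hD0, card_bot] at hZ
    exact hp.ne_one hZ.symm
  exact ⟨a - 1, by omega, by rw [hb]; congr 1; omega⟩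

end Cfsg.Agent.S0095
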