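import Cfsg.Statements.S0109
import Cfsg.Agent.Lib.Offender.Group
import Cfsg.Agent.Lib.HallHigman.Solvable

set_option autoImplicit false
open Cfsg Subgroup
open scoped Pointwise commutatorElement

namespace Cfsg.Agent.S0109

/-- The Thompson factorization Theorem for solvable groups states that, with p odd (and abelian Sylow 2-subgroups when p = 3) and no nontrivial normal subgroup of order prime to p, every element of G is a product of an element normalizing J(P) and an element centralizing the elements of order dividing p in the centre of P. -/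
theorem result {G : Type*} [Group G] [Finite G] {p : ℕ} [Fact p.Prime] (hp : p ≠ 2) (hs : Group.IsSolvable G) (h3 : p = 3 → ∀ T : Sylow 2 G, IsMulCommutative T) (hF : ∀ N : Subgroup G, N.Normal → Nat.Coprime (Nat.card N) p → N = ⊥) (P : Sylow p G) (g : G) : ∃ a ∈ Subgroup.normalizer (Cfsg.thompsonSubgroupOf p (P : Subgroup G) : Set G), ∃ c ∈ Subgroup.centralizer {x : G | x ∈ (P : Subgroup G) ∧ (∀ y ∈ (P : Subgroup G), x * y = y * x) ∧ x ^ p = 1}, g = a * c := by
  have hsep : Cfsg.IsPSolvable p G := @Lib.HallHigman.isPSolvable_of_isSolvable G _ _ hs p _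
  have hO : Cfsg.pPrimeCore p G = ⊥ := hF _ inferInstance (Lib.Hall.coprime_card_pPrimeCore p)
  have hfac : Cfsg.IsThompsonFactorizable p G := by
    by_contra hnf
    rcases Lib.Offender.exists_nonabelian_two hsep hO hnf with h | ⟨h, T, hT⟩
    · exact hp h
    · exact hT (h3 h T)
  obtain ⟨x, hx, c, hc, n, hn, he⟩ := hfac P g⁻¹
  rw [hO, Subgroup.mem_bot] at hx
  rw [hx, one_mul] at he
  refine ⟨n⁻¹, inv_mem hn, c⁻¹, inv_mem ?_, ?_⟩
  · exact Subgroup.mem_centralizer_iff.mpr fun y hy => Subgroup.mem_centralizer_iff.mp hc y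
      (Subgroup.subset_closure ⟨⟨hy.1, Subgroup.mem_centralizer_iff.mpr fun z hz => (hy.2.1 z hz).symm⟩, hy.2.2⟩)
  · rw [← mul_inv_rev, ← he, inv_inv]

end Cfsg.Agent.S0109
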