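import Cfsg.Statements.S0132
import Cfsg.Agent.Lib.Transfer.Hall
import Mathlib.RingTheory.Coprime.Lemmas

set_option autoImplicit false
open Cfsg Subgroup
open scoped Pointwise commutatorElement

namespace Cfsg.Agent.S0132

theorem exists_prime_power_not_mem {G : Type*} [Group G] [Finite G] (C : Subgroup G) (g : G)
    (hg : g ∉ C) : ∃ h ∈ zpowers g, h ∉ C ∧ ∃ q k : ℕ, q.Prime ∧ orderOf h = q ^ k := by
  induction hn : orderOf g using Nat.strong_induction_on generalizing g with
  | _ n ih =>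
    subst hn
    have h1 : orderOf g ≠ 1 := fun h => hg (by rw [orderOf_eq_one_iff.mp h]; exact one_mem C)
    obtain ⟨q, hq, hqd⟩ := Nat.exists_prime_and_dvd h1
    obtain ⟨k, m, hm, he⟩ := Nat.exists_eq_pow_mul_and_not_dvd (orderOf_pos g).ne' q hq.ne_one
    by_cases hm1 : m = 1
    · exact ⟨g, mem_zpowers g, hg, q, k, hq, by rw [he, hm1, mul_one]⟩
    have hk : k ≠ 0 := fun hk => hm (by rwa [he, hk, pow_zero, one_mul] at hqd)
    have hmpos : 0 < m := Nat.pos_of_ne_zero fun h => hm (h ▸ dvd_zero q)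
    have hqk : 1 < q ^ k := Nat.one_lt_pow hk hq.one_lt
    have horder : ∀ a b : ℕ, a * b = orderOf g → 0 < a → orderOf (g ^ a) = b := fun a b hab ha => by
      rw [orderOf_pow' g ha.ne', ← hab, Nat.gcd_mul_right_left, Nat.mul_div_cancel_left b ha]
    have ha := horder (q ^ k) m he.symm (by omega)
    have hb := horder m (q ^ k) (by rw [he, mul_comm]) hmpos
    have hrec : ∀ a b : ℕ, orderOf (g ^ a) = b → b < orderOf g → g ^ a ∉ C →
        ∃ h ∈ zpowers g, h ∉ C ∧ ∃ q k : ℕ, q.Prime ∧ orderOf h = q ^ k := by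
      intro a b hab hlt hnot
      obtain ⟨h, hh, r⟩ := ih b hlt _ hnot hab
      exact ⟨h, zpowers_le.mpr (pow_mem (mem_zpowers g) a) hh, r⟩
    by_cases hA : g ^ q ^ k ∈ C
    · by_cases hB : g ^ m ∈ C
      · exfalso
        apply hg
        have hcop : IsCoprime ((q ^ k : ℕ) : ℤ) (m : ℤ) :=
          Nat.isCoprime_iff_coprime.mpr ((hq.coprime_iff_not_dvd.mpr hm).pow_left k)
        obtain ⟨u, v, huv⟩ := hcop
        have : g = (g ^ q ^ k) ^ u * (g ^ m) ^ v := by
          rw [← zpow_natCast g, ← zpow_natCast g, ← zpow_mul, ← zpow_mul, ← zpow_add, mul_comm,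
            mul_comm (m : ℤ), huv, zpow_one]
        rw [this]
        exact mul_mem (zpow_mem hA u) (zpow_mem hB v)
      · exact hrec m _ hb (he ▸ lt_mul_of_one_lt_right (by omega) (by omega)) hB
    · exact hrec _ m ha (he ▸ lt_mul_of_one_lt_left hmpos hqk) hA


/-- A minimal non-p-nilpotent finite group is a minimal non-nilpotent group with a normal Sylow p-subgroup. -/
theorem result {G : Type*} [Group G] [Finite G] {p : ℕ} [Fact p.Prime] (h1 : ¬ Cfsg.HasNormalPComplement p G) (h2 : ∀ H : Subgroup G, H ≠ ⊤ → Cfsg.HasNormalPComplement p H) : (∀ H : Subgroup G, H ≠ ⊤ → Group.IsNilpotent H) ∧ ¬ Group.IsNilpotent G ∧ ∀ P : Sylow p G, (P : Subgroup G).Normal := by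
  have hG : ¬ Group.IsNilpotent G := fun hn => h1 (Lib.Transfer.frobenius_criterion fun Q hQ g _ hgo => by
    rw [mem_centralizer_iff]
    intro x hx
    refine (Lib.Transfer.commute_of_coprime_orderOf ?_).eq
    obtain ⟨k, hk⟩ := IsPGroup.iff_orderOf.mp hQ ⟨x, hx⟩
    rw [orderOf_mk] at hk
    rw [hk]
    exact (hgo.symm.pow_left k))
  have hQ : ∃ Q : Subgroup G, IsPGroup p Q ∧ ¬ Lib.Transfer.AutPGroup p Q := by
    by_contra h
    simp only [not_exists, not_and, not_not] at h
    exact h1 (Lib.Transfer.frobenius_criterion h)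
  obtain ⟨Q, hQp, hQ⟩ := hQ
  have hNtop : normalizer (Q : Set G) = ⊤ := by
    by_contra h
    exact hQ (Lib.Transfer.autPGroup_of_hasNormalPComplement hQp (h2 _ h))
  have hQn : Q.Normal := normalizer_eq_top_iff.mp hNtop
  simp only [Lib.Transfer.AutPGroup, not_forall] at hQ
  obtain ⟨g, -, hgo, hgc⟩ := hQ
  obtain ⟨h, hh, hhc, q, k, hq, hho⟩ := exists_prime_power_not_mem _ g hgc
  have hhp : Nat.Coprime (orderOf h) p :=
    hgo.coprime_dvd_left (orderOf_dvd_of_mem_zpowers hh)
  have hgen : Q ⊔ zpowers h = ⊤ := by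
    by_contra hne
    have hc := h2 _ hne
    set H := Q ⊔ zpowers h
    have hdis := Lib.Transfer.inf_eq_bot_of_not_dvd (Lib.Transfer.hasNormalPComplement_iff.mp hc)
      (hQp.comap_subtype (K := H))
    apply hhc
    rw [mem_centralizer_iff]
    intro x hx
    have : Commute (⟨h, mem_sup_right (mem_zpowers h)⟩ : H) ⟨x, mem_sup_left hx⟩ :=
      commute_of_normal_of_disjoint (pResidual p H) (Q.subgroupOf H) inferInstance inferInstance
        (disjoint_iff.mpr hdis) _ _ (Lib.Transfer.mem_pResidual (by rwa [orderOf_mk]))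
        (mem_subgroupOf.mpr hx)
    exact (congrArg Subtype.val this.eq).symm
  have hidx : Q.index ∣ q ^ k := by
    rw [← hho, ← Nat.card_zpowers, ← relIndex_top_right, ← hgen, relIndex_sup_left]
    exact relIndex_dvd_card ..
  have hqp : q ^ k ≠ 1 := fun h1' => hhc (by
    rw [orderOf_eq_one_iff.mp (hho.trans h1')]; exact one_mem _)
  have hqp' : Nat.Coprime (q ^ k) p := hho ▸ hhp
  have hSyl : ∀ P : Sylow p G, (P : Subgroup G).Normal := by
    intro P
    have hnd : ¬ p ∣ Q.index := fun hd => (Fact.out : p.Prime).ne_one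
      (Nat.Coprime.eq_one_of_dvd (hqp'.symm) (hd.trans hidx))
    have hPQ : (P : Subgroup G) = Q := by
      have := hQp.le_sylow_of_normal P
      exact ((hQp.toSylow hnd).3 P.2 (by simpa using this)).trans (IsPGroup.toSylow_coe _ _)
    exact hPQ ▸ hQn
  refine ⟨fun H hH => ?_, hG, hSyl⟩
  refine ((Group.isNilpotent_of_finite_tfae (G := H)).out 0 3).mpr ?_
  intro r hr S
  haveI := hr
  have hK : ¬ p ∣ Nat.card (pResidual p H) := Lib.Transfer.hasNormalPComplement_iff.mp (h2 H hH)
  have hidx' : (Q.subgroupOf H).index ∣ q ^ k :=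
    (relIndex_dvd_index_of_normal (H := Q) (K := H)).trans hidx
  have hKq : Nat.card (pResidual p H) ∣ q ^ k := by
    refine dvd_trans ?_ hidx'
    have hdis := Lib.Transfer.inf_eq_bot_of_not_dvd hK (hQp.comap_subtype (K := H))
    rw [← relIndex_bot_left, ← hdis, inf_comm]
    have : (Q.comap H.subtype).Normal := hQn.comap _
    rw [inf_relIndex_right]
    exact relIndex_dvd_index_of_normal ..
  by_cases hrp : r = p
  · subst hrp
    have : (Q.comap H.subtype).Normal := hQn.comap _
    have hle := (hQp.comap_subtype (K := H)).le_sylow_of_normal (N := Q.comap H.subtype) S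
    have hnd : ¬ r ∣ (Q.subgroupOf H).index := fun hd => hr.out.ne_one
      (Nat.Coprime.eq_one_of_dvd (hqp'.symm) (hd.trans hidx'))
    have hSQ : (S : Subgroup H) = Q.subgroupOf H :=
      (((hQp.comap_subtype (K := H)).toSylow hnd).3 S.2 (by simpa using hle)).trans (IsPGroup.toSylow_coe _ _)
    rw [hSQ]; exact hQn.comap _
  · have hSK : (S : Subgroup H) ≤ pResidual p H := fun x hx => by
      refine Lib.Transfer.mem_pResidual ?_
      obtain ⟨j, hj⟩ := IsPGroup.iff_orderOf.mp S.2 ⟨x, hx⟩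
      rw [orderOf_mk] at hj
      rw [hj]
      exact Nat.Coprime.pow_left j ((Nat.coprime_primes hr.out Fact.out).mpr hrp)
    have hKp : IsPGroup q (pResidual p H) := IsPGroup.of_card_dvd_pow hKq
    by_cases hrq : r = q
    · subst hrq
      have := hKp.le_sylow_of_normal S
      rw [le_antisymm hSK this]; infer_instance
    · have : Fact q.Prime := ⟨hq⟩
      have := IsPGroup.disjoint_of_ne r q hrq _ _ S.2 hKp
      rw [show (S : Subgroup H) = ⊥ from eq_bot_iff.mpr (this le_rfl hSK)]
      infer_instance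

end Cfsg.Agent.S0132
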