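import Cfsg.Statements.S1526
import Cfsg.Agent.Lib.OddPartition.Local
import Cfsg.Agent.Lib.Dade.CoherenceExt
import Mathlib.Tactic

set_option autoImplicit false
open scoped ComplexConjugate
open Cfsg

namespace Cfsg.Agent.S1526

open Cfsg.Agent.Lib.Char Cfsg.Agent.Lib.Dade Cfsg.Agent.Lib.OddPartition

theorem arith_A {e a R S : ℝ} (he : 3 ≤ e) (ha : 4 * e + 1 ≤ a) (hR : R = 1 + 1 / (2 * e))
    (hS : S ≤ (e - 1) / (2 * e)) (hlt : 1 < 1 / e + R * (e / a) + S) : False := by
  have he0 : 0 < e := by linarith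
  have h1 : e / a ≤ 1 / 4 := by
    rw [div_le_iff₀ (by linarith)]; linarith
  have hR0 : 0 ≤ R := by rw [hR]; positivity
  have h2 := mul_le_mul_of_nonneg_left h1 hR0
  have h3 : 1 / e + R * (1 / 4) + (e - 1) / (2 * e) ≤ 1 := by
    rw [hR]
    field_simp
    nlinarith
  linarith

theorem arith_B {e R S : ℝ} (he : 5 ≤ e) (hR : R = (2 * e + 5) / (2 * e + 4))
    (hS : S ≤ 1 / (e + 2) + (e - 3) / (2 * (e + 4))) (hlt : 1 < 1 / e + R * (e / (2 * e + 1)) + S) :
    False := by
  have he0 : 0 < e := by linarith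
  have h3 : 1 / e + R * (e / (2 * e + 1)) + (1 / (e + 2) + (e - 3) / (2 * (e + 4))) ≤ 1 := by
    rw [hR]
    have : (2 * e + 4) = 2 * (e + 2) := by ring
    rw [this]
    field_simp
    nlinarith [pow_pos he0 2, pow_pos he0 3, mul_nonneg (sub_nonneg.mpr he) (pow_pos he0 2).le,
      mul_nonneg (sub_nonneg.mpr he) (pow_pos he0 3).le, mul_nonneg (sub_nonneg.mpr he) he0.le]
  linarith

theorem core {G : Type*} [Group G] [Finite G] (hodd : Odd (Nat.card G)) {ι : Type*} [Fintype ι] [hιne : Nonempty ι] (L H : ι → Subgroup G) (hHL : ∀ i, H i < L i) (hH1 : ∀ i, H i ≠ ⊥) (hHn : ∀ i, ∀ x ∈ L i, ∀ h ∈ H i, x * h * x⁻¹ ∈ H i) (hfrob : ∀ i, ∀ h ∈ H i, h ≠ 1 → L i ⊓ Subgroup.centralizer ({h} : Set G) ≤ H i) (hcop : ∀ i j, i ≠ j → Nat.Coprime (Nat.card (H i)) (Nat.card (H j))) (hTI : ∀ i, Cfsg.IsTISubset (H i : Set G) ∧ Subgroup.normalizer (H i : Set G) = L i) (hcover : ∀ g : G, g ≠ 1 → ∃ i, ∃ x : G, x * g * x⁻¹ ∈ H i) : False := by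
  classical
  have := Fintype.ofFinite G
  have hF : ∀ i, IsFrobTI (L i) (H i) := fun i =>
    isFrobTI_of (hHL i) (hH1 i) (hHn i) (hfrob i) (hTI i).1 (hTI i).2
  let D := fun i => ((hF i).exists_data hodd).some
  let one : IrrCharacter G := ⟨fun _ => 1, isIrrCharacter_one⟩
  have hdisj : ∀ i j, i ≠ j → ∀ g, Supp (H i) g → ¬ Supp (H j) g := by
    rintro i j hij g ⟨hg, x, hx⟩ ⟨-, y, hy⟩
    have h1 := Subgroup.orderOf_dvd_natCard _ hx
    have h2 := Subgroup.orderOf_dvd_natCard _ hy
    have ho : ∀ z : G, orderOf (z * g * z⁻¹) = orderOf g := fun z =>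
      (orderOf_injective (MulAut.conj z).toMonoidHom (MulEquiv.injective _) g)
    rw [ho] at h1 h2
    exact hg (orderOf_eq_one_iff.mp (Nat.eq_one_of_dvd_coprimes (hcop i j hij) h1 h2))
  have horth : ∀ i j, i ≠ j → ∀ φ ψ : G → ℂ, (∀ g, ¬ Supp (H i) g → φ g = 0) →
      (∀ g, ¬ Supp (H j) g → ψ g = 0) → classInner φ ψ = 0 := by
    intro i j hij φ ψ hφ hψ
    rw [classInner, Finset.sum_eq_zero (fun g _ => ?_), mul_zero]
    by_cases hg : Supp (H i) g
    · rw [hψ g (hdisj i j hij g hg), map_zero, mul_zero]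
    · rw [hφ g hg, zero_mul]
  -- the regions of the partition
  have hpart : ∀ ψ : IrrCharacter G, (Nat.card G : ℝ)⁻¹ * Complex.normSq ((ψ : G → ℂ) 1) +
      ∑ i, rho (L i) (H i) (ψ : G → ℂ) = 1 := by
    intro ψ
    let F : G → ℂ := fun g => (Complex.normSq ((ψ : G → ℂ) g) : ℂ)
    have hFcl : IsClassFunction G F := fun g y => by
      simp only [F]
      rw [isClassFunction_of_isIrr ψ.2 g y]
    have hreg : ∀ i, (rho (L i) (H i) (ψ : G → ℂ) : ℂ) = (Nat.card G : ℂ)⁻¹ *
        ∑ g ∈ Finset.univ.filter (fun g : G => Supp (H i) g), F g := by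
      intro i
      have hs := sum_supp (hF i).dade hFcl
      have e1 : Finset.univ.filter (InSupp {x : G | x ∈ H i ∧ x ≠ 1} fun _ => (⊥ : Subgroup G)) =
          Finset.univ.filter (fun g : G => Supp (H i) g) :=
        Finset.filter_congr fun g _ => supp_iff.symm
      have e2 : ∑ a ∈ Finset.univ.filter (fun a : L i => (a : G) ∈ {x : G | x ∈ H i ∧ x ≠ 1}),
          avgH (fun _ => (⊥ : Subgroup G)) F a =
          ∑ g ∈ Finset.univ.filter (fun g : G => g ∈ H i ∧ g ≠ 1), F g := by
        refine Finset.sum_bij (fun a _ => (a : G)) (fun a ha => ?_) (fun a _ b _ h => Subtype.ext h)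
          (fun g hg => ?_) fun a ha => ?_
        · simpa using ha
        · simp only [Finset.mem_filter, Finset.mem_univ, true_and] at hg
          exact ⟨⟨g, (hHL i).le hg.1⟩, by simpa using hg, rfl⟩
        · simp only [avgH, Subgroup.card_bot, Nat.cast_one, inv_one, one_mul, Subgroup.coe_bot,
            finsum_mem_singleton, mul_one]
      replace hs : (Nat.card (L i) : ℂ) * ∑ g ∈ Finset.univ.filter (fun g : G => Supp (H i) g), F g =
          (Nat.card G : ℂ) * ∑ g ∈ Finset.univ.filter (fun g : G => g ∈ H i ∧ g ≠ 1), F g := by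
        rw [← e2, ← e1]
        convert hs
      rw [eq_inv_mul_iff_mul_eq₀ (card_ne_zero_complex G)]
      simp only [rho, Complex.ofReal_mul, Complex.ofReal_inv, Complex.ofReal_natCast, Complex.ofReal_sum]
      rw [mul_left_comm, inv_mul_eq_iff_eq_mul₀ (card_ne_zero_complex (L i))]
      exact hs.symm
    have htot : ∑ g : G, F g = (Nat.card G : ℂ) := by
      have h := classInner_irr_self ψ.2
      rw [classInner, inv_mul_eq_iff_eq_mul₀ (card_ne_zero_complex G), mul_one] at h
      rw [← h]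
      exact Finset.sum_congr rfl fun g _ => (Complex.mul_conj _).symm
    have hsplit : ∑ g : G, F g = F 1 + ∑ i, ∑ g ∈ Finset.univ.filter (fun g : G => Supp (H i) g), F g := by
      rw [← Finset.sum_biUnion, ← Finset.add_sum_erase _ _ (Finset.mem_univ (1 : G))]
      · congr 1
        refine Finset.sum_congr ?_ fun _ _ => rfl
        ext g
        simp only [Finset.mem_erase, Finset.mem_univ, and_true, Finset.mem_biUnion, Finset.mem_filter,
          true_and]
        constructor
        · intro hg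
          obtain ⟨i, x, hx⟩ := hcover g hg
          exact ⟨i, hg, x, hx⟩
        · rintro ⟨i, hg, -⟩
          exact hg
      · intro i _ j _ hij
        refine Finset.disjoint_left.mpr fun g hg hg' => hdisj i j hij g ?_ ?_
        · exact (Finset.mem_filter.mp hg).2
        · exact (Finset.mem_filter.mp hg').2
    have key : (((Nat.card G : ℝ)⁻¹ * Complex.normSq ((ψ : G → ℂ) 1) +
      ∑ i, rho (L i) (H i) (ψ : G → ℂ) : ℝ) : ℂ) = ((1 : ℝ) : ℂ) := by
      push_cast
      simp only [hreg]
      rw [← Finset.mul_sum, ← mul_add]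
      have : F 1 + ∑ i, ∑ g ∈ Finset.univ.filter (fun g : G => Supp (H i) g), F g = (Nat.card G : ℂ) :=
        hsplit.symm.trans htot
      rw [this, inv_mul_cancel₀ (card_ne_zero_complex G)]
    exact_mod_cast key
  -- integer coefficients
  choose z hz using fun i => generalized_classInner_int (D i).β_gen
  have hηex : ∀ i, ∃ η : ℤ, (η = 1 ∨ η = -1) ∧ (D i).ε = (η : ℂ) := fun i => by
    rcases (D i).hε with h | h
    · exact ⟨1, Or.inl rfl, by simp [h]⟩
    · exact ⟨-1, Or.inr rfl, by simp [h]⟩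
  choose η hη hηε using hηex
  have hzsum : ∀ i j, classInner (D i).β (D j).β = ((∑ χ, z i χ * z j χ : ℤ) : ℂ) := fun i j => by
    rw [classInner_eq_sum (isClassFunction_of_generalized (D j).β_gen)]
    push_cast
    refine Finset.sum_congr rfl fun χ _ => ?_
    rw [hz, hz, map_intCast]
  have hzone : ∀ i, z i one = 1 := fun i => by
    have h := (D i).β_one
    rw [show (fun _ : G => (1 : ℂ)) = (one : G → ℂ) from rfl, hz] at h
    exact_mod_cast h
  have hzX : ∀ i, z i ((D i).X (D i).t1) - z i ((D i).X (D i).t0) = η i := fun i => by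
    have h := (D i).β_X
    rw [hz, hz, hηε] at h
    exact_mod_cast h
  have hXone : ∀ i t, (D i).X t ≠ one := fun i t h => (D i).X_ne_one t (congrArg Subtype.val h)
  have hXdisj : ∀ i j, i ≠ j → ∀ t u, (D i).X t ≠ (D j).X u := by
    intro i j hij t u he
    obtain ⟨t', ht'⟩ : ∃ t', t' ≠ t := by
      by_cases h : (D i).t0 = t
      · exact ⟨(D i).t1, h ▸ (D i).ht⟩
      · exact ⟨(D i).t0, h⟩
    obtain ⟨u', hu'⟩ : ∃ u', u' ≠ u := by
      by_cases h : (D j).t0 = u
      · exact ⟨(D j).t1, h ▸ (D j).ht⟩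
      · exact ⟨(D j).t0, h⟩
    have h := horth i j hij (((D i).X t : G → ℂ) - ((D i).X t' : G → ℂ))
      (((D j).X u : G → ℂ) - ((D j).X u' : G → ℂ))
      (fun g hg => by
        have a := (D i).X_supp t g hg
        have b := (D i).X_supp t' g hg
        simp only [Pi.sub_apply]
        linear_combination a - b)
      (fun g hg => by
        have a := (D j).X_supp u g hg
        have b := (D j).X_supp u' g hg
        simp only [Pi.sub_apply]
        linear_combination a - b)
    rw [classInner_sub_sub, if_pos he,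
      if_neg (show ¬ (D i).X t = (D j).X u' from fun h => hu' ((D j).X_inj (h.symm.trans he))),
      if_neg (show ¬ (D i).X t' = (D j).X u from fun h => ht' ((D i).X_inj (h.trans he.symm)))] at h
    have h' : (1 : ℤ) + (if (D i).X t' = (D j).X u' then 1 else 0) - 0 - 0 = 0 := by exact_mod_cast h
    split_ifs at h' <;> omega
  have hzconst : ∀ i j, i ≠ j → ∀ u, z i ((D j).X u) = z i ((D j).X (D j).t0) := by
    intro i j hij u
    have h := horth i j hij (D i).β (((D j).X u : G → ℂ) - ((D j).X (D j).t0 : G → ℂ)) (D i).β_supp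
      (fun g hg => (D j).X_supp u g hg)
    rw [classInner_sub_right, hz, hz, sub_eq_zero] at h
    exact_mod_cast h
  -- complex conjugation
  let cj : IrrCharacter G → IrrCharacter G := fun χ =>
    ⟨conjFun (χ : G → ℂ), Lib.Char.isIrrCharacter_conj χ.2⟩
  have hcjcj : ∀ χ, cj (cj χ) = χ := fun χ => Subtype.ext (conjFun_conjFun _)
  have hcjone : cj one = one := Subtype.ext (funext fun g => by simp [cj, one, conjFun])
  have hzcj : ∀ i χ, z i (cj χ) = z i χ + η i * ((if χ = (D i).X (D i).t0 then 1 else 0) -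
      if χ = (D i).X (D i).t1 then 1 else 0) := by
    intro i χ
    have h : classInner (D i).β (cj χ : G → ℂ) = conj (classInner (conjFun (D i).β) (χ : G → ℂ)) := by
      rw [← classInner_conjFun, conjFun_conjFun]
    rw [(D i).β_conj, hηε, classInner_add_left, classInner_smul_left, classInner_sub_left,
      classInner_irrCharacter, classInner_irrCharacter, hz, hz] at h
    have h' : (z i (cj χ) : ℂ) = ((z i χ + η i * ((if χ = (D i).X (D i).t0 then 1 else 0) -
        if χ = (D i).X (D i).t1 then 1 else 0) : ℤ) : ℂ) := by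
      rw [h]
      simp only [@eq_comm _ χ]
      push_cast
      simp only [map_add, map_mul, map_sub, map_intCast, apply_ite (starRingEnd ℂ), map_one,
        map_zero]
    exact_mod_cast h'
  have hcjX : ∀ i, cj ((D i).X (D i).t0) = (D i).X (D i).t1 := by
    intro i
    by_contra hne
    have h1 := hzcj i ((D i).X (D i).t0)
    have h2 := hzcj i (cj ((D i).X (D i).t0))
    rw [hcjcj, if_neg hne] at h2
    rw [if_pos rfl, if_neg ((D i).X_inj.ne (D i).ht.symm)] at h1
    split_ifs at h2 <;> rcases hη i with h | h <;> rw [h] at h1 h2 <;> omega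
  have hparity : ∀ i j, i ≠ j → z j ((D i).X (D i).t0) = 0 → z i ((D j).X (D j).t0) ≠ 0 := by
    intro i j hij hji hij'
    let w : ι → IrrCharacter G → ZMod 2 := fun k χ =>
      (z k χ : ZMod 2) + if χ = (D k).X (D k).t0 then 1 else 0
    have hw : ∀ k χ, w k (cj χ) = w k χ := by
      intro k χ
      have h1 : cj χ = (D k).X (D k).t0 ↔ χ = (D k).X (D k).t1 := by
        constructor
        · intro h; rw [← hcjX k, ← h, hcjcj]
        · intro h; rw [h, ← hcjX k, hcjcj]
      have h2 : (η k : ZMod 2) = 1 := by rcases hη k with h | h <;> rw [h] <;> decide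
      simp only [w, hzcj k χ, if_congr h1 rfl rfl]
      push_cast
      rw [h2]
      have : ∀ x p q : ZMod 2, x + 1 * (p - q) + q = x + p := fun x p q => by ring
      exact this _ _ _
    have hsum : ∑ χ ∈ Finset.univ.erase one, w i χ * w j χ = 0 := by
      refine Finset.sum_involution (fun χ _ => cj χ) (fun χ _ => ?_) (fun χ hχ _ hfix => ?_)
        (fun χ hχ => ?_) (fun χ _ => hcjcj χ)
      · rw [hw, hw]; exact CharTwo.add_self_eq_zero _
      · refine (Finset.mem_erase.mp hχ).1 (Subtype.ext (eq_one_of_real hodd χ fun g => ?_))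
        exact Complex.conj_eq_iff_im.mp (congrFun (congrArg Subtype.val hfix) g)
      · refine Finset.mem_erase.mpr ⟨fun h => (Finset.mem_erase.mp hχ).1 ?_, Finset.mem_univ _⟩
        rw [← hcjcj χ, h, hcjone]
    have hzz : ∑ χ, z i χ * z j χ = 0 := by
      have h := hzsum i j
      rw [horth i j hij _ _ (D i).β_supp (D j).β_supp] at h
      exact_mod_cast h.symm
    have hzz' : ∑ χ ∈ Finset.univ.erase one, ((z i χ : ZMod 2) * (z j χ : ZMod 2)) = -1 := by
      have h : ((∑ χ, z i χ * z j χ : ℤ) : ZMod 2) = 0 := by rw [hzz, Int.cast_zero]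
      push_cast at h
      rw [← Finset.add_sum_erase _ _ (Finset.mem_univ one), hzone, hzone] at h
      push_cast at h
      linear_combination h
    have hexp : ∀ χ, w i χ * w j χ = (z i χ : ZMod 2) * (z j χ : ZMod 2) +
        (if χ = (D j).X (D j).t0 then (z i χ : ZMod 2) else 0) +
        (if χ = (D i).X (D i).t0 then (z j χ : ZMod 2) else 0) := by
      intro χ
      simp only [w]
      by_cases h1 : χ = (D i).X (D i).t0 <;> by_cases h2 : χ = (D j).X (D j).t0
      · exact absurd (h1.symm.trans h2) (hXdisj i j hij _ _)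
      · rw [if_pos h1, if_neg h2, if_neg h2, if_pos h1]; ring
      · rw [if_neg h1, if_pos h2, if_pos h2, if_neg h1]; ring
      · rw [if_neg h1, if_neg h2, if_neg h2, if_neg h1]; ring
    rw [Finset.sum_congr rfl fun χ _ => hexp χ, Finset.sum_add_distrib, Finset.sum_add_distrib, hzz',
      Finset.sum_ite_eq', Finset.sum_ite_eq',
      if_pos (Finset.mem_erase.mpr ⟨hXone _ _, Finset.mem_univ _⟩),
      if_pos (Finset.mem_erase.mpr ⟨hXone _ _, Finset.mem_univ _⟩), hji, hij'] at hsum
    simp at hsum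
  have hbessel : ∀ i, ∑ j ∈ Finset.univ.filter (fun j => j ≠ i ∧ z j ((D i).X (D i).t0) = 0),
      ((D j).s : ℤ) ≤ (D i).e - 1 := by
    intro i
    set Z := Finset.univ.filter (fun j => j ≠ i ∧ z j ((D i).X (D i).t0) = 0)
    have hn : ∑ χ, z i χ * z i χ = (D i).e + 1 := by
      have h := hzsum i i
      rw [(D i).β_norm] at h
      exact_mod_cast h.symm
    let U : Finset (IrrCharacter G) := Z.biUnion fun j => Finset.univ.image (D j).X
    have hsum : ∑ j ∈ Z, ((D j).s : ℤ) ≤ ∑ χ ∈ U, z i χ * z i χ := by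
      rw [Finset.sum_biUnion]
      · refine Finset.sum_le_sum fun j hj => ?_
        obtain ⟨-, hji, hz0⟩ := Finset.mem_filter.mp hj
        rw [Finset.sum_image (fun a _ b _ h => (D j).X_inj h)]
        have hne : z i ((D j).X (D j).t0) ≠ 0 := hparity i j hji.symm hz0
        calc ((D j).s : ℤ) = ∑ _t : Fin (D j).s, (1 : ℤ) := by simp
          _ ≤ _ := Finset.sum_le_sum fun t _ => by
            rw [hzconst i j hji.symm t]
            nlinarith [sq_pos_of_ne_zero hne]
      · intro j _ k _ hjk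
        refine Finset.disjoint_left.mpr fun χ hχ hχ' => ?_
        obtain ⟨t, -, rfl⟩ := Finset.mem_image.mp hχ
        obtain ⟨u, -, hu⟩ := Finset.mem_image.mp hχ'
        exact hXdisj j k hjk t u hu.symm
    let V : Finset (IrrCharacter G) := {one, (D i).X (D i).t0, (D i).X (D i).t1}
    have hUV : Disjoint U V := by
      refine Finset.disjoint_left.mpr fun χ hχ hχ' => ?_
      obtain ⟨j, hj, hχj⟩ := Finset.mem_biUnion.mp hχ
      obtain ⟨t, -, rfl⟩ := Finset.mem_image.mp hχj
      have hji := (Finset.mem_filter.mp hj).2.1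
      simp only [V, Finset.mem_insert, Finset.mem_singleton] at hχ'
      rcases hχ' with h | h | h
      · exact hXone j t h
      · exact hXdisj j i hji _ _ h
      · exact hXdisj j i hji _ _ h
    have hle : ∑ χ ∈ U, z i χ * z i χ + ∑ χ ∈ V, z i χ * z i χ ≤ (D i).e + 1 := by
      rw [← Finset.sum_union hUV, ← hn]
      exact Finset.sum_le_sum_of_subset_of_nonneg (Finset.subset_univ _)
        fun χ _ _ => mul_self_nonneg _
    have hV : 2 ≤ ∑ χ ∈ V, z i χ * z i χ := by
      rw [Finset.sum_insert (by simp [Ne.symm (hXone i _)]),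
        Finset.sum_pair ((D i).X_inj.ne (D i).ht.symm), hzone]
      have h1 := hzX i
      have h2 := mul_self_nonneg (z i ((D i).X (D i).t0))
      have h3 := mul_self_nonneg (z i ((D i).X (D i).t1))
      rcases hη i with h | h <;> rw [h] at h1 <;> nlinarith [sq_nonneg (z i ((D i).X (D i).t0) + z i ((D i).X (D i).t1))]
    linarith
  -- real data
  let E : ι → ℝ := fun i => (D i).e
  let A : ι → ℝ := fun i => (D i).a
  let S : ι → ℝ := fun i => (D i).s
  have hA : ∀ i, A i = S i * E i + 1 := fun i => by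
    simp only [A, S, E]; exact_mod_cast (D i).ha
  have hE : ∀ i, 3 ≤ E i := fun i => by simp only [E]; exact_mod_cast (D i).he
  have hS : ∀ i, 2 ≤ S i := fun i => by simp only [S]; exact_mod_cast (D i).hs
  have hA1 : ∀ i, 1 < A i := fun i => by rw [hA i]; nlinarith [hE i, hS i]
  have hW : ∀ i, rho (L i) (H i) (one : G → ℂ) < 1 / E i := by
    intro i
    have hc : ((Finset.univ.filter (fun g : G => g ∈ H i ∧ g ≠ 1)).card : ℝ) = (Nat.card (H i) : ℝ) - 1 := by
      have h : Finset.univ.filter (fun g : G => g ∈ H i ∧ g ≠ 1) =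
          (Finset.univ.filter (fun g : G => g ∈ H i)).erase 1 := by
        ext g; simp [and_comm]
      have h1 : (Finset.univ.filter (fun g : G => g ∈ H i)).card = Nat.card (H i) := by
        rw [Nat.card_eq_fintype_card]
        exact (Fintype.card_subtype _).symm
      rw [h, Finset.card_erase_of_mem (by simp), h1, Nat.cast_sub Nat.card_pos, Nat.cast_one]
    simp only [rho, one, map_one, Finset.sum_const, nsmul_eq_mul, mul_one]
    rw [hc, (D i).card_eq, Nat.cast_mul, inv_mul_eq_div]
    have hh : (0 : ℝ) < Nat.card (H i) := by exact_mod_cast Nat.card_pos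
    rw [div_lt_div_iff₀ (mul_pos hh (by linarith [hE i])) (by linarith [hE i])]
    show ((Nat.card (H i) : ℝ) - 1) * E i < 1 * ((Nat.card (H i) : ℝ) * E i)
    nlinarith [hE i]
  have master : ∀ (i : ι) (R : ℝ), 1 ≤ R →
      (∀ j, j ≠ i → z j ((D i).X (D i).t0) ≠ 0 → A j ≤ R * (A j - 1)) →
      1 < 1 / E i + R * (E i / A i) +
        ∑ j ∈ Finset.univ.filter (fun j => j ≠ i ∧ z j ((D i).X (D i).t0) = 0), 1 / E j := by
    intro i R hR1 hR
    set P := Finset.univ.filter (fun j => j ≠ i ∧ z j ((D i).X (D i).t0) ≠ 0) with hP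
    set Z := Finset.univ.filter (fun j => j ≠ i ∧ z j ((D i).X (D i).t0) = 0) with hZ
    have hsplit : ∀ f : ι → ℝ, ∑ j, f j = f i + ∑ j ∈ P, f j + ∑ j ∈ Z, f j := fun f => by
      rw [add_assoc, ← Finset.sum_union (Finset.disjoint_left.mpr fun j hj hj' =>
        (Finset.mem_filter.mp hj).2.2 (Finset.mem_filter.mp hj').2.2),
        ← Finset.add_sum_erase _ _ (Finset.mem_univ i)]
      congr 1
      refine Finset.sum_congr ?_ fun _ _ => rfl
      ext j
      simp only [hP, hZ, Finset.mem_erase, Finset.mem_univ, and_true, Finset.mem_union,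
        Finset.mem_filter, true_and]
      tauto
    have hG : (0 : ℝ) < Nat.card G := by exact_mod_cast Nat.card_pos
    have h1 := hpart ((D i).X (D i).t0)
    rw [hsplit] at h1
    have hdeg : 1 ≤ Complex.normSq (((D i).X (D i).t0 : G → ℂ) 1) := by
      rw [apply_one_eq_charDegree (isCharacter_of_isIrr ((D i).X (D i).t0).2), Complex.normSq_natCast]
      have : (1 : ℝ) ≤ (charDegree (((D i).X (D i).t0) : G → ℂ) : ℝ) := by
        exact_mod_cast charDegree_pos ((D i).X (D i).t0).2
      nlinarith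
    have hZ0 : 0 ≤ ∑ j ∈ Z, rho (L j) (H j) ((D i).X (D i).t0 : G → ℂ) :=
      Finset.sum_nonneg fun j _ => by
        simp only [rho]
        exact mul_nonneg (by positivity) (Finset.sum_nonneg fun g _ => Complex.normSq_nonneg _)
    have hPρ : ∑ j ∈ P, S j / A j ≤ ∑ j ∈ P, rho (L j) (H j) ((D i).X (D i).t0 : G → ℂ) := by
      refine Finset.sum_le_sum fun j hj => ?_
      obtain ⟨-, hji, hne⟩ := Finset.mem_filter.mp hj
      refine le_trans ?_ ((D j).rho_other _ (fun t => hXdisj i j hji.symm _ t) _ (hz j _))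
      have h2 : (1 : ℝ) ≤ (z j ((D i).X (D i).t0) : ℝ) ^ 2 := by
        exact_mod_cast sq_pos_of_ne_zero hne
      exact div_le_div_of_nonneg_right (le_mul_of_one_le_left (by linarith [hS j]) h2)
        (by linarith [hA1 j])
    have hself : 1 - E i / A i ≤ _ := (D i).rho_self
    have hginv : (Nat.card G : ℝ)⁻¹ * 1 ≤
        (Nat.card G : ℝ)⁻¹ * Complex.normSq (((D i).X (D i).t0 : G → ℂ) 1) :=
      mul_le_mul_of_nonneg_left hdeg (by positivity)
    rw [mul_one] at hginv
    have hPbound : ∑ j ∈ P, S j / A j ≤ E i / A i - (Nat.card G : ℝ)⁻¹ := by linarith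
    have h2 := hpart one
    rw [hsplit, show Complex.normSq ((one : G → ℂ) 1) = 1 by simp [one], mul_one] at h2
    have hWP : ∑ j ∈ P, rho (L j) (H j) (one : G → ℂ) ≤ R * ∑ j ∈ P, S j / A j := by
      rw [Finset.mul_sum]
      refine Finset.sum_le_sum fun j hj => ?_
      obtain ⟨-, hji, hne⟩ := Finset.mem_filter.mp hj
      refine (hW j).le.trans ?_
      rw [← mul_div_assoc, div_le_div_iff₀ (by linarith [hE j]) (by linarith [hA1 j])]
      have h3 := hR j hji hne
      rw [hA j] at h3 ⊢
      nlinarith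
    have hWZ : ∑ j ∈ Z, rho (L j) (H j) (one : G → ℂ) ≤ ∑ j ∈ Z, 1 / E j :=
      Finset.sum_le_sum fun j _ => (hW j).le
    have hWi := hW i
    have h4 := mul_le_mul_of_nonneg_left hPbound (by linarith : (0 : ℝ) ≤ R)
    have h5 : (Nat.card G : ℝ)⁻¹ ≤ R * (Nat.card G : ℝ)⁻¹ := le_mul_of_one_le_left (by positivity) hR1
    rw [mul_sub] at h4
    linarith
  -- the choice of `i`
  have hne : ∀ i j, i ≠ j → (D i).a ≠ (D j).a := by
    intro i j hij h
    have h1 : (D i).a ∣ 1 := by
      have := Nat.dvd_gcd (D i).ha' (h ▸ (D j).ha' : (D i).a ∣ Nat.card (H j))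
      rwa [hcop i j hij] at this
    rw [Nat.dvd_one, (D i).ha] at h1
    have := (D i).hs
    have := (D i).he
    nlinarith
  obtain ⟨i₀, -, hi₀⟩ := Finset.exists_min_image (Finset.univ : Finset ι) (fun i => (D i).e)
    Finset.univ_nonempty
  have hmin : ∀ j, (D i₀).e ≤ (D j).e := fun j => hi₀ j (Finset.mem_univ _)
  by_cases hcase : ∃ i, (D i).e = (D i₀).e ∧ 4 ≤ (D i).s
  · obtain ⟨i, hie, his⟩ := hcase
    have hEj : ∀ j, E i ≤ E j := fun j => by
      simp only [E]; exact_mod_cast (hie ▸ hmin j)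
    have hEi := hE i
    refine arith_A (e := E i) (a := A i) hEi ?_ rfl ?_ (master i (1 + 1 / (2 * E i))
      (le_add_of_nonneg_right (by positivity)) fun j _ _ => ?_)
    · have : (4 : ℝ) ≤ S i := by simp only [S]; exact_mod_cast his
      rw [hA i]; nlinarith
    · refine le_trans (Finset.sum_le_sum (g := fun j => S j / (2 * E i)) fun j _ => ?_) ?_
      · rw [div_le_div_iff₀ (by linarith [hE j]) (by linarith)]
        nlinarith [hEj j, hS j]
      · rw [← Finset.sum_div]
        refine div_le_div_of_nonneg_right ?_ (by linarith)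
        have := hbessel i
        simp only [S, E]
        exact_mod_cast this
    · have h1 : 2 * E i ≤ A j - 1 := by rw [hA j]; nlinarith [hEj j, hS j]
      have h2 : 1 ≤ (A j - 1) / (2 * E i) := by rw [le_div_iff₀ (by linarith)]; linarith
      calc A j = (A j - 1) + 1 := by ring
        _ ≤ (A j - 1) + (A j - 1) / (2 * E i) := by linarith
        _ = (1 + 1 / (2 * E i)) * (A j - 1) := by ring
  push Not at hcase
  set e := (D i₀).e with he_def
  have hs0 : (D i₀).s = 2 := by
    have := hcase i₀ rfl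
    have := (D i₀).hs
    obtain ⟨k, hk⟩ := (D i₀).hs'
    omega
  have hbig : ∀ j, j ≠ i₀ → e + 2 ≤ (D j).e := by
    intro j hj
    have h1 := hmin j
    have h2 : (D j).e ≠ e := fun h => by
      have := hcase j h
      have := (D j).hs
      obtain ⟨k, hk⟩ := (D j).hs'
      refine hne j i₀ hj ?_
      rw [(D j).ha, (D i₀).ha, h, hs0, show (D j).s = 2 by omega]
    obtain ⟨k, hk⟩ := (D j).he'
    obtain ⟨l, hl⟩ := (D i₀).he'
    omega
  set Z := Finset.univ.filter (fun j => j ≠ i₀ ∧ z j ((D i₀).X (D i₀).t0) = 0) with hZdef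
  have hEbig : ∀ j, j ≠ i₀ → E i₀ + 2 ≤ E j := fun j hj => by
    simp only [E]; exact_mod_cast hbig j hj
  have hE0 := hE i₀
  have hA0 : A i₀ = 2 * E i₀ + 1 := by
    rw [hA i₀, show S i₀ = 2 by simp only [S, hs0]; norm_num]
  have hR : ∀ j, j ≠ i₀ → 2 * E i₀ + 5 ≤ A j := fun j hj => by
    rw [hA j]; nlinarith [hEbig j hj, hS j]
  have hZbound : (∑ j ∈ Z, (D j).s : ℤ) ≤ (e : ℤ) - 1 := hbessel i₀
  have hterm : ∀ j ∈ Z, ¬ ((D j).e = e + 2 ∧ (D j).s = 2) → 1 / E j ≤ S j / (2 * (E i₀ + 4)) := by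
    intro j hj hnot
    have hji := (Finset.mem_filter.mp hj).2.1
    rw [div_le_div_iff₀ (by linarith [hE j]) (by linarith)]
    by_cases hsj : (D j).s = 2
    · have h4 : e + 4 ≤ (D j).e := by
        have := hbig j hji
        obtain ⟨k, hk⟩ := (D j).he'
        obtain ⟨l, hl⟩ := (D i₀).he'
        have : (D j).e ≠ e + 2 := fun h => hnot ⟨h, hsj⟩
        omega
      have h4' : E i₀ + 4 ≤ E j := by simp only [E]; exact_mod_cast h4
      nlinarith [hS j]
    · have h4 : 4 ≤ (D j).s := by
        have := (D j).hs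
        obtain ⟨k, hk⟩ := (D j).hs'
        omega
      have h4' : (4 : ℝ) ≤ S j := by simp only [S]; exact_mod_cast h4
      nlinarith [hEbig j hji]
  by_cases hj0 : ∃ j ∈ Z, (D j).e = e + 2 ∧ (D j).s = 2
  · obtain ⟨j₀, hj₀Z, hje, hjs⟩ := hj0
    have hrest : ∑ j ∈ Z.erase j₀, ((D j).s : ℤ) ≤ (e : ℤ) - 3 := by
      have := Finset.add_sum_erase Z (fun j => ((D j).s : ℤ)) hj₀Z
      rw [hjs] at this
      push_cast at this
      linarith
    have hZle : ∑ j ∈ Z, 1 / E j ≤ 1 / (E i₀ + 2) + (E i₀ - 3) / (2 * (E i₀ + 4)) := by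
      rw [← Finset.add_sum_erase Z _ hj₀Z]
      refine add_le_add (le_of_eq ?_) ?_
      · simp only [E, hje]; push_cast; rfl
      · refine le_trans (Finset.sum_le_sum (g := fun j => S j / (2 * (E i₀ + 4))) fun j hj => ?_) ?_
        · obtain ⟨hjj, hjZ⟩ := Finset.mem_erase.mp hj
          refine hterm j hjZ fun h => hne j j₀ hjj ?_
          rw [(D j).ha, (D j₀).ha, h.1, h.2, hje, hjs]
        · rw [← Finset.sum_div]
          refine div_le_div_of_nonneg_right ?_ (by linarith)
          simp only [S, E]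
          exact_mod_cast hrest
    by_cases h5 : 5 ≤ e
    · refine arith_B (e := E i₀) (by simp only [E]; exact_mod_cast h5) rfl hZle
        (hA0 ▸ master i₀ ((2 * E i₀ + 5) / (2 * E i₀ + 4)) ?_ fun j hj _ => ?_)
      · rw [le_div_iff₀ (by linarith)]; linarith
      · rw [div_mul_eq_mul_div, le_div_iff₀ (by linarith)]
        nlinarith [hR j hj]
    · have he3 : e = 3 := by
        have := (D i₀).he
        obtain ⟨l, hl⟩ := (D i₀).he'
        omega
      have hE3 : E i₀ = 3 := by simp only [E]; exact_mod_cast he3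
      have h := master i₀ (13 / 12) (by norm_num) fun j hj hne' => ?_
      · rw [hA0, hE3] at h
        rw [hE3] at hZle
        norm_num at h hZle
        linarith
      · have hjj : j ≠ j₀ := fun hh => hne' (hh ▸ (Finset.mem_filter.mp hj₀Z).2.2)
        have h11 : (D j).a ≠ 11 := fun hh => hne j j₀ hjj (by
          rw [hh, (D j₀).ha, hje, hjs, he3])
        have h13 : (13 : ℕ) ≤ (D j).a := by
          have h2 := hbig j hj
          have h3 := (D j).hs
          obtain ⟨k, hk⟩ := (D j).hs'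
          have h4 : 2 * 5 ≤ (D j).s * (D j).e := Nat.mul_le_mul h3 (by omega)
          have h5 : (D j).s * (D j).e = 2 * (k * (D j).e) := by rw [hk]; ring
          have := (D j).ha
          omega
        have h13' : (13 : ℝ) ≤ A j := by simp only [A]; exact_mod_cast h13
        linarith
  · push Not at hj0
    have hZle : ∑ j ∈ Z, 1 / E j ≤ (E i₀ - 1) / (2 * (E i₀ + 4)) := by
      refine le_trans (Finset.sum_le_sum (g := fun j => S j / (2 * (E i₀ + 4)))
        fun j hj => hterm j hj fun h => hj0 j hj h.1 h.2) ?_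
      rw [← Finset.sum_div]
      refine div_le_div_of_nonneg_right ?_ (by linarith)
      simp only [S, E]
      exact_mod_cast hZbound
    have h := master i₀ ((2 * E i₀ + 5) / (2 * E i₀ + 4)) (by
      rw [le_div_iff₀ (by linarith)]; linarith) fun j hj _ => by
        rw [div_mul_eq_mul_div, le_div_iff₀ (by linarith)]
        nlinarith [hR j hj]
    by_cases h5 : 5 ≤ e
    · refine arith_B (e := E i₀) (by simp only [E]; exact_mod_cast h5) rfl (hZle.trans ?_) (hA0 ▸ h)
      have e1 : (1 : ℝ) / (E i₀ + 4) ≤ 1 / (E i₀ + 2) := one_div_le_one_div_of_le (by linarith) (by linarith)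
      have e2 : (E i₀ - 1) / (2 * (E i₀ + 4)) = 1 / (E i₀ + 4) + (E i₀ - 3) / (2 * (E i₀ + 4)) := by
        field_simp; ring
      linarith
    · have he3 : e = 3 := by
        have := (D i₀).he
        obtain ⟨l, hl⟩ := (D i₀).he'
        omega
      have hE3 : E i₀ = 3 := by simp only [E]; exact_mod_cast he3
      rw [hA0, hE3] at h
      rw [hE3] at hZle
      norm_num at h hZle
      linarith

theorem result {G : Type*} [Group G] [Finite G] (hodd : Odd (Nat.card G)) {ι : Type*} [Fintype ι] (hι : 2 ≤ Fintype.card ι) (L H : ι → Subgroup G) (hHL : ∀ i, H i < L i) (hH1 : ∀ i, H i ≠ ⊥) (hHn : ∀ i, ∀ x ∈ L i, ∀ h ∈ H i, x * h * x⁻¹ ∈ H i) (hfrob : ∀ i, ∀ h ∈ H i, h ≠ 1 → L i ⊓ Subgroup.centralizer ({h} : Set G) ≤ H i) (hcop : ∀ i j, i ≠ j → Nat.Coprime (Nat.card (H i)) (Nat.card (H j))) (hTI : ∀ i, Cfsg.IsTISubset (H i : Set G) ∧ Subgroup.normalizer (H i : Set G) = L i) (hcover : ∀ g : G, g ≠ 1 → ∃ i, ∃ x : G, x * g * x⁻¹ ∈ H i) : False :=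
  have : Nonempty ι := Fintype.card_pos_iff.mp (by omega)
  core hodd L H hHL hH1 hHn hfrob hcop hTI hcover

end Cfsg.Agent.S1526
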