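import Cfsg.Statements.S0182
import Cfsg.Agent.S1526
import Mathlib.Tactic

set_option autoImplicit false
open Cfsg Subgroup

namespace Cfsg.Agent.S0182

universe u

/-- A subgroup equal to the centraliser of each of its nontrivial elements is a Hall subgroup;
more precisely it contains a Sylow subgroup for each prime dividing its order. -/
theorem exists_sylow_le {G : Type u} [Group G] [Finite G] {H : Subgroup G}
    (hH : ∀ h ∈ H, h ≠ 1 → centralizer ({h} : Set G) = H) {p : ℕ} [hp : Fact p.Prime]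
    (hpH : p ∣ Nat.card H) :
    ∃ P : Sylow p G, (P : Subgroup G) ≤ H ∧ ∃ y ∈ (P : Subgroup G), y ≠ 1 := by
  obtain ⟨y, hy⟩ := exists_prime_orderOf_dvd_card' (G := H) p hpH
  have hy1 : (y : G) ≠ 1 := by
    intro e
    rw [← Subgroup.orderOf_coe, e, orderOf_one] at hy
    exact hp.out.ne_one hy.symm
  have hyp : IsPGroup p (zpowers (y : G)) :=
    IsPGroup.of_card (n := 1) (by rw [Nat.card_zpowers, Subgroup.orderOf_coe, hy, pow_one])
  obtain ⟨P, hP⟩ := hyp.exists_le_sylow
  have hyP : (y : G) ∈ (P : Subgroup G) := hP (mem_zpowers _)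
  have : Nontrivial (P : Subgroup G) := ⟨⟨⟨y, hyP⟩, 1, fun e => hy1 (congrArg Subtype.val e)⟩⟩
  have := P.2.center_nontrivial
  obtain ⟨⟨z, hz⟩, hz1'⟩ := exists_ne (1 : center (P : Subgroup G))
  have hz1 : z ≠ 1 := fun h => hz1' (Subtype.ext h)
  refine ⟨P, fun x hx => ?_, y, hyP, hy1⟩
  have hzy : (z : G) ∈ H := by
    rw [← hH y y.2 hy1, mem_centralizer_singleton_iff]
    exact (congrArg Subtype.val (Subgroup.mem_center_iff.mp hz ⟨y, hyP⟩)).symm
  rw [← hH z hzy (fun e => hz1 (Subtype.ext e)), mem_centralizer_singleton_iff]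
  exact congrArg Subtype.val (Subgroup.mem_center_iff.mp hz ⟨x, hx⟩)

theorem coprime_index {G : Type u} [Group G] [Finite G] {H : Subgroup G}
    (hH : ∀ h ∈ H, h ≠ 1 → centralizer ({h} : Set G) = H) : (Nat.card H).Coprime H.index := by
  by_contra hc
  obtain ⟨p, hp, h1, h2⟩ := Nat.Prime.not_coprime_iff_dvd.mp hc
  have : Fact p.Prime := ⟨hp⟩
  obtain ⟨P, hP, -⟩ := exists_sylow_le hH h1
  exact P.not_dvd_index (h2.trans (index_dvd_of_le hP))

theorem aux : ∀ (n : ℕ) (G : Type u) [Group G] [Finite G], Nat.card G = n → Odd (Nat.card G) →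
    (∀ x : G, x ≠ 1 → ∀ a ∈ centralizer ({x} : Set G), ∀ b ∈ centralizer ({x} : Set G), a * b = b * a) →
    Group.IsSolvable G := by
  intro n
  induction n using Nat.strong_induction_on with
  | _ n ih =>
  intro G _ _ hn hodd hCA
  classical
  by_contra hns
  have hab : ¬ ∀ a b : G, a * b = b * a := fun h => hns (Group.isSolvable_of_comm h)
  have hprop : ∀ K : Subgroup G, K ≠ ⊤ → Group.IsSolvable K := by
    intro K hK
    refine ih (Nat.card K) ?_ K rfl (hodd.of_dvd_nat (card_subgroup_dvd_card K)) ?_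
    · rw [← hn]
      exact lt_of_le_of_ne (Nat.le_of_dvd Nat.card_pos (card_subgroup_dvd_card K))
        fun h => hK (eq_top_of_card_eq K h)
    · intro x hx a ha b hb
      apply Subtype.ext
      rw [mem_centralizer_singleton_iff] at ha hb
      exact hCA x (fun h => hx (Subtype.ext h)) a
        (mem_centralizer_singleton_iff.mpr (congrArg Subtype.val ha)) b
        (mem_centralizer_singleton_iff.mpr (congrArg Subtype.val hb))
  have hsimple : ∀ N : Subgroup G, N.Normal → N ≠ ⊤ → N = ⊥ := by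
    by_contra hc
    push Not at hc
    obtain ⟨N, hNn, hNt, hNb⟩ := hc
    obtain ⟨M₀, ⟨hM₀n, hM₀le, hM₀ne⟩, hmin⟩ := (Set.toFinite
      {K : Subgroup G | K.Normal ∧ K ≤ N ∧ K ≠ ⊥}).exists_minimal ⟨N, hNn, le_rfl, hNb⟩
    have hsolM : Group.IsSolvable M₀ := by
      have := hprop N hNt
      exact Group.isSolvable_of_isSolvable_injective (Subgroup.inclusion_injective hM₀le)
    have hM₀ab : ∀ a ∈ M₀, ∀ b ∈ M₀, a * b = b * a := by
      have hle : ⁅M₀, M₀⁆ ≤ M₀ := commutator_le_self M₀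
      have hbot : ⁅M₀, M₀⁆ = ⊥ := by
        by_contra hne
        have heq : ⁅M₀, M₀⁆ = M₀ := le_antisymm hle
          (hmin ⟨Subgroup.commutator_normal M₀ M₀, hle.trans hM₀le, hne⟩ hle)
        have : Nontrivial M₀ := M₀.nontrivial_iff_ne_bot.mpr hM₀ne
        refine (Group.IsSolvable.commutator_lt_top_of_nontrivial M₀).ne (Subgroup.map_injective M₀.subtype_injective ?_)
        rw [map_subtype_commutator, heq, ← MonoidHom.range_eq_map, range_subtype]
      intro a ha b hb
      exact commutatorElement_eq_one_iff_mul_comm.mp (mem_bot.mp (hbot ▸ commutator_mem_commutator ha hb))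
    set M := centralizer (M₀ : Set G) with hM
    obtain ⟨a₀, ha₀, ha₀1⟩ := (Subgroup.ne_bot_iff_exists_ne_one.mp hM₀ne).elim
      fun a h => (⟨a, a.2, fun e => h (Subtype.ext e)⟩ : ∃ a ∈ M₀, a ≠ 1)
    have hMab : ∀ a ∈ M, ∀ b ∈ M, a * b = b * a := fun a ha b hb =>
      hCA a₀ ha₀1 a (mem_centralizer_singleton_iff.mpr (ha a₀ ha₀).symm) b
        (mem_centralizer_singleton_iff.mpr (hb a₀ ha₀).symm)
    have hM₀M : M₀ ≤ M := fun a ha => mem_centralizer_iff.mpr fun b hb => hM₀ab b hb a ha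
    have hMC : ∀ m ∈ M, m ≠ 1 → centralizer ({m} : Set G) = M := by
      intro m hm hm1
      refine le_antisymm (fun c hc => mem_centralizer_iff.mpr fun b hb => ?_)
        (fun c hc => mem_centralizer_singleton_iff.mpr (hMab c hc m hm))
      exact hCA m hm1 b (mem_centralizer_singleton_iff.mpr (hMab b (hM₀M hb) m hm)) c hc
    have hMn : M.Normal := by
      rw [hM]
      infer_instance
    have hMt : M ≠ ⊤ := fun h => hab fun a b => hMab a (h ▸ mem_top a) b (h ▸ mem_top b)
    obtain ⟨E, hE⟩ := exists_right_complement'_of_coprime (coprime_index hMC)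
    have hEt : E ≠ ⊤ := by
      intro h
      have h1 := hE.disjoint
      rw [h, disjoint_top] at h1
      exact ha₀1 (mem_bot.mp (h1 ▸ hM₀M ha₀))
    have hEsol := hprop E hEt
    have hsurj : Function.Surjective ((QuotientGroup.mk' M).comp E.subtype) := by
      intro q
      obtain ⟨g, rfl⟩ := QuotientGroup.mk'_surjective M q
      obtain ⟨⟨⟨m, hm⟩, ⟨e, he⟩⟩, hme⟩ := hE.2 g
      refine ⟨⟨e, he⟩, ?_⟩
      rw [← hme]
      simp [(QuotientGroup.eq_one_iff m).mpr hm]
    have : Group.IsSolvable (G ⧸ M) := Group.isSolvable_of_surjective hsurj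
    have : Group.IsSolvable M := Group.isSolvable_of_comm fun a b => Subtype.ext (hMab a a.2 b b.2)
    exact hns (Group.isSolvable_of_ker_le_range M.subtype (QuotientGroup.mk' M) (by simp))
  let C : G → Subgroup G := fun x => centralizer ({x} : Set G)
  have hCt : ∀ x, x ≠ 1 → C x ≠ ⊤ := by
    intro x hx h
    have hxc : x ∈ center G := Subgroup.mem_center_iff.mpr fun g =>
      mem_centralizer_singleton_iff.mp (show g ∈ C x from h ▸ mem_top g)
    by_cases hc : center G = ⊤
    · exact hab fun a b => Subgroup.mem_center_iff.mp (hc ▸ mem_top b) a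
    · exact hx (mem_bot.mp (hsimple _ inferInstance hc ▸ hxc))
  have heq : ∀ x y, x ≠ 1 → y ≠ 1 → y ∈ C x → C y = C x := by
    intro x y hx hy hyx
    have hxy : x ∈ C y := mem_centralizer_singleton_iff.mpr (mem_centralizer_singleton_iff.mp hyx).symm
    exact le_antisymm (fun c hc => mem_centralizer_singleton_iff.mpr (hCA y hy c hc x hxy))
      (fun c hc => mem_centralizer_singleton_iff.mpr (hCA x hx c hc y hyx))
  have hCC : ∀ x, x ≠ 1 → ∀ h ∈ C x, h ≠ 1 → centralizer ({h} : Set G) = C x :=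
    fun x hx h hh hh1 => heq x h hx hh1 hh
  have hself : ∀ x, x ∈ C x := fun x => mem_centralizer_singleton_iff.mpr rfl
  have hmem : ∀ g a c, c ∈ C (g * a * g⁻¹) ↔ g⁻¹ * c * g ∈ C a := by
    intro g a c
    simp only [C, mem_centralizer_singleton_iff]
    constructor
    · intro h
      calc g⁻¹ * c * g * a = g⁻¹ * (c * (g * a * g⁻¹)) * g := by group
        _ = a * (g⁻¹ * c * g) := by rw [h]; group
    · intro h
      calc c * (g * a * g⁻¹) = g * (g⁻¹ * c * g * a) * g⁻¹ := by group
        _ = g * a * g⁻¹ * c := by rw [h]; group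
  have hconj : ∀ g a b, C a = C b → C (g * a * g⁻¹) = C (g * b * g⁻¹) := fun g a b h => by
    ext c; rw [hmem, hmem, h]
  have hne1 : ∀ g a : G, a ≠ 1 → g * a * g⁻¹ ≠ 1 := fun g a ha h => ha (conj_eq_one_iff.mp h)
  have hnorm : ∀ x, x ≠ 1 → ∀ g, ∀ y ∈ C x, y ≠ 1 → g * y * g⁻¹ ∈ C x →
      g ∈ normalizer (C x : Set G) := by
    intro x hx g y hy hy1 hg
    have h1 : C (g * y * g⁻¹) = C x := heq x _ hx (hne1 g y hy1) hg
    rw [Subgroup.mem_normalizer_iff]
    intro h
    conv_rhs => rw [← h1, hmem]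
    rw [show g⁻¹ * (g * h * g⁻¹) * g = h by group, heq x y hx hy1 hy]
  have hproper : ∀ x, x ≠ 1 → C x < normalizer (C x : Set G) := by
    intro x hx
    refine lt_of_le_of_ne le_normalizer fun hN => ?_
    have hcard : Nat.card (C x) ≠ 1 := fun h => hx (mem_bot.mp (card_eq_one.mp h ▸ hself x))
    obtain ⟨p, hp, hpd⟩ := Nat.exists_prime_and_dvd hcard
    have : Fact p.Prime := ⟨hp⟩
    obtain ⟨P, hP, y, hy, hy1⟩ := exists_sylow_le (hCC x hx) hpd
    have hle : normalizer ((P : Subgroup G) : Set G) ≤ centralizer ((P : Subgroup G) : Set G) := by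
      intro g hg
      have hgC : g ∈ C x := by
        rw [hN]
        exact hnorm x hx g y (hP hy) hy1 (hP ((Subgroup.mem_normalizer_iff.mp hg y).mp hy))
      exact mem_centralizer_iff.mpr fun b hb => hCA x hx b (hP hb) g hgC
    have hcomp := MonoidHom.ker_transferSylow_isComplement' P hle
    by_cases hk : (MonoidHom.transferSylow P hle).ker = ⊤
    · have h1 := hcomp.disjoint
      rw [hk, top_disjoint] at h1
      exact hy1 (mem_bot.mp (h1 ▸ hy))
    · rw [hsimple _ inferInstance hk] at hcomp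
      exact hCt x hx (eq_top_iff.mpr ((isComplement'_bot_left.mp hcomp) ▸ hP))
  let S := {x : G // x ≠ 1}
  let r : Setoid S :=
    { r := fun x y => ∃ g : G, C (g * x.1 * g⁻¹) = C y.1
      iseqv :=
        { refl := fun x => ⟨1, by simp⟩
          symm := by
            rintro x y ⟨g, hg⟩
            refine ⟨g⁻¹, ?_⟩
            rw [hconj g⁻¹ _ _ hg.symm]
            congr 1
            group
          trans := by
            rintro x y z ⟨g, hg⟩ ⟨h, hh⟩
            refine ⟨h * g, ?_⟩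
            rw [← hh, ← hconj h _ _ hg]
            congr 1
            group } }
  have := Fintype.ofFinite (Quotient r)
  let H : Quotient r → Subgroup G := fun q => C q.out.1
  have hne : Nonempty (Quotient r) := by
    by_contra hc
    rw [not_nonempty_iff] at hc
    exact hab fun a b => by
      have h1 : ∀ g : G, g = 1 := fun g => by_contra fun hg => hc.false (Quotient.mk r ⟨g, hg⟩)
      rw [h1 a, h1 b]
  refine S1526.core (G := G) hodd (fun q => normalizer (H q : Set G)) H (fun q => hproper _ q.out.2)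
    (fun q h => ?_) (fun q x hx h hh => (Subgroup.mem_normalizer_iff.mp hx h).mp hh)
    (fun q h hh hh1 => inf_le_right.trans (hCC _ q.out.2 h hh hh1).le) (fun i j hij => ?_)
    (fun q => ⟨fun g hg y hy hgy => by_contra fun hy1 => hg (hnorm _ q.out.2 g y hy hy1 hgy), rfl⟩)
    (fun g hg => ?_)
  · exact q.out.2 (mem_bot.mp (h ▸ hself _))
  · by_contra hc
    obtain ⟨p, hp, h1, h2⟩ := Nat.Prime.not_coprime_iff_dvd.mp hc
    have : Fact p.Prime := ⟨hp⟩
    obtain ⟨P, hP, y, hy, hy1⟩ := exists_sylow_le (hCC _ i.out.2) h1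
    obtain ⟨Q, hQ, -⟩ := exists_sylow_le (hCC _ j.out.2) h2
    obtain ⟨g, rfl⟩ := MulAction.exists_smul_eq G P Q
    have hgy : g * y * g⁻¹ ∈ C j.out.1 := hQ (by
      rw [Sylow.coe_subgroup_smul]
      exact ⟨y, hy, rfl⟩)
    refine hij ?_
    rw [← Quotient.out_eq i, ← Quotient.out_eq j]
    refine Quotient.sound ⟨g, ?_⟩
    rw [hconj g _ _ (heq _ y i.out.2 hy1 (hP hy)).symm]
    exact heq _ _ j.out.2 (hne1 g y hy1) hgy
  · obtain ⟨k, hk⟩ := Quotient.exact (Quotient.out_eq (Quotient.mk r ⟨g, hg⟩)).symm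
    exact ⟨Quotient.mk r ⟨g, hg⟩, k, show k * g * k⁻¹ ∈ C _ from hk ▸ hself _⟩

theorem result {G : Type*} [Group G] [Finite G] (hodd : Odd (Nat.card G)) (hCA : ∀ x : G, x ≠ 1 → ∀ a ∈ Subgroup.centralizer ({x} : Set G), ∀ b ∈ Subgroup.centralizer ({x} : Set G), a * b = b * a) : Group.IsSolvable G :=
  aux _ G rfl hodd hCA

end Cfsg.Agent.S0182
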