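import Cfsg.Statements.S0200
import Cfsg.Agent.Lib.Involution.BaerSuzuki

set_option autoImplicit false
open Cfsg

namespace Cfsg.Agent.S0200

open Cfsg.Agent.Lib.Involution

/-- An involution lying in no normal 2-subgroup of a finite group inverts a nontrivial element of odd order (a consequence of the Baer–Suzuki Theorem). -/
theorem result {G : Type*} [Group G] [Finite G] (t : G) (ht : orderOf t = 2) (hO : ∀ N : Subgroup G, N.Normal → IsPGroup 2 N → t ∉ N) : ∃ h : G, h ≠ 1 ∧ Odd (orderOf h) ∧ t * h * t⁻¹ = h⁻¹ := by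
  by_contra hno
  have hpg : ∀ g : G, IsPGroup 2 ↥(Subgroup.zpowers t ⊔ (Subgroup.zpowers t).map (MulAut.conj g).toMonoidHom) := by
    intro g
    have ho : orderOf (g * t * g⁻¹) = 2 := (orderOf_conj g t).trans ht
    rw [MonoidHom.map_zpowers, Subgroup.zpowers_eq_closure, Subgroup.zpowers_eq_closure,
      ← Subgroup.closure_union, Set.singleton_union]
    change IsPGroup 2 ↥(Subgroup.closure {t, g * t * g⁻¹})
    obtain ⟨a, b, hb, hab⟩ := Nat.exists_eq_pow_mul_and_not_dvd (orderOf_pos (t * (g * t * g⁻¹))).ne' 2 (by norm_num)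
    have hbodd : Odd b := Nat.not_even_iff_odd.mp (fun h => hb h.two_dvd)
    have hb1 : b = 1 := by
      by_contra hb1
      have ho' : orderOf ((t * (g * t * g⁻¹)) ^ (2 ^ a)) = b := by
        rw [orderOf_pow' _ (by simp), hab, Nat.gcd_mul_right_left, Nat.mul_div_cancel_left _ (by simp)]
      refine hno ⟨(t * (g * t * g⁻¹)) ^ (2 ^ a), ?_, ho'.symm ▸ hbodd, ?_⟩
      · intro h1; rw [h1, orderOf_one] at ho'; exact hb1 ho'.symm
      · rw [← conj_pow, conj_prod ht ho, inv_pow]
    exact isPGroup_two_closure_pair ht ho (a := a) (by rw [hab, hb1, mul_one])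
  have : Fact (Nat.Prime 2) := ⟨Nat.prime_two⟩
  obtain ⟨N, hN, hN2, hle⟩ := baerSuzuki (Subgroup.zpowers t) hpg
  exact hO N hN hN2 (hle (Subgroup.mem_zpowers t))

end Cfsg.Agent.S0200
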