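import Cfsg.Statements.S0214
import Cfsg.Agent.Lib.Involution.StronglyEmbedded

set_option autoImplicit false
open Cfsg

namespace Cfsg.Agent.S0214

open Cfsg.Agent.Lib.Involution

/-- Let H be a proper subgroup of the finite group G and P a nontrivial Sylow 2-subgroup of H. Then H is strongly embedded in G if and only if N_G(X) ≤ H for every nontrivial subgroup X of P. -/
theorem result {G : Type*} [Group G] [Finite G] (H : Subgroup G) (hH : H ≠ ⊤) (P : Sylow 2 ↥H) (hP : (P : Subgroup ↥H) ≠ ⊥) : Cfsg.IsStronglyEmbedded H ↔ (∀ X : Subgroup ↥H, X ≤ (P : Subgroup ↥H) → X ≠ ⊥ → Subgroup.normalizer ((X.map H.subtype : Subgroup G) : Set G) ≤ H) := by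
  have : Fact (Nat.Prime 2) := ⟨Nat.prime_two⟩
  have heven : Even (Nat.card H) := by
    rw [even_iff_two_dvd]
    obtain ⟨x, hx, hx1⟩ := (P : Subgroup H).bot_or_exists_ne_one.resolve_left hP
    obtain ⟨k, hk⟩ := (IsPGroup.iff_orderOf.mp P.isPGroup') ⟨x, hx⟩
    rw [Subgroup.orderOf_mk] at hk
    rcases k with _ | k
    · rw [pow_zero, orderOf_eq_one_iff] at hk; exact absurd hk hx1
    · exact (dvd_pow_self 2 (Nat.succ_ne_zero k)).trans (hk ▸ orderOf_dvd_natCard x)
  rw [se_iff_forall hH heven]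
  constructor
  · intro h X hXP hX n hn
    obtain ⟨x, hx, hx1⟩ := X.bot_or_exists_ne_one.resolve_left hX
    obtain ⟨k, hk⟩ := (IsPGroup.iff_orderOf.mp P.isPGroup') ⟨x, hXP hx⟩
    rw [Subgroup.orderOf_mk] at hk
    obtain ⟨j, rfl⟩ : ∃ j, k = j + 1 := Nat.exists_eq_succ_of_ne_zero (by
      rintro rfl; rw [pow_zero, orderOf_eq_one_iff] at hk; exact hx1 hk)
    have hs : orderOf ((x ^ 2 ^ j : H) : G) = 2 := by
      rw [Subgroup.orderOf_coe, orderOf_pow' _ (by simp), hk, pow_succ, Nat.gcd_mul_right_left,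
        Nat.mul_div_cancel_left _ (by simp)]
    refine h ((x ^ 2 ^ j : H) : G) n hs (x ^ 2 ^ j).2 ?_
    have hmem : n⁻¹ * ((x ^ 2 ^ j : H) : G) * n⁻¹⁻¹ ∈ X.map H.subtype :=
      (Subgroup.mem_normalizer_iff.mp (inv_mem hn) _).mp ⟨_, pow_mem hx _, rfl⟩
    rw [inv_inv] at hmem
    exact Subgroup.map_subtype_le X hmem
  · intro hN s g hs h1 h2
    refine H.inv_mem_iff.mp (mem_of_conj_le H P (fun X => X ≠ ⊥) (fun hle hX h => hX (le_bot_iff.mp (h ▸ hle)))
      (fun a X hX h => hX ((Subgroup.map_eq_bot_iff_of_injective _ (MulAut.conj a).injective).mp h))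
      ?_ (X := Subgroup.zpowers s)
      (IsPGroup.of_card (n := 1) (by rw [Nat.card_zpowers, hs, pow_one]))
      (Subgroup.zpowers_le.mpr h1) (fun h => ne_one hs (Subgroup.zpowers_eq_bot.mp h)) ?_)
    · intro X hX hb
      have he : (X.subgroupOf H).map H.subtype = X :=
        Subgroup.map_subgroupOf_eq_of_le (hX.trans (Subgroup.map_subtype_le _))
      rw [← he]
      refine hN _ ?_ ?_
      · intro w hw
        obtain ⟨v, hv, he'⟩ := hX hw
        exact (H.subtype_injective he') ▸ hv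
      · intro h
        rw [h, Subgroup.map_bot] at he
        exact hb he.symm
    · rw [MonoidHom.map_zpowers, Subgroup.zpowers_le]
      simpa using h2

end Cfsg.Agent.S0214
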