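import Cfsg.Statements.S0223
import Cfsg.Agent.Lib.Involution.StronglyEmbedded

set_option autoImplicit false
open Cfsg

namespace Cfsg.Agent.S0223

open Cfsg.Agent.Lib.Involution

/-- Let H be a proper subgroup of even order of the finite group G. Then H is strongly embedded if and only if (i) C_G(t) ≤ H for every involution t of H and (ii) H controls fusion of its involutions: involutions of H conjugate in G are conjugate in H. -/
theorem result {G : Type*} [Group G] [Finite G] (H : Subgroup G) (hH : H ≠ ⊤) (heven : Even (Nat.card H)) : Cfsg.IsStronglyEmbedded H ↔ ((∀ t ∈ H, orderOf t = 2 → Subgroup.centralizer ({t} : Set G) ≤ H) ∧ (∀ t ∈ H, ∀ s ∈ H, orderOf t = 2 → orderOf s = 2 → IsConj t s → ∃ h ∈ H, h * t * h⁻¹ = s)) := by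
  rw [se_iff_forall hH heven]
  constructor
  · intro h
    refine ⟨fun t ht hto g hg => ?_, fun t ht s hs hto hso hc => ?_⟩
    · refine h t g hto ht ?_
      rw [mul_assoc, ← Subgroup.mem_centralizer_singleton_iff.mp hg, inv_mul_cancel_left]
      exact ht
    · obtain ⟨g, hg⟩ := isConj_iff.mp hc
      refine ⟨g, H.inv_mem_iff.mp (h t g⁻¹ hto ht ?_), hg⟩
      rw [inv_inv, hg]; exact hs
  · rintro ⟨hC, hF⟩ s g hs h1 h2
    have ho : orderOf (g⁻¹ * s * g) = 2 := by simpa using (orderOf_conj g⁻¹ s).trans hs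
    obtain ⟨h, hh, he⟩ := hF _ h1 _ h2 hs ho (isConj_iff.mpr ⟨g⁻¹, by simp⟩)
    have hgh : g * h ∈ H := by
      refine hC s h1 hs (Subgroup.mem_centralizer_singleton_iff.mpr ?_)
      calc g * h * s = g * (h * s * h⁻¹) * h := by group
        _ = s * (g * h) := by rw [he]; group
    simpa using H.mul_mem hgh (H.inv_mem hh)

end Cfsg.Agent.S0223
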