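import Cfsg.Statements.S0224
import Cfsg.Agent.Lib.Involution.StronglyEmbedded

set_option autoImplicit false
open Cfsg

namespace Cfsg.Agent.S0224

open Cfsg.Agent.Lib.Involution

/-- Let H be a proper subgroup of even order of the finite group G. Then H is strongly embedded if and only if each involution of H fixes exactly one point (namely the coset H) in the action of G on the cosets of H. -/
theorem result {G : Type*} [Group G] [Finite G] (H : Subgroup G) (hH : H ≠ ⊤) (heven : Even (Nat.card H)) : Cfsg.IsStronglyEmbedded H ↔ ∀ t ∈ H, orderOf t = 2 → Nat.card {c : G ⧸ H // t • c = c} = 1 := by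
  have hfix : ∀ t g : G, t • (QuotientGroup.mk g : G ⧸ H) = QuotientGroup.mk g ↔ g⁻¹ * t * g ∈ H := by
    intro t g
    rw [MulAction.Quotient.smul_mk, smul_eq_mul, QuotientGroup.eq, ← H.inv_mem_iff]
    simp [mul_assoc]
  rw [se_iff_forall hH heven]
  constructor
  · intro h t ht hto
    rw [Nat.card_eq_one_iff_exists]
    refine ⟨⟨QuotientGroup.mk 1, (hfix t 1).mpr (by simpa using ht)⟩, ?_⟩
    rintro ⟨c, hc⟩
    induction c using QuotientGroup.induction_on with
    | H g =>
      apply Subtype.ext
      simp only [QuotientGroup.eq, mul_one, H.inv_mem_iff]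
      exact h t g hto ht ((hfix t g).mp hc)
  · intro h s g hs h1 h2
    have := (Nat.card_eq_one_iff_unique.mp (h s h1 hs)).1
    have e := congrArg Subtype.val (this.elim
      ⟨QuotientGroup.mk 1, (hfix s 1).mpr (by simpa using h1)⟩ ⟨QuotientGroup.mk g, (hfix s g).mpr h2⟩)
    simpa [QuotientGroup.eq] using e

end Cfsg.Agent.S0224
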