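import Cfsg.Statements.S0493
import Cfsg.Agent.Lib.PSLTwo.RecogCount

set_option autoImplicit false
open Cfsg

namespace Cfsg.Agent.S0493

/-- The primes up to 100. -/
def smallPrimes : List ℕ := [2, 3, 5, 7, 11, 13, 17, 19, 23, 29, 31, 37, 41, 43, 47, 53, 59, 61, 67, 71, 73, 79, 83, 89, 97]

set_option synthInstance.maxSize 4000 in
set_option synthInstance.maxHeartbeats 200000 in
theorem sieve : ∀ n < 101, 1 < n → n ≠ 60 → ∃ p ∈ smallPrimes, ∃ k < 7, 1 ≤ k ∧ p ^ k ∣ n ∧ ¬ p ∣ n / p ^ k ∧
    (n = p ^ k ∨ (p = 2 ∧ k = 1) ∨ ∀ d < n / p ^ k + 1, d ∣ n / p ^ k → d % p = 1 → 1 < d →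
      ¬ 2 * n ∣ d.factorial ∨ (d = n / p ^ k ∧ k = 1)) := by
  decide +kernel

theorem smallPrimes_prime : ∀ p ∈ smallPrimes, p.Prime := by
  simp only [smallPrimes, List.forall_mem_cons, List.not_mem_nil, false_imp_iff, implies_true, and_true]
  norm_num

/-- A finite simple group of order at most 100 that is not cyclic has order 60. -/
theorem result {G : Type*} [Group G] [Finite G] [IsSimpleGroup G]
    (hG : ¬ IsCyclic G) (h : Nat.card G ≤ 100) : Nat.card G = 60 := by
  classical
  have hnc : ¬ IsMulCommutative G := fun hc => hG (by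
    letI : CommGroup G := { ‹Group G› with mul_comm := hc.is_comm.comm }
    exact isCyclic_of_prime_card (p := Nat.card G) (hp := ⟨IsSimpleGroup.prime_card⟩) rfl)
  by_contra hne
  obtain ⟨p, hpL, k, -, hk, ⟨m, hm⟩, hpm, hcase⟩ :=
    sieve (Nat.card G) (by omega) Finite.one_lt_card hne
  haveI : Fact p.Prime := ⟨smallPrimes_prime p hpL⟩
  have hp := (Fact.out : p.Prime)
  have hdiv : Nat.card G / p ^ k = m := by rw [hm, Nat.mul_div_cancel_left _ (pow_pos hp.pos k)]
  rw [hdiv] at hpm hcase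
  have hpd : p ∣ Nat.card G := hm ▸ dvd_mul_of_dvd_left (dvd_pow_self p (by omega)) m
  obtain ⟨P⟩ : Nonempty (Sylow p G) := inferInstance
  rcases hcase with he | ⟨rfl, rfl⟩ | hall
  · have hpg : IsPGroup p G := IsPGroup.of_card he
    rcases (inferInstance : (Subgroup.center G).Normal).eq_bot_or_eq_top with hb | ht
    · exact (Subgroup.nontrivial_iff_ne_bot _).1 hpg.center_nontrivial hb
    · exact hnc (Subgroup.center_eq_top_iff.1 ht)
  · obtain ⟨e, he1, he, -, -⟩ := Lib.PSLTwo.sylow_prime_data hnc P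
      (by simpa using Lib.SmallSimple.card_sylow_subgroup P hm hpm)
    have := Nat.le_of_dvd (by norm_num) he
    omega
  · obtain ⟨h1, h2, h3⟩ := Lib.SmallSimple.card_sylow_facts (p := p) hnc hpd
    have hd := Lib.PSLTwo.card_sylow_dvd hm hpm
    have hm0 : 0 < m := Nat.pos_of_ne_zero fun e => by rw [e, mul_zero] at hm; exact Nat.card_pos.ne' hm
    rcases hall _ (Nat.lt_succ_of_le (Nat.le_of_dvd hm0 hd)) hd h2 h1 with h' | ⟨h', rfl⟩
    · exact h' h3
    · have hP : Nat.card (P : Subgroup G) = p := by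
        simpa using Lib.SmallSimple.card_sylow_subgroup P hm hpm
      refine Lib.SmallSimple.card_sylow_ne_index hnc P hpd ?_ ?_
      · haveI := isCyclic_of_prime_card hP; infer_instance
      · have hi := (P : Subgroup G).card_mul_index
        rw [hP] at hi
        rw [h']
        rw [pow_one] at hm
        exact (Nat.eq_of_mul_eq_mul_left hp.pos (hi.trans hm)).symm

end Cfsg.Agent.S0493
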