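import Cfsg.Statements.S0496
import Cfsg.Agent.Lib.SmallSimple.Small1092.Reduce
import Cfsg.Agent.Lib.SmallSimple.Small1092.Orders
import Cfsg.Agent.Lib.SmallSimple.Small1092.Order720

set_option autoImplicit false
open Cfsg

namespace Cfsg.Agent.S0496

/-- A non-abelian finite simple group of order at most 1092 has order 60, 168, 360, 504, 660 or 1092. -/
theorem result {G : Type*} [Group G] [Finite G] [IsSimpleGroup G]
    (hG : ¬ IsMulCommutative G) (h : Nat.card G ≤ 1092) :
    Nat.card G = 60 ∨ Nat.card G = 168 ∨ Nat.card G = 360 ∨ Nat.card G = 504 ∨ Nat.card G = 660 ∨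
      Nat.card G = 1092 := by
  open Cfsg.Agent.Lib.SmallSimple.Small1092 in
  have hr := mem_rest hG h
  open Cfsg.Agent.Lib.SmallSimple.Small1092 in
  obtain ⟨n1, n2, n3⟩ := no_sylow_number hG
  open Cfsg.Agent.Lib.SmallSimple.Small1092 in
  obtain ⟨n4, n5⟩ := eleven hG
  open Cfsg.Agent.Lib.SmallSimple.Small1092 in
  have n6 := ne_420 hG
  open Cfsg.Agent.Lib.SmallSimple.Small1092 in
  have n7 := ne_840 hG
  open Cfsg.Agent.Lib.SmallSimple.Small1092 in
  have n8 := ne_1008 hG
  open Cfsg.Agent.Lib.SmallSimple.Small1092 in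
  have n9 := ne_1080 hG
  open Cfsg.Agent.Lib.SmallSimple.Small1092 in
  have n10 := ne_720 hG
  simp only [Cfsg.Agent.Lib.SmallSimple.Small1092.rest, List.mem_cons, List.not_mem_nil, or_false] at hr
  omega

end Cfsg.Agent.S0496
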