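import Cfsg.Statements.S1480
import Cfsg.Agent.Lib.Components.CentFixed
import Cfsg.Agent.Lib.Components.Signalizer
import Cfsg.Agent.Lib.Components.Local
import Cfsg.Agent.Lib.Thompson.Constrained
import Cfsg.Agent.Lib.OddLocal.Transitivity

set_option autoImplicit false
set_option linter.style.haveILetI false
set_option linter.unusedSectionVars false
open Cfsg Subgroup Cfsg.Agent.Lib
open scoped commutatorElement Pointwise

namespace Cfsg.Agent.S1480

/-- In a `p`-constrained group, a `p'`-subgroup normalized by `E` lies in the `p'`-core. -/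
lemma invariant_le_core {X : Type*} [Group X] [Finite X] {p : ℕ} [hp : Fact p.Prime]
    (hX : IsPConstrained p X)
    (hclass : p = 2 → ∀ T : Subgroup X, IsPGroup p ↥T → ⁅⁅T, T⁆, T⁆ = ⊥)
    {E Q : Subgroup X} (hE : IsPGroup p ↥E) (hEc : ∀ a ∈ E, ∀ b ∈ E, a * b = b * a)
    (hfull : ∀ x ∈ centralizer (E : Set X), IsPGroup p ↥(zpowers x) → x ∈ E)
    (hQ : (Nat.card ↥Q).Coprime p) (hEQ : E ≤ normalizer (Q : Set X)) : Q ≤ pPrimeCore p X := by
  let f := QuotientGroup.mk' (pPrimeCore p X)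
  let R := pCore p (X ⧸ pPrimeCore p X)
  have hch := Thompson.isPConstrained_iff.1 hX
  have hR : IsPGroup p ↥R := Components.pCore_isPGroup p
  have hE' : IsPGroup p ↥(E.map f) := hE.map f
  have hQ' : (Nat.card ↥(Q.map f)).Coprime p := hQ.coprime_dvd_left (card_map_dvd _ _)
  have hN : ∀ H : Subgroup (X ⧸ pPrimeCore p X), H ≤ normalizer (R : Set (X ⧸ pPrimeCore p X)) :=
    fun H => by rw [normalizer_eq_top]; exact le_top
  have hEQ' : E.map f ≤ normalizer ((Q.map f : Subgroup (X ⧸ pPrimeCore p X)) : Set (X ⧸ pPrimeCore p X)) :=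
    (map_mono hEQ).trans (le_normalizer_map f)
  have hRE : R ⊓ centralizer ((E.map f : Subgroup (X ⧸ pPrimeCore p X)) : Set (X ⧸ pPrimeCore p X)) ≤ E.map f := by
    rintro y ⟨hyR, hyC⟩
    rw [← Components.map_centralizer_pGroup hE (Components.pPrimeCore_coprime p)] at hyC
    obtain ⟨x, hx, rfl⟩ := hyC
    obtain ⟨a, m, hm, hxm⟩ := Nat.exists_eq_pow_mul_and_not_dvd (orderOf_pos x).ne' p hp.out.ne_one
    obtain ⟨k, hk⟩ := hR ⟨f x, hyR⟩
    have hk' : orderOf (f x) ∣ p ^ k :=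
      orderOf_dvd_of_pow_eq_one (by simpa using congrArg Subtype.val hk)
    have hxm' : x ^ m ∈ E := hfull _ (pow_mem hx m) fun z => by
      obtain ⟨i, hi⟩ := mem_zpowers_iff.1 z.2
      refine ⟨a, Subtype.ext ?_⟩
      show (z : X) ^ p ^ a = 1
      rw [← hi, ← zpow_natCast, ← zpow_mul, mul_comm, zpow_mul, zpow_natCast, ← pow_mul,
        show m * p ^ a = orderOf x by rw [hxm, mul_comm], pow_orderOf_eq_one, one_zpow]
    obtain ⟨u, hu⟩ := exists_pow_eq_self_of_coprime (x := f x) (n := m)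
      ((((Nat.Prime.coprime_iff_not_dvd hp.out).2 hm).pow_left k).coprime_dvd_left hk').symm
    rw [← map_pow] at hu
    rw [← hu]
    exact pow_mem (mem_map_of_mem f hxm') u
  have hfix : R ⊓ centralizer ((E.map f : Subgroup (X ⧸ pPrimeCore p X)) : Set (X ⧸ pPrimeCore p X)) ≤
      centralizer ((Q.map f : Subgroup (X ⧸ pPrimeCore p X)) : Set (X ⧸ pPrimeCore p X)) := by
    rw [← commutator_eq_bot_iff_le_centralizer]
    refine Components.commutator_eq_bot_of_disjoint_normalizing ?_ ?_ ?_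
    · exact le_bot_iff.1 ((inf_le_inf_right _ inf_le_left).trans
        (Components.inf_eq_bot_of_pGroup_coprime hR hQ').le)
    · exact hRE.trans hEQ'
    · intro z hz
      refine mem_normalizer_iff.2 fun v => ?_
      have key : ∀ v, v ∈ R ⊓ centralizer ((E.map f : Subgroup (X ⧸ pPrimeCore p X)) : Set (X ⧸ pPrimeCore p X)) →
          z * v * z⁻¹ = v := by
        intro v hv
        have hvE := hRE hv
        have h1 : z * v * z⁻¹ * v⁻¹ ∈ R ⊓ Q.map f := mem_inf.2
          ⟨mul_mem ((mem_normalizer_iff.1 (hN _ hz) v).1 hv.1) (inv_mem hv.1), by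
            have e : z * v * z⁻¹ * v⁻¹ = z * (v * z⁻¹ * v⁻¹) := by group
            rw [e]
            exact mul_mem hz ((mem_normalizer_iff.1 (hEQ' hvE) z⁻¹).1 (inv_mem hz))⟩
        rw [Components.inf_eq_bot_of_pGroup_coprime hR hQ', mem_bot] at h1
        exact mul_inv_eq_one.1 h1
      constructor
      · intro hv; rw [key v hv]; exact hv
      · intro hv
        have := key _ hv
        have e : z * v * z⁻¹ = v := by
          calc z * v * z⁻¹ = z⁻¹ * (z * (z * v * z⁻¹) * z⁻¹) * z := by group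
            _ = z⁻¹ * (z * v * z⁻¹) * z := by rw [this]
            _ = v := by group
        rwa [e] at hv
  have hle : R ≤ centralizer ((Q.map f : Subgroup (X ⧸ pPrimeCore p X)) : Set (X ⧸ pPrimeCore p X)) := by
    by_cases hp2 : p = 2
    · refine Components.le_centralizer_of_fixed_class_two hE' ?_ hQ' hEQ' hR (hN _) (hN _) hfix ?_
      · rintro _ ⟨a, ha, rfl⟩ _ ⟨b, hb, rfl⟩
        rw [← map_mul, ← map_mul, hEc a ha b hb]
      · have hT : IsPGroup p ↥(R ⊔ E.map f) := hR.to_sup_of_normal_left' hE' (hN _)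
        obtain ⟨S, hS⟩ := hT.exists_le_sylow
        obtain ⟨P, hP⟩ := Sylow.mapSurjective_surjective (f := f) (QuotientGroup.mk'_surjective _) p S
        rw [← hP, Sylow.coe_mapSurjective] at hS
        refine le_bot_iff.1 ((commutator_mono (commutator_mono hS hS) hS).trans ?_)
        rw [← map_commutator, ← map_commutator, hclass hp2 _ P.2, Subgroup.map_bot]
    · exact Components.le_centralizer_of_fixed_odd hp2 hE' hQ' hEQ' hR (hN _) (hN _) hfix
  have h1 : Q.map f ≤ ⊥ := by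
    rw [← Components.inf_eq_bot_of_pGroup_coprime hR hQ']
    exact le_inf ((le_centralizer_iff.1 hle).trans hch) le_rfl
  rwa [le_bot_iff, Subgroup.map_eq_bot_iff, QuotientGroup.ker_mk'] at h1

variable {G : Type*} [Group G] [Finite G] {p : ℕ} [hp : Fact p.Prime]

lemma mem_core_of_centralizes {E : Subgroup G} (hEp : IsPGroup p ↥E)
    (hEfull : ∀ x ∈ centralizer (E : Set G), IsPGroup p ↥(zpowers x) → x ∈ E)
    (hEc : ∀ a ∈ E, ∀ b ∈ E, a * b = b * a) {c : G} (hc : c ∈ centralizer (E : Set G))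
    (hco : (orderOf c).Coprime p) :
    c ∈ piCoreOf (primesNotDvd p) (centralizer (E : Set G)) := by
  let C := centralizer (E : Set G)
  have hEC : E ≤ C := fun a ha => mem_centralizer_iff.2 fun b hb => hEc b hb a ha
  let P : Sylow p ↥C :=
    { toSubgroup := E.subgroupOf C
      isPGroup' := hEp.comap_subtype
      is_maximal' := fun {Q} hQ hle => le_antisymm (fun x hx => mem_subgroupOf.2 (hEfull _ x.2 fun z => by
        obtain ⟨i, hi⟩ := mem_zpowers_iff.1 z.2
        obtain ⟨k, hk⟩ := hQ ⟨x, hx⟩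
        have hk' : (x : G) ^ p ^ k = 1 := by simpa using congrArg (fun y : ↥Q => ((y : ↥C) : G)) hk
        refine ⟨k, Subtype.ext ?_⟩
        show (z : G) ^ p ^ k = 1
        rw [← hi, ← zpow_natCast, ← zpow_mul, mul_comm, zpow_mul, zpow_natCast, hk', one_zpow])) hle }
  have hP : normalizer (P : Set ↥C) ≤ centralizer (P : Set ↥C) := fun x _ =>
    mem_centralizer_iff.2 fun y hy => Subtype.ext
      (mem_centralizer_iff.1 x.2 _ (mem_subgroupOf.1 hy))
  let τ := MonoidHom.transferSylow P hP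
  have hker : τ.ker ≤ piCore (primesNotDvd p) ↥C := OddLocal.le_piCore fun r hr hd =>
    ⟨hr, fun h => MonoidHom.not_dvd_card_ker_transferSylow P hP
      ((Nat.prime_dvd_prime_iff_eq hr hp.out).1 h ▸ hd)⟩
  refine ⟨⟨c, hc⟩, hker ?_, rfl⟩
  rw [MonoidHom.mem_ker]
  obtain ⟨k, hk⟩ := P.2 (τ ⟨c, hc⟩)
  exact orderOf_eq_one_iff.1 (Nat.eq_one_of_dvd_coprimes (hco.pow_right k)
    ((orderOf_map_dvd τ _).trans (by rw [Subgroup.orderOf_mk]))
    (orderOf_dvd_of_pow_eq_one hk))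

variable (hloc : ∀ T : Subgroup G, IsPGroup p T → T ≠ ⊥ → IsPConstrained p ↥(normalizer (T : Set G)))
  (hclass : p = 2 → ∀ T : Subgroup G, IsPGroup p ↥T → ⁅⁅T, T⁆, T⁆ = ⊥)
  {E : Subgroup G} (hEp : IsPGroup p ↥E) (hEc : ∀ a ∈ E, ∀ b ∈ E, a * b = b * a)
  (hEfull : ∀ x ∈ centralizer (E : Set G), IsPGroup p ↥(zpowers x) → x ∈ E)
include hloc hclass hEp hEc hEfull

lemma exists_local_core {a : G} (ha : a ∈ E) (ha1 : a ≠ 1) :
    ∃ L : Subgroup G, (Nat.card ↥L).Coprime p ∧ E ≤ normalizer (L : Set G) ∧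
      ∀ Y : Subgroup G, (Nat.card ↥Y).Coprime p → E ≤ normalizer (Y : Set G) →
        Y ≤ centralizer {a} → Y ≤ L := by
  let H := normalizer (zpowers a : Set G)
  have hEH : E ≤ H := fun b hb => Subgroup.centralizer_le_normalizer _ (mem_centralizer_iff.2
    fun x hx => hEc x ((zpowers_le.2 ha) hx) b hb)
  refine ⟨(pPrimeCore p ↥H).map H.subtype, ?_, ?_, fun Y hY hEY hYa => ?_⟩
  · rw [card_map_of_injective (subtype_injective _)]; exact Components.pPrimeCore_coprime p
  · have := le_normalizer_map (H := pPrimeCore p ↥H) H.subtype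
    rw [normalizer_eq_top, ← MonoidHom.range_eq_map, range_subtype] at this
    exact hEH.trans this
  · have hYH : Y ≤ H := hYa.trans (by
      rw [← centralizer_closure, ← zpowers_eq_closure]; exact Subgroup.centralizer_le_normalizer _)
    rw [← map_subgroupOf_eq_of_le hYH]
    refine map_mono (invariant_le_core (E := E.subgroupOf H)
      (hloc _ (hEp.to_le (zpowers_le.2 ha)) (by simpa using ha1)) ?_ hEp.comap_subtype
      (fun x hx y hy => Subtype.ext (hEc x hx y hy)) ?_ ?_ ?_)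
    · intro hp2 T hT
      refine (map_eq_bot_iff_of_injective _ H.subtype_injective).1 ?_
      rw [map_commutator, map_commutator]
      exact hclass hp2 _ (hT.map _)
    · intro x hx hxp
      refine mem_subgroupOf.2 (hEfull _ (mem_centralizer_iff.2 fun b hb =>
        congrArg Subtype.val (mem_centralizer_iff.1 hx ⟨b, hEH hb⟩ (mem_subgroupOf.2 hb))) ?_)
      have := hxp.map H.subtype
      rwa [MonoidHom.map_zpowers] at this
    · rwa [Nat.card_congr (subgroupOfEquivOfLe hYH).toEquiv]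
    · exact (comap_mono hEY).trans (le_normalizer_comap H.subtype)

theorem conj_max {A : Subgroup G} (hAE : A ≤ E) (hA : IsElementaryAbelian p A)
    (hA3 : p ^ 3 ≤ Nat.card ↥A) {q : ℕ} [Fact q.Prime] (hqp : q ≠ p) (Q₁ Q₂ : Subgroup G)
    (h₁ : Q₁ ∈ maxInvSubgroups ⊤ E {q}) (h₂ : Q₂ ∈ maxInvSubgroups ⊤ E {q}) :
    ∃ k ∈ piCoreOf (primesNotDvd p) (centralizer (E : Set G)), MulAut.conj k • Q₁ = Q₂ := by
  induction h : Nat.card G - Nat.card ↥(Q₁ ⊓ Q₂) using Nat.strongRecOn generalizing Q₁ Q₂ with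
  | ind n ih =>
  subst h
  by_cases he : Q₁ = Q₂
  · exact ⟨1, one_mem _, by rw [map_one, one_smul, he]⟩
  let D := Q₁ ⊓ Q₂
  have h1q := OddLocal.isPGroup_of_invSubgroup h₁.1
  have h2q := OddLocal.isPGroup_of_invSubgroup h₂.1
  have hD1 : D ≠ Q₁ := fun e => he (h₁.2 Q₂ h₂.1 (e ▸ inf_le_right)).symm
  have hD2 : D ≠ Q₂ := fun e => he (h₂.2 Q₁ h₁.1 (e ▸ inf_le_left))
  have hED : E ≤ normalizer (D : Set G) :=
    (le_inf h₁.1.2.2 h₂.1.2.2).trans inf_normalizer_le_normalizer_inf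
  let N := normalizer (D : Set G)
  have hEN : ∀ {Q : Subgroup G}, E ≤ normalizer (Q : Set G) →
      E ≤ normalizer ((N ⊓ Q : Subgroup G) : Set G) :=
    fun hQ => (le_inf (hED.trans le_normalizer) hQ).trans inf_normalizer_le_normalizer_inf
  have hco : ∀ {Q : Subgroup G}, IsPGroup q ↥Q → (Nat.card ↥Q).Coprime p := fun {Q} hQ => by
    obtain ⟨k, hk⟩ := IsPGroup.iff_card.1 hQ
    rw [hk]
    exact ((Nat.coprime_primes (Fact.out : q.Prime) hp.out).2 hqp).pow_left k
  have hcA : ∀ {Q : Subgroup G}, IsPGroup q ↥Q → (Nat.card ↥A).Coprime (Nat.card ↥Q) := fun hQ =>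
    Components.Sig.coprime_elem hA ((Nat.Prime.coprime_iff_not_dvd hp.out).1 (hco hQ).symm)
  obtain ⟨a, ha, ha1, hW1, hW2⟩ := Components.Sig.exists_common_fixed hA hA3 (D := D)
    (hcA (h1q.to_inf_right (H := N))) (hcA (h2q.to_inf_right (H := N)))
    (hAE.trans (hEN h₁.1.2.2)) (hAE.trans (hEN h₂.1.2.2))
    (Components.Sig.not_normalizer_inf_le h1q inf_le_left hD1)
    (Components.Sig.not_normalizer_inf_le h2q inf_le_right hD2)
  let C := centralizer ({a} : Set G)
  have hEC : E ≤ normalizer (C : Set G) :=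
    le_trans (fun b hb => mem_centralizer_singleton_iff.2 (hEc b hb a (hAE ha))) le_normalizer
  obtain ⟨L, hLc, hEL, hLmax⟩ := exists_local_core hloc hclass hEp hEc hEfull (hAE ha) ha1
  let X : Subgroup G := L ⊓ N
  have hXE : E ≤ normalizer (X : Set G) :=
    (le_inf hEL (hED.trans le_normalizer)).trans inf_normalizer_le_normalizer_inf
  have hXc : (Nat.card ↥X).Coprime p := hLc.coprime_dvd_left (card_dvd_of_le inf_le_left)
  have hcop : (Nat.card ↥E).Coprime (Nat.card ↥X) := by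
    obtain ⟨k, hk⟩ := IsPGroup.iff_card.1 hEp
    rw [hk]; exact hXc.symm.pow_left k
  have hsolv : Group.IsSolvable ↥E :=
    Group.isSolvable_of_comm fun x y => Subtype.ext (hEc x x.2 y y.2)
  have key : ∀ {Q : Subgroup G}, E ≤ normalizer (Q : Set G) → IsPGroup q ↥Q →
      ∃ S : Sylow q ↥X, N ⊓ Q ⊓ C ≤ (S : Subgroup ↥X).map X.subtype ∧
        E ≤ normalizer (((S : Subgroup ↥X).map X.subtype : Subgroup G) : Set G) := fun {Q} hQ hq =>
    Coprime.exists_invariant_sylow_ge hXE hcop (Or.inl hsolv)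
      (le_inf (hLmax _ ((hco hq).coprime_dvd_left (card_dvd_of_le (inf_le_left.trans inf_le_right)))
          ((le_inf (hEN hQ) hEC).trans inf_normalizer_le_normalizer_inf) inf_le_right)
        (inf_le_left.trans inf_le_left))
      (hq.to_le (inf_le_left.trans inf_le_right))
      ((le_inf (hEN hQ) hEC).trans inf_normalizer_le_normalizer_inf)
  obtain ⟨S₁, hS₁, hS₁E⟩ := key h₁.1.2.2 h1q
  obtain ⟨S₂, hS₂, hS₂E⟩ := key h₂.1.2.2 h2q
  obtain ⟨c, hc, hcS⟩ := Coprime.exists_centralizer_conj_sylow hXE hcop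
    (Or.inl hsolv) S₂ S₁ hS₂E hS₁E
  let S : Subgroup G := (S₁ : Subgroup ↥X).map X.subtype
  have hSN : S ≤ N := (map_subtype_le _).trans inf_le_right
  have hRq : IsPGroup q ↥(D ⊔ S) :=
    (h1q.to_inf_left : IsPGroup q ↥D).to_sup_of_normal_left' (S₁.2.map _) hSN
  obtain ⟨Q₃, h₃, hRQ⟩ := OddLocal.exists_max_invariant (A := E) hRq
    ((le_inf hED hS₁E).trans fun g hg => Coprime.mem_normalizer_of_conj_smul_eq (by
      rw [Subgroup.smul_sup, Coprime.conj_smul_eq_self hg.1, Coprime.conj_smul_eq_self hg.2]))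
  have hcK : (c : G) ∈ piCoreOf (primesNotDvd p) (centralizer (E : Set G)) :=
    mem_core_of_centralizes hEp hEfull hEc hc
      (hXc.coprime_dvd_left (Subgroup.orderOf_dvd_natCard _ c.2))
  have hcD : MulAut.conj (c : G) • D = D := Coprime.conj_smul_eq_self c.2.2
  have hlt : ∀ {W P : Subgroup G}, ¬ W ≤ D → W ≤ P → D ≤ P → Nat.card ↥D < Nat.card ↥P := by
    intro W P hW hWP hDP
    refine lt_of_le_of_ne (card_le_of_le hDP) fun e => hW ?_
    exact hWP.trans (eq_of_le_of_card_ge hDP e.ge).ge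
  obtain ⟨d, hd, hd13⟩ := ih (Nat.card G - Nat.card ↥(Q₁ ⊓ Q₃)) (by
      have h1 := hlt hW1 (le_inf (inf_le_left.trans inf_le_right)
        ((hS₁.trans le_sup_right).trans hRQ)) (le_inf inf_le_left (le_sup_left.trans hRQ) : D ≤ Q₁ ⊓ Q₃)
      have h2 := card_le_card_group (Q₁ ⊓ Q₃)
      show Nat.card G - _ < Nat.card G - Nat.card ↥D
      omega) Q₁ Q₃ h₁ h₃ rfl
  let Q₂' := MulAut.conj (c : G) • Q₂
  have h₂' : Q₂' ∈ maxInvSubgroups ⊤ E {q} :=
    OddLocal.maxInvSubgroups_conj h₂ (Subgroup.centralizer_le_normalizer _ hc)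
  have hW2' : ¬ MulAut.conj (c : G) • (N ⊓ Q₂ ⊓ C) ≤ D := fun hle => hW2 (by
    rw [← hcD] at hle
    exact pointwise_smul_le_pointwise_smul_iff.1 hle)
  obtain ⟨e, he', hd32⟩ := ih (Nat.card G - Nat.card ↥(Q₃ ⊓ Q₂')) (by
      have hle : MulAut.conj (c : G) • (N ⊓ Q₂ ⊓ C) ≤ Q₃ ⊓ Q₂' := by
        refine le_inf ((le_trans ?_ le_sup_right).trans hRQ)
          (pointwise_smul_le_pointwise_smul_iff.2 (inf_le_left.trans inf_le_right))
        show _ ≤ (S₁ : Subgroup ↥X).map X.subtype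
        have hcS' : MulAut.conj (c : G) • (S₂ : Subgroup ↥X).map X.subtype =
            (S₁ : Subgroup ↥X).map X.subtype := by
          rw [← hcS]; exact (Coprime.map_conj_smul _ _ _).symm
        rw [← hcS']
        exact pointwise_smul_le_pointwise_smul_iff.2 hS₂
      have hDle : D ≤ Q₃ ⊓ Q₂' := le_inf (le_sup_left.trans hRQ)
        (hcD.ge.trans (pointwise_smul_le_pointwise_smul_iff.2 inf_le_right))
      have h1 := hlt hW2' hle hDle
      have h2 := card_le_card_group (Q₃ ⊓ Q₂')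
      show Nat.card G - _ < Nat.card G - Nat.card ↥D
      omega) Q₃ Q₂' h₃ h₂' rfl
  refine ⟨(c : G)⁻¹ * e * d, mul_mem (mul_mem (inv_mem hcK) he') hd, ?_⟩
  rw [Coprime.conj_smul_mul, Coprime.conj_smul_mul, hd13, hd32, Coprime.conj_inv_smul_smul]

omit hloc hclass hEp hEc hEfull

theorem result {G : Type*} [Group G] [Finite G] (p : ℕ) [Fact p.Prime]
    (hloc : ∀ T : Subgroup G, IsPGroup p T → T ≠ ⊥ → Cfsg.IsPConstrained p ↥(Subgroup.normalizer (T : Set G)))
    (h2 : p = 2 → ∀ S : Sylow p G, Group.IsNilpotent (S : Subgroup G) ∧ Group.nilpotencyClass (S : Subgroup G) ≤ 2)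
    (E : Subgroup G) (hEp : IsPGroup p E) (hEc : IsMulCommutative E) (hE3 : ¬ Cfsg.PRankLE p 2 E)
    (hEfull : ∀ x ∈ Subgroup.centralizer (E : Set G), IsPGroup p (Subgroup.zpowers x) → x ∈ E)
    (q : ℕ) [Fact q.Prime] (hqp : q ≠ p) :
    ∀ Q₁ ∈ Cfsg.maxInvSubgroups ⊤ E {q}, ∀ Q₂ ∈ Cfsg.maxInvSubgroups ⊤ E {q},
        ∃ k ∈ Cfsg.piCoreOf (Cfsg.primesNotDvd p) (Subgroup.centralizer (E : Set G)), Q₂ = Q₁.map (MulAut.conj k).toMonoidHom := by
  intro Q₁ h₁ Q₂ h₂
  have hEc' : ∀ a ∈ E, ∀ b ∈ E, a * b = b * a := fun a ha b hb =>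
    congrArg Subtype.val (hEc.1.comm ⟨a, ha⟩ ⟨b, hb⟩)
  have hclass : p = 2 → ∀ T : Subgroup G, IsPGroup p ↥T → ⁅⁅T, T⁆, T⁆ = ⊥ := by
    intro hp2 T hT
    obtain ⟨S, hS⟩ := hT.exists_le_sylow
    obtain ⟨hn, hc⟩ := h2 hp2 S
    have h := Subgroup.lowerCentralSeries_eq_bot_iff_nilpotencyClass_le.2 hc
    rw [Subgroup.lowerCentralSeries_succ, Subgroup.top_lowerCentralSeries_one, _root_.commutator] at h
    have h' := congrArg (Subgroup.map (S : Subgroup G).subtype) h
    rw [map_commutator, map_commutator, Subgroup.map_bot, ← MonoidHom.range_eq_map, range_subtype] at h'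
    exact le_bot_iff.1 ((commutator_mono (commutator_mono hS hS) hS).trans h'.le)
  simp only [PRankLE, not_forall, not_le] at hE3
  obtain ⟨B, hBc, hBp, hB⟩ := hE3
  have hA : IsElementaryAbelian p (B.map E.subtype) := by
    refine ⟨IsMulCommutative.of_setLike_mul_comm ?_, ?_⟩
    · rintro _ ⟨a, -, rfl⟩ _ ⟨b, -, rfl⟩
      exact hEc' a a.2 b b.2
    · rintro _ ⟨a, ha, rfl⟩
      exact congrArg Subtype.val (hBp a ha)
  have hA3 : p ^ 3 ≤ Nat.card ↥(B.map E.subtype) := by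
    obtain ⟨m, hm⟩ := Components.Sig.card_eq_pow hA
    rw [hm]
    rw [← card_map_of_injective E.subtype_injective, hm] at hB
    exact Nat.pow_le_pow_right (Fact.out : p.Prime).pos
      ((Nat.pow_lt_pow_iff_right (Fact.out : p.Prime).one_lt).1 hB)
  obtain ⟨k, hk, hk'⟩ := conj_max hloc hclass hEp hEc' hEfull (map_subtype_le B) hA hA3 hqp Q₁ Q₂ h₁ h₂
  exact ⟨k, hk, hk'.symm⟩

end Cfsg.Agent.S1480
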