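import Cfsg.Statements.S0522
import Cfsg.Agent.S1480
import Cfsg.Agent.S0629
import Cfsg.Agent.Lib.HallHigman.Solvable

set_option autoImplicit false
open Cfsg

namespace Cfsg.Agent.S0522

open Subgroup

lemma isPGroup_iff_primes {X : Type*} [Group X] [Finite X] (q : ℕ) [hq : Fact q.Prime]
    (Q : Subgroup X) : IsPGroup q Q ↔ ∀ r : ℕ, r.Prime → r ∣ Nat.card Q → r ∈ ({q} : Set ℕ) := by
  constructor
  · intro h r hr hd
    obtain ⟨n, hn⟩ := IsPGroup.iff_card.mp h
    rw [hn] at hd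
    exact (Nat.prime_dvd_prime_iff_eq hr hq.out).mp (hr.dvd_of_dvd_pow hd)
  · intro h
    exact IsPGroup.of_card (n := (Nat.card Q).primeFactorsList.length)
      (Nat.eq_prime_pow_of_unique_prime_dvd Nat.card_pos.ne' fun {d} hd hdd => h d hd hdd)


/-- Transitivity Theorem (odd-order setting). Let X be a finite group of odd order in which the normalizer of every
nontrivial p-subgroup is solvable, P a Sylow p-subgroup, and B an abelian subgroup of P, normalized by P, with
C_P(B) = B and containing an elementary abelian subgroup of order p^3. Then for every prime q ≠ p, any two q-subgroups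
that are maximal among the q-subgroups normalized by B are conjugate by an element of the centralizer of B. -/
theorem result {X : Type*} [Group X] [Finite X] (hX : Odd (Nat.card X)) (p : ℕ)
    [Fact p.Prime] (hloc : ∀ T : Subgroup X, IsPGroup p T → T ≠ ⊥ → Group.IsSolvable (Subgroup.normalizer (T : Set X)))
    (P : Sylow p X) (B : Subgroup X) (hBP : B ≤ (P : Subgroup X))
    (hBn : ∀ x ∈ (P : Subgroup X), ∀ b ∈ B, x * b * x⁻¹ ∈ B) (hBa : IsMulCommutative B)
    (hBc : (P : Subgroup X) ⊓ Subgroup.centralizer (B : Set X) = B)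
    (hB3 : ∃ E : Subgroup X, E ≤ B ∧ (∀ e ∈ E, e ^ p = 1) ∧ p ^ 3 ≤ Nat.card E)
    (q : ℕ) [Fact q.Prime] (hqp : q ≠ p) (Q₁ Q₂ : Subgroup X)
    (h₁ : IsPGroup q Q₁ ∧ B ≤ Subgroup.normalizer (Q₁ : Set X) ∧
      ∀ R : Subgroup X, IsPGroup q R → B ≤ Subgroup.normalizer (R : Set X) → Q₁ ≤ R → R = Q₁)
    (h₂ : IsPGroup q Q₂ ∧ B ≤ Subgroup.normalizer (Q₂ : Set X) ∧
      ∀ R : Subgroup X, IsPGroup q R → B ≤ Subgroup.normalizer (R : Set X) → Q₂ ≤ R → R = Q₂) :
    ∃ c ∈ Subgroup.centralizer (B : Set X), Q₂ = Q₁.map (MulAut.conj c).toMonoidHom := by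
  have hp := (Fact.out : p.Prime)
  obtain ⟨E, hEB, hEp, hE3⟩ := hB3
  have hBp : IsPGroup p B := P.isPGroup'.to_le hBP
  have hp2 : p ≠ 2 := by
    rintro rfl
    obtain ⟨n, hn⟩ := IsPGroup.iff_card.mp (hBp.to_le hEB)
    have h1 : Nat.card E ∣ Nat.card X := Subgroup.card_subgroup_dvd_card E
    have h2 : Odd (Nat.card E) := hX.of_dvd_nat h1
    rw [hn] at h2 hE3
    have h3 : 3 ≤ n := (Nat.pow_le_pow_iff_right (by norm_num)).mp hE3
    exact absurd h2 (Nat.not_odd_iff_even.mpr (Nat.even_pow.mpr ⟨even_two, by omega⟩))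
  have hloc' : ∀ T : Subgroup X, IsPGroup p T → T ≠ ⊥ →
      Cfsg.IsPConstrained p ↥(Subgroup.normalizer (T : Set X)) := by
    intro T hT hT1
    haveI := hloc T hT hT1
    haveI : Fact p.Prime := ⟨hp⟩
    exact Cfsg.Agent.S0629.result default
      (Cfsg.Agent.Lib.HallHigman.isPSolvable_of_isSolvable p)
  have hE3' : ¬ Cfsg.PRankLE p 2 B := by
    intro h
    haveI : IsMulCommutative B := hBa
    have h1 := h (E.subgroupOf B) inferInstance (fun a ha => Subtype.ext (by simpa using hEp a ha))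
    rw [Nat.card_congr (Subgroup.subgroupOfEquivOfLe hEB).toEquiv] at h1
    have h2 : p ^ 2 < p ^ 3 := Nat.pow_lt_pow_right hp.one_lt (by norm_num)
    omega
  have hfull : ∀ x ∈ Subgroup.centralizer (B : Set X), IsPGroup p (Subgroup.zpowers x) → x ∈ B := by
    intro x hxC hxp
    have hPN : (P : Subgroup X) ≤ Subgroup.normalizer (B : Set X) := by
      intro g hg
      rw [Subgroup.mem_normalizer_iff]
      exact fun b => ⟨hBn g hg b, fun h => by
        have := hBn g⁻¹ (inv_mem hg) _ h; simpa [mul_assoc] using this⟩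
    set N := Subgroup.normalizer (B : Set X) with hNdef
    let PN : Sylow p N := P.subtype hPN
    have hCN : Subgroup.centralizer (B : Set X) ≤ N := Subgroup.centralizer_le_normalizer _
    have hxN : x ∈ N := hCN hxC
    have hzp : IsPGroup p (Subgroup.zpowers (⟨x, hxN⟩ : N)) := by
      refine hxp.comap_of_injective N.subtype N.subtype_injective |>.to_le ?_
      rw [Subgroup.zpowers_le]
      exact Subgroup.mem_zpowers x
    obtain ⟨Q, hQ⟩ := hzp.exists_le_sylow
    obtain ⟨g, hg⟩ := MulAction.exists_smul_eq N PN Q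
    have hxQ : (⟨x, hxN⟩ : N) ∈ g • PN := hg ▸ hQ (Subgroup.mem_zpowers _)
    obtain ⟨y, hy, hye⟩ := hxQ
    have hye' : (g : X) * (y : X) * (g : X)⁻¹ = x := congrArg Subtype.val hye
    have hyB : (y : X) ∈ B := by
      rw [← hBc]
      refine ⟨hy, Subgroup.mem_centralizer_iff.mpr fun b hb => ?_⟩
      have hgb : (g : X) * b * (g : X)⁻¹ ∈ B := (Subgroup.mem_normalizer_iff.mp g.2 b).mp hb
      have h1 := Subgroup.mem_centralizer_iff.mp hxC _ hgb
      rw [← hye'] at h1
      have h2 : ∀ u v : X, (g : X) * u * (g : X)⁻¹ * ((g : X) * v * (g : X)⁻¹) =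
          (g : X) * (u * v) * (g : X)⁻¹ := fun u v => by group
      rw [h2, h2] at h1
      exact mul_left_cancel (mul_right_cancel h1)
    rw [← hye']
    exact (Subgroup.mem_normalizer_iff.mp g.2 _).mp hyB
  have hmem : ∀ Q : Subgroup X, IsPGroup q Q ∧ B ≤ Subgroup.normalizer (Q : Set X) ∧
      (∀ R : Subgroup X, IsPGroup q R → B ≤ Subgroup.normalizer (R : Set X) → Q ≤ R → R = Q) →
      Q ∈ Cfsg.maxInvSubgroups ⊤ B {q} := by
    rintro Q ⟨h1, h2, h3⟩
    refine ⟨⟨le_top, (isPGroup_iff_primes q Q).mp h1, h2⟩, ?_⟩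
    rintro R ⟨-, hR1, hR2⟩ hle
    exact h3 R ((isPGroup_iff_primes q R).mpr hR1) hR2 hle
  obtain ⟨k, hk, hQ⟩ := Cfsg.Agent.S1480.result p hloc' (fun h => absurd h hp2) B hBp hBa hE3'
    hfull q hqp Q₁ (hmem Q₁ h₁) Q₂ (hmem Q₂ h₂)
  refine ⟨k, ?_, hQ⟩
  exact Subgroup.map_subtype_le _ hk

end Cfsg.Agent.S0522
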