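import Cfsg.Statements.S0609
import Cfsg.Agent.Lib.Thompson.Constrained
import Cfsg.Agent.Lib.FPF.Thompson

set_option autoImplicit false
open Cfsg Subgroup
open scoped Pointwise commutatorElement

namespace Cfsg.Agent.S0609

universe u

theorem map_omega {G G' : Type u} [Group G] [Group G'] {p : ℕ} (f : G →* G') (S : Subgroup G)
    (hf : Set.InjOn f (S : Set G)) :
    (Cfsg.omegaOne p (S ⊓ centralizer (S : Set G))).map f =
      Cfsg.omegaOne p (S.map f ⊓ centralizer (S.map f : Set G')) := by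
  rw [← Lib.FPF.map_center_of_injOn f hf, Cfsg.omegaOne, Cfsg.omegaOne, MonoidHom.map_closure]
  congr 1
  ext y
  constructor
  · rintro ⟨x, ⟨hx, hxp⟩, rfl⟩
    exact ⟨mem_map_of_mem f hx, by rw [← map_pow, hxp, map_one]⟩
  · rintro ⟨⟨x, hx, rfl⟩, hxp⟩
    exact ⟨x, ⟨hx, hf (pow_mem hx.1 p) (one_mem S) (by rw [map_pow, hxp, map_one])⟩, rfl⟩


/-- Thompson factorizability passes to and from the quotient by the largest normal subgroup of order prime to p. -/
theorem result {G : Type*} [Group G] [Finite G] {p : ℕ} [Fact p.Prime] : Cfsg.IsThompsonFactorizable p G ↔ Cfsg.IsThompsonFactorizable p (G ⧸ Cfsg.pPrimeCore p G) := by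
  let K := Cfsg.pPrimeCore p G
  let π := QuotientGroup.mk' K
  have hK := Lib.Components.pPrimeCore_coprime (G := G) p
  have hinj : ∀ S : Sylow p G, Set.InjOn π ((S : Subgroup G) : Set G) := by
    intro S x hx y hy e
    have hb : (S : Subgroup G) ⊓ K = ⊥ := disjoint_iff.mp (disjoint_of_coprime_natCard (by
      rw [S.card_eq_multiplicity]; exact hK.symm.pow_left _))
    have := hb.le ⟨(S : Subgroup G).mul_mem ((S : Subgroup G).inv_mem hx) hy, QuotientGroup.eq.mp e⟩
    exact inv_mul_eq_one.mp (mem_bot.mp this)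
  have hΩ : ∀ S : Sylow p G, IsPGroup p (Cfsg.omegaOne p ((S : Subgroup G) ⊓ centralizer ((S : Subgroup G) : Set G))) :=
    fun S => S.2.to_le ((closure_le _).mpr fun x hx => hx.1.1)
  have hJp : ∀ S : Sylow p G, IsPGroup p (Cfsg.thompsonSubgroupOf p (S : Subgroup G)) := fun S =>
    S.2.to_le (Lib.FPF.thompsonSubgroupOf_le _)
  constructor
  · intro h Sb gb
    obtain ⟨S, rfl⟩ := Sylow.mapSurjective_surjective (QuotientGroup.mk'_surjective K) p Sb
    obtain ⟨g, rfl⟩ := QuotientGroup.mk'_surjective K gb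
    obtain ⟨x, hx, c, hc, n, hn, rfl⟩ := h S g
    refine ⟨1, one_mem _, π c, ?_, π n, ?_, ?_⟩
    · rw [Sylow.coe_mapSurjective, ← map_omega π (S : Subgroup G) (hinj S),
        ← Lib.Components.map_centralizer_pGroup (hΩ S) hK]
      exact mem_map_of_mem _ hc
    · rw [Sylow.coe_mapSurjective, ← Lib.FPF.thompsonSubgroupOf_map π (hinj S),
        ← Lib.Components.map_normalizer_pGroup (hJp S) hK]
      exact mem_map_of_mem _ hn
    · rw [map_mul, map_mul, show π x = 1 from (QuotientGroup.eq_one_iff x).2 hx, one_mul]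
  · intro h S g
    obtain ⟨x, hx, c, hc, n, hn, he⟩ := h (S.mapSurjective (QuotientGroup.mk'_surjective K)) (π g)
    rw [Sylow.coe_mapSurjective, ← map_omega π (S : Subgroup G) (hinj S),
      ← Lib.Components.map_centralizer_pGroup (hΩ S) hK] at hc
    rw [Sylow.coe_mapSurjective, ← Lib.FPF.thompsonSubgroupOf_map π (hinj S),
      ← Lib.Components.map_normalizer_pGroup (hJp S) hK] at hn
    rw [show pPrimeCore p (G ⧸ K) = ⊥ from Lib.OddLocal.pPrimeCore_quotient_eq_bot p, mem_bot] at hx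
    obtain ⟨c, hc, rfl⟩ := hc
    obtain ⟨n, hn, rfl⟩ := hn
    refine ⟨g * (c * n)⁻¹, ?_, c, hc, n, hn, by group⟩
    refine (QuotientGroup.eq_one_iff _).mp ?_
    show π (g * (c * n)⁻¹) = 1
    rw [map_mul, he, hx, map_inv, map_mul, one_mul, mul_inv_cancel]

end Cfsg.Agent.S0609
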