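import Cfsg.Statements.S0620
import Cfsg.Agent.Lib.Offender.Operator

set_option autoImplicit false
open Cfsg Subgroup
open scoped Pointwise commutatorElement

namespace Cfsg.Agent.S0620

open Cfsg.Agent.Lib.Offender

/-- Under coprime action of an elementary abelian q-group X on a p-separable group K with trivial p'-core, K is generated by the normalizer of J(S), the centralizer of Ω₁(Z(S)) and the fixed points of X. -/
theorem result {G : Type*} [Group G] [Finite G] {p : ℕ} [Fact p.Prime] {q : ℕ} [Fact q.Prime] (K X : Subgroup G) (hXK : X ≤ Subgroup.normalizer (K : Set G)) (hX : Cfsg.IsElementaryAbelian q X) (hq : ¬ q ∣ Nat.card K) (hsep : Cfsg.IsPSolvable p ↥K) (hO : Cfsg.pPrimeCore p ↥K = ⊥) (S : Sylow p ↥K) : (Subgroup.normalizer (Cfsg.thompsonSubgroupOf p (S : Subgroup ↥K) : Set ↥K) ⊔ Subgroup.centralizer (Cfsg.omegaOne p ((S : Subgroup ↥K) ⊓ Subgroup.centralizer ((S : Subgroup ↥K) : Set ↥K)) : Set ↥K) ⊔ (Subgroup.centralizer (X : Set G)).subgroupOf K) = ⊤ := by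
  set N := Subgroup.normalizer (K : Set G)
  let f : ↥K →* ↥N := Subgroup.inclusion Subgroup.le_normalizer
  haveI hfr : f.range.Normal := by
    rw [Subgroup.inclusion_range]; exact Subgroup.normal_in_normalizer
  have h := generation (f := f) (X := X.subgroupOf N) (q := q) (Subgroup.inclusion_injective _)
    (Lib.Thompson.isElementaryAbelian_comap N.subtype_injective hX) hq hsep hO S
  have e : (centralizer ((X.subgroupOf N : Subgroup ↥N) : Set ↥N)).comap f = (centralizer (X : Set G)).subgroupOf K := by
    ext k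
    rw [mem_comap, mem_subgroupOf, mem_centralizer_iff, mem_centralizer_iff]
    exact ⟨fun h x hx => congrArg Subtype.val (h ⟨x, hXK hx⟩ (mem_subgroupOf.mpr hx)),
      fun h x hx => Subtype.ext (h x (mem_subgroupOf.mp hx))⟩
  rwa [e] at h

end Cfsg.Agent.S0620
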