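import Cfsg.Statements.S0621
import Cfsg.Agent.Lib.Offender.Operator

set_option autoImplicit false
open Cfsg Subgroup
open scoped Pointwise commutatorElement

namespace Cfsg.Agent.S0621

open Cfsg.Agent.Lib.Offender

/-- Let K be p-separable with O_p'(K) = 1, normalized by an elementary abelian q-group X for a prime q not dividing the order of K. If the Thompson factorization fails in K, then p is 2 or 3 and the fixed points of X contain a plane W of order p² and a subgroup inducing SL(2, p) on it. -/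
theorem result {G : Type*} [Group G] [Finite G] {p : ℕ} [Fact p.Prime] {q : ℕ} [Fact q.Prime] (K X : Subgroup G) (hXK : X ≤ Subgroup.normalizer (K : Set G)) (hX : Cfsg.IsElementaryAbelian q X) (hq : ¬ q ∣ Nat.card K) (hsep : Cfsg.IsPSolvable p ↥K) (hO : Cfsg.pPrimeCore p ↥K = ⊥) (hnf : ¬ Cfsg.IsThompsonFactorizable p ↥K) : (p = 2 ∨ p = 3) ∧ ∃ W D : Subgroup G, W ≤ K ⊓ Subgroup.centralizer (X : Set G) ∧ D ≤ K ⊓ Subgroup.centralizer (X : Set G) ∧ Cfsg.IsElementaryAbelian p W ∧ Nat.card W = p ^ 2 ∧ D ≤ Subgroup.normalizer (W : Set G) ∧ ∃ hn : ((Subgroup.centralizer (W : Set G)).subgroupOf D).Normal, Nonempty ((↥D ⧸ (Subgroup.centralizer (W : Set G)).subgroupOf D) ≃* Matrix.SpecialLinearGroup (Fin 2) (ZMod p)) := by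
  set N := Subgroup.normalizer (K : Set G)
  let f : ↥K →* ↥N := Subgroup.inclusion Subgroup.le_normalizer
  haveI hfr : f.range.Normal := by
    rw [Subgroup.inclusion_range]; exact Subgroup.normal_in_normalizer
  obtain ⟨hp, W, D, hW, hD, hWe, hWc, hDW, ψ, hψ, hker⟩ := fixed_plane (f := f) (X := X.subgroupOf N) (q := q)
    (Subgroup.inclusion_injective _) (Lib.Thompson.isElementaryAbelian_comap N.subtype_injective hX) hq hsep hO hnf
  have hmap : ∀ U : Subgroup ↥N, U ≤ f.range ⊓ centralizer ((X.subgroupOf N : Subgroup ↥N) : Set ↥N) →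
      U.map N.subtype ≤ K ⊓ centralizer (X : Set G) := by
    rintro U hU _ ⟨u, hu, rfl⟩
    obtain ⟨⟨k, rfl⟩, hc⟩ := hU hu
    exact ⟨k.2, mem_centralizer_iff.mpr fun x hx => congrArg Subtype.val
      (mem_centralizer_iff.mp hc ⟨x, hXK hx⟩ (mem_subgroupOf.mpr hx))⟩
  refine ⟨hp, W.map N.subtype, D.map N.subtype, hmap W hW, hmap D hD,
    Lib.Thompson.isElementaryAbelian_map N.subtype hWe, by rw [card_map_of_injective N.subtype_injective, hWc],
    (map_mono hDW).trans (le_normalizer_map N.subtype), ?_⟩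
  let e : D ≃* D.map N.subtype := D.equivMapOfInjective N.subtype N.subtype_injective
  let χ : D.map N.subtype →* Matrix.SpecialLinearGroup (Fin 2) (ZMod p) := ψ.comp e.symm.toMonoidHom
  have hχ : χ.ker = (centralizer ((W.map N.subtype : Subgroup G) : Set G)).subgroupOf (D.map N.subtype) := by
    ext y
    obtain ⟨x, rfl⟩ := e.surjective y
    rw [MonoidHom.mem_ker, mem_subgroupOf]
    show ψ (e.symm (e x)) = 1 ↔ _
    rw [MulEquiv.symm_apply_apply, hker, mem_centralizer_iff, mem_centralizer_iff]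
    constructor
    · rintro h _ ⟨w, hw, rfl⟩
      exact congrArg Subtype.val (h w hw)
    · intro h w hw
      exact Subtype.ext (h _ (mem_map_of_mem N.subtype hw))
  have hn : χ.ker.Normal := inferInstance
  haveI hn2 : ((centralizer ((W.map N.subtype : Subgroup G) : Set G)).subgroupOf (D.map N.subtype)).Normal := hχ ▸ hn
  refine ⟨hn2, ⟨(QuotientGroup.quotientMulEquivOfEq hχ.symm).trans
    (QuotientGroup.quotientKerEquivOfSurjective χ (hψ.comp e.symm.surjective))⟩⟩

end Cfsg.Agent.S0621
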