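import Cfsg.Statements.S0627
import Cfsg.Agent.Lib.Thompson.ActionStable
import Cfsg.Agent.Lib.Thompson.ZJQuotient
import Cfsg.Agent.Lib.LocalFusion.PSolvable
import Cfsg.Agent.Lib.Thompson.Constrained
import Cfsg.Agent.S0624

set_option autoImplicit false
open Cfsg Subgroup
open scoped Pointwise commutatorElement

namespace Cfsg.Agent.S0627

/-- In a p-separable group with p at least 5, the normalizer of W(S) supplements the largest normal subgroup of order prime to p. -/
theorem result {G : Type*} [Group G] [Finite G] {p : ℕ} [Fact p.Prime] (hp : 5 ≤ p) (hsep : Cfsg.IsPSolvable p G) (S : Sylow p G) : Cfsg.pPrimeCore p G ⊔ Subgroup.normalizer (((Cfsg.stableNormalClosure p ↥(S : Subgroup G)).map (S : Subgroup G).subtype) : Set G) = ⊤ := by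
  set K := Cfsg.pPrimeCore p G
  set π := QuotientGroup.mk' K
  have hsepQ : Cfsg.IsPSolvable p (G ⧸ K) := Lib.PLength.isPSolvable_map (QuotientGroup.mk'_surjective K) hsep
  have hOQ : Cfsg.pPrimeCore p (G ⧸ K) = ⊥ := Lib.OddLocal.pPrimeCore_quotient_eq_bot (G := G) p
  set T := S.mapSurjective (QuotientGroup.mk'_surjective K)
  have hW := S0624.result
    (Lib.Thompson.isActionPStable_of_noSL2 (by omega) (Lib.Thompson.noSL2_of_isPSolvable hp hsepQ))
    (Lib.LocalFusion.centralizer_pCore_le_of_isPSolvable hsepQ hOQ) T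
  have hinj : Function.Injective (π.subgroupMap (S : Subgroup G)) := by
    rw [injective_iff_map_eq_one]
    intro x hx
    have hxK : (x : G) ∈ K := (QuotientGroup.eq_one_iff _).mp (congrArg Subtype.val hx)
    have hxS : (x : G) ∈ (S : Subgroup G) ⊓ K := ⟨x.2, hxK⟩
    obtain ⟨n, hn⟩ := IsPGroup.iff_card.mp S.2
    rw [Subgroup.inf_eq_bot_of_coprime (by
      rw [hn]; exact ((Lib.Components.pPrimeCore_coprime (G := G) p).symm.pow_left n)), mem_bot] at hxS
    exact Subtype.ext hxS
  let η : ↥(S : Subgroup G) ≃* ↥(T : Subgroup (G ⧸ K)) :=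
    MulEquiv.ofBijective (π.subgroupMap (S : Subgroup G)) ⟨hinj, π.subgroupMap_surjective _⟩
  refine Lib.Thompson.sup_normalizer_eq_top (S.2.to_le (map_subtype_le _)) ?_
  have e : ((Cfsg.stableNormalClosure p ↥(S : Subgroup G)).map (S : Subgroup G).subtype).map π =
      (Cfsg.stableNormalClosure p ↥(T : Subgroup (G ⧸ K))).map (T : Subgroup (G ⧸ K)).subtype := by
    rw [← Lib.Thompson.map_stableNormalClosure η, Subgroup.map_map, Subgroup.map_map]
    rfl
  rw [e]; exact hW

end Cfsg.Agent.S0627
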