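import Cfsg.Statements.S0654
import Cfsg.Agent.Lib.Thompson.ZJ

set_option autoImplicit false
open Cfsg Subgroup
open scoped Pointwise commutatorElement

namespace Cfsg.Agent.S0654

/-- The ZJ-Theorem for the elementary-abelian Thompson subgroup: for an odd prime p, a finite group G with C_G(O_p(G)) ≤ O_p(G) acting p-stably on its normal p-subgroups, and a Sylow p-subgroup S of G, the subgroup generated by the elements of order dividing p in Z(J_e(S)) is characteristic in G. -/
theorem result {G : Type*} [Group G] [Finite G] {p : ℕ} [Fact p.Prime] (hp : p ≠ 2) (hc : Subgroup.centralizer (Cfsg.pCore p G : Set G) ≤ Cfsg.pCore p G) (hst : ∀ (P : Subgroup G) [P.Normal], IsPGroup p P → Cfsg.IsPStableOn p P) (S : Sylow p G) : ((Cfsg.omegaCenterThompson p ↥(S : Subgroup G)).map (S : Subgroup G).subtype).Characteristic := by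
  have hn : ((Cfsg.omegaCenterThompson p ↥(S : Subgroup G)).map (S : Subgroup G).subtype).Normal := by
    refine Lib.Thompson.zj_normal_subtype S (Cfsg.maxElementaryAbelianSubgroups p ↥(S : Subgroup G)) _
      Lib.Thompson.exists_maxElementary (fun A hA => hA.1.1) ?_ ?_ ?_ ?_ hc hst
    · intro A hA g B hAB
      constructor
      · have h := Lib.Thompson.isElementaryAbelian_comap (S : Subgroup G).subtype_injective
          (Lib.Thompson.isElementaryAbelian_map (MulAut.conj g).toMonoidHom
            (Lib.Thompson.isElementaryAbelian_map (S : Subgroup G).subtype hA.1))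
        rwa [hAB, comap_map_eq_self_of_injective (S : Subgroup G).subtype_injective] at h
      · intro C hC
        rw [← card_map_of_injective (K := B) (S : Subgroup G).subtype_injective, ← hAB,
          card_map_of_injective (MulAut.conj g).injective, card_subtype]
        exact hA.2 C hC
    · intro B _ hcl hU
      have h := S0652.result S.2 hp (⊤ : Subgroup ↥(S : Subgroup G)) B hcl
      rw [Lib.Thompson.image_top_eq (fun β _ => Cfsg.maxElementaryAbelianSubgroups p β)
        (fun e _ hA => Lib.Thompson.map_mem_maxElementary e hA)] at h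
      exact h hU
    · intro A hA
      refine (closure_le _).mpr fun x hx => ?_
      exact Lib.Thompson.mem_maxElementary_of_commute hA
        (fun a ha => mem_centralizer_iff.mp hx.1.2 a (le_sSup hA ha)) hx.2
    · intro n hn x hx
      let J := Cfsg.thompsonSubgroup p ↥(S : Subgroup G)
      have hle : (J.map (S : Subgroup G).subtype).map (MulAut.conj n).toMonoidHom ≤
          J.map (S : Subgroup G).subtype := by
        rw [map_le_iff_le_comap, map_le_iff_le_comap]
        refine sSup_le fun A hA => ?_
        obtain ⟨B, hB, hAB⟩ := hn A hA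
        rw [← map_le_iff_le_comap, ← map_le_iff_le_comap, hAB]
        exact map_mono (le_sSup hB)
      have heq := eq_of_le_of_card_ge hle (card_map_of_injective (MulAut.conj n).injective).ge
      refine (closure_le (((Cfsg.omegaCenterThompson p ↥(S : Subgroup G)).map (S : Subgroup G).subtype).comap
        ((MulAut.conj n).toMonoidHom.comp (S : Subgroup G).subtype))).mpr ?_ hx
      intro y hy
      obtain ⟨z, hz, hzy⟩ := hle ⟨y, mem_map_of_mem _ hy.1.1, rfl⟩
      refine ⟨z, subset_closure ⟨⟨hz, mem_centralizer_iff.mpr fun u hu => Subtype.ext ?_⟩, Subtype.ext ?_⟩, hzy⟩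
      · have hu' := mem_map_of_mem (S : Subgroup G).subtype hu
        rw [← heq] at hu'
        obtain ⟨_, ⟨w, hw, rfl⟩, hwu⟩ := hu'
        show (u : G) * (z : G) = z * u
        change (z : G) = n * (y : G) * n⁻¹ at hzy
        change n * (w : G) * n⁻¹ = (u : G) at hwu
        have h : (w : G) * y = y * w := congrArg Subtype.val (mem_centralizer_iff.mp hy.1.2 w hw)
        rw [hzy, ← hwu]
        calc n * (w : G) * n⁻¹ * (n * y * n⁻¹) = n * (w * y) * n⁻¹ := by group
          _ = n * (y * w) * n⁻¹ := by rw [h]
          _ = _ := by group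
      · show (z : G) ^ p = 1
        change (z : G) = n * (y : G) * n⁻¹ at hzy
        have h : (y : G) ^ p = 1 := congrArg Subtype.val hy.2
        rw [hzy, conj_pow, h]
        group
  refine characteristic_iff_map_eq.mpr fun e => ?_
  obtain ⟨T, hT⟩ := (S.2.map e.toMonoidHom).exists_le_sylow
  have hT' : (S : Subgroup G).map e.toMonoidHom = (T : Subgroup G) := eq_of_le_of_card_ge hT (by
    rw [card_map_of_injective e.injective, S.card_eq_multiplicity, T.card_eq_multiplicity])
  obtain ⟨g, hg⟩ := MulAction.exists_smul_eq G S T
  have hT'' : (S : Subgroup G).map (MulAut.conj g).toMonoidHom = (T : Subgroup G) :=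
    congrArg (fun R : Sylow p G => (R : Subgroup G)) hg
  have key : ∀ f : G ≃* G, (S : Subgroup G).map f.toMonoidHom = (T : Subgroup G) →
      ((Cfsg.omegaCenterThompson p ↥(S : Subgroup G)).map (S : Subgroup G).subtype).map f.toMonoidHom =
        (Cfsg.omegaCenterThompson p ↥(T : Subgroup G)).map (T : Subgroup G).subtype := by
    intro f hf
    rw [← Lib.Thompson.omegaCenterThompson_map
      ((f.subgroupMap (S : Subgroup G)).trans (MulEquiv.subgroupCongr hf)), Subgroup.map_map, Subgroup.map_map]
    rfl
  rw [key e hT', ← key (MulAut.conj g) hT'']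
  refine eq_of_le_of_card_ge ?_ (card_map_of_injective (MulAut.conj g).injective).ge
  rintro _ ⟨x, hx, rfl⟩
  exact hn.conj_mem x hx g

end Cfsg.Agent.S0654
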