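import Cfsg.Statements.S0628
import Cfsg.Agent.Lib.Thompson.NPCFunctor
import Cfsg.Agent.Lib.Thompson.Stable
import Cfsg.Agent.S0654

set_option autoImplicit false
open Cfsg Subgroup
open scoped Pointwise commutatorElement

namespace Cfsg.Agent.S0628

universe u

abbrev wOf (p : ℕ) {G : Type u} [Group G] (S : Subgroup G) : Subgroup G :=
  (Cfsg.stableNormalClosure p ↥S).map S.subtype

theorem map_wOf {p : ℕ} {G G' : Type u} [Group G] [Group G'] (f : G →* G') (S : Subgroup G)
    (hf : ∀ x ∈ S, ∀ y ∈ S, f x = f y → x = y) : (wOf p S).map f = wOf p (S.map f) := by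
  let e : S ≃* S.map f := MulEquiv.ofBijective (f.subgroupMap S)
    ⟨fun x y h => Subtype.ext (hf _ x.2 _ y.2 (congrArg Subtype.val h)), f.subgroupMap_surjective S⟩
  rw [wOf, wOf, ← Lib.Thompson.map_stableNormalClosure e, Subgroup.map_map, Subgroup.map_map]
  rfl

theorem wOf_ne_bot {p : ℕ} [Fact p.Prime] {G : Type u} [Group G] [Finite G] {S : Subgroup G}
    (hS : IsPGroup p S) (h : S ≠ ⊥) : wOf p S ≠ ⊥ := by
  have : Nontrivial S := (nontrivial_iff_ne_bot S).mpr h
  obtain ⟨z, -, hzc, hz⟩ := Lib.Thompson.exists_central_order_p hS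
    (N := (⊤ : Subgroup S)) bot_ne_top.symm
  intro hb
  have : (z : G) ∈ wOf p S := mem_map_of_mem S.subtype (Lib.Thompson.omega_le_stableNormalClosure
    (subset_closure ⟨hzc, hz ▸ pow_orderOf_eq_one z⟩))
  rw [hb, mem_bot, OneMemClass.coe_eq_one] at this
  rw [this, orderOf_one] at hz
  exact (Fact.out : p.Prime).ne_one hz.symm

theorem wOf_normal {p : ℕ} [hp : Fact p.Prime] (hp2 : p ≠ 2) {G : Type u} [Group G] [Finite G]
    (P : Sylow p G) (hc : centralizer (pCore p G : Set G) ≤ pCore p G)
    (hst : ∀ (V : Subgroup G) [V.Normal], IsPGroup p V → IsPStableOn p V) : (wOf p (P : Subgroup G)).Normal := by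
  set V₀ := (Cfsg.omegaCenterThompson p ↥(P : Subgroup G)).map (P : Subgroup G).subtype with hV₀
  have : V₀.Characteristic := Cfsg.Agent.S0654.result hp2 hc hst P
  set W := wOf p (P : Subgroup G)
  have hWV : W ≤ V₀ := map_mono Lib.Thompson.stableNormalClosure_le
  set J := Cfsg.thompsonSubgroupOf p (P : Subgroup G) with hJ
  set C := centralizer (V₀ : Set G) with hC
  have hCn : C.Normal := normal_centralizer
  have hJC : J ≤ C := by
    rintro _ ⟨y, hy, rfl⟩
    refine mem_centralizer_iff.mpr ?_
    rintro _ ⟨z, hz, rfl⟩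
    exact congrArg Subtype.val (mem_centralizer_iff.mp
      (Lib.Thompson.omegaCenterThompson_le_centralizer hz) y hy).symm
  obtain ⟨R, hR⟩ := Lib.Thompson.exists_sylow_inf_normal P C
  have htop := Sylow.normalizer_sup_eq_top R
  rw [hR] at htop
  have hNJ : normalizer (((P : Subgroup G) ⊓ C : Subgroup G) : Set G) ≤ normalizer (J : Set G) := by
    intro n hn
    refine Lib.Thompson.mem_normalizer_of_forall_conj fun x hx => ?_
    suffices h : J ≤ J.comap (MulAut.conj n).toMonoidHom from h hx
    conv_lhs => rw [hJ, Cfsg.thompsonSubgroupOf]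
    rw [map_le_iff_le_comap]
    refine sSup_le fun A hA => map_le_iff_le_comap.mp ?_
    rw [← map_le_iff_le_comap]
    have hAT : A.map (P : Subgroup G).subtype ≤ (P : Subgroup G) ⊓ C :=
      le_inf (map_subtype_le A) ((map_mono (le_sSup hA)).trans hJC)
    have hAn : (A.map (P : Subgroup G).subtype).map (MulAut.conj n).toMonoidHom ≤ (P : Subgroup G) := by
      rintro _ ⟨a, ha, rfl⟩
      exact ((mem_normalizer_iff.mp hn a).mp (hAT ha)).1
    have he : ((((A.map (P : Subgroup G).subtype).map (MulAut.conj n).toMonoidHom).subgroupOf P).map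
        (P : Subgroup G).subtype) = (A.map (P : Subgroup G).subtype).map (MulAut.conj n).toMonoidHom := by
      rw [subgroupOf_map_subtype]; exact inf_eq_left.mpr hAn
    rw [← he]
    refine map_mono (le_sSup ⟨?_, fun D hD => ?_⟩)
    · exact Lib.Thompson.isElementaryAbelian_comap (P : Subgroup G).subtype_injective
        (Lib.Thompson.isElementaryAbelian_map _ (Lib.Thompson.isElementaryAbelian_map _ hA.1))
    · rw [← card_map_of_injective (K := ((A.map (P : Subgroup G).subtype).map
          (MulAut.conj n).toMonoidHom).subgroupOf P) (P : Subgroup G).subtype_injective, he,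
        card_map_of_injective (MulAut.conj n).injective, card_subtype]
      exact hA.2 D hD
  set L := normalizer (J : Set G) with hL
  have hPL : (P : Subgroup G) ≤ L := le_normalizer.trans (Lib.FPF.normalizer_le_normalizer_thompson _)
  let τ : ↥(P : Subgroup G) →* ↥L := inclusion hPL
  have hτ : L.subtype.comp τ = (P : Subgroup G).subtype := rfl
  have hmapτ : ∀ X : Subgroup ↥(P : Subgroup G),
      (X.map τ).map L.subtype = X.map (P : Subgroup G).subtype := fun X => by rw [Subgroup.map_map, hτ]
  have hdec : ∀ g : G, ∃ c ∈ C, ∃ l ∈ L, g = c * l := fun g => by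
    obtain ⟨l, hl, c, hc', rfl⟩ := mem_sup_of_normal_right.mp (htop ▸ mem_top g)
    exact ⟨l * c * l⁻¹, hCn.conj_mem c hc' l, l, hNJ hl, by group⟩
  have hE : Cfsg.IsStableEmbedding p τ := by
    refine ⟨inclusion_injective hPL, inferInstance, ⟨P.subtype hPL, ?_⟩, ?_, ?_, ?_⟩
    · rw [Sylow.coe_subtype, inclusion_range]
    · intro x hx
      have hH : pCore p G ≤ L := (Lib.Hall.pCore_le_sylow P).trans hPL
      have hHn : ((pCore p G).subgroupOf L).Normal := inferInstance
      have hle : (pCore p G).subgroupOf L ≤ pCore p ↥L :=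
        Lib.Hall.le_pCore ((Lib.Hall.isPGroup_pCore p).comap_subtype)
      have h1 : (x : G) ∈ centralizer (pCore p G : Set G) := mem_centralizer_iff.mpr fun h hh =>
        congrArg Subtype.val (mem_centralizer_iff.mp hx ⟨h, hH hh⟩ (hle (mem_subgroupOf.mpr hh)))
      exact hle (mem_subgroupOf.mpr (hc h1))
    · have he : (Cfsg.thompsonSubgroup p ↥(P : Subgroup G)).map τ = J.subgroupOf L := by
        refine map_injective L.subtype_injective ?_
        rw [hmapτ, subgroupOf_map_subtype, inf_eq_left.mpr (le_normalizer : J ≤ L)]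
        rfl
      rw [he]
      exact normal_in_normalizer
    · intro V _ hV
      have hVV : V.map L.subtype ≤ V₀ := (map_mono hV).trans (hmapτ _).le
      have hVn : (V.map L.subtype).Normal := by
        refine ⟨fun v hv g => ?_⟩
        obtain ⟨c, hc', l, hl, rfl⟩ := hdec g
        obtain ⟨w, hw, rfl⟩ := hv
        have hw' : (L.subtype ((⟨l, hl⟩ : ↥L) * w * (⟨l, hl⟩ : ↥L)⁻¹)) ∈ V.map L.subtype :=
          mem_map_of_mem _ ((inferInstance : V.Normal).conj_mem w hw _)
        have hcen := mem_centralizer_iff.mp hc' _ (hVV hw')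
        have e : c * l * L.subtype w * (c * l)⁻¹ = l * (w : G) * l⁻¹ := by
          rw [show c * l * L.subtype w * (c * l)⁻¹ = c * (l * (w : G) * l⁻¹) * c⁻¹ by
            simp [mul_assoc]]
          exact mul_inv_eq_iff_eq_mul.mpr hcen.symm
        rw [e]
        exact hw'
      intro a hquad
      have hVp : IsPGroup p (V.map L.subtype) := P.2.to_le (hVV.trans (map_subtype_le _))
      have h1 := hst (V.map L.subtype) hVp (a : G) (by
        rw [show zpowers (a : G) = (zpowers a).map L.subtype from (MonoidHom.map_zpowers L.subtype a).symm,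
          ← map_commutator, ← map_commutator, hquad, Subgroup.map_bot])
      let CL := centralizer (V : Set ↥L)
      let CG := centralizer (V.map L.subtype : Set G)
      have : CG.Normal := normal_centralizer
      let φ : ↥L ⧸ CL →* G ⧸ CG := QuotientGroup.lift CL ((QuotientGroup.mk' CG).comp L.subtype) (by
        intro x hx
        refine (QuotientGroup.eq_one_iff _).mpr (mem_centralizer_iff.mpr ?_)
        rintro _ ⟨v, hv, rfl⟩
        exact congrArg Subtype.val (mem_centralizer_iff.mp hx v hv))
      have hinj : Function.Injective φ := by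
        rw [← MonoidHom.ker_eq_bot_iff, eq_bot_iff]
        intro q hq
        obtain ⟨x, rfl⟩ := QuotientGroup.mk_surjective q
        refine mem_bot.mpr ((QuotientGroup.eq_one_iff _).mpr (mem_centralizer_iff.mpr fun v hv => Subtype.ext ?_))
        exact mem_centralizer_iff.mp ((QuotientGroup.eq_one_iff _).mp (MonoidHom.mem_ker.mp hq) : (x : G) ∈ CG)
          _ (mem_map_of_mem L.subtype hv)
      have hle : (pCore p (G ⧸ CG)).comap φ ≤ pCore p (↥L ⧸ CL) :=
        Lib.Hall.le_pCore ((Lib.Hall.isPGroup_pCore p).comap_of_injective φ hinj)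
      exact hle h1
  have hn := Lib.Thompson.stableNormalClosure_normal hE
  refine ⟨fun x hx g => ?_⟩
  obtain ⟨c, hc', l, hl, rfl⟩ := hdec g
  have hx' := hx
  rw [show W = (_ : Subgroup G) from (hmapτ _).symm] at hx'
  obtain ⟨w, hw, rfl⟩ := hx'
  have h2 : L.subtype ((⟨l, hl⟩ : ↥L) * w * (⟨l, hl⟩ : ↥L)⁻¹) ∈ W := by
    rw [show W = (_ : Subgroup G) from (hmapτ _).symm]
    exact mem_map_of_mem _ (hn.conj_mem w hw _)
  have hcen := mem_centralizer_iff.mp hc' _ (hWV h2)
  have e : c * l * L.subtype w * (c * l)⁻¹ = l * (w : G) * l⁻¹ := by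
    rw [show c * l * L.subtype w * (c * l)⁻¹ = c * (l * (w : G) * l⁻¹) * c⁻¹ by simp [mul_assoc]]
    exact mul_inv_eq_iff_eq_mul.mpr hcen.symm
  rw [e]
  exact h2

theorem functor (p : ℕ) [Fact p.Prime] (hp : p ≠ 2) :
    Lib.Thompson.IsGlaubermanFunctor.{u} (p := p) (fun G _ S => wOf p S) where
  le _ _ _ := map_subtype_le _
  ne_bot _ _ _ _ hS h := wOf_ne_bot hS h
  map _ _ _ _ f S hf := map_wOf f S hf
  normal _ _ _ P hc hst := wOf_normal hp P hc hst


/-- The normal p-complement Theorem of Thompson in the form with W(S): for odd p, G has a normal p-complement as soon as the normalizer of the characteristic subgroup W(S) of a Sylow p-subgroup S has one. -/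
theorem result {G : Type*} [Group G] [Finite G] {p : ℕ} [Fact p.Prime] (hp : p ≠ 2) (S : Sylow p G) (hN : Cfsg.HasNormalPComplement p ↥(Subgroup.normalizer (((Cfsg.stableNormalClosure p ↥(S : Subgroup G)).map (S : Subgroup G).subtype) : Set G))) : Cfsg.HasNormalPComplement p G := by
  exact Lib.Thompson.npc_functor (functor p hp) hp S hN

end Cfsg.Agent.S0628
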