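import Cfsg.Statements.S0632
import Cfsg.Agent.Lib.Thompson.Constrained
import Cfsg.Agent.Lib.Components.PComponent

set_option autoImplicit false
open Cfsg Subgroup
open scoped Pointwise commutatorElement

namespace Cfsg.Agent.S0632

universe u

variable {G : Type u} [Group G] [Finite G] {p : ℕ} [hp : Fact p.Prime]

/-- The condition in the definition of p-stability for a single pair. -/
def Cond (p : ℕ) {G : Type u} [Group G] (A P : Subgroup G) : Prop :=
  (A.subgroupOf (normalizer (P : Set G))).map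
      (QuotientGroup.mk' ((centralizer (P : Set G)).subgroupOf (normalizer (P : Set G)))) ≤
    Cfsg.pCore p _

theorem cond_iff {P : Subgroup G} (hP : IsPGroup p P) (A : Subgroup G)
    (hA : A ≤ normalizer (P : Set G)) :
    Cond p A P ↔ Cond p (A.map (QuotientGroup.mk' (Cfsg.pPrimeCore p G)))
      (P.map (QuotientGroup.mk' (Cfsg.pPrimeCore p G))) := by
  let K := Cfsg.pPrimeCore p G
  let π := QuotientGroup.mk' K
  have hK := Lib.Components.pPrimeCore_coprime (G := G) p
  have hNimg := Lib.Components.map_normalizer_pGroup (O := K) hP hK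
  set N := normalizer (P : Set G)
  set Nb := normalizer ((P.map π : Subgroup (G ⧸ K)) : Set (G ⧸ K))
  let f : ↥N →* ↥Nb := (MulEquiv.subgroupCongr hNimg).toMonoidHom.comp (π.subgroupMap _)
  have hf : Function.Surjective f :=
    (MulEquiv.subgroupCongr hNimg).surjective.comp (π.subgroupMap_surjective _)
  set C := (centralizer (P : Set G)).subgroupOf N with hC
  set Cb := (centralizer ((P.map π : Subgroup (G ⧸ K)) : Set (G ⧸ K))).subgroupOf Nb with hCb
  have hdisj : P ⊓ K = ⊥ := disjoint_iff.mp (disjoint_of_coprime_natCard (by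
    obtain ⟨k, hk⟩ := IsPGroup.iff_card.mp hP
    rw [hk]; exact hK.symm.pow_left k))
  have hcomp : C = Cb.comap f := by
    ext x
    show (x : G) ∈ centralizer (P : Set G) ↔ π (x : G) ∈ centralizer ((P.map π : Subgroup (G ⧸ K)) : Set (G ⧸ K))
    refine ⟨fun hx => mem_centralizer_iff.mpr ?_, fun hx => mem_centralizer_iff.mpr fun y hy => ?_⟩
    · rintro _ ⟨y, hy, rfl⟩
      rw [← map_mul, ← map_mul, mem_centralizer_iff.mp hx y hy]
    · have h1 : ⁅y, (x : G)⁆ ∈ P ⊓ K := by
        refine ⟨?_, (QuotientGroup.eq_one_iff _).mp ?_⟩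
        · rw [commutatorElement_def, mul_assoc, mul_assoc, ← mul_assoc (x : G)]
          exact mul_mem hy ((mem_normalizer_iff.mp x.2 _).mp (inv_mem hy))
        · show π ⁅y, (x : G)⁆ = 1
          rw [map_commutatorElement, commutatorElement_eq_one_iff_commute]
          exact mem_centralizer_iff.mp hx _ (mem_map_of_mem π hy)
      rw [hdisj, mem_bot, commutatorElement_eq_one_iff_commute] at h1
      exact h1.eq
  let φ : ↥N ⧸ C →* ↥Nb ⧸ Cb := QuotientGroup.map C Cb f hcomp.le
  have hφs : Function.Surjective φ := by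
    intro y
    obtain ⟨y, rfl⟩ := QuotientGroup.mk_surjective y
    obtain ⟨x, rfl⟩ := hf y
    exact ⟨QuotientGroup.mk x, rfl⟩
  have hφi : Function.Injective φ := by
    rw [← MonoidHom.ker_eq_bot_iff, eq_bot_iff]
    intro q hq
    obtain ⟨x, rfl⟩ := QuotientGroup.mk_surjective q
    refine mem_bot.mpr ((QuotientGroup.eq_one_iff _).mpr ?_)
    rw [hcomp]
    exact (QuotientGroup.eq_one_iff (f x)).mp (MonoidHom.mem_ker.mp hq)
  constructor
  · intro h
    rintro _ ⟨⟨_, hy⟩, ⟨a, ha, rfl⟩, rfl⟩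
    exact Lib.Thompson.map_pCore_le_of_surjective hφs
      ⟨_, h (mem_map_of_mem _ (show (⟨a, hA ha⟩ : ↥N) ∈ A.subgroupOf N from ha)), rfl⟩
  · intro h
    rintro _ ⟨x, hx, rfl⟩
    have hle : (Cfsg.pCore p (↥Nb ⧸ Cb)).comap φ ≤ Cfsg.pCore p (↥N ⧸ C) :=
      Lib.Hall.le_pCore ((Lib.Hall.isPGroup_pCore p).comap_of_injective φ hφi)
    exact hle (h (mem_map_of_mem (QuotientGroup.mk' Cb) (show f x ∈ (A.map π).subgroupOf Nb from mem_map_of_mem π hx)))


/-- For a group with a nontrivial normal p-subgroup, p-stability passes to and from the quotient by the largest normal subgroup of order prime to p. -/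
theorem result {G : Type*} [Group G] [Finite G] {p : ℕ} [Fact p.Prime] (hO : Cfsg.pCore p G ≠ ⊥) : Cfsg.IsPStable p G ↔ Cfsg.IsPStable p (G ⧸ Cfsg.pPrimeCore p G) := by
  let K := Cfsg.pPrimeCore p G
  let π := QuotientGroup.mk' K
  have hK := Lib.Components.pPrimeCore_coprime (G := G) p
  have hbot : Cfsg.pPrimeCore p (G ⧸ K) = ⊥ := Lib.OddLocal.pPrimeCore_quotient_eq_bot p
  have hdisj : ∀ P : Subgroup G, IsPGroup p P → P ⊓ K = ⊥ := fun P hP =>
    disjoint_iff.mp (disjoint_of_coprime_natCard (by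
      obtain ⟨k, hk⟩ := IsPGroup.iff_card.mp hP
      rw [hk]; exact hK.symm.pow_left k))
  constructor
  · rintro ⟨hodd, -, h⟩
    refine ⟨hodd, fun hb => hO ?_, ?_⟩
    · have h1 := Lib.Thompson.map_pCore_le_of_surjective (p := p) (QuotientGroup.mk'_surjective K)
      rw [hb, le_bot_iff, Subgroup.map_eq_bot_iff, QuotientGroup.ker_mk'] at h1
      rw [← inf_eq_left.mpr h1]
      exact hdisj _ (Lib.Hall.isPGroup_pCore p)
    intro Ab Pb hAb hPb hnorm hle hn hquad
    rw [hbot, bot_sup_eq] at hn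
    let S : Sylow p G := Classical.arbitrary _
    set P := (S : Subgroup G) ⊓ Pb.comap π with hPdef
    have hPp : IsPGroup p P := S.2.to_le inf_le_left
    have himg : P.map π = Pb := by
      refine le_antisymm ((map_mono inf_le_right).trans (map_comap_le _ _)) fun y hy => ?_
      obtain ⟨s, hs', rfl⟩ := ((Lib.Hall.le_pCore hPb).trans
        (Lib.Hall.pCore_le_sylow (S.mapSurjective (QuotientGroup.mk'_surjective K)))) hy
      exact ⟨s, ⟨hs', hy⟩, rfl⟩
    have hNimg := Lib.Components.map_normalizer_pGroup (O := K) hPp hK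
    rw [himg, normalizer_eq_top (H := Pb)] at hNimg
    let f : ↥(normalizer (P : Set G)) →* G ⧸ K := π.comp (Subgroup.subtype _)
    have hf : Function.Surjective f := fun y => by
      obtain ⟨x, hx, rfl⟩ := hNimg.ge (mem_top y)
      exact ⟨⟨x, hx⟩, rfl⟩
    let φ : ↥(Ab.comap f) →* ↥Ab := f.subgroupComap Ab
    have hφ : Function.Surjective φ := f.subgroupComap_surjective_of_surjective _ hf
    obtain ⟨T⟩ := (inferInstance : Nonempty (Sylow p ↥(Ab.comap f)))
    set A := ((T : Subgroup ↥(Ab.comap f)).map (Ab.comap f).subtype).map (normalizer (P : Set G)).subtype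
    have hAp : IsPGroup p A := (T.2.map _).map _
    have hAN : A ≤ normalizer (P : Set G) := map_subtype_le _
    have hAimg : A.map π = Ab := by
      refine le_antisymm ?_ fun y hy => ?_
      · rintro _ ⟨_, ⟨_, ⟨t, -, rfl⟩, rfl⟩, rfl⟩
        exact t.2
      · have h1 : ((T.mapSurjective hφ : Sylow p ↥Ab) : Subgroup ↥Ab) = ⊤ :=
          ((T.mapSurjective hφ).3 (hAb.of_equiv topEquiv.symm) le_top).symm
        have h2 : (⟨y, hy⟩ : ↥Ab) ∈ (T : Subgroup ↥(Ab.comap f)).map φ := by
          rw [← Sylow.coe_mapSurjective hφ T, h1]; exact mem_top _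
        obtain ⟨t, ht, hty⟩ := h2
        exact ⟨_, ⟨_, ⟨t, ht, rfl⟩, rfl⟩, congrArg Subtype.val hty⟩
    have hKP : K ⊔ P = Pb.comap π := by rw [← himg, comap_map_eq, QuotientGroup.ker_mk', sup_comm]
    have hc := h A P hAp hPp (fun a ha x hx => (mem_normalizer_iff.mp (hAN ha) x).mp hx)
      (inf_le_right.trans (comap_mono (Lib.Hall.le_pCore hPb))) (by rw [hKP]; exact hn.comap π) (by
        have h1 : ⁅P, A⁆ ≤ P := le_normalizer_iff_commutator_le_left.mp hAN
        have h2 : ⁅⁅P, A⁆, A⁆ ≤ P := (commutator_mono h1 le_rfl).trans h1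
        refine le_bot_iff.mp ((le_inf h2 fun x hx => ?_).trans (hdisj P hPp).le)
        have hx' := mem_map_of_mem π hx
        rw [map_commutator, map_commutator, himg, hAimg, hquad, mem_bot] at hx'
        exact (QuotientGroup.eq_one_iff x).mp hx')
    have := (cond_iff hPp A hAN).mp hc
    rw [himg, hAimg] at this
    exact this
  · rintro ⟨hodd, -, h⟩
    refine ⟨hodd, hO, ?_⟩
    intro A P hA hP hnorm hle hn hquad
    have hAN : A ≤ normalizer (P : Set G) := fun a ha =>
      Lib.Thompson.mem_normalizer_of_forall_conj (hnorm a ha)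
    refine (cond_iff hP A hAN).mpr (h _ _ (hA.map π) (hP.map π) ?_ ?_ ?_ ?_)
    · rintro _ ⟨a, ha, rfl⟩ _ ⟨x, hx, rfl⟩
      exact ⟨a * x * a⁻¹, hnorm a ha x hx, by rw [map_mul, map_mul, map_inv]⟩
    · intro y hy
      show QuotientGroup.mk' _ y ∈ Cfsg.pCore p _
      exact Lib.Thompson.map_pCore_le_of_surjective (QuotientGroup.mk'_surjective _)
        ⟨y, ((map_mono hle).trans Lib.Thompson.pPrimePCore_map.le) hy, rfl⟩
    · rw [hbot, bot_sup_eq]
      have h1 := hn.map π (QuotientGroup.mk'_surjective K)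
      rwa [Subgroup.map_sup, QuotientGroup.map_mk'_self, bot_sup_eq] at h1
    · rw [← map_commutator, ← map_commutator, hquad, Subgroup.map_bot]

end Cfsg.Agent.S0632
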