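import Cfsg.Statements.S0647

set_option autoImplicit false
open Cfsg Subgroup
open scoped Pointwise commutatorElement

namespace Cfsg.Agent.S0647

/-- For a nonempty family of maximal abelian subgroups of a finite group, the intersection of the family is the centre of the subgroup it generates, which is also the full centralizer of that subgroup. -/
theorem result {S : Type*} [Group S] [Finite S] (𝒜 : Set (Subgroup S)) (hne : 𝒜.Nonempty) (hab : ∀ A ∈ 𝒜, IsMulCommutative A) (hmax : ∀ A ∈ 𝒜, ∀ B : Subgroup S, IsMulCommutative B → A ≤ B → B = A) : sInf 𝒜 = sSup 𝒜 ⊓ Subgroup.centralizer ((sSup 𝒜 : Subgroup S) : Set S) ∧ sInf 𝒜 = Subgroup.centralizer ((sSup 𝒜 : Subgroup S) : Set S) := by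
  have hCA : ∀ A ∈ 𝒜, centralizer (A : Set S) = A := by
    intro A hA
    have hAC : A ≤ centralizer (A : Set S) := le_centralizer_iff_isMulCommutative.mpr (hab A hA)
    refine le_antisymm (fun y hy => ?_) hAC
    have hc : IsMulCommutative (A ⊔ zpowers y : Subgroup S) := by
      rw [show A ⊔ zpowers y = closure ((A : Set S) ∪ {y}) by
        rw [Subgroup.closure_union, closure_eq, zpowers_eq_closure]]
      refine isMulCommutative_closure ?_
      rintro u (hu | rfl) v (hv | rfl)
      · exact mem_centralizer_iff.mp (hAC hv) u hu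
      · exact mem_centralizer_iff.mp hy u hu
      · exact (mem_centralizer_iff.mp hy v hv).symm
      · rfl
    rw [← hmax A hA _ hc le_sup_left]
    exact mem_sup_right (mem_zpowers y)
  have h1 : sInf 𝒜 = centralizer ((sSup 𝒜 : Subgroup S) : Set S) := by
    refine le_antisymm ?_ ?_
    · refine le_centralizer_iff.mp (sSup_le fun A hA => ?_)
      exact ((hCA A hA).ge.trans (centralizer_le (SetLike.coe_subset_coe.mpr (sInf_le hA))))
    · exact le_sInf fun A hA => (centralizer_le (SetLike.coe_subset_coe.mpr (le_sSup hA))).trans (hCA A hA).le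
  refine ⟨?_, h1⟩
  obtain ⟨A, hA⟩ := hne
  rw [← h1]
  exact (inf_eq_right.mpr ((sInf_le hA).trans (le_sSup hA))).symm

end Cfsg.Agent.S0647
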