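import Cfsg.Statements.S0655

set_option autoImplicit false
open Cfsg Subgroup
open scoped Pointwise commutatorElement

namespace Cfsg.Agent.S0655

/-- In a p-group the intersection of all elementary abelian subgroups of largest order is the subgroup generated by the elements of order dividing p in the centre (equivalently the centralizer) of the elementary-version Thompson subgroup. -/
theorem result {S : Type*} [Group S] [Finite S] {p : ℕ} [Fact p.Prime] (hS : IsPGroup p S) : sInf (Cfsg.maxElementaryAbelianSubgroups p S) = Cfsg.omegaCenterThompson p S ∧ Cfsg.omegaCenterThompson p S = Cfsg.omegaOne p (Subgroup.centralizer (Cfsg.thompsonSubgroup p S : Set S)) := by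
  have hne : (maxElementaryAbelianSubgroups p S).Nonempty := by
    have hb : IsElementaryAbelian p (⊥ : Subgroup S) := ⟨⟨⟨fun a b => Subtype.ext (by
      rw [Subgroup.coe_mul, Subgroup.coe_mul, mem_bot.mp a.2, mem_bot.mp b.2])⟩⟩,
      fun a ha => by rw [mem_bot.mp ha, one_pow]⟩
    have : Nonempty {B : Subgroup S // IsElementaryAbelian p B} := ⟨⟨⊥, hb⟩⟩
    obtain ⟨A, hA⟩ := Finite.exists_max (fun B : {B : Subgroup S // IsElementaryAbelian p B} => Nat.card B.1)
    exact ⟨A.1, A.2, fun B hB => hA ⟨B, hB⟩⟩
  have hJ : ∀ A ∈ maxElementaryAbelianSubgroups p S, A ≤ thompsonSubgroup p S := fun A hA => le_sSup hA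
  have h1 : sInf (maxElementaryAbelianSubgroups p S) ≤ omegaCenterThompson p S := by
    intro x hx
    obtain ⟨A, hA⟩ := hne
    have hxA : ∀ B ∈ maxElementaryAbelianSubgroups p S, x ∈ B := fun B hB => mem_sInf.mp hx B hB
    refine subset_closure ⟨⟨hJ A hA (hxA A hA), ?_⟩, hA.1.2 x (hxA A hA)⟩
    have hle : thompsonSubgroup p S ≤ centralizer ({x} : Set S) := sSup_le fun B hB u hu =>
      mem_centralizer_singleton_iff.mpr
        (mem_centralizer_iff.mp (le_centralizer_iff_isMulCommutative.mpr hB.1.1 (hxA B hB)) u hu)
    exact mem_centralizer_iff.mpr fun u hu => mem_centralizer_singleton_iff.mp (hle hu)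
  have h2 : omegaCenterThompson p S ≤ omegaOne p (centralizer (thompsonSubgroup p S : Set S)) :=
    closure_mono fun x hx => ⟨hx.1.2, hx.2⟩
  have h3 : omegaOne p (centralizer (thompsonSubgroup p S : Set S)) ≤
      sInf (maxElementaryAbelianSubgroups p S) := by
    refine (closure_le _).mpr fun x hx => mem_sInf.mpr fun A hA => ?_
    have hAC : A ≤ centralizer (A : Set S) := le_centralizer_iff_isMulCommutative.mpr hA.1.1
    have hxC : ∀ u ∈ A, u * x = x * u := fun u hu => mem_centralizer_iff.mp hx.1 u (hJ A hA hu)
    have hE : IsElementaryAbelian p (A ⊔ zpowers x) := by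
      have hc : IsMulCommutative (A ⊔ zpowers x : Subgroup S) := by
        rw [show A ⊔ zpowers x = closure ((A : Set S) ∪ {x}) by
          rw [Subgroup.closure_union, closure_eq, zpowers_eq_closure]]
        refine isMulCommutative_closure ?_
        rintro u (hu | rfl) v (hv | rfl)
        · exact mem_centralizer_iff.mp (hAC hv) u hu
        · exact hxC u hu
        · exact (hxC v hv).symm
        · rfl
      have hle : A ⊔ zpowers x = closure ((A : Set S) ∪ {x}) := by
        rw [Subgroup.closure_union, closure_eq, zpowers_eq_closure]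
      refine ⟨hc, fun u hu => ?_⟩
      have hu' := hle.le hu
      induction hu' using closure_induction with
      | mem v hv =>
        rcases hv with hv | rfl
        exacts [hA.1.2 v hv, hx.2]
      | one => exact one_pow p
      | mul v w hv hw ihv ihw =>
        have hcm : Commute v w := mem_centralizer_iff.mp
          (le_centralizer_iff_isMulCommutative.mpr hc (hle.ge hw)) v (hle.ge hv)
        rw [hcm.mul_pow, ihv (hle.ge hv), ihw (hle.ge hw), one_mul]
      | inv v hv ihv => rw [inv_pow, ihv (hle.ge hv), inv_one]
    have heq : A = A ⊔ zpowers x := eq_of_le_of_card_ge le_sup_left (hA.2 _ hE)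
    rw [heq]
    exact mem_sup_right (mem_zpowers x)
  exact ⟨le_antisymm h1 (h2.trans h3), le_antisymm h2 (h3.trans h1)⟩

end Cfsg.Agent.S0655
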