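import Cfsg.Statements.S0658
import Cfsg.Agent.S0667

set_option autoImplicit false
open Cfsg Subgroup
open scoped Pointwise commutatorElement

namespace Cfsg.Agent.S0658

variable {G : Type*} [Group G] [Finite G] {p : ℕ} [Fact p.Prime]

abbrev zj (P : Subgroup G) : Subgroup G := Cfsg.centerThompsonAOf P

omit [Finite G] [Fact p.Prime] in
theorem exists_sylow_normalizer {X U : Subgroup G} (hX : IsPGroup p X) (hXU : X ≤ normalizer (U : Set G)) :
    ∃ (T : Sylow p ↥(normalizer (U : Set G))) (P : Sylow p G),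
      (T : Subgroup ↥(normalizer (U : Set G))).map (normalizer (U : Set G)).subtype =
          (P : Subgroup G) ⊓ normalizer (U : Set G) ∧
        X ≤ (P : Subgroup G) ⊓ normalizer (U : Set G) := by
  obtain ⟨T, hT⟩ := (hX.comap_subtype (K := normalizer (U : Set G))).exists_le_sylow
  obtain ⟨P, hP⟩ := (T.2.map (normalizer (U : Set G)).subtype).exists_le_sylow
  have h1 : T ≤ (P : Subgroup G).subgroupOf (normalizer (U : Set G)) := fun x hx => hP (mem_map_of_mem _ hx)
  have h2 := T.3 P.2.comap_subtype h1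
  refine ⟨T, P, ?_, ?_⟩
  · rw [← h2]; exact subgroupOf_map_subtype _ _
  · refine le_inf (fun x hx => ?_) hXU
    have : (⟨x, hXU hx⟩ : normalizer (U : Set G)) ∈ (P : Subgroup G).subgroupOf _ := h1 (hT hx)
    exact this

theorem lt_inf_normalizer {R P : Subgroup G} (hP : IsPGroup p P) (h : R < P) :
    R < P ⊓ normalizer (R : Set G) := by
  refine lt_of_le_of_ne (le_inf h.le le_normalizer) fun e => ?_
  have : Group.IsNilpotent P := hP.isNilpotent
  have h' := Group.normalizerCondition_of_isNilpotent (G := P) (R.subgroupOf P) (lt_top_iff_ne_top.mpr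
    fun ht => not_le_of_gt h (subgroupOf_eq_top.mp ht))
  refine not_le_of_gt h' fun x hx => ?_
  rw [← subgroupOf_normalizer_eq h.le] at hx
  exact e.ge ⟨x.2, hx⟩

theorem zj_ne_bot {S : Subgroup G} (hS : IsPGroup p S) (h : S ≠ ⊥) : zj S ≠ ⊥ := by
  have : Nontrivial S := (nontrivial_iff_ne_bot S).mpr h
  obtain ⟨z, hz, hz1⟩ := nontrivial_iff_exists_ne_one (center S) |>.mp hS.center_nontrivial
  intro hb
  obtain ⟨A, hA⟩ := Lib.Thompson.exists_maxAbelian (G := S)
  have := hA.1
  have hE : IsMulCommutative (closure ((A : Set S) ∪ {z})) := by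
    refine isMulCommutative_closure ?_
    rintro u (hu | hu) v (hv | hv)
    · exact congrArg Subtype.val (mul_comm' (⟨u, hu⟩ : A) ⟨v, hv⟩)
    · rw [Set.mem_singleton_iff.mp hv]; exact mem_center_iff.mp hz u
    · rw [Set.mem_singleton_iff.mp hu]; exact (mem_center_iff.mp hz v).symm
    · rw [Set.mem_singleton_iff.mp hu, Set.mem_singleton_iff.mp hv]
  have hzA : z ∈ A := by
    rw [eq_of_le_of_card_ge (fun a ha => subset_closure (Or.inl ha) : A ≤ closure ((A : Set S) ∪ {z}))
      (hA.2 _ hE)]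
    exact subset_closure (Or.inr rfl)
  have : (z : G) ∈ zj S := by
    refine ⟨mem_map_of_mem _ (le_sSup hA hzA : z ∈ Cfsg.thompsonSubgroupA S), mem_centralizer_iff.mpr ?_⟩
    rintro _ ⟨y, -, rfl⟩
    exact congrArg Subtype.val (mem_center_iff.mp hz y)
  rw [hb, mem_bot] at this
  exact hz1 (Subtype.ext this)

variable (hp : p ≠ 2)
  (hloc : ∀ Q : Subgroup G, IsPGroup p Q → Q ≠ ⊥ → Cfsg.pPrimeCore p ↥(normalizer (Q : Set G)) = ⊥ ∧
    Cfsg.IsPConstrained p ↥(normalizer (Q : Set G)) ∧ Cfsg.IsPStable p ↥(normalizer (Q : Set G)))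

include hp hloc in
theorem le_normalizer_zj {U : Subgroup G} (hU : IsPGroup p U) (hU1 : U ≠ ⊥) (P : Sylow p G)
    (T : Sylow p ↥(normalizer (U : Set G)))
    (hT : (T : Subgroup ↥(normalizer (U : Set G))).map (normalizer (U : Set G)).subtype =
      (P : Subgroup G) ⊓ normalizer (U : Set G)) :
    normalizer (U : Set G) ≤ normalizer (zj ((P : Subgroup G) ⊓ normalizer (U : Set G)) : Set G) := by
  obtain ⟨h1, h2, h3⟩ := hloc U hU hU1
  have hn := (S0667.result hp h2 h3 T).2 h1
  have he := Lib.Thompson.map_centerThompsonAOf (normalizer (U : Set G)).subtype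
    (T : Subgroup ↥(normalizer (U : Set G))) (fun _ _ _ _ h => Subtype.ext h)
  rw [hT] at he
  intro x hx
  rw [show zj ((P : Subgroup G) ⊓ normalizer (U : Set G)) = _ from he.symm]
  refine Lib.Thompson.mem_normalizer_of_forall_conj ?_
  rintro _ ⟨y, hy, rfl⟩
  exact ⟨_, hn.conj_mem y hy ⟨x, hx⟩, rfl⟩

/-- The two statements proved by descending induction. -/
def Claim (p : ℕ) (G : Type*) [Group G] (n : ℕ) : Prop :=
  (∀ P P' : Sylow p G, n ≤ Nat.card ((P : Subgroup G) ⊓ (P' : Subgroup G) : Subgroup G) →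
      (P : Subgroup G) ⊓ (P' : Subgroup G) ≠ ⊥ →
      normalizer (zj (P : Subgroup G) : Set G) = normalizer (zj (P' : Subgroup G) : Set G)) ∧
  ∀ (U : Subgroup G), IsPGroup p U → U ≠ ⊥ → ∀ (P : Sylow p G) (T : Sylow p ↥(normalizer (U : Set G))),
      (T : Subgroup ↥(normalizer (U : Set G))).map (normalizer (U : Set G)).subtype =
          (P : Subgroup G) ⊓ normalizer (U : Set G) →
      n ≤ Nat.card ((P : Subgroup G) ⊓ normalizer (U : Set G) : Subgroup G) →
      normalizer (U : Set G) ≤ normalizer (zj (P : Subgroup G) : Set G)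

theorem card_lt_of_lt {H K : Subgroup G} (h : H < K) : Nat.card H < Nat.card K :=
  Set.ncard_lt_ncard (SetLike.coe_ssubset_coe.mpr h) (Set.toFinite _)

include hp hloc in
theorem claim_step (n : ℕ) (ih : Claim p G (n + 1)) : Claim p G n := by
  obtain ⟨ihA, ihB⟩ := ih
  have hB : ∀ (U : Subgroup G), IsPGroup p U → U ≠ ⊥ →
      ∀ (P : Sylow p G) (T : Sylow p ↥(normalizer (U : Set G))),
      (T : Subgroup ↥(normalizer (U : Set G))).map (normalizer (U : Set G)).subtype =
          (P : Subgroup G) ⊓ normalizer (U : Set G) →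
      n ≤ Nat.card ((P : Subgroup G) ⊓ normalizer (U : Set G) : Subgroup G) →
      normalizer (U : Set G) ≤ normalizer (zj (P : Subgroup G) : Set G) := by
    intro U hU hU1 P T hT hn
    have hle := le_normalizer_zj hp hloc hU hU1 P T hT
    set S₁ := (P : Subgroup G) ⊓ normalizer (U : Set G)
    rcases eq_or_lt_of_le (inf_le_left : S₁ ≤ (P : Subgroup G)) with he | hlt
    · rwa [show S₁ = (P : Subgroup G) from he] at hle
    replace hlt : S₁ < (P : Subgroup G) := hlt
    have hS : IsPGroup p S₁ := P.2.to_le inf_le_left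
    have hS1 : S₁ ≠ ⊥ := by
      rw [← hT]
      intro hb
      rw [map_eq_bot_iff_of_injective _ (subtype_injective _)] at hb
      obtain ⟨T', hT'⟩ := (hU.comap_subtype (K := normalizer (U : Set G))).exists_le_sylow
      have hb' : (T' : Subgroup ↥(normalizer (U : Set G))) = ⊥ := by
        rw [← card_eq_one, T'.card_eq_multiplicity, ← T.card_eq_multiplicity, hb, card_bot]
      rw [hb', le_bot_iff] at hT'
      have hd := disjoint_iff.mp (subgroupOf_eq_bot.mp hT')
      rw [inf_eq_left.mpr le_normalizer] at hd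
      exact hU1 hd
    have hZ := zj_ne_bot hS hS1
    have hZp : IsPGroup p (zj S₁) := hS.to_le (inf_le_left.trans (map_subtype_le _))
    have hN : (P : Subgroup G) ⊓ normalizer (S₁ : Set G) ≤ normalizer (zj S₁ : Set G) := by
      intro x hx
      refine Lib.Thompson.mem_normalizer_of_forall_conj fun y hy => ?_
      have h := Lib.Thompson.map_centerThompsonAOf (MulAut.conj x).toMonoidHom S₁
        (fun _ _ _ _ h => (MulAut.conj x).injective h)
      have e : S₁.map (MulAut.conj x).toMonoidHom = S₁ := by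
        refine eq_of_le_of_card_ge ?_ (card_map_of_injective (MulAut.conj x).injective).ge
        rintro _ ⟨s, hs, rfl⟩
        exact (mem_normalizer_iff.mp hx.2 s).mp hs
      rw [e] at h
      have hm := mem_map_of_mem (K := Cfsg.centerThompsonAOf S₁) (MulAut.conj x).toMonoidHom hy
      rw [h] at hm
      exact hm
    have hlt' := lt_inf_normalizer P.2 hlt
    obtain ⟨T₂, P₂, hT₂, hX⟩ := exists_sylow_normalizer (P.2.to_le inf_le_left) hN
    have hcard := card_lt_of_lt hlt'
    have h2 := ihB (zj S₁) hZp hZ P₂ T₂ hT₂ (by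
      have := card_le_of_le hX
      omega)
    have hint : (P : Subgroup G) ⊓ normalizer (S₁ : Set G) ≤ (P : Subgroup G) ⊓ (P₂ : Subgroup G) :=
      le_inf inf_le_left (hX.trans inf_le_left)
    rw [ihA P P₂ (by have := card_le_of_le hint; omega)
      (fun hb => hS1 (le_bot_iff.mp (hb ▸ hlt'.le.trans hint)))]
    exact hle.trans h2
  refine ⟨fun P P' hn hne => ?_, hB⟩
  set R := (P : Subgroup G) ⊓ (P' : Subgroup G)
  rcases eq_or_lt_of_le (inf_le_left : R ≤ (P : Subgroup G)) with he | hlt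
  · have he' : (P' : Subgroup G) = (P : Subgroup G) :=
      P.3 P'.2 (he ▸ inf_le_right)
    rw [he']
  replace hlt : R < (P : Subgroup G) := hlt
  have hlt' : R < (P' : Subgroup G) := by
    refine lt_of_le_of_ne inf_le_right fun e => hlt.ne ?_
    exact e.trans (P'.3 P.2 (e ▸ inf_le_left)).symm
  have hR : IsPGroup p R := P.2.to_le inf_le_left
  have h1 := lt_inf_normalizer P.2 hlt
  have h2 := lt_inf_normalizer P'.2 hlt'
  obtain ⟨T₁, P₁, hT₁, hX₁⟩ := exists_sylow_normalizer (P.2.to_le inf_le_left)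
    (inf_le_right : (P : Subgroup G) ⊓ normalizer (R : Set G) ≤ _)
  obtain ⟨T₂, P₂, hT₂, hX₂⟩ := exists_sylow_normalizer (P'.2.to_le inf_le_left)
    (inf_le_right : (P' : Subgroup G) ⊓ normalizer (R : Set G) ≤ _)
  have hc1 := card_lt_of_lt h1
  have hc2 := card_lt_of_lt h2
  have hne' : R ≠ ⊥ := hne
  have hN1 := ihB R hR hne P₁ T₁ hT₁ (by have := card_le_of_le hX₁; omega)
  have e1 : normalizer (zj (P : Subgroup G) : Set G) = normalizer (zj (P₁ : Subgroup G) : Set G) := by
    have hint : (P : Subgroup G) ⊓ normalizer (R : Set G) ≤ (P : Subgroup G) ⊓ (P₁ : Subgroup G) :=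
      le_inf inf_le_left (hX₁.trans inf_le_left)
    exact ihA P P₁ (by have := card_le_of_le hint; omega)
      (fun hb => hne' (le_bot_iff.mp (hb ▸ h1.le.trans hint)))
  obtain ⟨x, hx⟩ := MulAction.exists_smul_eq (↥(normalizer (R : Set G))) T₁ T₂
  let P₃ : Sylow p G := (x : G) • P₁
  have hP₃ : (P₃ : Subgroup G) = (P₁ : Subgroup G).map (MulAut.conj (x : G)).toMonoidHom := rfl
  have hint : (P' : Subgroup G) ⊓ normalizer (R : Set G) ≤ (P' : Subgroup G) ⊓ (P₃ : Subgroup G) := by
    refine le_inf inf_le_left ?_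
    intro y hy
    have hy2 : y ∈ (T₂ : Subgroup ↥(normalizer (R : Set G))).map (normalizer (R : Set G)).subtype := by
      rw [hT₂]; exact hX₂ hy
    rw [← hx] at hy2
    obtain ⟨_, ⟨t, ht, rfl⟩, rfl⟩ := hy2
    have ht' := mem_map_of_mem (normalizer (R : Set G)).subtype ht
    rw [hT₁] at ht'
    rw [hP₃]
    exact ⟨_, ht'.1, rfl⟩
  rw [ihA P' P₃ (by have := card_le_of_le hint; omega)
    (fun hb => hne' (le_bot_iff.mp (hb ▸ h2.le.trans hint))), e1]
  have hxN := hN1 x.2
  have h := Lib.Thompson.map_centerThompsonAOf (MulAut.conj (x : G)).toMonoidHom (P₁ : Subgroup G)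
    (fun _ _ _ _ h => (MulAut.conj (x : G)).injective h)
  rw [← hP₃] at h
  show normalizer (zj (P₁ : Subgroup G) : Set G) = normalizer (Cfsg.centerThompsonAOf (P₃ : Subgroup G) : Set G)
  rw [← h]
  congr 2
  refine (eq_of_le_of_card_ge ?_ (card_map_of_injective (MulAut.conj (x : G)).injective).ge).symm
  rintro _ ⟨y, hy, rfl⟩
  exact (mem_normalizer_iff.mp hxN y).mp hy

include hp hloc in
theorem claim_all (n : ℕ) : Claim p G n := by
  by_cases h : Nat.card G < n
  · exact ⟨fun P P' hn => absurd (hn.trans (card_le_card_group _)) (by omega),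
      fun U _ _ P T _ hn => absurd (hn.trans (card_le_card_group _)) (by omega)⟩
  · exact claim_step hp hloc n (claim_all (n + 1))
  termination_by Nat.card G + 1 - n


/-- In a group of characteristic p type all of whose p-locals are p-stable (p odd), the normalizer of Z(J(P)) contains the normalizer of every nontrivial subgroup of the Sylow p-subgroup P. -/
theorem result {G : Type*} [Group G] [Finite G] {p : ℕ} [Fact p.Prime] (hp : p ≠ 2) (hloc : ∀ Q : Subgroup G, IsPGroup p Q → Q ≠ ⊥ → Cfsg.pPrimeCore p ↥(Subgroup.normalizer (Q : Set G)) = ⊥ ∧ Cfsg.IsPConstrained p ↥(Subgroup.normalizer (Q : Set G)) ∧ Cfsg.IsPStable p ↥(Subgroup.normalizer (Q : Set G))) (P : Sylow p G) (Q : Subgroup G) (hQP : Q ≤ (P : Subgroup G)) (hQ1 : Q ≠ ⊥) : Subgroup.normalizer (Q : Set G) ≤ Subgroup.normalizer (Cfsg.centerThompsonAOf ((P : Subgroup G)) : Set G) := by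
  have hQp : IsPGroup p Q := P.2.to_le hQP
  obtain ⟨T, P₁, hT, hX⟩ := exists_sylow_normalizer hQp (le_normalizer : Q ≤ Subgroup.normalizer (Q : Set G))
  obtain ⟨hA, hB⟩ := claim_all hp hloc 0
  rw [hA P P₁ (Nat.zero_le _) (fun hb => hQ1 (le_bot_iff.mp (hb ▸ le_inf hQP (hX.trans inf_le_left))))]
  exact hB Q hQp hQ1 P₁ T hT (Nat.zero_le _)

end Cfsg.Agent.S0658
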