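import Cfsg.Statements.S0692
import Cfsg.Agent.Lib.Perm.Mat2
import Mathlib.Algebra.Group.Subgroup.Pointwise

set_option autoImplicit false
open Cfsg

namespace Cfsg.Agent.S0692

open Cfsg.Agent.Lib.Perm Matrix

/-- The generators as quadruples. -/
def gq : List Mat2.Q := [(0, 10, 1, 0), (2, 4, 1, 8)]

/-- Words for the elements. -/
def words : List (List ℕ) :=
  [[], [0], [1], [0, 0], [1, 0], [0, 1], [1, 1], [0, 0, 0], [1, 0, 0], [0, 1, 0],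
    [1, 1, 0], [1, 0, 1], [0, 1, 1], [1, 0, 0, 0], [0, 1, 0, 0], [1, 1, 0, 0], [1, 0, 1, 0], [0, 1, 1, 0], [0, 1, 0, 1], [1, 1, 0, 1],
    [1, 0, 1, 1], [0, 1, 0, 0, 0], [1, 1, 0, 0, 0], [1, 0, 1, 0, 0], [0, 1, 1, 0, 0], [0, 1, 0, 1, 0], [1, 1, 0, 1, 0], [1, 0, 1, 1, 0], [1, 0, 1, 0, 1], [0, 1, 1, 0, 1],
    [0, 1, 0, 1, 1], [1, 1, 0, 1, 1], [1, 0, 1, 0, 0, 0], [0, 1, 1, 0, 0, 0], [0, 1, 0, 1, 0, 0], [1, 1, 0, 1, 0, 0], [1, 0, 1, 1, 0, 0], [1, 0, 1, 0, 1, 0], [0, 1, 1, 0, 1, 0], [0, 1, 0, 1, 1, 0],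
    [1, 1, 0, 1, 1, 0], [1, 1, 0, 1, 0, 1], [1, 0, 1, 1, 0, 1], [1, 0, 1, 0, 1, 1], [0, 1, 0, 1, 0, 0, 0], [1, 1, 0, 1, 0, 0, 0], [1, 0, 1, 1, 0, 0, 0], [1, 0, 1, 0, 1, 0, 0], [0, 1, 1, 0, 1, 0, 0], [0, 1, 0, 1, 1, 0, 0],
    [1, 1, 0, 1, 1, 0, 0], [1, 1, 0, 1, 0, 1, 0], [1, 0, 1, 1, 0, 1, 0], [1, 0, 1, 0, 1, 1, 0], [0, 1, 1, 0, 1, 0, 1], [0, 1, 0, 1, 1, 0, 1], [1, 1, 0, 1, 1, 0, 1], [1, 1, 0, 1, 0, 1, 1], [1, 0, 1, 0, 1, 0, 0, 0], [0, 1, 1, 0, 1, 0, 0, 0],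
    [0, 1, 0, 1, 1, 0, 0, 0], [1, 1, 0, 1, 1, 0, 0, 0], [1, 1, 0, 1, 0, 1, 0, 0], [1, 0, 1, 1, 0, 1, 0, 0], [1, 0, 1, 0, 1, 1, 0, 0], [0, 1, 1, 0, 1, 0, 1, 0], [0, 1, 0, 1, 1, 0, 1, 0], [1, 1, 0, 1, 1, 0, 1, 0], [1, 1, 0, 1, 0, 1, 1, 0], [1, 0, 1, 1, 0, 1, 0, 1],
    [1, 0, 1, 0, 1, 1, 0, 1], [0, 1, 1, 0, 1, 0, 1, 1], [1, 1, 0, 1, 0, 1, 0, 0, 0], [1, 0, 1, 1, 0, 1, 0, 0, 0], [1, 0, 1, 0, 1, 1, 0, 0, 0], [0, 1, 1, 0, 1, 0, 1, 0, 0], [0, 1, 0, 1, 1, 0, 1, 0, 0], [1, 1, 0, 1, 1, 0, 1, 0, 0], [1, 1, 0, 1, 0, 1, 1, 0, 0], [1, 0, 1, 1, 0, 1, 0, 1, 0],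
    [1, 0, 1, 0, 1, 1, 0, 1, 0], [0, 1, 1, 0, 1, 0, 1, 1, 0], [0, 1, 0, 1, 1, 0, 1, 0, 1], [1, 1, 0, 1, 1, 0, 1, 0, 1], [1, 1, 0, 1, 0, 1, 1, 0, 1], [1, 0, 1, 1, 0, 1, 0, 1, 1], [0, 1, 1, 0, 1, 0, 1, 0, 0, 0], [0, 1, 0, 1, 1, 0, 1, 0, 0, 0], [1, 1, 0, 1, 1, 0, 1, 0, 0, 0], [1, 1, 0, 1, 0, 1, 1, 0, 0, 0],
    [1, 0, 1, 1, 0, 1, 0, 1, 0, 0], [1, 0, 1, 0, 1, 1, 0, 1, 0, 0], [0, 1, 1, 0, 1, 0, 1, 1, 0, 0], [0, 1, 0, 1, 1, 0, 1, 0, 1, 0], [1, 1, 0, 1, 1, 0, 1, 0, 1, 0], [1, 1, 0, 1, 0, 1, 1, 0, 1, 0], [1, 0, 1, 1, 0, 1, 0, 1, 1, 0], [1, 0, 1, 0, 1, 1, 0, 1, 0, 1], [0, 1, 1, 0, 1, 0, 1, 1, 0, 1], [0, 1, 0, 1, 1, 0, 1, 0, 1, 1],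
    [1, 0, 1, 1, 0, 1, 0, 1, 0, 0, 0], [1, 0, 1, 0, 1, 1, 0, 1, 0, 0, 0], [0, 1, 0, 1, 1, 0, 1, 0, 1, 0, 0], [1, 1, 0, 1, 1, 0, 1, 0, 1, 0, 0], [1, 1, 0, 1, 0, 1, 1, 0, 1, 0, 0], [1, 0, 1, 1, 0, 1, 0, 1, 1, 0, 0], [0, 1, 1, 0, 1, 0, 1, 1, 0, 1, 0], [0, 1, 0, 1, 1, 0, 1, 0, 1, 1, 0], [1, 1, 0, 1, 0, 1, 1, 0, 1, 0, 1], [1, 0, 1, 1, 0, 1, 0, 1, 1, 0, 1],
    [1, 0, 1, 0, 1, 1, 0, 1, 0, 1, 1], [0, 1, 0, 1, 1, 0, 1, 0, 1, 0, 0, 0], [1, 1, 0, 1, 1, 0, 1, 0, 1, 0, 0, 0], [1, 1, 0, 1, 0, 1, 1, 0, 1, 0, 0, 0], [0, 1, 0, 1, 1, 0, 1, 0, 1, 1, 0, 0], [1, 0, 1, 1, 0, 1, 0, 1, 1, 0, 1, 0], [1, 0, 1, 0, 1, 1, 0, 1, 0, 1, 1, 0], [0, 1, 1, 0, 1, 0, 1, 1, 0, 1, 0, 1], [0, 1, 0, 1, 1, 0, 1, 0, 1, 1, 0, 1], [1, 1, 0, 1, 0, 1, 1, 0, 1, 0, 1, 1]]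

/-- Left multiplication table. -/
def table : List (List ℕ) :=
  [[1, 2], [3, 4], [5, 6], [7, 8], [9, 10], [8, 11], [12, 0], [0, 13], [14, 15], [13, 16],
    [17, 1], [18, 19], [15, 20], [21, 22], [2, 23], [24, 3], [25, 26], [22, 27], [23, 28], [29, 5],
    [30, 31], [4, 32], [33, 7], [34, 35], [6, 36], [32, 37], [38, 9], [39, 40], [40, 41], [35, 42],
    [36, 43], [37, 12], [44, 45], [10, 46], [11, 47], [48, 14], [49, 50], [50, 51], [45, 52], [46, 53],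
    [47, 17], [54, 18], [55, 56], [56, 57], [16, 58], [59, 21], [60, 61], [61, 62], [19, 63], [20, 64],
    [58, 24], [65, 25], [66, 67], [67, 68], [62, 69], [63, 70], [64, 29], [71, 30], [31, 72], [26, 73],
    [27, 74], [28, 33], [75, 34], [76, 77], [77, 78], [72, 79], [73, 80], [74, 38], [81, 39], [82, 83],
    [83, 84], [78, 85], [86, 44], [87, 88], [88, 89], [41, 90], [42, 91], [43, 48], [92, 49], [93, 94],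
    [94, 95], [89, 96], [90, 97], [91, 54], [98, 55], [99, 93], [51, 100], [52, 101], [53, 59], [97, 60],
    [102, 103], [103, 104], [57, 105], [100, 71], [101, 65], [106, 66], [107, 102], [68, 108], [104, 109], [105, 110],
    [111, 112], [112, 113], [69, 81], [70, 75], [110, 76], [114, 111], [113, 115], [108, 116], [117, 82], [118, 114],
    [84, 119], [79, 92], [80, 86], [116, 87], [85, 98], [109, 117], [95, 118], [96, 106], [119, 107], [115, 99]]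

theorem nodup : (words.map (Mat2.evalQ 11 gq)).Nodup := by decide +kernel

theorem closed : ∀ k < words.length, ∀ i < 2, (table.getD k []).getD i 0 < words.length ∧
    Mat2.evalQ 11 gq (i :: words.getD k []) =
      Mat2.evalQ 11 gq (words.getD ((table.getD k []).getD i 0) []) := by decide +kernel

theorem length_eq : words.length = 120 := by decide +kernel

theorem free : ∀ k < words.length, k ≠ 0 → Mat2.freeQ 11 1 (Mat2.evalQ 11 gq (words.getD k [])) = true := by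
  decide +kernel

instance : Fact (Nat.Prime 11) := ⟨by decide⟩

/-- An exceptional sharply doubly transitive group of degree 11^2: the listed matrices generate a subgroup of GL(2,11) of order 120 acting regularly on the non-zero vectors. -/
theorem result (A : Matrix.GeneralLinearGroup (Fin 2) (ZMod 11)) (B : Matrix.GeneralLinearGroup (Fin 2) (ZMod 11)) (hA : (A : Matrix (Fin 2) (Fin 2) (ZMod 11)) = !![0, -1; 1, 0]) (hB : (B : Matrix (Fin 2) (Fin 2) (ZMod 11)) = !![2, 4; 1, -3]) : Nat.card (Subgroup.closure ({A, B} : Set (Matrix.GeneralLinearGroup (Fin 2) (ZMod 11)))) = 120 ∧ ∀ v w : Fin 2 → ZMod 11, v ≠ 0 → w ≠ 0 → ∃! h : Subgroup.closure ({A, B} : Set (Matrix.GeneralLinearGroup (Fin 2) (ZMod 11))), Matrix.mulVec ((h : Matrix.GeneralLinearGroup (Fin 2) (ZMod 11)) : Matrix (Fin 2) (Fin 2) (ZMod 11)) v = w := by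
  have hg : ∀ i, (([A, B].getD i 1 : Matrix.GeneralLinearGroup (Fin 2) (ZMod 11)) : Matrix (Fin 2) (Fin 2) (ZMod 11)) =
      Mat2.toM 11 (gq.getD i (1, 0, 0, 1)) := fun i => by
    match i with
    | 0 => rw [show ([A, B].getD 0 1) = A from rfl, hA]; decide
    | 1 => rw [show ([A, B].getD 1 1) = B from rfl, hB]; decide
    | j + 2 => rw [List.getD_eq_default _ _ (by simp), List.getD_eq_default _ _ (by simp [gq]), Units.val_one, Mat2.toM_one]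
  obtain ⟨hcard, hrep⟩ := Mat2.closure_spec [A, B] gq hg words table rfl (by rw [length_eq]; norm_num) closed nodup
  rw [length_eq] at hcard
  have hset : ({g | g ∈ [A, B]} : Set _) = ({A, B} : Set (Matrix.GeneralLinearGroup (Fin 2) (ZMod 11))) := by
    ext g; simp
  rw [hset] at hcard hrep
  refine ⟨hcard, (Mat2.sharply_transitive _ fun h hh v hv hfix => ?_).2 (by rw [hcard]; rfl)⟩
  obtain ⟨k, hk, hk'⟩ := hrep h hh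
  by_cases h0 : k = 0
  · subst h0
    refine Units.ext ?_
    rw [hk', Units.val_one, ← Mat2.toM_one]
    rfl
  · refine absurd (Mat2.fixed_point_free (free k hk h0) v ?_) hv
    rwa [Nat.cast_one, one_smul, ← hk']

end Cfsg.Agent.S0692
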