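import Cfsg.Statements.S0693
import Cfsg.Agent.Lib.Perm.Mat2
import Mathlib.Algebra.Group.Subgroup.Pointwise

set_option autoImplicit false
open Cfsg

namespace Cfsg.Agent.S0693

open Cfsg.Agent.Lib.Perm Matrix

/-- The generators as quadruples. -/
def gq : List Mat2.Q := [(0, 58, 1, 0), (9, 15, 49, 49)]

/-- Words for the elements. -/
def words : List (List ℕ) :=
  [[], [0], [1], [0, 0], [1, 0], [0, 1], [1, 1], [0, 0, 0], [1, 0, 0], [0, 1, 0],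
    [1, 1, 0], [1, 0, 1], [0, 1, 1], [1, 0, 0, 0], [0, 1, 0, 0], [1, 1, 0, 0], [1, 0, 1, 0], [0, 1, 1, 0], [0, 1, 0, 1], [1, 1, 0, 1],
    [1, 0, 1, 1], [0, 1, 0, 0, 0], [1, 1, 0, 0, 0], [1, 0, 1, 0, 0], [0, 1, 1, 0, 0], [0, 1, 0, 1, 0], [1, 1, 0, 1, 0], [1, 0, 1, 1, 0], [1, 0, 1, 0, 1], [0, 1, 1, 0, 1],
    [0, 1, 0, 1, 1], [1, 1, 0, 1, 1], [1, 0, 1, 0, 0, 0], [0, 1, 1, 0, 0, 0], [0, 1, 0, 1, 0, 0], [1, 1, 0, 1, 0, 0], [1, 0, 1, 1, 0, 0], [1, 0, 1, 0, 1, 0], [0, 1, 1, 0, 1, 0], [0, 1, 0, 1, 1, 0],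
    [1, 1, 0, 1, 1, 0], [1, 1, 0, 1, 0, 1], [1, 0, 1, 1, 0, 1], [1, 0, 1, 0, 1, 1], [0, 1, 0, 1, 0, 0, 0], [1, 1, 0, 1, 0, 0, 0], [1, 0, 1, 1, 0, 0, 0], [1, 0, 1, 0, 1, 0, 0], [0, 1, 1, 0, 1, 0, 0], [0, 1, 0, 1, 1, 0, 0],
    [1, 1, 0, 1, 1, 0, 0], [1, 1, 0, 1, 0, 1, 0], [1, 0, 1, 1, 0, 1, 0], [1, 0, 1, 0, 1, 1, 0], [0, 1, 1, 0, 1, 0, 1], [0, 1, 0, 1, 1, 0, 1], [1, 1, 0, 1, 1, 0, 1], [1, 1, 0, 1, 0, 1, 1], [1, 0, 1, 0, 1, 0, 0, 0], [0, 1, 1, 0, 1, 0, 0, 0],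
    [0, 1, 0, 1, 1, 0, 0, 0], [1, 1, 0, 1, 1, 0, 0, 0], [1, 1, 0, 1, 0, 1, 0, 0], [1, 0, 1, 1, 0, 1, 0, 0], [1, 0, 1, 0, 1, 1, 0, 0], [0, 1, 1, 0, 1, 0, 1, 0], [0, 1, 0, 1, 1, 0, 1, 0], [1, 1, 0, 1, 1, 0, 1, 0], [1, 1, 0, 1, 0, 1, 1, 0], [1, 0, 1, 1, 0, 1, 0, 1],
    [1, 0, 1, 0, 1, 1, 0, 1], [0, 1, 1, 0, 1, 0, 1, 1], [1, 1, 0, 1, 0, 1, 0, 0, 0], [1, 0, 1, 1, 0, 1, 0, 0, 0], [1, 0, 1, 0, 1, 1, 0, 0, 0], [0, 1, 1, 0, 1, 0, 1, 0, 0], [0, 1, 0, 1, 1, 0, 1, 0, 0], [1, 1, 0, 1, 1, 0, 1, 0, 0], [1, 1, 0, 1, 0, 1, 1, 0, 0], [1, 0, 1, 1, 0, 1, 0, 1, 0],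
    [1, 0, 1, 0, 1, 1, 0, 1, 0], [0, 1, 1, 0, 1, 0, 1, 1, 0], [0, 1, 0, 1, 1, 0, 1, 0, 1], [1, 1, 0, 1, 1, 0, 1, 0, 1], [1, 1, 0, 1, 0, 1, 1, 0, 1], [1, 0, 1, 1, 0, 1, 0, 1, 1], [0, 1, 1, 0, 1, 0, 1, 0, 0, 0], [0, 1, 0, 1, 1, 0, 1, 0, 0, 0], [1, 1, 0, 1, 1, 0, 1, 0, 0, 0], [1, 1, 0, 1, 0, 1, 1, 0, 0, 0],
    [1, 0, 1, 1, 0, 1, 0, 1, 0, 0], [1, 0, 1, 0, 1, 1, 0, 1, 0, 0], [0, 1, 1, 0, 1, 0, 1, 1, 0, 0], [0, 1, 0, 1, 1, 0, 1, 0, 1, 0], [1, 1, 0, 1, 1, 0, 1, 0, 1, 0], [1, 1, 0, 1, 0, 1, 1, 0, 1, 0], [1, 0, 1, 1, 0, 1, 0, 1, 1, 0], [1, 0, 1, 0, 1, 1, 0, 1, 0, 1], [0, 1, 1, 0, 1, 0, 1, 1, 0, 1], [0, 1, 0, 1, 1, 0, 1, 0, 1, 1],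
    [1, 0, 1, 1, 0, 1, 0, 1, 0, 0, 0], [1, 0, 1, 0, 1, 1, 0, 1, 0, 0, 0], [0, 1, 0, 1, 1, 0, 1, 0, 1, 0, 0], [1, 1, 0, 1, 1, 0, 1, 0, 1, 0, 0], [1, 1, 0, 1, 0, 1, 1, 0, 1, 0, 0], [1, 0, 1, 1, 0, 1, 0, 1, 1, 0, 0], [0, 1, 1, 0, 1, 0, 1, 1, 0, 1, 0], [0, 1, 0, 1, 1, 0, 1, 0, 1, 1, 0], [1, 1, 0, 1, 0, 1, 1, 0, 1, 0, 1], [1, 0, 1, 1, 0, 1, 0, 1, 1, 0, 1],
    [1, 0, 1, 0, 1, 1, 0, 1, 0, 1, 1], [0, 1, 0, 1, 1, 0, 1, 0, 1, 0, 0, 0], [1, 1, 0, 1, 1, 0, 1, 0, 1, 0, 0, 0], [1, 1, 0, 1, 0, 1, 1, 0, 1, 0, 0, 0], [0, 1, 0, 1, 1, 0, 1, 0, 1, 1, 0, 0], [1, 0, 1, 1, 0, 1, 0, 1, 1, 0, 1, 0], [1, 0, 1, 0, 1, 1, 0, 1, 0, 1, 1, 0], [0, 1, 1, 0, 1, 0, 1, 1, 0, 1, 0, 1], [0, 1, 0, 1, 1, 0, 1, 0, 1, 1, 0, 1], [1, 1, 0, 1, 0, 1, 1, 0, 1, 0, 1, 1]]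

/-- Left multiplication table. -/
def table : List (List ℕ) :=
  [[1, 2], [3, 4], [5, 6], [7, 8], [9, 10], [8, 11], [12, 0], [0, 13], [14, 15], [13, 16],
    [17, 1], [18, 19], [15, 20], [21, 22], [2, 23], [24, 3], [25, 26], [22, 27], [23, 28], [29, 5],
    [30, 31], [4, 32], [33, 7], [34, 35], [6, 36], [32, 37], [38, 9], [39, 40], [40, 41], [35, 42],
    [36, 43], [37, 12], [44, 45], [10, 46], [11, 47], [48, 14], [49, 50], [50, 51], [45, 52], [46, 53],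
    [47, 17], [54, 18], [55, 56], [56, 57], [16, 58], [59, 21], [60, 61], [61, 62], [19, 63], [20, 64],
    [58, 24], [65, 25], [66, 67], [67, 68], [62, 69], [63, 70], [64, 29], [71, 30], [31, 72], [26, 73],
    [27, 74], [28, 33], [75, 34], [76, 77], [77, 78], [72, 79], [73, 80], [74, 38], [81, 39], [82, 83],
    [83, 84], [78, 85], [86, 44], [87, 88], [88, 89], [41, 90], [42, 91], [43, 48], [92, 49], [93, 94],
    [94, 95], [89, 96], [90, 97], [91, 54], [98, 55], [99, 93], [51, 100], [52, 101], [53, 59], [97, 60],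
    [102, 103], [103, 104], [57, 105], [100, 71], [101, 65], [106, 66], [107, 102], [68, 108], [104, 109], [105, 110],
    [111, 112], [112, 113], [69, 81], [70, 75], [110, 76], [114, 111], [113, 115], [108, 116], [117, 82], [118, 114],
    [84, 119], [79, 92], [80, 86], [116, 87], [85, 98], [109, 117], [95, 118], [96, 106], [119, 107], [115, 99]]

theorem nodup : (words.map (Mat2.evalQ 59 gq)).Nodup := by decide +kernel

theorem closed : ∀ k < words.length, ∀ i < 2, (table.getD k []).getD i 0 < words.length ∧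
    Mat2.evalQ 59 gq (i :: words.getD k []) =
      Mat2.evalQ 59 gq (words.getD ((table.getD k []).getD i 0) []) := by decide +kernel

theorem length_eq : words.length = 120 := by decide +kernel

theorem free : ∀ k < words.length, k ≠ 0 → Mat2.freeQ 59 1 (Mat2.evalQ 59 gq (words.getD k [])) = true := by
  decide +kernel

instance : Fact (Nat.Prime 59) := ⟨by decide⟩

theorem free' : ∀ j < 29, ∀ k < words.length, (j ≠ 0 ∨ k ≠ 0) →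
    Mat2.freeQ 59 (4 ^ j) (Mat2.evalQ 59 gq (words.getD k [])) = true := by
  decide +kernel

/-- An exceptional sharply doubly transitive group of degree 59^2: the listed matrices generate a subgroup of GL(2,59) of order 3480 acting regularly on the non-zero vectors. -/
theorem result (A : Matrix.GeneralLinearGroup (Fin 2) (ZMod 59)) (B : Matrix.GeneralLinearGroup (Fin 2) (ZMod 59)) (C : Matrix.GeneralLinearGroup (Fin 2) (ZMod 59)) (hA : (A : Matrix (Fin 2) (Fin 2) (ZMod 59)) = !![0, -1; 1, 0]) (hB : (B : Matrix (Fin 2) (Fin 2) (ZMod 59)) = !![9, 15; -10, -10]) (hC : (C : Matrix (Fin 2) (Fin 2) (ZMod 59)) = !![4, 0; 0, 4]) : Nat.card (Subgroup.closure ({A, B, C} : Set (Matrix.GeneralLinearGroup (Fin 2) (ZMod 59)))) = 3480 ∧ ∀ v w : Fin 2 → ZMod 59, v ≠ 0 → w ≠ 0 → ∃! h : Subgroup.closure ({A, B, C} : Set (Matrix.GeneralLinearGroup (Fin 2) (ZMod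 59))), Matrix.mulVec ((h : Matrix.GeneralLinearGroup (Fin 2) (ZMod 59)) : Matrix (Fin 2) (Fin 2) (ZMod 59)) v = w := by
  have hg : ∀ i, (([A, B].getD i 1 : Matrix.GeneralLinearGroup (Fin 2) (ZMod 59)) : Matrix (Fin 2) (Fin 2) (ZMod 59)) =
      Mat2.toM 59 (gq.getD i (1, 0, 0, 1)) := fun i => by
    match i with
    | 0 => rw [show ([A, B].getD 0 1) = A from rfl, hA]; decide
    | 1 => rw [show ([A, B].getD 1 1) = B from rfl, hB]; decide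
    | j + 2 => rw [List.getD_eq_default _ _ (by simp), List.getD_eq_default _ _ (by simp [gq]), Units.val_one, Mat2.toM_one]
  obtain ⟨hcard, hrep⟩ := Mat2.closure_spec [A, B] gq hg words table rfl (by rw [length_eq]; norm_num) closed nodup
  rw [length_eq] at hcard
  have hset : ({g | g ∈ [A, B]} : Set _) = ({A, B} : Set (Matrix.GeneralLinearGroup (Fin 2) (ZMod 59))) := by
    ext g; simp
  rw [hset] at hcard hrep
  set H := Subgroup.closure ({A, B, C} : Set (Matrix.GeneralLinearGroup (Fin 2) (ZMod 59))) with hH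
  set S := Subgroup.closure ({A, B} : Set (Matrix.GeneralLinearGroup (Fin 2) (ZMod 59))) with hS
  have hC4 : (C : Matrix (Fin 2) (Fin 2) (ZMod 59)) = ((4 : ℕ) : ZMod 59) • (1 : Matrix (Fin 2) (Fin 2) (ZMod 59)) := by
    rw [hC]; decide
  have hCpow : ∀ j : ℕ, ((C ^ j : Matrix.GeneralLinearGroup (Fin 2) (ZMod 59)) : Matrix (Fin 2) (Fin 2) (ZMod 59)) =
      ((4 ^ j : ℕ) : ZMod 59) • 1 := fun j => by
    rw [Units.val_pow_eq_pow_val, hC4, smul_pow, one_pow, Nat.cast_pow]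
  have hCord : orderOf C = 29 := by
    refine orderOf_eq_prime (hp := ⟨by decide⟩) (Units.ext ?_) fun e => ?_
    · rw [hCpow, Units.val_one, show ((4 ^ 29 : ℕ) : ZMod 59) = 1 by decide +kernel, one_smul]
    · have := congrArg (fun x : Matrix.GeneralLinearGroup (Fin 2) (ZMod 59) => (x : Matrix (Fin 2) (Fin 2) (ZMod 59)) 0 0) e
      simp only [hC, Units.val_one] at this
      exact absurd this (by decide)
  have hcomm : ∀ x : Matrix.GeneralLinearGroup (Fin 2) (ZMod 59), Commute C x := fun x =>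
    Units.ext (by rw [Units.val_mul, Units.val_mul, hC4, smul_one_mul, mul_smul_one])
  have hnorm : (Subgroup.zpowers C).Normal := ⟨fun x hx g => by
    obtain ⟨j, rfl⟩ := hx
    rw [← ((hcomm g).zpow_left j).eq, mul_inv_cancel_right]; exact ⟨j, rfl⟩⟩
  have hHsup : H = Subgroup.zpowers C ⊔ S := by
    rw [hH, hS, Subgroup.zpowers_eq_closure, ← Subgroup.closure_union]
    congr 1; ext g; simp
  have hfree : ∀ h ∈ H, ∀ v : Fin 2 → ZMod 59, v ≠ 0 → (h : Matrix (Fin 2) (Fin 2) (ZMod 59)) *ᵥ v = v → h = 1 := by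
    intro h hh v hv hfix
    rw [hHsup] at hh
    obtain ⟨z, hz, s, hs, rfl⟩ := Subgroup.mem_sup_of_normal_left.mp hh
    obtain ⟨j, hj, rfl⟩ : ∃ j < 29, C ^ j = z := by
      rw [mem_zpowers_iff_mem_range_orderOf, hCord] at hz
      simpa using hz
    obtain ⟨k, hk, hk'⟩ := hrep s hs
    by_cases h0 : j = 0 ∧ k = 0
    · obtain ⟨rfl, rfl⟩ := h0
      rw [pow_zero, one_mul]
      refine Units.ext ?_
      rw [hk', Units.val_one, ← Mat2.toM_one]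
      rfl
    · refine absurd (Mat2.fixed_point_free (free' j hj k hk (by omega)) v ?_) hv
      rw [Units.val_mul, hCpow, hk', smul_one_mul] at hfix
      exact hfix
  obtain ⟨hle, hsharp⟩ := Mat2.sharply_transitive H hfree
  have h1 : 120 ∣ Nat.card H := hcard ▸ Subgroup.card_dvd_of_le (hHsup ▸ le_sup_right)
  have h2 : 29 ∣ Nat.card H := by
    rw [← hCord, ← Nat.card_zpowers]
    exact Subgroup.card_dvd_of_le (hHsup ▸ le_sup_left)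
  have h3 : 120 * 29 ∣ Nat.card H := Nat.Coprime.mul_dvd_of_dvd_of_dvd (by decide) h1 h2
  have h4 : Nat.card H = 3480 := le_antisymm hle (Nat.le_of_dvd Nat.card_pos h3)
  exact ⟨h4, hsharp h4⟩

end Cfsg.Agent.S0693
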