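import Cfsg.Statements.S0731
import Cfsg.Agent.Lib.Zass.Struct

set_option autoImplicit false
open Cfsg

namespace Cfsg.Agent.S0731

open Cfsg.Agent.Lib.Zass Cfsg.Agent.Lib.ZassFrob MulAction

/-- Large two-point stabilisers make the action sharply three times transitive. -/
theorem three_trans {G Ω : Type*} [Group G] [Finite G] [MulAction G Ω] [Finite Ω]
    (hZ : Cfsg.IsZassenhausGroup G Ω) {a b : Ω} (hab : a ≠ b)
    (hd : Nat.card ↥(stabilizer G a ⊓ stabilizer G b) + 2 = Nat.card Ω) :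
    IsMultiplyPretransitive G Ω 3 ∧ ∀ t : Fin 3 ↪ Ω, stabilizer G t = ⊥ := by
  classical
  haveI := Fintype.ofFinite Ω
  haveI := Fintype.ofFinite ↥(stabilizer G a ⊓ stabilizer G b)
  have hne : ∀ (h : ↥(stabilizer G a ⊓ stabilizer G b)) (c : Ω), c ≠ a → c ≠ b →
      (h : G) • c ≠ a ∧ (h : G) • c ≠ b := fun h c hca hcb =>
    ⟨fun e => hca (MulAction.injective (h : G) (e.trans h.2.1.symm)),
      fun e => hcb (MulAction.injective (h : G) (e.trans h.2.2.symm))⟩
  have hmove : ∀ c c' : Ω, c ≠ a → c ≠ b → c' ≠ a → c' ≠ b →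
      ∃ g : G, g • a = a ∧ g • b = b ∧ g • c = c' := by
    intro c c' hca hcb hca' hcb'
    let F : ↥(stabilizer G a ⊓ stabilizer G b) → {y : Ω // ¬(y = a ∨ y = b)} := fun h =>
      ⟨(h : G) • c, not_or.mpr (hne h c hca hcb)⟩
    have hbij : Function.Bijective F := (Fintype.bijective_iff_injective_and_card F).mpr ⟨fun h k e => by
        have e' : (h : G) • c = (k : G) • c := congrArg Subtype.val e
        refine Subtype.ext (inv_mul_eq_one.mp (eq_one_of_fix3 hZ (g := (k : G)⁻¹ * h) hab hcb.symm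
          hca.symm ?_ ?_ ?_)).symm
        · rw [mul_smul, show (h : G) • a = a from h.2.1]; exact inv_fix k.2.1
        · rw [mul_smul, show (h : G) • b = b from h.2.2]; exact inv_fix k.2.2
        · rw [mul_smul, e', inv_smul_smul], by
      rw [Fintype.card_subtype_compl, ← Nat.card_eq_fintype_card, ← Nat.card_eq_fintype_card,
        Fintype.card_subtype]
      have : (Finset.univ.filter fun x : Ω => x = a ∨ x = b) = {a, b} := by ext x; simp
      rw [this, Finset.card_pair hab]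
      omega⟩
    obtain ⟨h, hh⟩ := hbij.2 ⟨c', not_or.mpr ⟨hca', hcb'⟩⟩
    exact ⟨h, h.2.1, h.2.2, congrArg Subtype.val hh⟩
  refine ⟨⟨fun x y => ?_⟩, fun t => (Subgroup.eq_bot_iff_forall _).mpr fun g hg => ?_⟩
  · obtain ⟨g, hg0, hg1⟩ := exists_map_pair hZ (x.injective.ne (show (0 : Fin 3) ≠ 1 by decide)) hab
    obtain ⟨k, hk0, hk1⟩ := exists_map_pair hZ (y.injective.ne (show (0 : Fin 3) ≠ 1 by decide)) hab
    have n : ∀ {z : Fin 3 ↪ Ω} {g : G}, g • z 0 = a → g • z 1 = b → g • z 2 ≠ a ∧ g • z 2 ≠ b :=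
      fun {z g} h0 h1 => ⟨fun e => z.injective.ne (show (2 : Fin 3) ≠ 0 by decide)
        (MulAction.injective g (e.trans h0.symm)), fun e =>
        z.injective.ne (show (2 : Fin 3) ≠ 1 by decide) (MulAction.injective g (e.trans h1.symm))⟩
    obtain ⟨h, ha, hb, hc⟩ := hmove _ _ (n hg0 hg1).1 (n hg0 hg1).2 (n hk0 hk1).1 (n hk0 hk1).2
    refine ⟨k⁻¹ * h * g, ?_⟩
    ext i
    show (k⁻¹ * h * g) • x i = y i
    rw [mul_smul, mul_smul, inv_smul_eq_iff]
    fin_cases i
    · exact (by rw [hg0, ha, hk0] : h • g • x 0 = k • y 0)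
    · exact (by rw [hg1, hb, hk1] : h • g • x 1 = k • y 1)
    · exact hc
  · have h : ∀ i, g • t i = t i := fun i => DFunLike.congr_fun hg i
    exact eq_one_of_fix3 hZ (t.injective.ne (show (0 : Fin 3) ≠ 1 by decide))
      (t.injective.ne (show (1 : Fin 3) ≠ 2 by decide))
      (t.injective.ne (show (0 : Fin 3) ≠ 2 by decide)) (h 0) (h 1) (h 2)

/-- A finite Zassenhaus group whose point stabiliser has an abelian regular normal subgroup on the remaining points is sharply triply transitive or isomorphic to `PSL(2, F)` for a finite field `F` of odd characteristic. -/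
theorem result {G Ω : Type*} [Group G] [Finite G] [MulAction G Ω] [Finite Ω] (hZ : Cfsg.IsZassenhausGroup G Ω) (x : Ω) (F : Subgroup G) (hFle : F ≤ MulAction.stabilizer G x) (hFn : (F.subgroupOf (MulAction.stabilizer G x)).Normal) (hFab : IsMulCommutative F) (hreg : ∀ y z : Ω, y ≠ x → z ≠ x → ∃! u : F, (u : G) • y = z) : (MulAction.IsMultiplyPretransitive G Ω 3 ∧ ∀ t : Fin 3 ↪ Ω, MulAction.stabilizer G t = ⊥) ∨ ∃ (K : Type) (_ : Field K) (_ : Fintype K), ringChar K ≠ 2 ∧ Nonempty (G ≃* Matrix.ProjectiveSpecialLinearGroup (Fin 2) K) := by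
  classical
  haveI := Fintype.ofFinite Ω
  obtain ⟨g, hg1, p, q, hpq, -, -⟩ := hZ.2.2.2.1
  obtain ⟨b, hb⟩ : ∃ b : Ω, b ≠ x := by
    by_cases h : p = x
    · exact ⟨q, fun e => hpq (h.trans e.symm)⟩
    · exact ⟨p, h⟩
  have hker : IsKernel F x b := ⟨hb.symm, hFle, fun g hg u hu =>
    hFn.conj_mem ⟨u, hFle hu⟩ hu ⟨g, hg⟩, fun y hy => hreg b y hb hy⟩
  have h1 := (abelian_kernel_struct hZ hker hFab).1
  have h2 := two_lt_card hZ hb.symm
  have h3 := hker.card_eq
  obtain ⟨m, hm⟩ := card_twoPt_dvd hZ hb.symm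
  rw [show Nat.card Ω - 2 = Nat.card F - 1 by omega] at hm
  rw [hm, mul_comm] at h1
  have hm2 : m ≤ 2 := Nat.le_of_mul_le_mul_right h1 Nat.card_pos
  interval_cases m
  · omega
  · left
    exact three_trans hZ hb.symm (by omega)
  · right
    obtain ⟨p, f, K, iF, iT, -, -, -, -, -, hch, hiso⟩ := psl_of_half hZ hker hFab (by omega)
    exact ⟨K, iF, iT, hch, hiso⟩

end Cfsg.Agent.S0731
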