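import Cfsg.Statements.S0732
import Cfsg.Agent.Lib.Zass.PrimeAffine
import Cfsg.Agent.Lib.Zass.SharpEven
import Cfsg.Agent.Lib.Zass.SharpOdd
import Cfsg.Agent.Lib.PSLTwo.Tools

set_option autoImplicit false
open Cfsg

namespace Cfsg.Agent.S0732

open Cfsg.Agent.Lib.Zass MulAction

theorem sharp3_top {α : Type*} [Fintype α] [DecidableEq α] {p : ℕ} (hp : p.Prime)
    (hα : Fintype.card α = p + 1) (G : Subgroup (Equiv.Perm α)) {a b : α} (hab : a ≠ b)
    (h2 : IsMultiplyPretransitive G α 2)
    (hsharp : ∀ g : G, ∀ x y z : α, x ≠ y → y ≠ z → x ≠ z → g • x = x → g • y = y → g • z = z → g = 1)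
    (hH : Nat.card ↥(stabilizer G a ⊓ stabilizer G b) = p - 1) : Sharp3 G α where
  trans := fun x y z x' y' z' h1 h3 h5 h1' h3' h5' => by
    classical
    obtain ⟨g, hgx, hgy⟩ := (is_two_pretransitive_iff.mp h2) h1 hab
    obtain ⟨k, hkx, hky⟩ := (is_two_pretransitive_iff.mp h2) h1' hab
    set H := stabilizer G a ⊓ stabilizer G b
    have hz : g • z ≠ a ∧ g • z ≠ b := ⟨fun e => h5 (MulAction.injective g (hgx.trans e.symm)),
      fun e => h3 (MulAction.injective g (hgy.trans e.symm))⟩
    let F : H → {w : α // ¬(w = a ∨ w = b)} := fun h => ⟨(h : G) • g • z, not_or.mpr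
      ⟨fun e => hz.1 (MulAction.injective (h : G) (e.trans h.2.1.symm)),
       fun e => hz.2 (MulAction.injective (h : G) (e.trans h.2.2.symm))⟩⟩
    have hF : Function.Bijective F := (Nat.bijective_iff_injective_and_card _).mpr ⟨fun h h' e => by
        refine Subtype.ext (inv_mul_eq_one.mp (hsharp ((h' : G)⁻¹ * h) a b (g • z) hab hz.2.symm hz.1.symm
          ?_ ?_ ?_)).symm
        · exact (mul_mem (inv_mem h'.2) h.2 : (h' : G)⁻¹ * h ∈ H).1
        · exact (mul_mem (inv_mem h'.2) h.2 : (h' : G)⁻¹ * h ∈ H).2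
        · rw [mul_smul, show (h : G) • g • z = (h' : G) • g • z from congrArg Subtype.val e,
            inv_smul_smul], by
      rw [hH, Nat.card_eq_fintype_card, Fintype.card_subtype_compl, Fintype.card_subtype,
        show (Finset.univ.filter fun w : α => w = a ∨ w = b) = {a, b} by ext w; simp,
        Finset.card_pair hab, hα]
      omega⟩
    have hz' : k • z' ≠ a ∧ k • z' ≠ b := ⟨fun e => h5' (MulAction.injective k (hkx.trans e.symm)),
      fun e => h3' (MulAction.injective k (hky.trans e.symm))⟩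
    obtain ⟨h, hh⟩ := hF.2 ⟨k • z', not_or.mpr hz'⟩
    refine ⟨k⁻¹ * (h : G) * g, ?_, ?_, ?_⟩
    · rw [mul_smul, mul_smul, hgx, show (h : G) • a = a from h.2.1, inv_smul_eq_iff, hkx]
    · rw [mul_smul, mul_smul, hgy, show (h : G) • b = b from h.2.2, inv_smul_eq_iff, hky]
    · rw [mul_smul, mul_smul, inv_smul_eq_iff]; exact congrArg Subtype.val hh
  sharp := hsharp
  three := by rw [Nat.card_eq_fintype_card, hα]; have := hp.two_le; omega

/-- A transitive permutation group on `p + 1` points (`p` prime) of order `(p+1) p d` with `d < p` is isomorphic to `PGL(2,p)` with `d = p - 1`, or to `PSL(2,p)` with `2d = p - 1`, or else `p + 1 = 2^q` for a prime `q`, `d = 1` or `d = q`, and the group is permutation-isomorphic to a group of semi-affine maps `x ↦ a φ(x) + b` of the field with `2^q` elements. -/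
theorem result {α : Type*} [Fintype α] [DecidableEq α] {p d : ℕ} (hp : p.Prime) (hα : Fintype.card α = p + 1) (G : Subgroup (Equiv.Perm α)) [MulAction.IsPretransitive G α] (hG : Nat.card G = (p + 1) * p * d) (hd : d < p) : (d = p - 1 ∧ Nonempty (G ≃* Matrix.ProjGenLinGroup (Fin 2) (ZMod p))) ∨ (2 * d = p - 1 ∧ Nonempty (G ≃* Matrix.ProjectiveSpecialLinearGroup (Fin 2) (ZMod p))) ∨ (∃ q : ℕ, q.Prime ∧ p + 1 = 2 ^ q ∧ (d = 1 ∨ d = q) ∧ ∃ e : α ≃ GaloisField 2 q, ∀ g : G, (e.symm.trans (((g : Equiv.Perm α)).trans e)) ∈ Cfsg.semiaffineGroup (GaloisField 2 q)) := by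
  classical
  haveI := Fact.mk hp
  obtain ⟨a, b, hab⟩ := Fintype.exists_pair_of_one_lt_card (α := α) (by have := hp.pos; omega)
  obtain ⟨U, hK, hUc, hUcard, hH, h2, hsharp, hdvd, -⟩ := prime_degree_data hp hα G hG hd a b hab
  by_cases hd1 : d = p - 1
  · refine Or.inl ⟨hd1, ?_⟩
    have hS := sharp3_top hp hα G hab h2 hsharp (hH.trans hd1)
    rcases hp.eq_two_or_odd' with h2p | hodd
    · obtain ⟨f, -, hf, K, _, _, hK', ⟨i⟩⟩ := pgl_of_sharp3_odd hS
        (by rw [hα, h2p]; exact ⟨1, rfl⟩)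
      exact ⟨i.trans (Lib.PSLTwo.pglCongr (FiniteField.ringEquivOfCardEq (K' := ZMod p)
        (by rw [ZMod.card, hK']; omega)))⟩
    · obtain ⟨K, _, _, hK', ⟨i⟩⟩ := pgl_of_sharp3_odd_exponent hp
        (fun e => by rw [e] at hodd; exact absurd hodd (by decide)) odd_one
        (hα.trans (by rw [pow_one])) G hS
      exact ⟨i.trans (Lib.PSLTwo.pglCongr (FiniteField.ringEquivOfCardEq (K' := ZMod p)
        (by rw [ZMod.card, hK', pow_one])))⟩
  refine Or.inr ?_
  have hp2 : p ≠ 2 := fun e => hd1 (by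
    subst e
    have := Nat.le_of_dvd one_pos hdvd
    have : 0 < d := hH ▸ Nat.card_pos
    omega)
  by_cases hreg : ∃ M : Subgroup G, M.Normal ∧ MulAction.IsPretransitive M α ∧
      ∀ x ∈ M, ∀ c : α, x • c = c → x = 1
  · obtain ⟨M, hM, htr, hfree⟩ := hreg
    obtain ⟨hsq, q, hq, hpq⟩ := regular_two_power hp hp2 hα G a h2 M hM htr hfree
    haveI : Fact (Nat.Prime 2) := ⟨Nat.prime_two⟩
    letI : Fintype (GaloisField 2 q) := Fintype.ofFinite _
    obtain ⟨hdq, e, he⟩ := semiaffine_of_regular hp hα G U hK hUc hH M hM htr hfree hsq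
      (GaloisField 2 q) (by rw [← Nat.card_eq_fintype_card, GaloisField.card 2 q hq.ne_zero, hpq])
    rw [GaloisField.finrank 2 hq.ne_zero] at hdq
    exact Or.inr ⟨q, hq, hpq, (Nat.dvd_prime hq).mp hdq, e, he⟩
  · refine Or.inl ?_
    have hne1 : d ≠ 1 := by
      intro e
      have hS : Lib.Perm.SharplyTwo G α :=
        { trans := fun x y z w hxy hzw => (is_two_pretransitive_iff.mp h2) hxy hzw
          sharp := fun g x y hxy hx hy => by
            obtain ⟨k, hkx, hky⟩ := (is_two_pretransitive_iff.mp h2) hxy hab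
            have hm : k * g * k⁻¹ ∈ MulAction.stabilizer G a ⊓ MulAction.stabilizer G b :=
              ⟨show (k * g * k⁻¹) • a = a by
                rw [mul_smul, mul_smul, inv_smul_eq_iff.mpr hkx.symm, hx, hkx],
               show (k * g * k⁻¹) • b = b by
                rw [mul_smul, mul_smul, inv_smul_eq_iff.mpr hky.symm, hy, hky]⟩
            rw [Subgroup.card_eq_one.mp (hH.trans e), Subgroup.mem_bot] at hm
            exact conj_eq_one_iff.mp hm
          nontriv := by rw [Nat.card_eq_fintype_card, hα]; have := hp.pos; omega }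
      refine hreg ⟨hS.kernel, hS.kernel_normal, hS.kernel_pretransitive, fun x hx c hc => ?_⟩
      have hm : (⟨x, hx⟩ : hS.kernel) ∈ MulAction.stabilizer hS.kernel c := hc
      rw [hS.kernel_stabilizer c, Subgroup.mem_bot] at hm
      exact congrArg Subtype.val hm
    have hZ : Cfsg.IsZassenhausGroup G α := by
      refine ⟨inferInstance, h2, hsharp, ?_, fun M hM htr => ?_⟩
      · haveI : Nontrivial ↥(MulAction.stabilizer G a ⊓ MulAction.stabilizer G b) :=
          Finite.one_lt_card_iff_nontrivial.mp (by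
            have : 0 < d := hH ▸ Nat.card_pos
            omega)
        obtain ⟨⟨x, hx⟩, hx1⟩ := exists_ne (1 : ↥(MulAction.stabilizer G a ⊓ MulAction.stabilizer G b))
        exact ⟨x, fun e => hx1 (Subtype.ext e), a, b, hab, hx.1, hx.2⟩
      · by_contra hM'
        push Not at hM'
        refine hreg ⟨M, hM, htr, fun x hx c hc => ?_⟩
        have hm : (⟨x, hx⟩ : M) ∈ MulAction.stabilizer M c := hc
        rw [hM' c, Subgroup.mem_bot] at hm
        exact congrArg Subtype.val hm
    have hle := (abelian_kernel_struct hZ hK hUc).1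
    rw [hUcard, hH] at hle
    obtain ⟨m, hm⟩ := hdvd
    rw [hm, mul_comm] at hle
    have hd0 : 0 < d := hH ▸ Nat.card_pos
    have hm2 : m ≤ 2 := Nat.le_of_mul_le_mul_right hle hd0
    have h2d : 2 * d = p - 1 := by
      interval_cases m
      · have := hp.two_le; omega
      · exact absurd (by omega) hd1
      · omega
    refine ⟨h2d, ?_⟩
    obtain ⟨r, f, K, _, _, -, -, -, hpf, hKc, -, ⟨i⟩⟩ :=
      psl_of_half hZ hK hUc (by rw [hUcard, hH, h2d])
    exact ⟨i.trans (Lib.PSLTwo.pslCongr (FiniteField.ringEquivOfCardEq (K' := ZMod p)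
      (by rw [ZMod.card, hKc, ← hpf, hUcard])))⟩

end Cfsg.Agent.S0732
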