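import Cfsg.Statements.S0914
import Cfsg.Agent.Lib.Block.Defect
-- import your own Cfsg.Agent.* helpers here

set_option autoImplicit false
open Cfsg Cfsg.Agent.Lib.Block
open Cfsg.Agent.Lib

namespace Cfsg.Agent.S0914

/-- Let χ be an irreducible character of the finite group G, p a prime and M a maximal ideal of the algebraic integers containing p. Then p does not divide the integer (Nat.card G) / χ(1) if and only if the block of χ relative to M consists of χ alone. -/
theorem result {G : Type*} [Group G] [Finite G] (p : ℕ) [Fact p.Prime] (M : Ideal Cfsg.AlgInt) (hM : Cfsg.IsPModular p M) (χ : Cfsg.IrrCharacter G) : ¬ p ∣ Nat.card G / Cfsg.charDegree (χ : G → ℂ) ↔ Cfsg.blockOf M (χ : G → ℂ) = {χ} := by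
  classical
  haveI := hM.2.1
  haveI := Fintype.ofFinite G
  have hdvd := charDegree_dvd_card χ
  have hn0 := (charDegree_pos χ).ne'
  have hdiv : ¬ p ∣ Nat.card G / charDegree (χ : G → ℂ) ↔
      (Nat.card G).factorization p ≤ (charDegree (χ : G → ℂ)).factorization p := by
    have h0 : Nat.card G / charDegree (χ : G → ℂ) ≠ 0 :=
      Nat.div_ne_zero_iff.2 ⟨hn0, Nat.le_of_dvd Nat.card_pos hdvd⟩
    rw [hM.1.dvd_iff_one_le_factorization h0, Nat.factorization_div hdvd,
      Finsupp.tsub_apply]
    omega
  rw [hdiv]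
  constructor
  · intro h
    refine Set.Subset.antisymm (blockOf_subset_of_intR ?_ (Set.mem_singleton χ))
      (Set.singleton_subset_iff.2 (mem_blockOf_self χ))
    intro g
    rw [coeff_eIdem, blockCoeff, finsum_mem_singleton, irr_one_eq_natCast, ← mul_assoc,
      mul_comm (Nat.card G : ℂ)⁻¹, ← div_eq_mul_inv]
    refine mul_mem (natDiv_aux hM hn0 Nat.card_pos.ne' h).1 ?_
    rw [← Char.char_inv (Char.isCharacter_of_isIrr χ.2)]
    exact irr_mem_locRing χ _
  · intro hB
    by_contra hlt
    push Not at hlt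
    set m := (charDegree (χ : G → ℂ)).factorization p with hm
    set a := (Nat.card G).factorization p with ha
    obtain ⟨P⟩ := (inferInstance : Nonempty (Sylow p G))
    have hint := block_projective_dvd hM (B := {χ}) (hB ▸ isPBlock_blockOf χ) (g := 1)
      regular_one P.2 (fun s _ => Commute.one_left s) (m := p ^ m)
      (fun φ hφ => by rw [Set.mem_singleton_iff.1 hφ]; exact Nat.ordProj_dvd _ p)
    rw [Finset.sum_eq_single χ (fun φ _ hφ => if_neg fun h => hφ (Set.mem_singleton_iff.1 h))
      (by simp), if_pos (Set.mem_singleton χ), Sylow.card_eq_multiplicity, irr_one_eq_natCast,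
      ← ha] at hint
    have hf : (charDegree (χ : G → ℂ) * charDegree (χ : G → ℂ)).factorization p = m + m := by
      rw [Nat.factorization_mul hn0 hn0, Finsupp.add_apply]
    have hf' : (p ^ (m + a)).factorization p = m + a := by
      rw [hM.1.factorization_pow, Finsupp.single_eq_same]
    have hq := natDiv_aux (M := M) hM (a := p ^ (m + a))
      (b := charDegree (χ : G → ℂ) * charDegree (χ : G → ℂ)) (pow_ne_zero _ hM.1.ne_zero)
      (mul_ne_zero hn0 hn0) (by rw [hf, hf']; omega)
    have h0 := hq.2.2 (by rw [hf, hf']; omega)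
    have h1 : ((charDegree (χ : G → ℂ) : ℂ) * (charDegree (χ : G → ℂ) : ℂ) /
        (((p ^ m : ℕ) : ℂ) * ((p ^ a : ℕ) : ℂ))) * (((p ^ (m + a) : ℕ) : ℂ) /
        ((charDegree (χ : G → ℂ) * charDegree (χ : G → ℂ) : ℕ) : ℂ)) = 1 := by
      have : (charDegree (χ : G → ℂ) : ℂ) ≠ 0 := Nat.cast_ne_zero.2 hn0
      have : (p : ℂ) ≠ 0 := Nat.cast_ne_zero.2 hM.1.ne_zero
      push_cast
      rw [pow_add]
      field_simp
    have h2 := congrArg (redC M) h1
    rw [redC_mul (integral_mem_locRing hint) hq.1, h0, mul_zero, redC_one] at h2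
    exact zero_ne_one h2

end Cfsg.Agent.S0914
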