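import Cfsg.Statements.S0948
import Cfsg.Agent.Lib.Block.Klein
-- import your own Cfsg.Agent.* helpers here

set_option autoImplicit false
open Cfsg

open Cfsg Cfsg.Agent.Lib.Block
open Cfsg.Agent.Lib

namespace Cfsg.Agent.S0948

/-- Let the finite group G have a Sylow 2-subgroup P that is a Klein four-group, suppose all involutions of G are conjugate, and fix a maximal ideal M of the algebraic integers containing 2. Then the principal block consists of exactly four irreducible characters, the principal character and ζ₂, ζ₃, ζ₄, and there is a sign ε such that for every involution z: ζ₂ z = 1, ζ₃ z = ε, ζ₄ z = -1; moreover ζ₂ 1 ≡ 1, ζ₃ 1 ≡ ε, ζ₄ 1 ≡ -1 (mod 4), and 1 + ζ₂ y + ε ζ₃ y - ζ₄ y = 0 for every y of odd order. -/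
theorem result {G : Type*} [Group G] [Finite G] (M : Ideal Cfsg.AlgInt) (hM : Cfsg.IsPModular 2 M) (P : Sylow 2 G) (hP : IsKleinFour (P : Subgroup G)) (hone : ∀ s t : G, orderOf s = 2 → orderOf t = 2 → IsConj s t) : ∃ ζ₂ ζ₃ ζ₄ : Cfsg.IrrCharacter G, ∃ ε : ℤ, (ε = 1 ∨ ε = -1) ∧ (ζ₂ : G → ℂ) ≠ (fun _ => 1) ∧ (ζ₃ : G → ℂ) ≠ (fun _ => 1) ∧ ζ₂ ≠ ζ₃ ∧ ζ₂ ≠ ζ₄ ∧ ζ₃ ≠ ζ₄ ∧ Cfsg.principalBlock M G = {χ : Cfsg.IrrCharacter G | (χ : G → ℂ) = (fun _ => 1) ∨ χ = ζ₂ ∨ χ = ζ₃ ∨ χ = ζ₄} ∧ (∀ z : G, orderOf z = 2 → (ζ₂ : G → ℂ) z = 1 ∧ (ζ₃ : G → ℂ) z = (ε : ℂ) ∧ (ζ₄ : G → ℂ) z = -1) ∧ (4 : ℤ) ∣ (Cfsg.charDegree (ζ₂ : G → ℂ) : ℤ) - 1 ∧ (4 : ℤ) ∣ (Cfsg.charDegree (ζ₃ : G → ℂ) : ℤ) - ε ∧ (4 : ℤ) ∣ (Cfsg.charDegree (ζ₄ : G → ℂ) : ℤ) + 1 ∧ ∀ y : G, Odd (orderOf y) → 1 + (ζ₂ : G → ℂ) y + (ε : ℂ) * (ζ₃ : G → ℂ) y - (ζ₄ : G → ℂ) y = 0 := by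
  haveI := hM.2.1
  classical
  haveI : Fact (Nat.Prime 2) := ⟨Nat.prime_two⟩
  have hexp : ∀ x : P, x * x = 1 := fun x => IsKleinFour.mul_self (G := (P : Subgroup G)) x
  obtain ⟨S, n, hS, hcard, h1S, hn1, hpm, hsing, hrel, z₀, hz₀⟩ :=
    klein_principal P hP.card_four hexp hone hM
  have h1 : (oneIrr G : G → ℂ) = fun _ => 1 := rfl
  set R := S.erase (oneIrr G) with hR
  have hRS : ∀ χ ∈ R, χ ∈ S := fun χ hχ => Finset.mem_of_mem_erase hχ
  have hR3 : R.card = 3 := by rw [hR, Finset.card_erase_of_mem h1S, hcard]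
  have hdeg : 1 + ∑ χ ∈ R, (n χ : ℤ) * (charDegree (χ : G → ℂ) : ℤ) = 0 := by
    have h := hrel 1 regular_one
    rw [← Finset.add_sum_erase _ _ h1S, hn1, ← hR, oneIrr_apply] at h
    simp only [irr_one_eq_natCast, Int.cast_one, one_mul] at h
    exact_mod_cast h
  obtain ⟨ζ₂, h2R, h2⟩ : ∃ χ ∈ R, n χ = 1 := by
    by_contra hno
    push Not at hno
    have : ∀ χ ∈ R, n χ * (charDegree (χ : G → ℂ) : ℤ) ≤ -1 := fun χ hχ => by
      rw [(hpm χ (hRS χ hχ)).resolve_left (hno χ hχ)]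
      have : (1 : ℤ) ≤ charDegree (χ : G → ℂ) := by exact_mod_cast charDegree_pos χ
      linarith
    have h3 := Finset.sum_le_sum this
    simp only [Finset.sum_const, hR3] at h3
    norm_num at h3
    linarith
  obtain ⟨ζ₄, h4R, h4⟩ : ∃ χ ∈ R, n χ = -1 := by
    by_contra hno
    push Not at hno
    have : 0 ≤ ∑ χ ∈ R, n χ * (charDegree (χ : G → ℂ) : ℤ) := Finset.sum_nonneg fun χ hχ => by
      rw [(hpm χ (hRS χ hχ)).resolve_right (hno χ hχ)]
      simp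
    linarith
  have h24 : ζ₂ ≠ ζ₄ := fun h => by rw [h, h4] at h2; norm_num at h2
  obtain ⟨ζ₃, h3R, h32, h34⟩ : ∃ χ ∈ R, χ ≠ ζ₂ ∧ χ ≠ ζ₄ := by
    by_contra hno
    push Not at hno
    have hsub : R ⊆ ({ζ₂, ζ₄} : Finset (IrrCharacter G)) := fun χ hχ => by
      by_cases h : χ = ζ₂
      · simp [h]
      · simp [hno χ hχ h]
    have := Finset.card_le_card hsub
    rw [hR3, Finset.card_pair h24] at this
    omega
  have hne1 : ∀ χ ∈ R, (χ : G → ℂ) ≠ fun _ => 1 := fun χ hχ h =>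
    Finset.ne_of_mem_erase hχ (Subtype.ext h)
  have hReq : R = {ζ₂, ζ₃, ζ₄} := by
    refine (Finset.eq_of_subset_of_card_le ?_ ?_).symm
    · intro x hx
      simp only [Finset.mem_insert, Finset.mem_singleton] at hx
      rcases hx with rfl | rfl | rfl <;> assumption
    · rw [hR3, Finset.card_insert_of_notMem (by simp [h32.symm, h24]), Finset.card_pair h34]
  have hcong : ∀ χ ∈ S, (4 : ℤ) ∣ (charDegree (χ : G → ℂ) : ℤ) - n χ := by
    intro χ hχ
    haveI := Fintype.ofFinite (P : Subgroup G)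
    have hint := isIntegral_average (G := G) (Char.isCharacter_of_isIrr χ.2)
      (S := (P : Subgroup G)) (g := 1) (fun s _ => Commute.one_left s)
    have hs : ∑ u : (P : Subgroup G), (χ : G → ℂ) (1 * (u : G)) =
        (charDegree (χ : G → ℂ) : ℂ) + 3 * (n χ : ℂ) := by
      rw [Fintype.sum_eq_add_sum_compl (1 : (P : Subgroup G)), Subgroup.coe_one, one_mul,
        irr_one_eq_natCast, Finset.sum_congr rfl (g := fun _ => (n χ : ℂ)) ?_, Finset.sum_const,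
        Finset.card_compl, ← Nat.card_eq_fintype_card, hP.card_four, Finset.card_singleton]
      · simp
      · intro u hu
        rw [one_mul, hsing χ hχ u]
        rw [Subgroup.orderOf_coe]
        obtain ⟨k, hk⟩ := P.2 u
        have : orderOf u = 2 := orderOf_eq_prime (by rw [pow_two]; exact hexp u) (by simpa using hu)
        rw [this]
    rw [hs, hP.card_four] at hint
    obtain ⟨m, hm⟩ := Char.exists_int_of_isIntegral
      (q := (((charDegree (χ : G → ℂ) : ℤ) + 3 * n χ : ℤ) : ℚ) / 4) (by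
        push_cast at hint ⊢
        rwa [div_eq_inv_mul])
    have hm' : (charDegree (χ : G → ℂ) : ℤ) + 3 * n χ = 4 * m := by
      have hh := hm
      rw [div_eq_iff (by norm_num)] at hh
      have h5 : (charDegree (χ : G → ℂ) : ℤ) + 3 * n χ = m * 4 := by exact_mod_cast hh
      linarith
    exact ⟨m - n χ, by linarith⟩
  refine ⟨ζ₂, ζ₃, ζ₄, n ζ₃, hpm ζ₃ (hRS _ h3R), hne1 _ h2R, hne1 _ h3R, h32.symm, h24, h34,
    ?_, ?_, ?_, hcong ζ₃ (hRS _ h3R), ?_, ?_⟩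
  · ext χ
    rw [Set.mem_ofPred_eq, ← hS]
    constructor
    · intro h
      by_cases hχ : χ = oneIrr G
      · left; rw [hχ, h1]
      · have : χ ∈ R := Finset.mem_erase.2 ⟨hχ, h⟩
        rw [hReq] at this
        simpa [hχ] using Or.inr (by simpa using this)
    · rintro (h | rfl | rfl | rfl)
      · rwa [show χ = oneIrr G from Subtype.ext h]
      all_goals exact hRS _ ‹_›
  · intro z hz
    have h : 2 ∣ orderOf z := by rw [hz]
    refine ⟨?_, ?_, ?_⟩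
    · rw [hsing ζ₂ (hRS _ h2R) z h, h2]; simp
    · rw [hsing ζ₃ (hRS _ h3R) z h]
    · rw [hsing ζ₄ (hRS _ h4R) z h, h4]; simp
  · have := hcong ζ₂ (hRS _ h2R)
    rwa [h2] at this
  · have := hcong ζ₄ (hRS _ h4R)
    rwa [h4, sub_neg_eq_add] at this
  · intro y hy
    have h := hrel y (by rw [← even_iff_two_dvd]; exact Nat.not_even_iff_odd.2 hy)
    rw [← Finset.add_sum_erase _ _ h1S, hn1, ← hR, hReq,
      Finset.sum_insert (by simp [h32.symm, h24]), Finset.sum_pair h34, h2, h4, oneIrr_apply] at h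
    push_cast at h
    linear_combination h

end Cfsg.Agent.S0948
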