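import Cfsg.Statements.S1249
import Cfsg.Agent.Lib.Involution.Basic

set_option autoImplicit false
open Cfsg

namespace Cfsg.Agent.S1249

open Cfsg.Agent.Lib.Involution

/-- Let P and Q be Sylow p-subgroups of the finite group G both containing the subgroup A. If A is strongly closed in P, then A is strongly closed in Q. -/
theorem result {G : Type*} [Group G] [Finite G] {p : ℕ} [Fact p.Prime] (P Q : Sylow p G) (A : Subgroup G) (hAQ : A ≤ Q) (hA : Cfsg.IsStronglyClosed A (P : Subgroup G)) : Cfsg.IsStronglyClosed A (Q : Subgroup G) := by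
  obtain ⟨b, hb⟩ := MulAction.exists_smul_eq G Q P
  have hmem : ∀ x ∈ (Q : Subgroup G), b * x * b⁻¹ ∈ (P : Subgroup G) := by
    intro x hx; rw [← hb]; exact Subgroup.smul_mem_pointwise_smul _ _ _ hx
  have hbA : ∀ x ∈ A, b * x * b⁻¹ ∈ A := fun x hx => hA.2 x hx b (hmem x (hAQ hx))
  refine ⟨hAQ, fun x hx g hg => ?_⟩
  have h1 : b * (g * x * g⁻¹) * b⁻¹ ∈ A := by
    have := hmem _ hg
    rw [show b * (g * x * g⁻¹) * b⁻¹ = (b * g) * x * (b * g)⁻¹ by group] at this ⊢
    exact hA.2 x hx _ this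
  have hsurj : Function.Surjective (fun a : A => (⟨b * a * b⁻¹, hbA a a.2⟩ : A)) :=
    Finite.surjective_of_injective fun u v h => Subtype.ext
      (mul_left_cancel (mul_right_cancel (congrArg Subtype.val h)))
  obtain ⟨⟨a, ha⟩, he⟩ := hsurj ⟨_, h1⟩
  exact (mul_left_cancel (mul_right_cancel (congrArg Subtype.val he) : b * a = b * (g * x * g⁻¹))) ▸ ha

end Cfsg.Agent.S1249
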