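import Cfsg.Statements.S1250
import Cfsg.Agent.Lib.Involution.Basic

set_option autoImplicit false
open Cfsg

namespace Cfsg.Agent.S1250

open Cfsg.Agent.Lib.Involution

/-- Let S be a Sylow p-subgroup of the finite group G, A ≤ S strongly closed in S, and N a normal subgroup. Then the image of A in G ⧸ N is strongly closed in the image of S (which is a Sylow p-subgroup of G ⧸ N). -/
theorem result {G : Type*} [Group G] [Finite G] {p : ℕ} [Fact p.Prime] (S : Sylow p G) (A : Subgroup G) (hA : Cfsg.IsStronglyClosed A (S : Subgroup G)) (N : Subgroup G) [N.Normal] : Cfsg.IsStronglyClosed (A.map (QuotientGroup.mk' N)) ((S : Subgroup G).map (QuotientGroup.mk' N)) := by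
  refine ⟨Subgroup.map_mono hA.1, ?_⟩
  rintro _ ⟨a, ha, rfl⟩ q hq
  obtain ⟨g, rfl⟩ := QuotientGroup.mk'_surjective N q
  rw [← map_inv, ← map_mul, ← map_mul] at hq ⊢
  set y := g * a * g⁻¹ with hy
  obtain ⟨s, hs, hsy⟩ := hq
  rw [QuotientGroup.mk'_eq_mk'] at hsy
  obtain ⟨n, hn, hsn⟩ := hsy
  let H : Subgroup G := (S : Subgroup G) ⊔ N
  have hyH : y ∈ H := hsn ▸ H.mul_mem (Subgroup.mem_sup_left hs) (Subgroup.mem_sup_right hn)
  have hp : IsPGroup p (Subgroup.zpowers y) := by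
    rw [hy, show g * a * g⁻¹ = (MulAut.conj g).toMonoidHom a from rfl, ← MonoidHom.map_zpowers]
    exact (S.isPGroup'.to_le (Subgroup.zpowers_le.mpr (hA.1 ha))).map _
  let SH : Sylow p H := S.subtype le_sup_left
  obtain ⟨R, hR⟩ := (hp.comap_of_injective H.subtype H.subtype_injective).exists_le_sylow
  obtain ⟨⟨c, hc⟩, hce⟩ := MulAction.exists_smul_eq H R SH
  have hcy : c * y * c⁻¹ ∈ (S : Subgroup G) := by
    have h1 : (⟨c, hc⟩ * ⟨y, hyH⟩ * ⟨c, hc⟩⁻¹ : H) ∈ SH := by
      rw [← hce]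
      exact Subgroup.smul_mem_pointwise_smul _ _ _ (hR (Subgroup.mem_zpowers y))
    exact h1
  obtain ⟨s', hs', n', hn', rfl⟩ := Subgroup.mem_sup_of_normal_right.mp hc
  have h2 : n' * y * n'⁻¹ ∈ (S : Subgroup G) := by
    have := (S : Subgroup G).mul_mem ((S : Subgroup G).mul_mem (inv_mem hs') hcy) hs'
    convert this using 1
    group
  refine ⟨n' * y * n'⁻¹, ?_, ?_⟩
  · rw [hy, show n' * (g * a * g⁻¹) * n'⁻¹ = (n' * g) * a * (n' * g)⁻¹ by group] at h2 ⊢
    exact hA.2 a ha _ h2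
  · simp only [QuotientGroup.mk'_apply, QuotientGroup.mk_mul, QuotientGroup.mk_inv,
      (QuotientGroup.eq_one_iff n').mpr hn', inv_one, mul_one, one_mul]

end Cfsg.Agent.S1250
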