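import Cfsg.Statements.S1251
import Cfsg.Agent.Lib.Involution.ZStarElement
import Cfsg.Agent.Lib.Coprime.Action

set_option autoImplicit false
open Cfsg

namespace Cfsg.Agent.S1251

open Cfsg.Agent.Lib.Involution
open scoped Pointwise

/-- Let S be a Sylow 2-subgroup of the finite group G and A ≤ S strongly closed in S. If H is a subgroup normalized by A with no nontrivial normal subgroup of odd order and A ∩ H = 1, then A ≤ C_G(H). -/
theorem result {G : Type*} [Group G] [Finite G] (S : Sylow 2 G) (A : Subgroup G) (hA : Cfsg.IsStronglyClosed A (S : Subgroup G)) (H : Subgroup G) (hAH : A ≤ Subgroup.normalizer (H : Set G)) (hO : Cfsg.oddCore ↥H = ⊥) (hdisj : A ⊓ H = ⊥) : A ≤ Subgroup.centralizer (H : Set G) := by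
  classical
  haveI : Fact (Nat.Prime 2) := ⟨Nat.prime_two⟩
  intro a ha
  rw [Subgroup.mem_centralizer_iff]
  intro h hh
  let M : Subgroup G := Subgroup.zpowers a ⊔ H
  have haM : a ∈ M := Subgroup.mem_sup_left (Subgroup.mem_zpowers a)
  have hhM : h ∈ M := Subgroup.mem_sup_right hh
  have hZH : Subgroup.zpowers a ≤ Subgroup.normalizer (H : Set G) := Subgroup.zpowers_le.mpr (hAH ha)
  have hMH : M ≤ Subgroup.normalizer (H : Set G) := sup_le hZH Subgroup.le_normalizer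
  let N : Subgroup G := A ⊔ H
  have hA2 : IsPGroup 2 A := S.2.to_le hA.1
  obtain ⟨TN, hTN⟩ := (hA2.comap_subtype : IsPGroup 2 (A.subgroupOf N)).exists_le_sylow
  let TA : Subgroup G := (TN : Subgroup N).map N.subtype
  have hATA : A ≤ TA := fun x hx => ⟨⟨x, Subgroup.mem_sup_left hx⟩, hTN hx, rfl⟩
  have hTAN : TA ≤ N := Subgroup.map_subtype_le _
  have hTA2 : IsPGroup 2 TA := TN.2.map _
  obtain ⟨U, hU⟩ := hTA2.exists_le_sylow
  obtain ⟨g, hg⟩ := MulAction.exists_smul_eq G U S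
  have hUS : ∀ v : G, v ∈ TA → g * v * g⁻¹ ∈ (S : Subgroup G) := fun v hv => by
    rw [← hg]; exact Subgroup.smul_mem_pointwise_smul _ _ _ (hU hv)
  have hgA : ∀ x ∈ A, g * x * g⁻¹ ∈ A := fun x hx => hA.2 x hx g (hUS _ (hATA hx))
  have hgAinv : ∀ x ∈ A, g⁻¹ * x * g ∈ A := by
    intro x hx
    have hb : Function.Surjective (fun y : A => (⟨g * y * g⁻¹, hgA y y.2⟩ : A)) :=
      Finite.surjective_of_injective fun y z h => Subtype.ext (by simpa using congrArg Subtype.val h)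
    obtain ⟨y, hy⟩ := hb ⟨x, hx⟩
    have : g * (y : G) * g⁻¹ = x := congrArg Subtype.val hy
    rw [← this, show g⁻¹ * (g * (y : G) * g⁻¹) * g = y by group]
    exact y.2
  let X : Subgroup G := Subgroup.zpowers a ⊔ (TA ⊓ H)
  have hX2 : IsPGroup 2 X := hTA2.to_le (sup_le (Subgroup.zpowers_le.mpr (hATA ha)) inf_le_left)
  obtain ⟨T, hT⟩ := (hX2.comap_subtype : IsPGroup 2 (X.subgroupOf M)).exists_le_sylow
  have haT : (⟨a, haM⟩ : M) ∈ (T : Subgroup M) := hT (Subgroup.mem_sup_left (Subgroup.mem_zpowers a))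
  have hTle : ∀ v : M, v ∈ (T : Subgroup M) → (v : G) ∈ TA := by
    let Y : Subgroup G := (T : Subgroup M).map M.subtype ⊓ H
    have hDY : TA ⊓ H ≤ Y := fun x hx =>
      ⟨⟨⟨x, Subgroup.mem_sup_right hx.2⟩, hT (Subgroup.mem_sup_right hx), rfl⟩, hx.2⟩
    have hNH' : TA ≤ Subgroup.normalizer (H : Set G) := hTAN.trans (sup_le hAH Subgroup.le_normalizer)
    have h1 := Cfsg.Agent.Lib.Coprime.card_sup_mul_card_inf_of_le_normalizer hNH'
    rw [show TA ⊔ H = N from le_antisymm (sup_le hTAN le_sup_right) (sup_le (hATA.trans le_sup_left) le_sup_right),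
      ← (TN : Subgroup N).card_mul_index, show Nat.card TA = Nat.card TN from
        Subgroup.card_map_of_injective N.subtype_injective, mul_assoc] at h1
    have h2 := Nat.eq_of_mul_eq_mul_left Nat.card_pos h1
    obtain ⟨k, hk⟩ := IsPGroup.iff_card.mp ((T.2.map M.subtype).to_inf_left (K := H))
    have h3 : Nat.card Y ∣ Nat.card (TA ⊓ H : Subgroup G) := by
      refine Nat.Coprime.dvd_of_dvd_mul_left ?_ (h2 ▸ Subgroup.card_dvd_of_le (inf_le_right : Y ≤ H))
      rw [hk]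
      exact Nat.Coprime.pow_left k ((Nat.prime_two.coprime_iff_not_dvd).mpr TN.not_dvd_index)
    have hYD : Y = TA ⊓ H :=
      (Subgroup.eq_of_le_of_card_ge hDY (Nat.le_of_dvd Nat.card_pos h3)).symm
    intro v hv
    obtain ⟨u, ⟨i, rfl⟩, w, hw, hv'⟩ := (Cfsg.Agent.Lib.Coprime.mem_sup_of_le_normalizer hZH).mp v.2
    have hwY : w ∈ Y := by
      refine ⟨⟨(⟨a, haM⟩ : M) ^ (-i) * v, mul_mem (zpow_mem haT _) hv, ?_⟩, hw⟩
      show a ^ (-i) * (v : G) = w
      rw [← hv', zpow_neg, inv_mul_cancel_left]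
    rw [← hv']
    exact mul_mem (zpow_mem (hATA ha) i) (hYD ▸ hwY).1
  have hga : g * a * g⁻¹ ∈ A := hgA a ha
  have hmod : ∀ m ∈ M, m * a * m⁻¹ * a⁻¹ ∈ H := by
    intro m hm
    obtain ⟨v, hv, w, hw, rfl⟩ := (Cfsg.Agent.Lib.Coprime.mem_sup_of_le_normalizer hZH).mp hm
    obtain ⟨k, rfl⟩ := hv
    have e : a ^ k * w * a * (a ^ k * w)⁻¹ * a⁻¹ =
        (a ^ k * w * (a ^ k)⁻¹) * (a ^ k * (a * w⁻¹ * a⁻¹) * (a ^ k)⁻¹) := by group
    rw [e]
    have hn := fun (u : G) (hu : u ∈ Subgroup.normalizer (H : Set G)) (x : G) (hx : x ∈ H) =>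
      (Subgroup.mem_normalizer_iff.mp hu x).mp hx
    exact mul_mem (hn _ (zpow_mem (hAH ha) k) _ hw) (hn _ (zpow_mem (hAH ha) k) _ (hn _ (hAH ha) _ (inv_mem hw)))
  have hfix : FixedIn (T : Subgroup M) ⟨a, haM⟩ := by
    refine ⟨haT, fun m hm => ?_⟩
    have h1 : g * ((m : G) * a * (m : G)⁻¹) * g⁻¹ ∈ (S : Subgroup G) := hUS _ (hTle _ hm)
    have h2 : g * ((m : G) * a * (m : G)⁻¹) * g⁻¹ ∈ A := by
      have := hA.2 _ hga (g * m * g⁻¹) (by
        rwa [show g * m * g⁻¹ * (g * a * g⁻¹) * (g * m * g⁻¹)⁻¹ = g * ((m : G) * a * (m : G)⁻¹) * g⁻¹ by group])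
      rwa [show g * m * g⁻¹ * (g * a * g⁻¹) * (g * m * g⁻¹)⁻¹ = g * ((m : G) * a * (m : G)⁻¹) * g⁻¹ by group] at this
    have h3 : (m : G) * a * (m : G)⁻¹ ∈ A := by
      have := hgAinv _ h2
      rwa [show g⁻¹ * (g * ((m : G) * a * (m : G)⁻¹) * g⁻¹) * g = (m : G) * a * (m : G)⁻¹ by group] at this
    exact Subtype.ext (mul_inv_eq_one.mp (Subgroup.mem_bot.mp (hdisj ▸
      Subgroup.mem_inf.mpr ⟨mul_mem h3 (inv_mem ha), hmod m m.2⟩)))
  have hz := zstar_element T hfix ⟨h, hhM⟩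
  haveI := oddCore_normal (G := M)
  haveI hNH : (H.subgroupOf M).Normal := (Subgroup.normal_subgroupOf_iff_le_normalizer le_sup_right).mpr hMH
  let K : Subgroup H := (Cfsg.oddCore M).comap (Subgroup.inclusion (le_sup_right : H ≤ M))
  have hKodd : Odd (Nat.card K) :=
    (odd_card_oddCore (G := M)).of_dvd_nat (Subgroup.card_comap_dvd_of_injective _ _ (Subgroup.inclusion_injective _))
  have hK : K = ⊥ := oddCore_eq_bot_iff.mp hO K inferInstance hKodd
  have hmem : a * h * a⁻¹ * h⁻¹ ∈ H := mul_mem ((Subgroup.mem_normalizer_iff.mp (hAH ha) h).mp hh) (inv_mem hh)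
  have : (⟨_, hmem⟩ : H) ∈ K := by
    show Subgroup.inclusion _ (⟨_, hmem⟩ : H) ∈ Cfsg.oddCore M
    exact hz
  rw [hK, Subgroup.mem_bot] at this
  have := congrArg Subtype.val this
  exact (mul_inv_eq_iff_eq_mul.mp (mul_inv_eq_one.mp this)).symm

end Cfsg.Agent.S1251
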