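import Cfsg.Statements.S1292
import Cfsg.Agent.Lib.Components.Local
-- import your own Cfsg.Agent.* helpers here

set_option autoImplicit false
open Cfsg

namespace Cfsg.Agent.S1292
open Subgroup Cfsg.Agent.Lib.Components
open scoped commutatorElement


/-- Let G be a finite group such that F*(C_G(t)) = O_2(C_G(t)) for every involution t. Then F*(N_G(T)) = O_2(N_G(T)) for every nontrivial 2-subgroup T of G. -/
theorem result {G : Type*} [Group G] [Finite G] (h : ∀ t : G, orderOf t = 2 → Cfsg.generalizedFittingSubgroup ↥(Subgroup.centralizer ({t} : Set G)) = Cfsg.pCore 2 ↥(Subgroup.centralizer ({t} : Set G))) (T : Subgroup G) (hT : IsPGroup 2 ↥T) (hT1 : T ≠ ⊥) : Cfsg.generalizedFittingSubgroup ↥(Subgroup.normalizer (T : Set G)) = Cfsg.pCore 2 ↥(Subgroup.normalizer (T : Set G)) := by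
  let N := normalizer (T : Set G)
  haveI : Nontrivial ↥T := (nontrivial_iff_ne_bot T).2 hT1
  haveI := Fact.mk Nat.prime_two
  haveI := hT.center_nontrivial
  obtain ⟨t₀, ht₀⟩ := exists_prime_orderOf_dvd_card' (G := ↥(center ↥T)) 2 (by
    obtain ⟨n, hn, hcard⟩ := (hT.to_subgroup (center ↥T)).nontrivial_iff_card.1 inferInstance
    rw [hcard]; exact dvd_pow_self 2 hn.ne')
  let t : G := ((t₀ : ↥T) : G)
  have ht : orderOf t = 2 := by
    rw [show t = ((t₀ : ↥T) : G) from rfl, Subgroup.orderOf_coe, Subgroup.orderOf_coe, ht₀]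
  let X := centralizer ({t} : Set G)
  have hTX : T ≤ X := fun y hy => mem_centralizer_singleton_iff.2
    (congrArg Subtype.val (mem_center_iff.1 t₀.2 ⟨y, hy⟩))
  have hX := h t ht
  rw [gfs_eq_pCore_iff] at hX ⊢
  refine charp_of_no_pprime fun x hx hc => ?_
  have hTN : T.subgroupOf N ≤ Cfsg.pCore 2 ↥N := by
    haveI : (T.subgroupOf N).Normal := normal_subgroupOf_of_le_normalizer le_rfl
    exact le_pCore hT.comap_subtype
  have hxT : (x : G) ∈ centralizer (T : Set G) := mem_centralizer_iff.2 fun y hy =>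
    congrArg Subtype.val (mem_centralizer_iff.1 hx ⟨y, le_normalizer hy⟩ (hTN hy))
  have hxX : (x : G) ∈ X :=
    centralizer_le (Set.singleton_subset_iff.2 (t₀ : ↥T).2) hxT
  let T' : Subgroup ↥X := T.subgroupOf X
  let M : Subgroup ↥X := normalizer (T' : Set ↥X)
  have hM := charp_normalizer hX (P := T') hT.comap_subtype
  let xM : ↥M := ⟨⟨x, hxX⟩, centralizer_le_normalizer T' (mem_centralizer_iff.2 fun y hy =>
    Subtype.ext (mem_centralizer_iff.1 hxT y hy))⟩
  let D : Subgroup G := (((Cfsg.pCore 2 ↥M).map M.subtype).map X.subtype) ⊓ centralizer (T : Set G)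
  have hCT : centralizer (T : Set G) ≤ N := centralizer_le_normalizer T
  have hCn : ((centralizer (T : Set G)).subgroupOf N).Normal := by
    refine normal_subgroupOf_of_le_normalizer fun g hg => ?_
    refine mem_normalizer_iff.2 fun c => ?_
    have hgn := mem_normalizer_iff.1 hg
    simp only [mem_centralizer_iff, SetLike.mem_coe]
    constructor
    · intro hc' l hl
      have h1 := hc' (g⁻¹ * l * g) ((hgn _).2 (by simpa [mul_assoc] using hl))
      calc l * (g * c * g⁻¹) = g * ((g⁻¹ * l * g) * c) * g⁻¹ := by group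
        _ = g * (c * (g⁻¹ * l * g)) * g⁻¹ := by rw [h1]
        _ = g * c * g⁻¹ * l := by group
    · intro hc' l hl
      have h1 := hc' _ ((hgn l).1 hl)
      calc l * c = g⁻¹ * ((g * l * g⁻¹) * (g * c * g⁻¹)) * g := by group
        _ = g⁻¹ * ((g * c * g⁻¹) * (g * l * g⁻¹)) * g := by rw [h1]
        _ = c * l := by group
  have hDn : centralizer (T : Set G) ≤ normalizer (D : Set G) := by
    refine le_trans (le_inf ?_ le_normalizer) inf_normalizer_le_normalizer_inf
    intro c hc'
    have hcX : c ∈ X := centralizer_le (Set.singleton_subset_iff.2 (t₀ : ↥T).2) hc'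
    have hcM : (⟨c, hcX⟩ : ↥X) ∈ M := centralizer_le_normalizer T' (mem_centralizer_iff.2 fun y hy =>
      Subtype.ext (mem_centralizer_iff.1 hc' y hy))
    exact le_normalizer_map X.subtype ⟨⟨c, hcX⟩, le_normalizer_map M.subtype
      ⟨⟨⟨c, hcX⟩, hcM⟩, by rw [normalizer_eq_top]; exact mem_top _, rfl⟩, rfl⟩
  have hDp : IsPGroup 2 ↥D :=
    (((pCore_isPGroup (G := ↥M) 2).map M.subtype).map X.subtype).to_inf_left
  have hDN : D.subgroupOf N ≤ Cfsg.pCore 2 ↥N := by
    refine le_pCore_of_subnormal ?_ hDp.comap_subtype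
    refine IsSubnormal.step _ ((centralizer (T : Set G)).subgroupOf N) (comap_mono inf_le_right)
      hCn.isSubnormal (normal_subgroupOf_of_le_normalizer ?_)
    exact (comap_mono hDn).trans (le_normalizer_comap N.subtype)
  have hT'M : T' ≤ M := le_normalizer
  have hQ := axb (x := xM) (Q := Cfsg.pCore 2 ↥M) (P := T'.subgroupOf M) (pCore_isPGroup 2)
    (hT.comap_subtype.comap_subtype) (by rw [normalizer_eq_top]; exact le_top)
    (mem_centralizer_iff.2 fun y hy => Subtype.ext (Subtype.ext (mem_centralizer_iff.1 hxT _ hy)))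
    (by rw [normalizer_eq_top]; exact mem_top _)
    (by rwa [← Subgroup.orderOf_coe, ← Subgroup.orderOf_coe, show (((xM : ↥X) : G)) = (x : G) from rfl,
      Subgroup.orderOf_coe])
    (fun d hd => by
      have hdT : ((d : ↥X) : G) ∈ centralizer (T : Set G) := mem_centralizer_iff.2 fun y hy =>
        congrArg (fun z : ↥M => ((z : ↥X) : G))
          (mem_centralizer_iff.1 hd.2 ⟨⟨y, hTX hy⟩, hT'M (show y ∈ T from hy)⟩ hy)
      have hdN : (⟨((d : ↥X) : G), hCT hdT⟩ : ↥N) ∈ D.subgroupOf N :=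
        mem_subgroupOf.2 (Subgroup.mem_inf.2 ⟨⟨(d : ↥X), ⟨d, hd.1, rfl⟩, rfl⟩, hdT⟩)
      have := congrArg Subtype.val (mem_centralizer_iff.1 hx _ (hDN hdN))
      exact mem_centralizer_singleton_iff.2 (Subtype.ext (Subtype.ext this)))
  have hx1 : xM ∈ Cfsg.pCore 2 ↥M := hM (mem_centralizer_iff.2 fun d hd =>
    mem_centralizer_singleton_iff.1 (hQ hd))
  have := eq_one_of_mem_pGroup_of_coprime (pCore_isPGroup 2) hx1 (by
    rwa [← Subgroup.orderOf_coe, ← Subgroup.orderOf_coe, show (((xM : ↥X) : G)) = (x : G) from rfl,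
      Subgroup.orderOf_coe])
  exact Subtype.ext (congrArg (fun z : ↥M => ((z : ↥X) : G)) this)

end Cfsg.Agent.S1292
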