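import Cfsg.Statements.S1293
import Cfsg.Agent.Lib.Components.Local
-- import your own Cfsg.Agent.* helpers here

set_option autoImplicit false
open Cfsg

namespace Cfsg.Agent.S1293
open Subgroup Cfsg.Agent.Lib.Components
open scoped commutatorElement


/-- Let G be finite with L_{p'}(G) = 1, and H = N_G(P) for a nontrivial p-subgroup P. Then L_{p'}(H) = 1 and O_{p'}(H) ≤ O_{p'}(G). -/
theorem result {G : Type*} [Group G] [Finite G] (p : ℕ) [Fact p.Prime] (hL : Cfsg.pLayer p G = ⊥) (P : Subgroup G) (hP : IsPGroup p ↥P) (hP1 : P ≠ ⊥) : Cfsg.pLayer p ↥(Subgroup.normalizer (P : Set G)) = ⊥ ∧ (Cfsg.pPrimeCore p ↥(Subgroup.normalizer (P : Set G))).map (Subgroup.normalizer (P : Set G)).subtype ≤ Cfsg.pPrimeCore p G := by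
  let N := normalizer (P : Set G)
  let q := QuotientGroup.mk' (Cfsg.pPrimeCore p G)
  let Nbar := normalizer ((P.map q : Subgroup (G ⧸ Cfsg.pPrimeCore p G)) : Set (G ⧸ Cfsg.pPrimeCore p G))
  have hchar := charp_normalizer (charp_quotient hL) (P := P.map q) (hP.map q)
  have hON := charp_pPrimeCore hchar
  have hEN := charp_layer hchar
  let f : ↥N →* G ⧸ Cfsg.pPrimeCore p G := q.comp N.subtype
  have hr : f.range = Nbar := by
    rw [MonoidHom.range_comp, range_subtype]
    exact map_normalizer_pGroup hP (pPrimeCore_coprime p)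
  let g : ↥N →* ↥Nbar := (MulEquiv.subgroupCongr hr).toMonoidHom.comp f.rangeRestrict
  have hg : Function.Surjective g :=
    (MulEquiv.subgroupCongr hr).surjective.comp f.rangeRestrict_surjective
  have hk : g.ker = Cfsg.pPrimeCore p ↥N := by
    refine le_antisymm ?_ ?_
    · have e : g.ker = f.ker := by
        ext x
        simp [g, MonoidHom.mem_ker]
      rw [e, ← MonoidHom.comap_ker, QuotientGroup.ker_mk']
      refine le_pPrimeCore ?_
      change (Nat.card ↥((Cfsg.pPrimeCore p G).subgroupOf N)).Coprime p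
      rw [← inf_subgroupOf_right, Nat.card_congr (subgroupOfEquivOfLe
        (inf_le_right : Cfsg.pPrimeCore p G ⊓ N ≤ N)).toEquiv]
      exact (pPrimeCore_coprime p).coprime_dvd_left (card_dvd_of_le inf_le_left)
    · have := pPrimeCore_map_le p g hg
      rw [hON, le_bot_iff, Subgroup.map_eq_bot_iff] at this
      exact this
  refine ⟨?_, ?_⟩
  · rw [pLayer_eq_bot_iff]
    let e : ↥N ⧸ Cfsg.pPrimeCore p ↥N ≃* ↥Nbar :=
      (QuotientGroup.quotientMulEquivOfEq hk.symm).trans (QuotientGroup.quotientKerEquivOfSurjective g hg)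
    have := layer_map_equiv e
    rw [hEN, Subgroup.map_eq_bot_iff_of_injective _ e.injective] at this
    exact this
  · rintro _ ⟨x, hx, rfl⟩
    have h1 : g x = 1 := hk.ge hx
    have h2 : f x = 1 := congrArg Subtype.val (show f.rangeRestrict x = 1 by simpa [g] using h1)
    exact (QuotientGroup.eq_one_iff _).1 h2

end Cfsg.Agent.S1293
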