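import Cfsg.Statements.S1302
import Cfsg.Agent.Lib.Coprime.OmegaFixed
import Cfsg.Agent.Lib.Thompson.Constrained
import Cfsg.Agent.Lib.Components.PComponent
import Cfsg.Agent.Lib.Components.Cores

set_option autoImplicit false
open Cfsg

namespace Cfsg.Agent.S1302

/-- Let X be a finite p-constrained group, p an odd prime, and A an abelian p-subgroup of X containing every element of order p of C_X(A). Then every subgroup of X of order prime to p that is normalized by A lies in O_{p'}(X). -/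
theorem result {X : Type*} [Group X] [Finite X] (p : ℕ) [Fact p.Prime] (hp : p ≠ 2) (hX : Cfsg.IsPConstrained p X) (A : Subgroup X) (hA : IsMulCommutative ↥A) (hAp : IsPGroup p ↥A) (hΩ : ∀ x ∈ Subgroup.centralizer (A : Set X), orderOf x = p → x ∈ A) (Q : Subgroup X) (hQ : ¬ p ∣ Nat.card ↥Q) (hAQ : A ≤ Subgroup.normalizer (Q : Set X)) : Q ≤ Cfsg.pPrimeCore p X := by
  set N := Cfsg.pPrimeCore p X
  let π := QuotientGroup.mk' N
  set R := Cfsg.pCore p (X ⧸ N)
  have hC := Lib.Thompson.isPConstrained_iff.mp hX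
  have hN : (Nat.card ↥N).Coprime p := Lib.Components.pPrimeCore_coprime p
  have hR : IsPGroup p ↥R := Lib.Hall.isPGroup_pCore p
  have hRn : R.Normal := Cfsg.pCore_normal p _
  have hall : ∀ H : Subgroup (X ⧸ N), H ≤ Subgroup.normalizer (R : Set (X ⧸ N)) := fun H => by
    rw [Subgroup.normalizer_eq_top]; exact le_top
  have hQ' : (Nat.card ↥(Q.map π)).Coprime p :=
    (Nat.Coprime.symm ((Fact.out : p.Prime).coprime_iff_not_dvd.mpr hQ)).coprime_dvd_left
      (Subgroup.card_map_dvd _ _)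
  have hdis : Q.map π ⊓ R = ⊥ := by
    rw [inf_comm]; exact Lib.Components.inf_eq_bot_of_pGroup_coprime hR hQ'
  have hAn : A.map π ≤ Subgroup.normalizer ((Q.map π : Subgroup (X ⧸ N)) : Set (X ⧸ N)) :=
    (Subgroup.map_mono hAQ).trans (Subgroup.le_normalizer_map π)
  have hmain : R ≤ Subgroup.centralizer ((Q.map π : Subgroup (X ⧸ N)) : Set (X ⧸ N)) := by
    refine Lib.Coprime.le_centralizer_of_omega_fixed hp (hAp.map π) hQ' hAn hR (hall _) (hall _)
      fun x hx hxp => ?_
    obtain ⟨g, hg, hgx⟩ : x ∈ (Subgroup.centralizer (A : Set X)).map π := by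
      rw [Lib.Components.map_centralizer_pGroup hAp hN]; exact hx.2
    have hgN : g ^ p ∈ N := by
      rw [← QuotientGroup.eq_one_iff, QuotientGroup.mk_pow, ← hxp, ← hgx]; rfl
    obtain ⟨k, hk⟩ := Nat.exists_mul_mod_eq_one_of_coprime hN (Fact.out : p.Prime).one_lt
    let g' := g ^ (Nat.card ↥N * k)
    have hg'p : g' ^ p = 1 := by
      rw [← pow_mul, mul_comm, pow_mul, pow_mul]
      have : (g ^ p) ^ Nat.card ↥N = 1 := congrArg Subtype.val (pow_card_eq_one' (x := (⟨g ^ p, hgN⟩ : ↥N)))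
      rw [this, one_pow]
    have hg'x : π g' = x := by
      rw [map_pow, hgx, ← Nat.mod_add_div (Nat.card ↥N * k) p, hk.2, pow_add, pow_mul, hxp]
      simp
    rcases eq_or_ne g' 1 with h1 | h1
    · rw [← hg'x, h1, map_one]; exact one_mem _
    have hA' : g' ∈ A := hΩ g' (pow_mem hg _) (orderOf_eq_prime hg'p h1)
    have hxn : x ∈ Subgroup.normalizer ((Q.map π : Subgroup (X ⧸ N)) : Set (X ⧸ N)) :=
      hAn (hg'x ▸ Subgroup.mem_map_of_mem π hA')
    refine Subgroup.mem_centralizer_iff.mpr fun q (hq : q ∈ Q.map π) => ?_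
    have hm : x * q * x⁻¹ * q⁻¹ ∈ Q.map π ⊓ R := by
      refine Subgroup.mem_inf.mpr ⟨mul_mem ((Subgroup.mem_normalizer_iff.mp hxn q).mp hq) (inv_mem hq), ?_⟩
      have h0 : x ∈ R := hx.1
      have := hRn.conj_mem _ (inv_mem h0) q
      have h2 := mul_mem h0 this
      simpa [mul_assoc] using h2
    rw [hdis, Subgroup.mem_bot, mul_inv_eq_one, mul_inv_eq_iff_eq_mul] at hm
    exact hm.symm
  have hQR : Q.map π ≤ R := (Subgroup.le_centralizer_iff.mp hmain).trans hC
  have hbot : Q.map π = ⊥ := by rw [← hdis]; exact le_antisymm (le_inf le_rfl hQR) inf_le_left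
  intro q hq
  have := (Subgroup.map_eq_bot_iff Q).mp hbot hq
  rwa [QuotientGroup.ker_mk'] at this

end Cfsg.Agent.S1302
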