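import Cfsg.Statements.S1339
import Cfsg.Agent.Lib.Components.Local
import Mathlib.LinearAlgebra.Matrix.Transvection
import Mathlib.FieldTheory.Finite.Basic
-- import your own Cfsg.Agent.* helpers here

set_option autoImplicit false
open Cfsg

namespace Cfsg.Agent.S1339
open Subgroup Cfsg.Agent.Lib.Components


/-- Let F be a field with 2 elements, n ≥ 3, and t ∈ SL(n, F) a transvection (t = 1 + E_{ij}, i ≠ j). Then the generalized Fitting subgroup of C(t) is O_2(C(t)). -/
theorem result {F : Type*} [Field F] [Fintype F] [DecidableEq F] (hF : Fintype.card F = 2) (n : ℕ) (hn : 3 ≤ n) (i j : Fin n) (hij : i ≠ j) (t : Matrix.SpecialLinearGroup (Fin n) F) (ht : (t : Matrix (Fin n) (Fin n) F) = Matrix.transvection i j 1) : Cfsg.generalizedFittingSubgroup ↥(Subgroup.centralizer ({t} : Set (Matrix.SpecialLinearGroup (Fin n) F))) = Cfsg.pCore 2 ↥(Subgroup.centralizer ({t} : Set (Matrix.SpecialLinearGroup (Fin n) F))) := by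
  haveI : Fact (Nat.Prime 2) := ⟨Nat.prime_two⟩
  rw [gfs_eq_pCore_iff]
  have h01 : ∀ x : F, x ≠ 0 → x = 1 := by
    intro x hx
    have hx' := FiniteField.pow_card_sub_one_eq_one x hx
    rw [hF] at hx'
    simpa using hx'
  have h2 : ∀ x : F, x + x = 0 := by
    intro x
    rcases eq_or_ne x 0 with rfl | hx
    · simp
    · by_contra h
      have h1 := h01 _ h
      rw [h01 x hx] at h1
      exact one_ne_zero (add_eq_left.1 h1)
  let C := centralizer ({t} : Set (Matrix.SpecialLinearGroup (Fin n) F))
  let E : Matrix (Fin n) (Fin n) F := Matrix.single i j 1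
  let mat : ↥C → Matrix (Fin n) (Fin n) F := fun g =>
    ((g : Matrix.SpecialLinearGroup (Fin n) F) : Matrix (Fin n) (Fin n) F)
  have hmul : ∀ a b, mat (a * b) = mat a * mat b := fun a b => rfl
  have hone : mat 1 = 1 := rfl
  have hcE : ∀ g : ↥C, mat g * E = E * mat g := fun g => by
    have h0 : (g : Matrix.SpecialLinearGroup (Fin n) F) * t = t * (g : Matrix.SpecialLinearGroup (Fin n) F) :=
      mem_centralizer_singleton_iff.1 g.2
    have h : mat g * (t : Matrix (Fin n) (Fin n) F) = (t : Matrix (Fin n) (Fin n) F) * mat g :=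
      congrArg Subtype.val h0
    rw [ht, Matrix.transvection, mul_add, add_mul, mul_one, one_mul] at h
    exact add_left_cancel h
  have hcol : ∀ (g : ↥C) k, k ≠ i → mat g k i = 0 := fun g k hk => by
    have h := congrFun (congrFun (hcE g) k) j
    rwa [Matrix.mul_single_apply_same, Matrix.single_mul_apply_of_ne _ _ _ _ _ hk, mul_one] at h
  have hrow : ∀ (g : ↥C) l, l ≠ j → mat g j l = 0 := fun g l hl => by
    have h := congrFun (congrFun (hcE g) i) l
    rw [Matrix.single_mul_apply_same, Matrix.mul_single_apply_of_ne _ _ _ _ _ hl, one_mul] at h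
    exact h.symm
  have hjj : ∀ g : ↥C, mat g j j = 1 := fun g => h01 _ fun h => by
    have hd : (mat g).det = 1 := (g : Matrix.SpecialLinearGroup (Fin n) F).2
    rw [Matrix.det_eq_zero_of_row_eq_zero j (fun l => by
      rcases eq_or_ne l j with rfl | hl
      exacts [h, hrow g l hl])] at hd
    exact zero_ne_one hd
  have hii : ∀ g : ↥C, mat g i i = 1 := fun g => by
    have h := congrFun (congrFun (hcE g) i) j
    rwa [Matrix.mul_single_apply_same, Matrix.single_mul_apply_same, mul_one, one_mul, hjj] at h
  let P : ↥C → Prop := fun g => ∀ k l, k ≠ i → l ≠ j → mat g k l = (1 : Matrix (Fin n) (Fin n) F) k l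
  let S : Submonoid ↥C :=
    { carrier := {g | P g}
      one_mem' := fun k l _ _ => by rw [hone]
      mul_mem' := fun {a b} ha hb k l hk hl => by
        rw [hmul, Matrix.mul_apply]
        rw [Finset.sum_eq_single k]
        · rcases eq_or_ne k j with rfl | hkj
          · rw [hrow b l hl, mul_zero, Matrix.one_apply_ne hl.symm]
          · rw [ha k k hk hkj, Matrix.one_apply_eq, one_mul, hb k l hk hl]
        · intro m _ hm
          rcases eq_or_ne m j with rfl | hmj
          · rw [hrow b l hl, mul_zero]
          · rw [ha k m hk hmj, Matrix.one_apply_ne hm.symm, zero_mul]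
        · simp }
  let U : Subgroup ↥C :=
    { S with
      inv_mem' := fun {g} hg => by
        rw [inv_eq_of_mul_eq_one_right (show g * g ^ (orderOf g - 1) = 1 by
          rw [← pow_succ', Nat.sub_add_cancel (orderOf_pos g), pow_orderOf_eq_one])]
        exact pow_mem (show g ∈ S from hg) _ }
  have hM : ∀ g : ↥C, P g → ∀ k l, (mat g - 1) k l ≠ 0 → k = i ∨ l = j := fun g hg k l h => by
    by_contra hh
    push Not at hh
    exact h (by rw [Matrix.sub_apply, hg k l hh.1 hh.2, sub_self])
  haveI hUn : U.Normal := ⟨fun g hg c k l hk hl => by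
    have e : mat (c * g * c⁻¹) = mat c * (mat g - 1) * mat c⁻¹ + 1 := by
      rw [hmul, hmul, mul_sub, sub_mul, mul_one, ← hmul c c⁻¹, mul_inv_cancel, hone, sub_add_cancel]
    rw [e, Matrix.add_apply]
    suffices (mat c * (mat g - 1) * mat c⁻¹) k l = 0 by rw [this, zero_add]
    rw [Matrix.mul_apply]
    refine Finset.sum_eq_zero fun b _ => ?_
    rw [Matrix.mul_apply, Finset.sum_mul]
    refine Finset.sum_eq_zero fun a _ => ?_
    by_cases h0 : (mat g - 1) a b = 0
    · rw [h0, mul_zero, zero_mul]
    rcases hM g hg a b h0 with rfl | rfl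
    · rw [hcol c k hk, zero_mul, zero_mul]
    · rw [hrow c⁻¹ l hl, mul_zero]⟩
  have hUp : IsPGroup 2 ↥U := fun g => ⟨2, Subtype.ext (Subtype.ext (Subtype.ext (by
    let M := mat (g : ↥C) - 1
    have hg : P (g : ↥C) := g.2
    have hne : ∀ a b, M a b ≠ 0 → b ≠ i ∧ a ≠ j := by
      intro a b h
      constructor
      · rintro rfl
        apply h
        rcases eq_or_ne a b with rfl | ha
        · simp [M, hii]
        · simp [M, hcol _ _ ha, Matrix.one_apply_ne ha]
      · rintro rfl
        apply h
        rcases eq_or_ne b a with rfl | hb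
        · simp [M, hjj]
        · simp [M, hrow _ _ hb, Matrix.one_apply_ne hb.symm]
    have hM2 : ∀ a c, (M * M) a c ≠ 0 → a = i ∧ c = j := by
      intro a c h
      rw [Matrix.mul_apply] at h
      obtain ⟨b, -, hb⟩ := Finset.exists_ne_zero_of_sum_ne_zero h
      have h1 := left_ne_zero_of_mul hb
      have h2 := right_ne_zero_of_mul hb
      exact ⟨(hM _ hg a b h1).resolve_right (hne b c h2).2, (hM _ hg b c h2).resolve_left (hne a b h1).1⟩
    have hM4 : M * M * (M * M) = 0 := by
      ext a c
      rw [Matrix.mul_apply, Matrix.zero_apply]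
      refine Finset.sum_eq_zero fun b _ => ?_
      by_contra hb
      exact hij ((hM2 b c (right_ne_zero_of_mul hb)).1.symm.trans (hM2 a b (left_ne_zero_of_mul hb)).2)
    have hsq : ∀ X : Matrix (Fin n) (Fin n) F, (X + 1) * (X + 1) = X * X + 1 := by
      intro X
      have hX : X + X = 0 := by ext a b; exact h2 _
      rw [add_mul, mul_add, mul_one, one_mul, ← add_assoc, add_assoc (X * X) X X, hX, add_zero]
    show mat ((g : ↥C) ^ (2 ^ 2)) = 1
    rw [show (g : ↥C) ^ (2 ^ 2) = g * g * (g * g) by rw [show 2 ^ 2 = 2 + 2 from rfl, pow_add, pow_two],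
      hmul, hmul, show mat (g : ↥C) = M + 1 from (sub_add_cancel _ _).symm, hsq, hsq, hM4, zero_add])))⟩
  intro x hx
  refine le_pCore hUp (show P x from fun k l hk hl => ?_)
  have hT : Matrix.transvection i k (1 : F) * E = E * Matrix.transvection i k 1 := by
    simp [E, Matrix.transvection, add_mul, mul_add, Matrix.single_mul_single_of_ne, hk, hij.symm]
  let T : Matrix.SpecialLinearGroup (Fin n) F :=
    ⟨Matrix.transvection i k 1, Matrix.det_transvection_of_ne i k hk.symm 1⟩
  have hTC : T ∈ C := mem_centralizer_singleton_iff.2 (Subtype.ext (by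
    show Matrix.transvection i k (1 : F) * (t : Matrix (Fin n) (Fin n) F) =
      (t : Matrix (Fin n) (Fin n) F) * Matrix.transvection i k 1
    rw [ht, show Matrix.transvection i j (1 : F) = 1 + E from rfl, mul_add, add_mul, hT, mul_one, one_mul]))
  have hTU : (⟨T, hTC⟩ : ↥C) ∈ U := fun a b ha hb => by
    show Matrix.transvection i k (1 : F) a b = _
    simp [Matrix.transvection, Matrix.single_apply_of_row_ne (Ne.symm ha)]
  have hc : Matrix.transvection i k (1 : F) * mat x = mat x * Matrix.transvection i k 1 :=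
    congrArg Subtype.val (congrArg Subtype.val (mem_centralizer_iff.1 hx _ (le_pCore hUp hTU)) :)
  rw [Matrix.transvection, add_mul, mul_add, one_mul, mul_one] at hc
  have hc' : Matrix.single i k (1 : F) * mat x = mat x * Matrix.single i k 1 := add_left_cancel hc
  have h := congrFun (congrFun hc' i) l
  rw [Matrix.single_mul_apply_same, one_mul] at h
  rcases eq_or_ne l k with rfl | hlk
  · rw [h, Matrix.mul_single_apply_same, mul_one, hii, Matrix.one_apply_eq]
  · rw [h, Matrix.mul_single_apply_of_ne _ _ _ _ _ hlk, Matrix.one_apply_ne hlk.symm]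

end Cfsg.Agent.S1339
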