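import Cfsg.Statements.S1340
import Cfsg.Agent.Lib.Classical.Simple
import Cfsg.Agent.Lib.SchurAlt.SL2
import Cfsg.Agent.Lib.Components.Basic
import Cfsg.Agent.Lib.Involution.ZStarBasic
import Cfsg.Agent.Lib.Balance.Core

set_option autoImplicit false
open Cfsg

namespace Cfsg.Agent.S1340


open Matrix

universe u

variable {F : Type u} [Field F] [Fintype F] [DecidableEq F]

theorem sl_quasisimple (m : ℕ) (hm : 2 ≤ m) (hq : m = 2 → 4 ≤ Fintype.card F) :
    Cfsg.IsQuasisimple (Matrix.SpecialLinearGroup (Fin m) F) := by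
  rcases Nat.lt_or_ge m 3 with h | h
  · obtain rfl : m = 2 := by omega
    haveI := Matrix.ProjectiveSpecialLinearGroup.rank_two_simple (F := F)
      (by rw [Nat.card_eq_fintype_card]; exact hq rfl)
    exact ⟨⟨Lib.SchurAlt.sl_perfect (hq rfl)⟩, this⟩
  · exact ⟨⟨Lib.Classical.SL_commutator_eq_top (by simpa using h)⟩, Lib.Classical.isSimpleGroup_PSL (by simpa using h)⟩

theorem main (hF : Odd (Fintype.card F)) {n m : ℕ} (e : Fin 1 ⊕ Fin m ≃ Fin n) (hm : 2 ≤ m)
    (hq : m = 2 → 4 ≤ Fintype.card F) :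
    ∃ t : Matrix.GeneralLinearGroup (Fin n) F, orderOf t = 2 ∧ t ∉ Subgroup.center (Matrix.GeneralLinearGroup (Fin n) F) ∧ Cfsg.HasComponent (↥(Subgroup.centralizer ({t} : Set (Matrix.GeneralLinearGroup (Fin n) F))) ⧸ Cfsg.oddCore ↥(Subgroup.centralizer ({t} : Set (Matrix.GeneralLinearGroup (Fin n) F)))) := by
  have h2 : (2 : F) ≠ 0 := by
    intro h
    have : ringChar F = 2 := CharP.ringChar_of_prime_eq_zero Nat.prime_two (by exact_mod_cast h)
    have := FiniteField.even_card_iff_char_two.mp this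
    obtain ⟨k, hk⟩ := hF
    omega
  have hneg : ∀ x : F, -x = x → x = 0 := fun x hx => by
    have : (2 : F) * x = 0 := by linear_combination -hx
    exact (mul_eq_zero.mp this).resolve_left h2
  let R := Matrix.reindexAlgEquiv F F e
  let T : Matrix (Fin n) (Fin n) F := R (fromBlocks (-1) 0 0 1)
  have hTT : T * T = 1 := by
    rw [show T * T = R (fromBlocks (-1) 0 0 1 * fromBlocks (-1) 0 0 1) from (map_mul R _ _).symm,
      fromBlocks_multiply]
    simp [fromBlocks_one]
  let t : GL (Fin n) F := ⟨T, T, hTT, hTT⟩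
  set C := Subgroup.centralizer ({t} : Set (GL (Fin n) F)) with hC
  have blocks : ∀ g ∈ C, ∃ (a : Matrix (Fin 1) (Fin 1) F) (D : Matrix (Fin m) (Fin m) F),
      (g : Matrix (Fin n) (Fin n) F) = R (fromBlocks a 0 0 D) := by
    intro g hg
    have h : (g : Matrix (Fin n) (Fin n) F) * T = T * (g : Matrix (Fin n) (Fin n) F) :=
      congrArg Units.val (Subgroup.mem_centralizer_singleton_iff.mp hg)
    obtain ⟨X, hX⟩ := R.surjective (g : Matrix (Fin n) (Fin n) F)
    rw [← hX, ← map_mul, ← map_mul] at h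
    have h' := R.injective h
    rw [← fromBlocks_toBlocks X, fromBlocks_multiply, fromBlocks_multiply, fromBlocks_inj] at h'
    obtain ⟨-, h12, h21, -⟩ := h'
    simp at h12 h21
    have z12 : X.toBlocks₁₂ = 0 := by
      ext i j
      refine hneg _ ?_
      have := congrFun (congrFun h12 i) j
      simp only [Matrix.neg_apply] at this
      exact this.symm
    have z21 : X.toBlocks₂₁ = 0 := by
      ext i j
      refine hneg _ ?_
      have := congrFun (congrFun h21 i) j
      simp only [Matrix.neg_apply] at this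
      exact this
    refine ⟨X.toBlocks₁₁, X.toBlocks₂₂, ?_⟩
    rw [← hX]
    conv_lhs => rw [← fromBlocks_toBlocks X, z12, z21]
  let bmat : Matrix (Fin m) (Fin m) F →* Matrix (Fin n) (Fin n) F :=
    { toFun := fun A => R (fromBlocks 1 0 0 A)
      map_one' := by rw [fromBlocks_one, map_one]
      map_mul' := fun A B => by rw [← map_mul, fromBlocks_multiply]; simp }
  let ι : Matrix.SpecialLinearGroup (Fin m) F →* GL (Fin n) F :=
    (Units.map bmat).comp Matrix.SpecialLinearGroup.toGL
  have hιval : ∀ A : Matrix.SpecialLinearGroup (Fin m) F,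
      (ι A : Matrix (Fin n) (Fin n) F) = R (fromBlocks 1 0 0 (A : Matrix (Fin m) (Fin m) F)) := fun A => rfl
  have hιC : ∀ A, ι A ∈ C := by
    intro A
    rw [hC, Subgroup.mem_centralizer_singleton_iff]
    apply Units.ext
    rw [Units.val_mul, Units.val_mul, hιval]
    show R _ * R _ = R _ * R _
    rw [← map_mul, ← map_mul, fromBlocks_multiply, fromBlocks_multiply]
    simp
  let κ : Matrix.SpecialLinearGroup (Fin m) F →* C := ι.codRestrict C hιC
  have hι_inj : Function.Injective ι := by
    intro A B h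
    have h' := R.injective (congrArg Units.val h)
    rw [fromBlocks_inj] at h'
    exact Subtype.ext h'.2.2.2
  haveI hκn : κ.range.Normal := by
    constructor
    rintro _ ⟨A, rfl⟩ g
    obtain ⟨a, D, hg⟩ := blocks g g.2
    obtain ⟨a', D', hg'⟩ := blocks (g⁻¹ : C) (g⁻¹ : C).2
    have h1 : R (fromBlocks a 0 0 D * fromBlocks a' 0 0 D') = R 1 := by
      rw [map_mul, ← hg, ← hg', map_one, ← Units.val_mul, Subgroup.coe_inv, mul_inv_cancel]
      rfl
    have h1' := R.injective h1
    rw [fromBlocks_multiply, ← fromBlocks_one, fromBlocks_inj] at h1'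
    simp at h1'
    obtain ⟨ha, hD⟩ := h1'
    have hdet : (D * (A : Matrix (Fin m) (Fin m) F) * D').det = 1 := by
      rw [det_mul, det_mul, A.2, mul_one, ← det_mul, hD, det_one]
    refine ⟨⟨D * (A : Matrix (Fin m) (Fin m) F) * D', hdet⟩, ?_⟩
    apply Subtype.ext
    apply Units.ext
    show R (fromBlocks 1 0 0 (D * (A : Matrix (Fin m) (Fin m) F) * D')) =
      ((g : GL (Fin n) F) : Matrix (Fin n) (Fin n) F) *
      R (fromBlocks 1 0 0 (A : Matrix (Fin m) (Fin m) F)) * (((g⁻¹ : C) : GL (Fin n) F) : Matrix (Fin n) (Fin n) F)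
    rw [hg, hg', ← map_mul, ← map_mul, fromBlocks_multiply, fromBlocks_multiply]
    simp [ha]
  haveI : (Cfsg.oddCore ↥C).Normal := Lib.Balance.core_normal 2
  let φ : Matrix.SpecialLinearGroup (Fin m) F →* ↥C ⧸ Cfsg.oddCore ↥C := (QuotientGroup.mk' _).comp κ
  have hm0 : 0 < m := by omega
  -- an element of even order
  have hne : ∃ A, φ A ≠ 1 := by
    let d : Fin m → F := fun i => if i.val < 2 then -1 else 1
    have hd : (Matrix.diagonal d).det = 1 := by
      obtain ⟨k, rfl⟩ : ∃ k, m = k + 2 := ⟨m - 2, by omega⟩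
      rw [det_diagonal, Fin.prod_univ_succ, Fin.prod_univ_succ]
      simp [d]
    refine ⟨⟨Matrix.diagonal d, hd⟩, fun h => ?_⟩
    set A : Matrix.SpecialLinearGroup (Fin m) F := ⟨Matrix.diagonal d, hd⟩ with hA
    have hA2 : A * A = 1 := by
      apply Subtype.ext
      show Matrix.diagonal d * Matrix.diagonal d = 1
      rw [diagonal_mul_diagonal, ← diagonal_one]
      congr 1
      funext i
      simp only [d]
      split_ifs <;> ring
    have hA1 : A ≠ 1 := by
      intro h
      have h0 : Matrix.diagonal d ⟨0, hm0⟩ ⟨0, hm0⟩ = (1 : Matrix (Fin m) (Fin m) F) ⟨0, hm0⟩ ⟨0, hm0⟩ :=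
        congrFun (congrFun (congrArg Subtype.val h) _) _
      simp [d] at h0
      exact h2 (by linear_combination -h0)
    have ho : orderOf (κ A) = 2 := by
      refine orderOf_eq_prime ?_ ?_
      · rw [pow_two, ← map_mul, hA2, map_one]
      · intro h'
        exact hA1 (hι_inj ((congrArg Subtype.val h').trans (map_one ι).symm))
    have hmem : κ A ∈ Cfsg.oddCore ↥C := (QuotientGroup.eq_one_iff _).mp h
    have := Lib.Involution.odd_orderOf_of_mem_oddCore hmem
    rw [ho] at this
    exact (by decide : ¬ Odd 2) this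
  refine ⟨t, ?_, ?_, φ.range, ?_, ?_⟩
  · refine orderOf_eq_prime ?_ ?_
    · apply Units.ext; rw [pow_two, Units.val_mul]; exact hTT
    · intro h
      have h' := R.injective (((congrArg Units.val h) : T = 1).trans (map_one R).symm)
      rw [← fromBlocks_one, fromBlocks_inj] at h'
      have h0 := congrFun (congrFun h'.1 0) 0
      simp at h0
      exact h2 (by linear_combination -h0)
  · intro hc
    rw [Subgroup.mem_center_iff] at hc
    let X : Matrix (Fin 1 ⊕ Fin m) (Fin 1 ⊕ Fin m) F := Matrix.transvection (Sum.inl 0) (Sum.inr ⟨0, hm0⟩) 1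
    have hX : (R X).det ≠ 0 := by
      show (Matrix.reindex e e X).det ≠ 0
      rw [Matrix.det_reindex_self, Matrix.det_transvection_of_ne _ _ (by simp)]
      exact one_ne_zero
    have h := congrArg Units.val (hc (Matrix.GeneralLinearGroup.mkOfDetNeZero (R X) hX))
    change R X * R _ = R _ * R X at h
    rw [← map_mul, ← map_mul] at h
    have h' := congrFun (congrFun (R.injective h) (Sum.inl 0)) (Sum.inr ⟨0, hm0⟩)
    simp [X, Matrix.transvection, Matrix.mul_apply, Matrix.add_apply, Matrix.single_apply, Fintype.sum_sum_type] at h'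
    exact h2 (by linear_combination h')
  · have hr : φ.range = κ.range.map (QuotientGroup.mk' _) := MonoidHom.range_comp _ _
    haveI : φ.range.Normal := hr ▸ hκn.map _ (QuotientGroup.mk'_surjective _)
    exact Subgroup.Normal.isSubnormal inferInstance
  · haveI : Nontrivial φ.range := by
      obtain ⟨A, hA⟩ := hne
      exact ⟨⟨⟨φ A, A, rfl⟩, 1, fun h => hA (congrArg Subtype.val h)⟩⟩
    exact Lib.Components.qs_of_surjective (sl_quasisimple m hm hq) φ.rangeRestrict φ.rangeRestrict_surjective


/-- Let F be a finite field of odd order and n ≥ 3 with (n, |F|) ≠ (3, 3). Then GL(n, F) has a non-central involution t such that C(t) / O(C(t)) has a component. -/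
theorem result {F : Type*} [Field F] [Fintype F] [DecidableEq F] (hF : Odd (Fintype.card F)) (n : ℕ) (hn : 3 ≤ n) (h33 : ¬ (n = 3 ∧ Fintype.card F = 3)) : ∃ t : Matrix.GeneralLinearGroup (Fin n) F, orderOf t = 2 ∧ t ∉ Subgroup.center (Matrix.GeneralLinearGroup (Fin n) F) ∧ Cfsg.HasComponent (↥(Subgroup.centralizer ({t} : Set (Matrix.GeneralLinearGroup (Fin n) F))) ⧸ Cfsg.oddCore ↥(Subgroup.centralizer ({t} : Set (Matrix.GeneralLinearGroup (Fin n) F)))) := by
  refine main hF (m := n - 1) (finSumFinEquiv.trans (finCongr (by omega))) (by omega) (fun h => ?_)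
  have h3 : Fintype.card F ≠ 3 := fun h' => h33 ⟨by omega, h'⟩
  have := Fintype.one_lt_card (α := F)
  obtain ⟨k, hk⟩ := hF
  omega

end Cfsg.Agent.S1340
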