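import Cfsg.Statements.S1478
import Cfsg.Agent.Lib.CNGroup.MinSimple

set_option autoImplicit false
open Cfsg

namespace Cfsg.Agent.S1478

/-- Let G be a minimal simple group of odd order in which every non-identity element has nilpotent centralizer. Then no subgroup of G is a three-step group with respect to any prime. -/
theorem result {G : Type*} [Group G] [Finite G] (hG : Cfsg.IsMinSimpleOddOrder G) (hCN : Cfsg.IsCNGroup G) :
    ∀ (H : Subgroup G) (p : ℕ), ¬ Cfsg.IsThreeStepGroup p ↥H := by
  intro H p h3
  haveI := hG.2.1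
  by_cases hH : H = ⊤
  · subst hH
    haveI : IsSimpleGroup (⊤ : Subgroup G) :=
      IsSimpleGroup.isSimpleGroup_of_surjective (Subgroup.topEquiv (G := G)).symm.toMonoidHom (Subgroup.topEquiv (G := G)).symm.surjective
    obtain ⟨hP, A, -, -, -, -, -, hne, -⟩ := h3
    have hn : (Cfsg.pCore p (⊤ : Subgroup G)).Normal := Lib.Hall.pCore_normal p
    rcases IsSimpleGroup.eq_bot_or_eq_top_of_normal _ hn with h | h
    · exact hP h
    · exact hne (by rw [h, top_sup_eq])
  obtain ⟨M, hM, hHM⟩ := Lib.CNGroup.exists_coatom_ge H hH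
  obtain ⟨K, hK⟩ := Lib.CNGroup.coatom_kernel hG hCN hM
  haveI := hK.normal
  haveI hMK : Group.IsNilpotent (M ⧸ K) := hK.quotient_nilpotent (Lib.CNGroup.cn_subgroup hCN M)
  let f : H →* M ⧸ K := (QuotientGroup.mk' K).comp (Subgroup.inclusion hHM)
  have hker : f.ker = K.comap (Subgroup.inclusion hHM) := by
    rw [← MonoidHom.comap_ker, QuotientGroup.ker_mk']
  have hnil : Group.IsNilpotent f.ker := by
    rw [hker]
    haveI := hK.nil
    exact (Group.isNilpotent_congr
      ((K.comap (Subgroup.inclusion hHM)).equivMapOfInjective _ (Subgroup.inclusion_injective hHM))).mpr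
      (Lib.CNGroup.nil_mono hK.nil (Subgroup.map_comap_le _ _))
  have hq : Group.IsNilpotent (H ⧸ f.ker) :=
    (Group.isNilpotent_congr (QuotientGroup.quotientKerEquivRange f)).mpr inferInstance
  exact Lib.CNGroup.not_threeStep_of_nilpotent_quotient hnil hq h3

end Cfsg.Agent.S1478
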