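import Cfsg.Statements.S1483
import Cfsg.Agent.Lib.CNGroup.MinSimple

set_option autoImplicit false
open Cfsg

namespace Cfsg.Agent.S1483

/-- Let G be a minimal simple group of odd order in which every non-identity element has nilpotent centralizer. Then any two nilpotent subgroups each contained in no larger nilpotent subgroup are either conjugate or of coprime orders; and for primes p, q, r: if some elements x, y ≠ 1 of p-power and q-power order commute, and some elements y', z ≠ 1 of q-power and r-power order commute, then some elements of p-power and r-power order, both ≠ 1, commute. -/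
theorem result {G : Type*} [Group G] [Finite G] (hG : Cfsg.IsMinSimpleOddOrder G) (hCN : Cfsg.IsCNGroup G) :
    (∀ H₁ H₂ : Subgroup G, (Group.IsNilpotent ↥H₁ ∧ ∀ L : Subgroup G, Group.IsNilpotent L → H₁ ≤ L → L = H₁) → (Group.IsNilpotent ↥H₂ ∧ ∀ L : Subgroup G, Group.IsNilpotent L → H₂ ≤ L → L = H₂) → (∃ g : G, H₂ = H₁.map (MulAut.conj g).toMonoidHom) ∨ (Nat.card H₁).Coprime (Nat.card H₂)) ∧
      ∀ (p q r : ℕ), p.Prime → q.Prime → r.Prime → ∀ (x y y' z : G), x ≠ 1 → y ≠ 1 → y' ≠ 1 → z ≠ 1 →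
        IsPGroup p (Subgroup.zpowers x) → IsPGroup q (Subgroup.zpowers y) → IsPGroup q (Subgroup.zpowers y') → IsPGroup r (Subgroup.zpowers z) →
        x * y = y * x → y' * z = z * y' →
        ∃ x' z' : G, x' ≠ 1 ∧ z' ≠ 1 ∧ IsPGroup p (Subgroup.zpowers x') ∧ IsPGroup r (Subgroup.zpowers z') ∧ x' * z' = z' * x' := by
  haveI := hG.2.1
  have part1 : ∀ H₁ H₂ : Subgroup G, Lib.CNGroup.IsMaxNil H₁ → Lib.CNGroup.IsMaxNil H₂ →
      (∃ g : G, H₂ = H₁.map (MulAut.conj g).toMonoidHom) ∨ (Nat.card H₁).Coprime (Nat.card H₂) := by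
    intro H₁ H₂ h₁ h₂
    rw [or_iff_not_imp_right]
    intro hnc
    obtain ⟨p, hp, hp1, hp2⟩ := Nat.Prime.not_coprime_iff_dvd.1 hnc
    haveI : Fact p.Prime := ⟨hp⟩
    exact Lib.CNGroup.conj_of_common_prime hCN h₁ h₂ hp1 hp2
  refine ⟨fun H₁ H₂ h₁ h₂ => part1 H₁ H₂ h₁ h₂, ?_⟩
  intro p q r hp hq hr x y y' z hx hy hy' hz hxp hyq hy'q hzr hxy hyz
  have hnil : ∀ a b : G, a * b = b * a → Group.IsNilpotent (Subgroup.zpowers a ⊔ Subgroup.zpowers b : Subgroup G) := by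
    intro a b hab
    have : IsMulCommutative (Subgroup.closure ({a, b} : Set G)) := Subgroup.isMulCommutative_closure (by
      rintro _ (rfl | rfl) _ (rfl | rfl)
      exacts [rfl, hab, hab.symm, rfl])
    rw [show (Subgroup.zpowers a ⊔ Subgroup.zpowers b : Subgroup G) = Subgroup.closure ({a, b} : Set G) by
      rw [Set.insert_eq, Subgroup.closure_union, ← Subgroup.zpowers_eq_closure, ← Subgroup.zpowers_eq_closure]]
    open scoped IsMulCommutative in infer_instance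
  obtain ⟨H₁, h₁, hle₁⟩ := Lib.CNGroup.exists_maxNil (hnil x y hxy)
  obtain ⟨H₂, h₂, hle₂⟩ := Lib.CNGroup.exists_maxNil (hnil y' z hyz)
  rw [sup_le_iff, Subgroup.zpowers_le, Subgroup.zpowers_le] at hle₁ hle₂
  have hpord : ∀ (t : ℕ) (a : G), t.Prime → a ≠ 1 → IsPGroup t (Subgroup.zpowers a) →
      ∃ j, orderOf a = t ^ (j + 1) := by
    intro t a ht ha hta
    haveI : Fact t.Prime := ⟨ht⟩
    obtain ⟨j, hj⟩ := IsPGroup.iff_card.1 hta
    rw [Nat.card_zpowers] at hj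
    obtain ⟨j', rfl⟩ : ∃ j', j = j' + 1 := Nat.exists_eq_succ_of_ne_zero fun h0 => ha (by
      rw [h0, pow_zero] at hj; exact orderOf_eq_one_iff.1 hj)
    exact ⟨j', hj⟩
  obtain ⟨jy, hjy⟩ := hpord q y hq hy hyq
  obtain ⟨jy', hjy'⟩ := hpord q y' hq hy' hy'q
  obtain ⟨g, hg⟩ : ∃ g : G, H₂ = H₁.map (MulAut.conj g).toMonoidHom := by
    refine (part1 H₁ H₂ h₁ h₂).resolve_right fun hc => hq.ne_one ?_
    exact Nat.eq_one_of_dvd_coprimes hc
      ((dvd_pow_self q (Nat.succ_ne_zero jy)).trans (hjy ▸ H₁.orderOf_dvd_natCard hle₁.2))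
      ((dvd_pow_self q (Nat.succ_ne_zero jy')).trans (hjy' ▸ H₂.orderOf_dvd_natCard hle₂.1))
  rw [hg] at hle₂
  obtain ⟨w, hw, hwz⟩ := hle₂.2
  by_cases hpr : p = r
  · subst hpr
    exact ⟨x, x, hx, hx, hxp, hxp, rfl⟩
  have hw1 : w ≠ 1 := fun h => hz (by rw [← hwz, h, map_one])
  obtain ⟨jx, hjx⟩ := hpord p x hp hx hxp
  obtain ⟨jz, hjz⟩ := hpord r z hr hz hzr
  have hwo : orderOf w = r ^ (jz + 1) := by
    rw [← hjz, ← hwz, orderOf_injective (MulAut.conj g).toMonoidHom (MulAut.conj g).injective]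
  refine ⟨x, w, hx, hw1, hxp, ?_, ?_⟩
  · haveI : Fact r.Prime := ⟨hr⟩
    exact IsPGroup.of_card (n := jz + 1) (by rw [Nat.card_zpowers, hwo])
  · refine (Lib.CNGroup.commute_of_nil h₁.1 hle₁.1 hw ?_).eq
    rw [hjx, hwo]
    exact Nat.Coprime.pow _ _ ((Nat.coprime_primes hp hr).2 hpr)

end Cfsg.Agent.S1483
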