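import Cfsg.Statements.S1484
import Cfsg.Agent.Lib.CNGroup.MinSimple

set_option autoImplicit false
open Cfsg

namespace Cfsg.Agent.S1484

/-- Let G be a minimal simple group of odd order in which every non-identity element has nilpotent centralizer, and M₁, …, M_k maximal subgroups, pairwise non-conjugate, such that every maximal subgroup is conjugate to some M_i. Let H_i be the largest normal nilpotent Hall subgroup of M_i. Then the orders of the H_i are pairwise coprime, their product is the order of G, and every element of G is conjugate to an element of some H_i. -/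
theorem result {G : Type*} [Group G] [Finite G] (hG : Cfsg.IsMinSimpleOddOrder G) (hCN : Cfsg.IsCNGroup G) (k : ℕ) (Mrep : Fin k → Subgroup G) (hmax : ∀ i, IsCoatom (Mrep i))
    (hnc : ∀ i j, i ≠ j → ∀ g : G, Mrep j ≠ (Mrep i).map (MulAut.conj g).toMonoidHom) (hall : ∀ M : Subgroup G, IsCoatom M → ∃ i, ∃ g : G, M = (Mrep i).map (MulAut.conj g).toMonoidHom) :
    (∀ i j, i ≠ j → (Nat.card (Cfsg.fittingHallOf (Mrep i))).Coprime (Nat.card (Cfsg.fittingHallOf (Mrep j)))) ∧
      ∏ i, Nat.card (Cfsg.fittingHallOf (Mrep i)) = Nat.card G ∧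
      ∀ x : G, ∃ i, ∃ g : G, g * x * g⁻¹ ∈ Cfsg.fittingHallOf (Mrep i) := by
  classical
  haveI := hG.2.1
  choose K hK using fun i => Lib.CNGroup.coatom_kernel hG hCN (hmax i)
  have hH : ∀ i, Cfsg.fittingHallOf (Mrep i) = (K i).map (Mrep i).subtype := fun i => by
    rw [Cfsg.fittingHallOf, (hK i).fittingHall_eq (Lib.CNGroup.cn_subgroup hCN _)]
  have hmn : ∀ i, Lib.CNGroup.IsMaxNil (Cfsg.fittingHallOf (Mrep i)) ∧
      Subgroup.normalizer (Cfsg.fittingHallOf (Mrep i) : Set G) = Mrep i := fun i => by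
    rw [hH]; exact Lib.CNGroup.isMaxNil_kernel hG (hmax i) (hK i)
  set H := fun i => Cfsg.fittingHallOf (Mrep i) with hHdef
  have hcop : ∀ i j, i ≠ j → (Nat.card (H i)).Coprime (Nat.card (H j)) := by
    intro i j hij
    by_contra hc
    obtain ⟨p, hp, hp1, hp2⟩ := Nat.Prime.not_coprime_iff_dvd.1 hc
    haveI : Fact p.Prime := ⟨hp⟩
    obtain ⟨g, hg⟩ := Lib.CNGroup.conj_of_common_prime hCN (hmn i).1 (hmn j).1 hp1 hp2
    refine hnc i j hij g ?_
    rw [← (hmn j).2, ← (hmn i).2, hg]
    exact (Subgroup.map_normalizer_eq_of_bijective _ (MulAut.conj g).bijective).symm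
  -- every maximal nilpotent subgroup is conjugate to one of the kernels
  have hconj : ∀ N : Subgroup G, Lib.CNGroup.IsMaxNil N →
      ∃ i, ∃ g : G, N = (H i).map (MulAut.conj g).toMonoidHom := by
    intro N hN
    obtain ⟨hco, hker, -⟩ := Lib.CNGroup.maxNil_structure hG hCN hN
    obtain ⟨i, g, hg⟩ := hall _ hco
    refine ⟨i, g, ?_⟩
    have h' : Lib.CNGroup.IsMaxNil ((H i).map (MulAut.conj g).toMonoidHom) :=
      Lib.CNGroup.isMaxNil_map (hmn i).1 _
    have hle : (H i).map (MulAut.conj g).toMonoidHom ≤ Subgroup.normalizer (N : Set G) := by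
      rw [hg]; exact Subgroup.map_mono (Subgroup.map_subtype_le _)
    set U := Subgroup.normalizer (N : Set G)
    set D := ((H i).map (MulAut.conj g).toMonoidHom).subgroupOf U with hD
    haveI hDn : D.Normal := (Subgroup.normal_subgroupOf_iff_le_normalizer hle).2 (by
      rw [hg, ← (hmn i).2]
      exact Subgroup.le_normalizer_map _)
    haveI := hker.normal
    have hDnil : Group.IsNilpotent D :=
      (Group.isNilpotent_congr (Subgroup.subgroupOfEquivOfLe hle)).mpr h'.1
    have hsup := hker.isMaxNil.2 (D ⊔ N.subgroupOf U)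
      (Lib.CNGroup.nil_mono Lib.Hall.fittingSubgroup_isNilpotent
        (sup_le (Lib.Hall.le_fittingSubgroup hDnil) (Lib.Hall.le_fittingSubgroup hker.nil))) le_sup_right
    refine h'.2 N hN.1 fun x hx => ?_
    have : (⟨x, hle hx⟩ : U) ∈ N.subgroupOf U := hsup ▸ Subgroup.mem_sup_left (Subgroup.mem_subgroupOf.2 hx)
    exact Subgroup.mem_subgroupOf.1 this
  have hcard : ∀ (i : Fin k) (g : G), Nat.card ((H i).map (MulAut.conj g).toMonoidHom) = Nat.card (H i) :=
    fun i g => Subgroup.card_map_of_injective (MulAut.conj g).injective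
  refine ⟨hcop, ?_, fun x => ?_⟩
  · have hdvd : ∏ i, Nat.card (H i) ∣ Nat.card G :=
      Fintype.prod_dvd_of_isRelPrime (fun i j hij => Nat.coprime_iff_isRelPrime.1 (hcop i j hij))
        fun i => Subgroup.card_subgroup_dvd_card _
    refine Nat.dvd_antisymm hdvd (Nat.dvd_iff_prime_pow_dvd_dvd _ _ |>.2 fun p e hp hpe => ?_)
    rcases Nat.eq_zero_or_pos e with rfl | he
    · simp
    haveI : Fact p.Prime := ⟨hp⟩
    let P : Sylow p G := Classical.arbitrary _
    obtain ⟨N, hN, hPN⟩ := Lib.CNGroup.exists_maxNil P.2.isNilpotent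
    obtain ⟨i, g, hg⟩ := hconj N hN
    refine Dvd.dvd.trans ?_ (Finset.dvd_prod_of_mem (fun i => Nat.card (H i)) (Finset.mem_univ i))
    show p ^ e ∣ Nat.card (H i)
    rw [← hcard i g, ← hg]
    exact (P.pow_dvd_card_of_pow_dvd_card hpe).trans (Subgroup.card_dvd_of_le hPN)
  · obtain ⟨N, hN, hxN⟩ := Lib.CNGroup.exists_maxNil
      (A := Subgroup.zpowers x) (by open scoped IsMulCommutative in infer_instance)
    obtain ⟨i, g, hg⟩ := hconj N hN
    rw [hg] at hxN
    obtain ⟨w, hw, hwx⟩ := hxN (Subgroup.mem_zpowers x)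
    exact ⟨i, g⁻¹, by rw [← hwx]; simpa [mul_assoc] using hw⟩

end Cfsg.Agent.S1484
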