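import Cfsg.Statements.S1498
import Mathlib.Tactic

set_option autoImplicit false
open Cfsg

namespace Cfsg.Agent.S1498

variable {G : Type*} [Group G] [Finite G]

/-- An element of `C(a)` of order prime to `|C_L(a)|` lies in `H a`. -/
theorem mem_H_of_coprime {A : Set G} {L : Subgroup G} {H : G → Subgroup G}
    (hD : DadeHypothesis A L H) {a : G} (ha : a ∈ A) {u : G}
    (hu : u ∈ Subgroup.centralizer ({a} : Set G))
    (hco : Nat.Coprime (orderOf u) (Nat.card ↥(L ⊓ Subgroup.centralizer ({a} : Set G)))) :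
    u ∈ H a := by
  set C := Subgroup.centralizer ({a} : Set G) with hC
  set K := L ⊓ C with hK
  have hn : ((H a).subgroupOf C).Normal :=
    ⟨fun n hn c => Subgroup.mem_subgroupOf.mpr (by
      simpa using hD.conj_mem_H a ha c c.2 n (Subgroup.mem_subgroupOf.mp hn))⟩
  have htop : (H a).subgroupOf C ⊔ K.subgroupOf C = ⊤ := by
    rw [← Subgroup.subgroupOf_sup (hD.le_centralizer a ha) inf_le_right]
    show (H a ⊔ (L ⊓ Subgroup.centralizer ({a} : Set G))).subgroupOf C = ⊤
    rw [hD.sup_eq a ha, ← hC, Subgroup.subgroupOf_self]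
  obtain ⟨h, hh, k, hk, hhk⟩ := Subgroup.mem_sup_of_normal_left.mp
    (htop ▸ Subgroup.mem_top (⟨u, hu⟩ : C))
  let π := QuotientGroup.mk' ((H a).subgroupOf C)
  have hπ : π ⟨u, hu⟩ = π k := by
    rw [← hhk, map_mul, show π h = 1 from (QuotientGroup.eq_one_iff h).mpr hh, one_mul]
  have h1 : π k ^ Nat.card ↥(K.subgroupOf C) = 1 := by
    have : k ^ Nat.card ↥(K.subgroupOf C) = 1 := by
      exact congrArg Subtype.val (pow_card_eq_one' (x := (⟨k, hk⟩ : K.subgroupOf C)))
    rw [← map_pow, this, map_one]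
  have h2 : π ⟨u, hu⟩ ^ orderOf u = 1 := by
    rw [← map_pow, show (⟨u, hu⟩ : C) ^ orderOf u = 1 from Subtype.ext (by simp [pow_orderOf_eq_one]),
      map_one]
  rw [← hπ, Nat.card_congr (Subgroup.subgroupOfEquivOfLe inf_le_right).toEquiv] at h1
  have h3 := pow_gcd_eq_one.mpr ⟨h2, h1⟩
  rw [hco, pow_one] at h3
  exact Subgroup.mem_subgroupOf.mp ((QuotientGroup.eq_one_iff _).mp h3)

theorem conj_mem {A : Set G} {L : Subgroup G} {H : G → Subgroup G} (hD : DadeHypothesis A L H)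
    {a : G} (ha : a ∈ A) {x : G} (hx : x ∈ L) {u : G} (hu : u ∈ H a) :
    x * u * x⁻¹ ∈ H (x * a * x⁻¹) := by
  have hb : x * a * x⁻¹ ∈ A := hD.conj_mem x hx a ha
  refine mem_H_of_coprime hD hb ?_ ?_
  · rw [Subgroup.mem_centralizer_singleton_iff]
    have h := Subgroup.mem_centralizer_singleton_iff.mp (hD.le_centralizer a ha hu)
    calc x * u * x⁻¹ * (x * a * x⁻¹) = x * (u * a) * x⁻¹ := by group
      _ = x * (a * u) * x⁻¹ := by rw [h]
      _ = x * a * x⁻¹ * (x * u * x⁻¹) := by group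
  · rw [show x * u * x⁻¹ = MulAut.conj x u from rfl, MulEquiv.orderOf_eq]
    exact Nat.Coprime.coprime_dvd_left (Subgroup.orderOf_dvd_natCard _ hu) (hD.coprime a ha _ hb)

theorem result {G : Type*} [Group G] [Finite G] (A : Set G) (L : Subgroup G) (H : G → Subgroup G) (hD : Cfsg.DadeHypothesis A L H) (a : G) (ha : a ∈ A) (x : G) (hx : x ∈ L) : H (x * a * x⁻¹) = (H a).map (MulAut.conj x).toMonoidHom := by
  apply le_antisymm
  · intro u hu
    refine ⟨x⁻¹ * u * x, ?_, by simp [mul_assoc]⟩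
    have h := conj_mem hD (hD.conj_mem x hx a ha) (L.inv_mem hx) hu
    simpa [mul_assoc] using h
  · rintro _ ⟨u, hu, rfl⟩
    exact conj_mem hD ha hx hu

end Cfsg.Agent.S1498
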