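import Cfsg.Statements.S1528
import Cfsg.Agent.Lib.CharClifford.Gallagher
import Cfsg.Agent.Lib.Char.BrauerPerm
import Mathlib.Tactic

set_option autoImplicit false
open scoped ComplexConjugate
open Cfsg

namespace Cfsg.Agent.S1528

open Cfsg.Agent.Lib.Char

/-- An element acting without fixed nontrivial classes fixes only the principal character. -/
theorem eq_one_of_fixed {G : Type*} [Group G] [Finite G] (N : Subgroup G) [N.Normal]
    (hC : ∀ n ∈ N, n ≠ 1 → Subgroup.centralizer ({n} : Set G) ≤ N) {g : G} (hg : g ∉ N)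
    {θ : N → ℂ} (hθ : IsIrrCharacter N θ) (hfix : conjChar N g θ = θ) : θ = fun _ => 1 := by
  classical
  have := Fintype.ofFinite G
  let σ : N → N := fun n => ⟨g * n * g⁻¹, (inferInstance : N.Normal).conj_mem n n.2 g⟩
  have hσ : ∀ a b, IsConj a b → IsConj (σ a) (σ b) := by
    intro a b hab
    obtain ⟨c, rfl⟩ := isConj_iff.mp hab
    exact isConj_iff.mpr ⟨σ c, Subtype.ext (by simp [σ, mul_assoc])⟩
  have h := card_fixed_irr_eq_card_fixed_classes σ hσ fun χ => isIrrCharacter_conjChar N g χ.2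
  have huniq : Nat.card {C : ConjClasses N // ∀ n, ConjClasses.mk n = C → IsConj (σ n) n} = 1 := by
    rw [Nat.card_eq_one_iff_unique]
    refine ⟨⟨fun A B => ?_⟩, ⟨⟨ConjClasses.mk 1, fun n hn => ?_⟩⟩⟩
    · have key : ∀ A : {C : ConjClasses N // ∀ n, ConjClasses.mk n = C → IsConj (σ n) n},
          A.1 = ConjClasses.mk 1 := by
        rintro ⟨A, hA⟩
        obtain ⟨n, rfl⟩ := ConjClasses.mk_surjective A
        obtain ⟨m, hm⟩ := isConj_iff.mp (hA n rfl)
        have hm' : (m : G) * (g * n * g⁻¹) * (m : G)⁻¹ = n := by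
          have := congrArg (Subtype.val : N → G) hm
          simpa [σ] using this
        rcases eq_or_ne (n : G) 1 with h1 | h1
        · exact congrArg ConjClasses.mk (Subtype.ext h1)
        · exfalso
          have hc : (m : G) * g ∈ Subgroup.centralizer ({(n : G)} : Set G) := by
            rw [Subgroup.mem_centralizer_singleton_iff]
            calc (m : G) * g * n = (m : G) * (g * n * g⁻¹) * (m : G)⁻¹ * ((m : G) * g) := by group
              _ = n * ((m : G) * g) := by rw [hm']
          exact hg (by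
            have := N.mul_mem (N.inv_mem m.2) (hC n n.2 h1 hc)
            rwa [inv_mul_cancel_left] at this)
      exact Subtype.ext ((key A).trans (key B).symm)
    · have : n = 1 := isConj_one_left.mp (ConjClasses.mk_eq_mk_iff_isConj.mp hn)
      subst this
      have : σ 1 = 1 := Subtype.ext (by simp [σ])
      rw [this]
  rw [huniq] at h
  obtain ⟨hss, -⟩ := Nat.card_eq_one_iff_unique.mp h
  exact congrArg (fun x => ((x.1 : IrrCharacter N) : N → ℂ))
    (Subsingleton.elim (⟨⟨θ, hθ⟩, hfix⟩ : {χ : IrrCharacter N // (χ : N → ℂ) ∘ σ = (χ : N → ℂ)})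
      ⟨⟨fun _ => 1, isIrrCharacter_one⟩, rfl⟩)

theorem result {G : Type*} [Group G] [Fintype G] (N : Subgroup G) [N.Normal] (hC : ∀ n ∈ N, n ≠ 1 → Subgroup.centralizer ({n} : Set G) ≤ N) (χ : G → ℂ) (hχ : Cfsg.IsIrrCharacter G χ) (hker : ∃ n ∈ N, χ n ≠ χ 1) : ∃ φ : N → ℂ, Cfsg.IsIrrCharacter N φ ∧ χ = Cfsg.indFun N φ := by
  classical
  have := Fintype.ofFinite N
  obtain ⟨n₀, hn₀, hne⟩ := hker
  have hχc := isCharacter_of_isIrr hχ
  obtain ⟨m, hm⟩ := isCharacter_eq_sum (isCharacter_restrict hχc N)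
  obtain ⟨φ, hφm⟩ : ∃ φ : IrrCharacter N, m φ ≠ 0 := by
    by_contra hc
    push Not at hc
    exact irr_degree_ne_zero hχ (by simpa [hc] using congrFun hm 1)
  have hin : classInner (fun n : N => χ n) (φ : N → ℂ) = (m φ : ℂ) := by
    rw [hm, classInner_sum_left, Finset.sum_eq_single φ]
    · rw [classInner_smul_left, classInner_irr_self φ.2, mul_one]
    · intro γ _ hγ
      rw [classInner_smul_left, classInner_irrCharacter, if_neg hγ, mul_zero]
    · intro h; exact absurd (Finset.mem_univ φ) h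
  have hin0 : classInner (fun n : N => χ n) (φ : N → ℂ) ≠ 0 := by
    rw [hin]; exact Nat.cast_ne_zero.mpr hφm
  have hφ1 : (φ : N → ℂ) ≠ fun _ => 1 := fun h => hne
    (Lib.CharClifford.eq_degree_of_over_one N hχ (h ▸ hin0) ⟨n₀, hn₀⟩)
  refine ⟨φ, φ.2, ?_⟩
  have hI : inertia N (φ : N → ℂ) = N := le_antisymm (fun g hg => by
    by_contra hgN
    exact hφ1 (eq_one_of_fixed N hC hgN φ.2 hg)) (le_inertia N (isClassFunction_of_isIrr φ.2))
  have hirr := isIrrCharacter_indFun N φ.2 hI
  by_contra hne'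
  refine hin0 ?_
  have := classInner_irr_ne hirr hχ (Ne.symm hne')
  rw [classInner_indFun N _ (isClassFunction_of_isIrr hχ), classInner_conj_symm] at this
  exact (map_eq_zero _).mp this

end Cfsg.Agent.S1528
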