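import Cfsg.Statements.S1615
import Cfsg.Agent.Lib.ThreeTransp.OddTwinCount
import Cfsg.Agent.Lib.Involution.Basic
import Cfsg.Agent.S0444
import Cfsg.Agent.S5365

set_option autoImplicit false
open Cfsg

namespace Cfsg.Agent.S1615

open Cfsg.Agent.Lib.ThreeTransp
open Cfsg.Agent.Lib.Involution.FischerLocal (fischer_reach conj_of_reach conj2_mem fix)
open scoped commutatorElement

variable {G : Type*} [Group G] {D : Set G}

theorem connected [Finite G] (hsol : ∀ N : Subgroup G, N.Normal → Group.IsSolvable ↥N → N = ⊥)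
    (hperf : ⁅commutator G, commutator G⁆ = commutator G) (hD : Cfsg.IsThreeTranspositionClass D)
    {x a : G} (hx : x ∈ D) (ha : a ∈ D) (hne : x ≠ a) (hxa : Commute x a) :
    (commutingGraph D).Connected := by
  obtain ⟨hT, ⟨d₀, hd₀, hD₀⟩, hgen⟩ := hD
  have hc : ∀ g : G, ∀ x ∈ D, g * x * g⁻¹ ∈ D := fun g x hx => by
    rw [hD₀] at hx ⊢; exact IsConj.trans hx (isConj_iff.mpr ⟨g, rfl⟩)
  have hconj : ∀ a ∈ D, ∀ b ∈ D, ∃ g : G, g * a * g⁻¹ = b := fun a ha b hb => by
    rw [hD₀] at ha hb; exact isConj_iff.mp (ha.symm.trans hb)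
  have hcore : ∀ p : ℕ, p.Prime → pCore p G = ⊥ := by
    intro p hp
    haveI : Fact p.Prime := ⟨hp⟩
    have h := (Lib.Components.pCore_isPGroup (G := G) p).isNilpotent
    exact hsol _ (pCore_normal p G) inferInstance
  have h2 : pCore 2 G ≤ Subgroup.center G := by rw [hcore 2 Nat.prime_two]; exact bot_le
  have h3 : pCore 3 G ≤ Subgroup.center G := by rw [hcore 3 Nat.prime_three]; exact bot_le
  obtain ⟨L, hQ⟩ := exists_qs hT hc hgen hconj hx ha hne h2 h3
  haveI := hQ.normal
  have hidx : L.index ≤ 2 := by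
    by_cases hL : ∃ d ∈ D, d ∈ L
    · obtain ⟨d, hd, hdL⟩ := hL
      refine index_le_two hT hgen hd fun u hu => mul_mem hdL ?_
      obtain ⟨g, rfl⟩ := hconj d hd u hu
      exact hQ.normal.conj_mem d hdL g
    push Not at hL
    set W : Set (G ⧸ L) := QuotientGroup.mk' L '' D with hW
    have hWT : IsThreeTranspositionSet W := by
      refine ⟨?_, ?_⟩
      · rintro _ ⟨d, hd, rfl⟩
        refine orderOf_eq_prime ?_ fun h => hL d hd ((QuotientGroup.eq_one_iff d).1 h)
        rw [← map_pow, pow_two, mul_self (hT.1 d hd), map_one]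
      · rintro _ ⟨d, hd, rfl⟩ _ ⟨e, he, rfl⟩
        rcases hT.2 d hd e he with h | h <;> [left; right] <;> rw [← map_mul, ← map_pow, h, map_one]
    have hWc : ∀ g : G ⧸ L, ∀ w ∈ W, g * w * g⁻¹ ∈ W := by
      rintro q _ ⟨d, hd, rfl⟩
      obtain ⟨g, rfl⟩ := QuotientGroup.mk'_surjective L q
      exact ⟨g * d * g⁻¹, hc g d hd, by simp⟩
    have hsys : Sys W := by
      refine Sys.of_width_one hWT hWc ?_
      rintro _ ⟨d, hd, rfl⟩ _ ⟨e, he, rfl⟩ hde
      have hcomm : d * e * d⁻¹ * e⁻¹ ∈ L := by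
        rw [← QuotientGroup.eq_one_iff]
        show QuotientGroup.mk' L (d * e * d⁻¹ * e⁻¹) = 1
        simp only [map_mul, map_inv]
        rw [hde.eq]
        group
      refine QuotientGroup.eq.2 ?_
      rw [inv_eq (hT.1 d hd)]
      by_cases hcm : Commute d e
      · exact mul_mem_of_commute hT hc hgen hconj hQ hd he hcm
      · rw [inv_eq (hT.1 d hd), inv_eq (hT.1 e he)] at hcomm
        rw [← QuotientGroup.eq_one_iff]
        refine eq_one_of_sq_of_two_three ?_ ?_
        · rw [← QuotientGroup.mk_pow, QuotientGroup.eq_one_iff, pow_two, ← mul_assoc]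
          exact hcomm
        · rw [← QuotientGroup.mk_pow, cube_of_not_commute hT hd he hcm]; rfl
    set N := (pCore 3 (G ⧸ L)).comap (QuotientGroup.mk' L) with hN
    haveI : N.Normal := (pCore_normal 3 (G ⧸ L)).comap _
    have hGN : commutator G ≤ N := by
      refine Subgroup.Normal.quotient_commutative_iff_commutator_le.mp ?_
      have hcl : ∀ u ∈ D, x * u ∈ N := fun u hu => by
        rw [hN, Subgroup.mem_comap, map_mul]
        exact mul_mem_pCore hsys hWc ⟨x, hx, rfl⟩ ⟨u, hu, rfl⟩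
      have hle : Subgroup.closure D ≤ (Subgroup.zpowers (QuotientGroup.mk' N x)).comap (QuotientGroup.mk' N) := by
        rw [Subgroup.closure_le]
        intro u hu
        rw [SetLike.mem_coe, Subgroup.mem_comap]
        have : QuotientGroup.mk' N u = QuotientGroup.mk' N x := by
          refine (QuotientGroup.eq.mpr ?_).symm
          rw [inv_eq (hT.1 x hx)]; exact hcl u hu
        rw [this]; exact Subgroup.mem_zpowers _
      rw [hgen] at hle
      refine ⟨⟨fun p q => ?_⟩⟩
      obtain ⟨g, rfl⟩ := QuotientGroup.mk'_surjective N p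
      obtain ⟨h, rfl⟩ := QuotientGroup.mk'_surjective N q
      obtain ⟨i, hi⟩ := Subgroup.mem_zpowers_iff.1 (hle (Subgroup.mem_top g))
      obtain ⟨j, hj⟩ := Subgroup.mem_zpowers_iff.1 (hle (Subgroup.mem_top h))
      rw [← hi, ← hj]
      exact Commute.zpow_zpow_self _ i j
    set K := (commutator G).map (QuotientGroup.mk' L) with hK
    have hK3 : K ≤ pCore 3 (G ⧸ L) := Subgroup.map_le_iff_le_comap.2 hGN
    haveI : Fact (Nat.Prime 3) := ⟨Nat.prime_three⟩
    haveI : Group.IsNilpotent K := ((Lib.Components.pCore_isPGroup (G := G ⧸ L) 3).to_le hK3).isNilpotent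
    have hKs : Group.IsSolvable K := inferInstance
    have hKK : ⁅K, K⁆ = K := by rw [hK, ← Subgroup.map_commutator, hperf]
    have hKbot : K = ⊥ := by
      by_contra hne
      haveI := Subgroup.nontrivial_iff_ne_bot K |>.2 hne
      have htop : commutator K = ⊤ := by
        refine Subgroup.map_injective K.subtype_injective ?_
        rw [commutator_def, Subgroup.map_commutator, ← MonoidHom.range_eq_map, Subgroup.range_subtype, hKK]
      exact absurd htop (ne_of_lt (IsSolvable.commutator_lt_top_of_nontrivial K))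
    have hGL : commutator G ≤ L := by
      have := (Subgroup.map_eq_bot_iff _).1 hKbot
      rwa [QuotientGroup.ker_mk'] at this
    refine index_le_two hT hgen hx fun u hu => hGL ?_
    obtain ⟨g, rfl⟩ := hconj x hx u hu
    rw [show x * (g * x * g⁻¹) = ⁅x, g⁆ by
      rw [commutatorElement_def, inv_eq (hT.1 x hx)]; group, commutator_def]
    exact Subgroup.commutator_mem_commutator (Subgroup.mem_top _) (Subgroup.mem_top _)
  exact connected_of_primitive hc hconj
    (fun B hBD hB => block_trivial hT hc hgen hconj hQ h2 h3 hidx hB hBD) hx ha hne hxa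

theorem fix_of_three {c p a : G} (hT : IsThreeTranspositionSet D) (hc : ∀ g : G, ∀ d ∈ D, g * d * g⁻¹ ∈ D)
    (h3 : (Oth D c).ncard ≤ 3) (hp : p ∈ Oth D c) (ha : a ∈ Oth D c) {g : G} (hgc : g * c * g⁻¹ = c)
    (hgp : g * p * g⁻¹ = p) {k : ℕ} (hk : g ^ (3 ^ k) = 1) [Finite G] : g * a * g⁻¹ = a := by
  have hmap : ∀ b ∈ Oth D c, g * b * g⁻¹ ∈ Oth D c := by
    intro b hb
    refine ⟨hc g b hb.1, fun e => hb.2.1 (mul_left_cancel (mul_right_cancel (e.trans hgc.symm))), ?_⟩
    have := hb.2.2.map (MulAut.conj g).toMonoidHom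
    simpa [hgc] using this
  set f : G → G := fun b => g * b * g⁻¹ with hf
  have hsq : g ^ 2 * a * (g ^ 2)⁻¹ = a := by
    rw [show g ^ 2 * a * (g ^ 2)⁻¹ = f (f a) by simp only [hf, pow_two]; group]
    have hinj : Function.Injective f := fun u v h => mul_left_cancel (mul_right_cancel h)
    by_contra hne
    have h1 : f a ≠ a := fun e => hne (by rw [e, e])
    have h2 : a ≠ p := fun e => h1 (by rw [e]; exact hgp)
    have h2' : f a ≠ p := fun e => h2 (hinj (e.trans hgp.symm))
    have h3' : f (f a) ≠ p := fun e => h2' (hinj (e.trans hgp.symm))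
    have h4 : f (f a) ≠ f a := fun e => h1 (hinj e)
    have hcard : ({p, a, f a, f (f a)} : Set G).ncard = 4 := by
      rw [Set.ncard_insert_of_notMem (by simp [h2.symm, h2'.symm, h3'.symm]) (Set.toFinite _),
        Set.ncard_insert_of_notMem (by simp [h1.symm, Ne.symm hne]) (Set.toFinite _),
        Set.ncard_pair h4.symm]
    have hsub : ({p, a, f a, f (f a)} : Set G) ⊆ Oth D c := by
      rintro z (rfl | rfl | rfl | rfl)
      exacts [hp, ha, hmap _ ha, hmap _ (hmap _ ha)]
    have := Set.ncard_le_ncard hsub (Set.toFinite _)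
    omega
  have hcop : Nat.Coprime 2 (3 ^ k) := Nat.Coprime.pow_right k (by norm_num)
  obtain ⟨m, hm⟩ : ∃ m, 3 ^ k = 2 * m + 1 := ⟨3 ^ k / 2, by
    have : 3 ^ k % 2 = 1 := by simp [Nat.pow_mod]
    omega⟩
  have hcomm : Commute (g ^ 2) a := mul_inv_eq_iff_eq_mul.1 hsq
  have hg : g = (g ^ 2) ^ (m + 1) := by
    rw [← pow_mul, show 2 * (m + 1) = 3 ^ k + 1 by omega, pow_succ, hk, one_mul]
  rw [hg, ((hcomm.pow_left (m + 1))).eq]
  group

/-- If O(⟨D_x⟩) is not central in ⟨D_x⟩ for some transposition x, the 3-transposition group is the symmetric group of degree 5. -/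
theorem result {G : Type*} [Group G] [Finite G] (hsol : ∀ N : Subgroup G, N.Normal → Group.IsSolvable ↥N → N = ⊥) (hperf : ⁅commutator G, commutator G⁆ = commutator G) {D : Set G} (hD : Cfsg.IsThreeTranspositionClass D) (x : G) (hx : x ∈ D) (h : ¬ Cfsg.oddCore ↥(Subgroup.closure {y : G | y ∈ D ∧ y ≠ x ∧ Commute x y}) ≤ Subgroup.center ↥(Subgroup.closure {y : G | y ∈ D ∧ y ≠ x ∧ Commute x y})) : Nonempty (G ≃* Equiv.Perm (Fin 5)) := by
  obtain ⟨hT, ⟨d₀, hd₀, hD₀⟩, hgen⟩ := id hD
  have hc : ∀ g : G, ∀ x ∈ D, g * x * g⁻¹ ∈ D := fun g x hx => by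
    rw [hD₀] at hx ⊢; exact IsConj.trans hx (isConj_iff.mpr ⟨g, rfl⟩)
  have hconj : ∀ a ∈ D, ∀ b ∈ D, ∃ g : G, g * a * g⁻¹ = b := fun a ha b hb => by
    rw [hD₀] at ha hb; exact isConj_iff.mp (ha.symm.trans hb)
  have hZ : Subgroup.center G = ⊥ := hsol _ inferInstance
    (Group.isSolvable_of_comm fun u v => Subtype.ext (Subgroup.mem_center_iff.1 v.2 u))
  haveI : Fact (Nat.Prime 3) := ⟨Nat.prime_three⟩
  have hcore : pCore 3 G = ⊥ := by
    have h := (Lib.Components.pCore_isPGroup (G := G) 3).isNilpotent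
    exact hsol _ (pCore_normal 3 G) inferInstance
  have hsep : ∀ a ∈ D, ∀ b ∈ D, a ≠ b → ∃ v ∈ Oth D a, v ∉ Oth D b := by
    intro a ha b hb hne
    by_contra hcon
    push Not at hcon
    have heq : Oth D a = Oth D b :=
      Set.eq_of_subset_of_ncard_le hcon (OddTwin.ncard_oth_eq hc hconj hb ha).le (Set.toFinite _)
    have h' := twin_mul_mem_pCore hT hc ha hb heq
    rw [hcore, Subgroup.mem_bot] at h'
    exact hne (by rw [eq_inv_of_mul_eq_one_left h', inv_eq (hT.1 b hb)])
  -- one partner pair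
  obtain ⟨y₀, hy₀, p₀, hP₀⟩ : ∃ y ∈ Oth D x, ∃ p, OddTwin.Partner D x y p := by
    set H := Subgroup.closure {y : G | y ∈ D ∧ y ≠ x ∧ Commute x y} with hH
    obtain ⟨n, hn, hnc⟩ := SetLike.not_le_iff_exists.1 h
    obtain ⟨y, hy, hny⟩ : ∃ y ∈ Oth D x, (n : G) * y * (n : G)⁻¹ ≠ y := by
      by_contra hall
      push Not at hall
      refine hnc (Subgroup.mem_center_iff.2 fun g => Subtype.ext ?_)
      have hle : H ≤ Subgroup.centralizer ({(n : G)} : Set G) := (Subgroup.closure_le _).2 fun z hz =>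
        Subgroup.mem_centralizer_singleton_iff.2 (mul_inv_eq_iff_eq_mul.1 (hall z hz)).symm
      simpa using Subgroup.mem_centralizer_singleton_iff.1 (hle g.2)
    have hnC : (n : G) * x * (n : G)⁻¹ = x := by
      have hle : H ≤ Subgroup.centralizer ({x} : Set G) := (Subgroup.closure_le _).2 fun z hz =>
        Subgroup.mem_centralizer_singleton_iff.2 hz.2.2.symm.eq
      rw [Subgroup.mem_centralizer_singleton_iff.1 (hle n.2), mul_inv_cancel_right]
    obtain ⟨y', hy'⟩ : ∃ y', y' = (n : G) * y * (n : G)⁻¹ := ⟨_, rfl⟩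
    have hy'm : y' ∈ Oth D x := by
      rw [hy']
      refine ⟨hc _ y hy.1, fun e => hy.2.1 (mul_left_cancel (mul_right_cancel (e.trans hnC.symm))), ?_⟩
      have := hy.2.2.map (MulAut.conj (n : G)).toMonoidHom
      simpa [hnC] using this
    set N := Cfsg.oddCore ↥H with hN
    haveI : N.Normal := pPrimeCore_normal 2 ↥H
    let Y : ↥H := ⟨y, Subgroup.subset_closure hy⟩
    let Y' : ↥H := ⟨y', Subgroup.subset_closure hy'm⟩
    have hYN : Y * Y' ∈ N := by
      have e : Y * Y' = (Y * n * Y⁻¹) * n⁻¹ := by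
        apply Subtype.ext
        show y * y' = y * (n : G) * y⁻¹ * (n : G)⁻¹
        rw [hy', inv_eq (hT.1 y hy.1)]
        simp only [mul_assoc]
      rw [e]
      exact mul_mem (Subgroup.Normal.conj_mem inferInstance n hn Y) (inv_mem hn)
    have hodd : ∀ z ∈ N, z * z = 1 → z = 1 := by
      intro z hz hzz
      have h1 : orderOf z ∣ 2 := orderOf_dvd_of_pow_eq_one (by rw [pow_two, hzz])
      have h2 := N.orderOf_dvd_natCard hz
      have h3 := Nat.dvd_gcd h2 h1
      rw [(Lib.Components.pPrimeCore_coprime (G := ↥H) 2).gcd_eq_one, Nat.dvd_one, orderOf_eq_one_iff] at h3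
      exact h3
    have nyy : ¬ Commute y y' := by
      intro hcm
      have hsq : Y * Y' * (Y * Y') = 1 := by
        apply Subtype.ext
        show y * y' * (y * y') = 1
        rw [← pow_two, hcm.mul_pow, pow_two, pow_two, mul_self (hT.1 y hy.1), mul_self (hT.1 y' hy'm.1), one_mul]
      have h1 : y * y' = 1 := congrArg Subtype.val (hodd _ hYN hsq)
      exact hny (by rw [← hy', eq_inv_of_mul_eq_one_right h1, inv_eq (hT.1 y hy.1)])
    have key : ∀ a b : G, a ∈ Oth D x → b ∈ Oth D x → (∀ (ma : a ∈ H) (mb : b ∈ H), (⟨a, ma⟩ * ⟨b, mb⟩ : ↥H) ∈ N) →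
        ∀ v ∈ Oth D x, v ≠ a → Commute a v → Commute b v := by
      intro a b ha hb hab v hv hva hav
      by_contra hbv
      let V : ↥H := ⟨v, Subgroup.subset_closure hv⟩
      let A : ↥H := ⟨a, Subgroup.subset_closure ha⟩
      let B : ↥H := ⟨b, Subgroup.subset_closure hb⟩
      have h3 : (V * B) ^ 3 = 1 := Subtype.ext (by
        show ((V * B : ↥H) : G) ^ 3 = 1
        exact cube_of_not_commute hT hv.1 hb.1 fun e => hbv e.symm)
      have h2 : (V * A) ^ 2 = 1 := Subtype.ext (by
        show (v * a) ^ 2 = 1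
        exact (commute_iff_sq (mul_self (hT.1 v hv.1)) (mul_self (hT.1 a ha.1))).1 hav.symm)
      have hAA : A * A = 1 := Subtype.ext (mul_self (hT.1 a ha.1))
      have hq : (QuotientGroup.mk (V * B) : ↥H ⧸ N) = QuotientGroup.mk (V * A) := by
        rw [QuotientGroup.eq]
        have hBi : B⁻¹ = B := inv_eq_of_mul_eq_one_right (Subtype.ext (mul_self (hT.1 b hb.1)))
        rw [show (V * B)⁻¹ * (V * A) = B⁻¹ * A by group, hBi, show B * A = (A * B)⁻¹ by
          rw [mul_inv_rev, hBi, inv_eq_of_mul_eq_one_right hAA]]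
        exact inv_mem (hab _ _)
      have h6 : (QuotientGroup.mk (V * A) : ↥H ⧸ N) = 1 := by
        have e3 : (QuotientGroup.mk (V * A) : ↥H ⧸ N) ^ 3 = 1 := by
          rw [← hq, ← QuotientGroup.mk_pow, h3]; rfl
        have e2 : (QuotientGroup.mk (V * A) : ↥H ⧸ N) ^ 2 = 1 := by rw [← QuotientGroup.mk_pow, h2]; rfl
        rwa [pow_succ, e2, one_mul] at e3
      have h7 := hodd _ ((QuotientGroup.eq_one_iff _).1 h6) (by rw [← pow_two, h2])
      have h8 : v * a = 1 := congrArg Subtype.val h7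
      exact hva (by rw [eq_inv_of_mul_eq_one_left h8, inv_eq (hT.1 a ha.1)])
    refine ⟨y, hy, y', hy, hy'm, nyy, fun v hv h1 h2 => ⟨key y y' hy hy'm (fun _ _ => hYN) v hv h1,
      key y' y hy'm hy (fun _ _ => ?_) v hv h2⟩⟩
    have := inv_mem hYN
    rwa [mul_inv_rev, show Y'⁻¹ = Y' from inv_eq_of_mul_eq_one_right (Subtype.ext (mul_self (hT.1 y' hy'm.1))),
      show Y⁻¹ = Y from inv_eq_of_mul_eq_one_right (Subtype.ext (mul_self (hT.1 y hy.1)))] at this
  have hpart : ∀ x' ∈ D, ∀ y ∈ Oth D x', ∃ p, OddTwin.Partner D x' y p := by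
    intro x' hx' y hy
    obtain ⟨g, hg⟩ := hconj x' hx' x hx
    have hgy : g * y * g⁻¹ ∈ Oth D x := by rw [← hg, oth_conj hc]; simpa [mul_assoc] using hy
    obtain ⟨k, hk, hk'⟩ := conj_of_reach hT (fischer_reach hsol hperf hD hx hy₀ hgy)
    have hkx : k * x * k⁻¹ = x := by
      have hle : Subgroup.closure {y : G | y ∈ D ∧ y ≠ x ∧ Commute x y} ≤ Subgroup.centralizer ({x} : Set G) :=
        (Subgroup.closure_le _).2 fun z hz => Subgroup.mem_centralizer_singleton_iff.2 hz.2.2.symm.eq
      rw [Subgroup.mem_centralizer_singleton_iff.1 (hle hk), mul_inv_cancel_right]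
    obtain ⟨w, hw⟩ : ∃ w, w = g⁻¹ * k := ⟨_, rfl⟩
    have hwx : w * x * w⁻¹ = x' := by
      calc w * x * w⁻¹ = g⁻¹ * (k * x * k⁻¹) * g := by rw [hw]; group
        _ = x' := by rw [hkx, ← hg]; group
    have hwy : w * y₀ * w⁻¹ = y := by
      calc w * y₀ * w⁻¹ = g⁻¹ * (k * y₀ * k⁻¹) * g := by rw [hw]; group
        _ = y := by rw [hk']; group
    obtain ⟨h1, h2, h3, h4⟩ := hP₀
    refine ⟨w * p₀ * w⁻¹, hy, ?_, ?_, ?_⟩
    · rw [← hwx, oth_conj hc]; simpa [mul_assoc] using h2
    · rw [← hwy, commute_conj_iff]; exact h3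
    · intro v hv hvy hvp
      rw [← hwx, oth_conj hc] at hv
      have := h4 _ hv (fun e => hvy (by rw [← hwy, ← e]; group)) (fun e => hvp (by rw [← e]; group))
      rw [← commute_conj_iff w, ← commute_conj_iff w p₀] at this
      rw [← hwy]
      simpa [mul_assoc] using this
  have htri : ∀ x' ∈ D, ∀ a ∈ Oth D x', ∀ b ∈ Oth D x', a ≠ b → ¬ Commute a b := fun x' hx' a ha b hb hab =>
    OddTwin.triangle_free hT hc hpart hsep hx' ha hb hab
  have hC := connected hsol hperf hD hx hy₀.1 hy₀.2.1.symm hy₀.2.2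
  have hconn : ∀ a ∈ D, ∀ b ∈ D, Conn D a b := fun a ha b hb => (connected_iff ha).1 hC b hb
  have hle3 : ∀ d ∈ D, (Oth D d).ncard ≤ 3 := fun d hd =>
    OddTwin.valency_le_three hT hc htri hsep hconn hconj hd
  have hline : ∀ d ∈ D, ∃ a b, a ∈ Oth D d ∧ b ∈ Oth D d ∧ ¬ Commute a b ∧ Oth D d = {a, b, a * b * a} := by
    intro d hd
    obtain ⟨g, hg⟩ := hconj d hd x hx
    have ha : g⁻¹ * y₀ * g ∈ Oth D d := by rw [← oth_conj hc, hg]; exact hy₀
    obtain ⟨b, -, hb, hab, -⟩ := hpart d hd _ ha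
    refine ⟨_, b, ha, hb, hab, ?_⟩
    set a := g⁻¹ * y₀ * g
    have aa := mul_self (hT.1 a ha.1)
    have hne : a ≠ b := fun e => hab (e ▸ Commute.refl a)
    have h1 : a * b * a ≠ a := fun e => hne (by rw [OddTwin.flip_iff aa, fix aa (Commute.refl a)] at e; exact e.symm)
    have h2 : a * b * a ≠ b := fun e => OddTwin.nc_self (mul_self (hT.1 b hb.1)) (fun h => hab h.symm)
      (by rw [← braid_of_not_commute hT ha.1 hb.1 hab, e])
    symm
    refine Set.eq_of_subset_of_ncard_le ?_ ?_ (Set.toFinite _)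
    · rintro z (rfl | rfl | rfl)
      exacts [ha, hb, OddTwin.oth_closed hT hc ha hb]
    · rw [Set.ncard_insert_of_notMem (by simp [hne, h1.symm]) (Set.toFinite _), Set.ncard_pair h2.symm]
      exact hle3 d hd
  have hloc : ∀ d ∈ D, Nonempty (↥(Subgroup.closure {y : G | y ∈ D ∧ y ≠ d ∧ Commute d y}) ≃* Equiv.Perm (Fin 3)) ∧
      Nat.card (Cfsg.pCore 3 ↥(Subgroup.centralizer ({d} : Set G))) = 3 := by
    intro d hd
    obtain ⟨a, b, ha, hb, hab, hset⟩ := hline d hd
    have hne : a ≠ b := fun e => hab (e ▸ Commute.refl a)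
    have aa := mul_self (hT.1 a ha.1)
    have bb := mul_self (hT.1 b hb.1)
    have ho : orderOf (a * b) = 3 := orderOf_eq_prime (cube_of_not_commute hT ha.1 hb.1 hab) fun e => hne (by
      rw [eq_inv_of_mul_eq_one_left e, inv_eq (hT.1 b hb.1)])
    constructor
    · have hcl : Subgroup.closure {y : G | y ∈ D ∧ y ≠ d ∧ Commute d y} = Subgroup.closure ({a, b} : Set G) := by
        refine le_antisymm ((Subgroup.closure_le _).2 ?_) (Subgroup.closure_mono ?_)
        · intro z hz
          have hz' : z ∈ ({a, b, a * b * a} : Set G) := hset ▸ hz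
          rcases hz' with rfl | rfl | rfl
          · exact Subgroup.subset_closure (Or.inl rfl)
          · exact Subgroup.subset_closure (Or.inr rfl)
          · have m1 : a ∈ Subgroup.closure ({a, b} : Set G) := Subgroup.subset_closure (Or.inl rfl)
            have m2 : b ∈ Subgroup.closure ({a, b} : Set G) := Subgroup.subset_closure (Or.inr rfl)
            exact mul_mem (mul_mem m1 m2) m1
        · rintro z (rfl | rfl)
          exacts [ha, hb]
      obtain ⟨e⟩ := Lib.Involution.closure_pair_dihedral (hT.1 a ha.1) (hT.1 b hb.1) hne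
      obtain ⟨e'⟩ := S0444.dihedral_equiv
      rw [ho] at e
      exact ⟨((MulEquiv.subgroupCongr hcl).trans e).trans e'⟩
    · set C := Subgroup.centralizer ({d} : Set G) with hCdef
      have hfix : ∀ g : ↥C, (g : G) * d * (g : G)⁻¹ = d := fun g => by
        rw [Subgroup.mem_centralizer_singleton_iff.1 g.2, mul_inv_cancel_right]
      have hperm : ∀ g : ↥C, ∀ z ∈ Oth D d, (g : G) * z * (g : G)⁻¹ ∈ ({a, b, a * b * a} : Set G) := by
        intro g z hz
        rw [← hset]
        have := hfix g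
        rw [← this, oth_conj hc]
        simpa [mul_assoc] using hz
      let T : ↥C := ⟨a * b, Subgroup.mem_centralizer_singleton_iff.2 (ha.2.2.mul_right hb.2.2).symm.eq⟩
      have hTo : orderOf T = 3 := by rw [← Subgroup.orderOf_coe]; exact ho
      have e1 : a * b * a = b * a * b := braid_of_not_commute hT ha.1 hb.1 hab
      haveI hnT : (Subgroup.zpowers T).Normal := by
        refine ⟨fun z hz g => ?_⟩
        obtain ⟨i, rfl⟩ := Subgroup.mem_zpowers_iff.1 hz
        rw [← conj_zpow]
        refine Subgroup.zpow_mem _ ?_ _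
        have hT' : (T⁻¹ : ↥C).val = b * a := by
          show (a * b)⁻¹ = b * a
          rw [mul_inv_rev, inv_eq (hT.1 a ha.1), inv_eq (hT.1 b hb.1)]
        have hv : ((g * T * g⁻¹ : ↥C) : G) = ((g : G) * a * (g : G)⁻¹) * ((g : G) * b * (g : G)⁻¹) := by
          show (g : G) * (a * b) * (g : G)⁻¹ = _
          group
        have hcases : ((g * T * g⁻¹ : ↥C) : G) = 1 ∨ ((g * T * g⁻¹ : ↥C) : G) = a * b ∨
            ((g * T * g⁻¹ : ↥C) : G) = b * a := by
          rw [hv]
          rcases hperm g a ha with h1 | h1 | h1 <;> rcases hperm g b hb with h2 | h2 | h2 <;>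
            change _ = _ at h1 h2 <;> rw [h1, h2]
          · exact Or.inl aa
          · exact Or.inr (Or.inl rfl)
          · exact Or.inr (Or.inr (by simp only [← mul_assoc, aa, one_mul]))
          · exact Or.inr (Or.inr rfl)
          · exact Or.inl bb
          · exact Or.inr (Or.inl (by rw [e1]; simp only [← mul_assoc, bb, one_mul]))
          · exact Or.inr (Or.inl (by simp only [mul_assoc, aa, mul_one]))
          · exact Or.inr (Or.inr (by rw [e1]; simp only [mul_assoc, bb, mul_one]))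
          · exact Or.inl (by rw [show a * b * a * (a * b * a) = a * b * (a * a) * b * a by group, aa, mul_one,
              show a * b * b * a = a * (b * b) * a by group, bb, mul_one, aa])
        rcases hcases with h | h | h
        · rw [show g * T * g⁻¹ = 1 from Subtype.ext h]; exact one_mem _
        · rw [show g * T * g⁻¹ = T from Subtype.ext h]; exact Subgroup.mem_zpowers _
        · rw [show g * T * g⁻¹ = T⁻¹ from Subtype.ext (h.trans hT'.symm)]; exact inv_mem (Subgroup.mem_zpowers _)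
      have hT3 : IsPGroup 3 (Subgroup.zpowers T) := IsPGroup.of_card (n := 1) (by rw [Nat.card_zpowers, hTo, pow_one])
      have hlow := Lib.Components.le_pCore hT3
      have hge : 3 ≤ Nat.card (Cfsg.pCore 3 ↥C) :=
        le_of_eq_of_le (show 3 = Nat.card (Subgroup.zpowers T) by rw [Nat.card_zpowers, hTo])
          (Subgroup.card_le_of_le hlow)
      set P := Cfsg.pCore 3 ↥C with hP
      have hP3 : IsPGroup 3 P := Lib.Components.pCore_isPGroup 3
      have hstab : ∀ g : G, ∀ k : ℕ, g ^ (3 ^ k) = 1 → g * d * g⁻¹ = d → g * a * g⁻¹ = a → g = 1 := by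
        intro g k hk hgd hga
        have hall : ∀ u ∈ D, g * u * g⁻¹ = u ∧ ∀ z ∈ Oth D u, g * z * g⁻¹ = z := by
          have step : ∀ u w, u ∈ D → w ∈ D → Commute u w → (g * u * g⁻¹ = u ∧ ∀ z ∈ Oth D u, g * z * g⁻¹ = z) →
              (g * w * g⁻¹ = w ∧ ∀ z ∈ Oth D w, g * z * g⁻¹ = z) := by
            intro u w hu hw huw hu'
            by_cases he : w = u
            · rw [he]; exact hu'
            have hgw := hu'.2 w ⟨hw, he, huw⟩
            exact ⟨hgw, fun z hz => fix_of_three hT hc (hle3 w hw) ⟨hu, Ne.symm he, huw.symm⟩ hz hgw hu'.1 hk⟩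
          have key : ∀ u w, Conn D u w → ((g * u * g⁻¹ = u ∧ ∀ z ∈ Oth D u, g * z * g⁻¹ = z) ↔
              (g * w * g⁻¹ = w ∧ ∀ z ∈ Oth D w, g * z * g⁻¹ = z)) := by
            intro u w huw
            induction huw with
            | rel a b h => exact ⟨step a b h.1 h.2.1 h.2.2, step b a h.2.1 h.1 h.2.2.symm⟩
            | refl a => exact Iff.rfl
            | symm a b _ ih => exact ih.symm
            | trans a b c _ _ ih1 ih2 => exact ih1.trans ih2
          intro u hu
          exact (key d u (hconn d hd u hu)).1 ⟨hgd, fun z hz => fix_of_three hT hc (hle3 d hd) ha hz hgd hga hk⟩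
        have hgZ : g ∈ Subgroup.center G := by
          exact Subgroup.mem_center_iff.2 fun h => by
            have hle : (⊤ : Subgroup G) ≤ Subgroup.centralizer ({g} : Set G) := hgen ▸ (Subgroup.closure_le _).2
              fun z hz => Subgroup.mem_centralizer_singleton_iff.2 (mul_inv_eq_iff_eq_mul.1 (hall z hz).1).symm
            exact Subgroup.mem_centralizer_singleton_iff.1 (hle (Subgroup.mem_top h))
        rw [hZ, Subgroup.mem_bot] at hgZ
        exact hgZ
      refine le_antisymm ?_ hge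
      let F : P → ↥({a, b, a * b * a} : Set G) := fun g => ⟨_, hperm (g : ↥C) a ha⟩
      have hF : Function.Injective F := by
        intro g₁ g₂ he
        have he' : ((g₁ : ↥C) : G) * a * ((g₁ : ↥C) : G)⁻¹ = ((g₂ : ↥C) : G) * a * ((g₂ : ↥C) : G)⁻¹ :=
          congrArg Subtype.val he
        obtain ⟨k, hk⟩ := hP3 (g₂⁻¹ * g₁)
        have h1 : ((((g₂⁻¹ * g₁ : P) : ↥C) : G)) = 1 := by
          refine hstab _ k ?_ (hfix _) ?_
          · have := congrArg (fun z : P => ((z : ↥C) : G)) hk
            simpa using this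
          · show ((g₂ : ↥C) : G)⁻¹ * ((g₁ : ↥C) : G) * a * (((g₂ : ↥C) : G)⁻¹ * ((g₁ : ↥C) : G))⁻¹ = a
            calc _ = ((g₂ : ↥C) : G)⁻¹ * (((g₁ : ↥C) : G) * a * ((g₁ : ↥C) : G)⁻¹) * ((g₂ : ↥C) : G) := by group
              _ = a := by rw [he']; group
        have h2 : g₂⁻¹ * g₁ = 1 := Subtype.ext (Subtype.ext h1)
        exact (inv_mul_eq_one.1 h2).symm
      have h1 := Nat.card_le_card_of_injective F hF
      rw [Nat.card_coe_set_eq, ← hset] at h1
      exact h1.trans (hle3 d hd)
  rcases S5365.result hT hc ⟨x, hx⟩ hloc with h5 | h33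
  · obtain ⟨e⟩ := h5
    exact ⟨(Subgroup.topEquiv.symm.trans (MulEquiv.subgroupCongr hgen.symm)).trans e⟩
  · exfalso
    obtain ⟨e⟩ := h33
    haveI h3 : Group.IsSolvable (Equiv.Perm (Fin 3)) := by
      haveI : IsCyclic (alternatingGroup (Fin 3)) :=
        isCyclic_of_prime_card (p := 3) (by rw [Nat.card_eq_fintype_card]; decide)
      exact Group.isSolvable_of_ker_le_range (alternatingGroup (Fin 3)).subtype Equiv.Perm.sign
        (by rw [Subgroup.range_subtype, alternatingGroup_eq_sign_ker])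
    haveI : Group.IsSolvable ↥(Subgroup.closure D) :=
      Group.isSolvable_of_surjective (f := e.symm.toMonoidHom) e.symm.surjective
    have := hsol (Subgroup.closure D) (by rw [hgen]; infer_instance) inferInstance
    exact ne_one (hT.1 x hx) (Subgroup.mem_bot.1 (this ▸ Subgroup.subset_closure hx))

end Cfsg.Agent.S1615
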