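import Cfsg.Statements.S1628
import Cfsg.Agent.Lib.Ru.Basic

set_option autoImplicit false
open Cfsg

namespace Cfsg.Agent.S1628

/-- The Conway–Wales lattice as stored is even with no vectors of true norm 2: stored norms are multiples of 8, never equal to 8, and the minimum over nonzero vectors is 16. -/
theorem result : (∀ x ∈ Cfsg.Spor.ruLattice, (8 : ℤ) ∣ Cfsg.Spor.ruNorm x) ∧ (∀ x ∈ Cfsg.Spor.ruLattice, Cfsg.Spor.ruNorm x ≠ 8) ∧ (∀ x ∈ Cfsg.Spor.ruLattice, x ≠ 0 → 16 ≤ Cfsg.Spor.ruNorm x) ∧ ∃ x ∈ Cfsg.Spor.ruLattice, Cfsg.Spor.ruNorm x = 16 := by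
  have h8 : ∀ x ∈ Cfsg.Spor.ruLattice, (8 : ℤ) ∣ Cfsg.Spor.ruNorm x ∧ Cfsg.Spor.ruNorm x ≠ 8 :=
    fun x hx => by
      rw [Lib.Ru.ruNorm_eq]
      exact ⟨Lib.Ru.norm_span (Lib.Ru.lattice_le hx), Lib.Ru.no_root (Lib.Ru.lattice_le hx)⟩
  refine ⟨fun x hx => (h8 x hx).1, fun x hx => (h8 x hx).2, fun x hx hne => ?_, ?_⟩
  · obtain ⟨⟨k, hk⟩, hne8⟩ := h8 x hx
    have h0 : Cfsg.Spor.ruNorm x ≠ 0 := by
      intro h
      rw [Cfsg.Spor.ruNorm, Finset.sum_eq_zero_iff_of_nonneg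
        fun p _ => GaussianInt.norm_nonneg _] at h
      exact hne (funext fun p => GaussianInt.norm_eq_zero.1 (h p (Finset.mem_univ p)))
    have hpos : 0 ≤ Cfsg.Spor.ruNorm x := Finset.sum_nonneg fun p _ => GaussianInt.norm_nonneg _
    omega
  · have hmem : ∀ v ∈ Cfsg.Spor.ruTable, v ∈ Cfsg.Spor.ruLattice := fun v hv =>
      AddSubgroup.mem_sInf.2 fun L hL => hL.1 v hv
    obtain ⟨v, hv, he⟩ : ∃ v ∈ Cfsg.Spor.ruTable, Cfsg.Spor.ruNorm v = 16 :=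
      ⟨Cfsg.Spor.ruTable.head (by simp [Cfsg.Spor.ruTable]), List.head_mem _, by decide +kernel⟩
    exact ⟨v, hmem v hv, he⟩

end Cfsg.Agent.S1628
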