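import Cfsg.Statements.S1902
import Cfsg.Agent.S1302
import Cfsg.Agent.Lib.LocalFusion.PSolvable
import Cfsg.Agent.Lib.Fusion.PSolvableModel

set_option autoImplicit false
open Cfsg
open scoped Pointwise

namespace Cfsg.Agent.S1902

/-- Let p be an odd prime, G a finite p-solvable group, and B an elementary abelian subgroup of order p² such that B is the subgroup generated by the elements of order p of some Sylow p-subgroup of C_G(b₀), for some nontrivial b₀ ∈ B. Then every B-invariant subgroup of G of order prime to p lies in O_{p'}(G). -/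
theorem result {G : Type*} [Group G] [Finite G] {p : ℕ} [Fact p.Prime] (hp : p ≠ 2)
    (hG : Cfsg.IsPSolvable p G) (B : Subgroup G) (hB : Cfsg.IsElementaryAbelian p B) (hBc : Nat.card B = p ^ 2)
    (b₀ : G) (hb₀ : b₀ ∈ B) (hb₁ : b₀ ≠ 1) (P : Sylow p ↥(Subgroup.centralizer ({b₀} : Set G)))
    (hBP : B = Subgroup.closure {x : G | x ∈ ((P : Subgroup ↥(Subgroup.centralizer ({b₀} : Set G))).map
      (Subgroup.centralizer ({b₀} : Set G)).subtype : Subgroup G) ∧ orderOf x = p})
    (Q : Subgroup G) (hQ : ¬ p ∣ Nat.card Q) (hinv : ∀ b ∈ B, ∀ x ∈ Q, b * x * b⁻¹ ∈ Q) :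
    Q ≤ Cfsg.pPrimeCore p G := by
  have hX : Cfsg.IsPConstrained p G := Lib.Thompson.isPConstrained_iff.mpr
    (Lib.LocalFusion.centralizer_pCore_le_of_isPSolvable
      (Lib.Fusion.PSolvableModel.isPSolvable_of_surjective (QuotientGroup.mk'_surjective _) hG)
      (Lib.OddLocal.pPrimeCore_quotient_eq_bot p))
  have hBp : IsPGroup p ↥B := IsPGroup.of_card hBc
  refine S1302.result p hp hX B hB.1 hBp ?_ Q hQ ?_
  swap
  · intro b hb
    refine Subgroup.mem_normalizer_iff.mpr fun x => ⟨hinv b hb x, fun hx => ?_⟩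
    simpa [mul_assoc] using hinv b⁻¹ (inv_mem hb) _ hx
  intro x hx hxo
  have hBC : B ≤ (Subgroup.centralizer ({b₀} : Set G)) := fun b hb => Subgroup.mem_centralizer_singleton_iff.mpr
    (congrArg Subtype.val (hB.1.is_comm.comm (⟨b, hb⟩ : ↥B) ⟨b₀, hb₀⟩))
  have hxC : x ∈ (Subgroup.centralizer ({b₀} : Set G)) := Subgroup.mem_centralizer_singleton_iff.mpr
    (Subgroup.mem_centralizer_iff.mp hx b₀ hb₀).symm
  have hxn : Subgroup.zpowers x ≤ Subgroup.normalizer (B : Set G) :=
    (Subgroup.zpowers_le.mpr hx).trans (Subgroup.centralizer_le_normalizer _)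
  have hxp : IsPGroup p ↥(Subgroup.zpowers x) :=
    IsPGroup.of_card (n := 1) (by rw [Nat.card_zpowers, hxo, pow_one])
  have hH : IsPGroup p ↥(B ⊔ Subgroup.zpowers x : Subgroup G) :=
    hBp.to_sup_of_normal_left' hxp hxn
  have hHC : B ⊔ Subgroup.zpowers x ≤ (Subgroup.centralizer ({b₀} : Set G)) := sup_le hBC (Subgroup.zpowers_le.mpr hxC)
  obtain ⟨S, hS⟩ := (hH.of_equiv (Subgroup.subgroupOfEquivOfLe hHC).symm).exists_le_sylow
  obtain ⟨g, hg⟩ := MulAction.exists_smul_eq ↥(Subgroup.centralizer ({b₀} : Set G)) P S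
  have key : ∀ y ∈ B ⊔ Subgroup.zpowers x, orderOf y = p →
      y ∈ B.map (MulAut.conj (g : G)).toMonoidHom := by
    intro y hy hyo
    have h1 : (⟨y, hHC hy⟩ : ↥(Subgroup.centralizer ({b₀} : Set G))) ∈ ((g • P : Sylow p ↥(Subgroup.centralizer ({b₀} : Set G))) : Subgroup ↥(Subgroup.centralizer ({b₀} : Set G))) := hg ▸ hS hy
    have h2 : (⟨y, hHC hy⟩ : ↥(Subgroup.centralizer ({b₀} : Set G))) ∈ MulAut.conj g • (P : Subgroup ↥(Subgroup.centralizer ({b₀} : Set G))) := h1
    rw [Subgroup.mem_pointwise_smul_iff_inv_smul_mem] at h2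
    refine ⟨(g : G)⁻¹ * y * g, ?_, by simp [mul_assoc]⟩
    rw [hBP]
    refine Subgroup.subset_closure ⟨Subgroup.mem_map.mpr ⟨_, h2, ?_⟩, ?_⟩
    · simp [MulAut.smul_def, mul_assoc]
    · rw [← hyo]
      have := orderOf_injective (MulAut.conj (g : G)⁻¹).toMonoidHom
        (MulAut.conj (g : G)⁻¹).injective y
      simpa using this
  have hle : B ≤ B.map (MulAut.conj (g : G)).toMonoidHom := by
    intro b hb
    rcases eq_or_ne b 1 with rfl | h1
    · exact one_mem _
    exact key b (Subgroup.mem_sup_left hb) (orderOf_eq_prime (hB.2 b hb) h1)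
  have heq := Subgroup.eq_of_le_of_card_ge hle
    (le_of_eq (Subgroup.card_map_of_injective (MulAut.conj (g : G)).injective))
  have := key x (Subgroup.mem_sup_right (Subgroup.mem_zpowers x)) hxo
  rwa [← heq] at this

end Cfsg.Agent.S1902
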