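import Cfsg.Statements.S1910
import Cfsg.Agent.Lib.LocalFusion.ConjFamily
import Cfsg.Agent.Lib.Components.Cores

set_option autoImplicit false
open Cfsg

namespace Cfsg.Agent.S1910

open Subgroup Lib.LocalFusion
open scoped commutatorElement

section
variable {G : Type*} [Group G] [Finite G]

lemma eq_bot_of_odd {U V : Subgroup G} (hU : IsPGroup 2 ↥U) (hV : Odd (Nat.card ↥V)) (h : U ≤ V) : U = ⊥ := by
  obtain ⟨k, hk⟩ := IsPGroup.iff_card.1 hU
  refine Subgroup.eq_bot_of_card_eq _ ?_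
  have h1 := Odd.of_dvd_nat hV (card_dvd_of_le h)
  rw [hk] at h1 ⊢
  rcases k with _ | k
  · rfl
  · rw [pow_succ'] at h1; exact absurd h1 (by simp [Nat.odd_iff, Nat.mul_mod_right])

/-- The basic configuration: `T` Sylow in `B ∩ N(A)`, `S` Sylow in `A T`. -/
lemma core (A B : Subgroup G) (hAB : ∃ g : G, B = A.map (MulAut.conj g).toMonoidHom)
    (hB : ∀ x : G, x ∉ normalizer (B : Set G) → Odd (Nat.card ↥(B ⊓ B.map (MulAut.conj x).toMonoidHom)))
    (hodd : Odd (Nat.card ↥(A ⊓ B)))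
    (T : Subgroup G) (hT : T ≤ B ⊓ normalizer (A : Set G))
    (hTsyl : IsPGroup 2 T ∧ ¬ 2 ∣ T.relIndex (B ⊓ normalizer (A : Set G)))
    (S : Subgroup G) (hTS : T ≤ S) (hS : S ≤ A ⊔ T) (hSsyl : IsPGroup 2 S ∧ ¬ 2 ∣ S.relIndex (A ⊔ T)) :
    (T ⊓ A = ⊥ ∧ T ⊓ (S ⊓ normalizer (T : Set G) ⊓ A) = ⊥ ∧
      ⁅T, S ⊓ normalizer (T : Set G) ⊓ A⁆ = ⊥ ∧
      T ⊔ (S ⊓ normalizer (T : Set G) ⊓ A) = S ⊓ normalizer (T : Set G)) ∧
    Nat.card ↥T ≤ Nat.card ↥(S ⊓ normalizer (T : Set G) ⊓ A) ∧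
    (Nat.card ↥(S ⊓ normalizer (T : Set G) ⊓ A) ≤ Nat.card ↥T →
      Nonempty (↥(S ⊓ normalizer (T : Set G) ⊓ A) ≃* ↥T)) := by
  set D := S ⊓ normalizer (T : Set G) ⊓ A with hD
  have hTA : T ⊓ A = ⊥ := eq_bot_of_odd (hTsyl.1.to_le inf_le_left) hodd (le_inf inf_le_right (inf_le_left.trans (hT.trans inf_le_left)))
  have hTnA : T ≤ normalizer (A : Set G) := hT.trans inf_le_right
  have hTD : T ⊓ D = ⊥ := le_bot_iff.1 (hTA ▸ inf_le_inf_left T inf_le_right)
  have hcomm : ⁅T, D⁆ = ⊥ := by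
    refine le_bot_iff.1 (hTA ▸ le_inf ?_ ?_)
    · exact le_normalizer_iff_commutator_le_left.1 (inf_le_left.trans inf_le_right)
    · exact (commutator_mono le_rfl inf_le_right).trans (le_normalizer_iff_commutator_le_right.1 hTnA)
  have hmul : ∀ y ∈ A ⊔ T, ∃ a ∈ A, ∃ t ∈ T, y = a * t := by
    intro y hy
    rw [← SetLike.mem_coe, coe_mul_of_right_le_normalizer_left _ _ hTnA] at hy
    obtain ⟨a, ha, t, ht, rfl⟩ := hy
    exact ⟨a, ha, t, ht, rfl⟩
  have hsup : T ⊔ D = S ⊓ normalizer (T : Set G) := by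
    refine le_antisymm (sup_le (le_inf hTS le_normalizer) inf_le_left) fun y hy => ?_
    obtain ⟨a, ha, t, ht, rfl⟩ := hmul y (hS hy.1)
    have haD : a ∈ D := by
      refine mem_inf.2 ⟨mem_inf.2 ⟨?_, ?_⟩, ha⟩
      · simpa using Subgroup.mul_mem _ hy.1 (Subgroup.inv_mem _ (hTS ht))
      · simpa using Subgroup.mul_mem _ hy.2 (Subgroup.inv_mem _ (le_normalizer (H := T) ht))
    exact mul_mem (mem_sup_right haD) (mem_sup_left ht)
  refine ⟨⟨hTA, hTD, hcomm, hsup⟩, ?_⟩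
  obtain ⟨g, hg⟩ := hAB
  -- the Sylow subgroup `S ⊓ A` of `A`
  have hSA : ¬ 2 ∣ (S ⊓ A).relIndex A := by
    rw [inf_relIndex_right]
    intro h
    apply hSsyl.2
    -- `S A = A T`, so the indices agree
    have hle : A ⊔ T ≤ S ⊔ A := sup_le le_sup_right (hTS.trans le_sup_left)
    have hSn : S ≤ normalizer (A : Set G) := hS.trans (sup_le le_normalizer hTnA)
    have e : A.relIndex (S ⊔ A) * Nat.card ↥A = Nat.card ↥(S ⊔ A : Subgroup G) := by
      rw [mul_comm, Subgroup.relIndex, ← Nat.card_congr (subgroupOfEquivOfLe (le_sup_right : A ≤ S ⊔ A)).toEquiv]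
      exact (A.subgroupOf (S ⊔ A)).card_mul_index
    have e2 : S.relIndex (S ⊔ A) * Nat.card ↥S = Nat.card ↥(S ⊔ A : Subgroup G) := by
      rw [mul_comm, Subgroup.relIndex, ← Nat.card_congr (subgroupOfEquivOfLe (le_sup_left : S ≤ S ⊔ A)).toEquiv]
      exact (S.subgroupOf (S ⊔ A)).card_mul_index
    have e3 : (S ⊓ A).relIndex A * Nat.card ↥(S ⊓ A) = Nat.card ↥A := by
      rw [mul_comm, Subgroup.relIndex, ← Nat.card_congr (subgroupOfEquivOfLe (inf_le_right : S ⊓ A ≤ A)).toEquiv]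
      exact ((S ⊓ A).subgroupOf A).card_mul_index
    have e4 := Lib.Components.card_sup_mul_card_inf_eq hSn
    rw [inf_relIndex_right] at e3
    have hSA' : S.relIndex (S ⊔ A) = S.relIndex A := by
      rw [sup_comm A S] at e4
      rw [← e2, inf_comm] at e4
      have hpos : 0 < Nat.card ↥(S ⊓ A) := Nat.card_pos
      have hpos' : 0 < Nat.card ↥S := Nat.card_pos
      have : S.relIndex (S ⊔ A) * Nat.card ↥(S ⊓ A) * Nat.card ↥S = S.relIndex A * Nat.card ↥(S ⊓ A) * Nat.card ↥S := by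
        rw [e3]; linarith [e4]
      exact Nat.eq_of_mul_eq_mul_right hpos (Nat.eq_of_mul_eq_mul_right hpos' this)
    rw [show A ⊔ T = S ⊔ A from le_antisymm hle (sup_le hS le_sup_left), hSA']
    exact h
  by_cases hNS : S ⊓ normalizer (T : Set G) = S
  · -- `D` is a Sylow subgroup of `A`
    have hDA : D = S ⊓ A := by rw [hD, hNS]
    let P₀ : Sylow 2 ↥A := ((hSsyl.1.to_le inf_le_left).comap_subtype (K := A)).toSylow hSA
    have hP₀ : (P₀ : Subgroup ↥A).map A.subtype = D := by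
      rw [hDA]; exact map_subgroupOf_eq_of_le inf_le_right
    -- `T` conjugated into `A`
    have hTg : T.map (MulAut.conj g⁻¹).toMonoidHom ≤ A := by
      rintro _ ⟨t, ht, rfl⟩
      have hB' : t ∈ B := (hT ht).1
      rw [hg, mem_map_conj] at hB'
      simpa using hB'
    obtain ⟨a, haA, ha⟩ := exists_conj_le_of_not_dvd_relIndex (inf_le_right : S ⊓ A ≤ A) (hSsyl.1.to_le inf_le_left) hSA
      hTg (hTsyl.1.map _)
    have hle : T.map (MulAut.conj (a * g⁻¹)).toMonoidHom ≤ D := by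
      rw [hDA, ← map_conj_mul]
      rintro _ ⟨y, hy, rfl⟩
      exact ha y hy
    refine ⟨?_, fun hDT => ?_⟩
    · rw [← card_map_conj T (a * g⁻¹)]; exact Subgroup.card_le_of_le hle
    · have e : T.map (MulAut.conj (a * g⁻¹)).toMonoidHom = D :=
        eq_of_le_of_card_ge hle (by rw [card_map_conj]; exact hDT)
      exact ⟨((T.equivMapOfInjective _ (MulAut.conj (a * g⁻¹)).injective).trans (MulEquiv.subgroupCongr e)).symm⟩
  -- an element moving `T` inside `N_S(T)`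
  obtain ⟨x, hxS, hxN, hxn⟩ := exists_mem_normalizer_not_mem hSsyl.1.isNilpotent
    (lt_of_le_of_ne inf_le_left hNS : S ⊓ normalizer (T : Set G) < S)
  set U := T.map (MulAut.conj x).toMonoidHom with hU
  have hUle : U ≤ S ⊓ normalizer (T : Set G) := by
    rw [← map_conj_eq_of_mem_normalizer hxn]; exact Subgroup.map_mono (le_inf hTS le_normalizer)
  have hxA : x ∈ normalizer (A : Set G) := (sup_le le_normalizer hTnA) (hS hxS)
  have hUA : U ⊓ A = ⊥ := by
    rw [hU, ← map_conj_eq_of_mem_normalizer hxA, ← Subgroup.map_inf _ _ _ (MulAut.conj x).injective, hTA, Subgroup.map_bot]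
  have hUT : U ⊓ T = ⊥ := by
    by_contra hne
    have hTB : T ≤ B := hT.trans inf_le_left
    have hxB : x ∈ normalizer (B : Set G) := by
      by_contra hxB
      exact hne (eq_bot_of_odd ((hTsyl.1.map _).to_le inf_le_left) (hB x hxB)
        (le_inf (inf_le_right.trans hTB) (inf_le_left.trans (Subgroup.map_mono hTB))))
    apply hxN
    refine mem_inf.2 ⟨hxS, mem_normalizer_of_map_conj_eq ?_⟩
    -- `U` and `T` generate a `2`-subgroup of `B ∩ N(A)`
    have hU' : U ≤ B ⊓ normalizer (A : Set G) := by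
      rw [hU, ← map_conj_eq_of_mem_normalizer hxB, ← map_conj_eq_of_mem_normalizer (le_normalizer (H := normalizer (A : Set G)) hxA),
        ← Subgroup.map_inf _ _ _ (MulAut.conj x).injective]
      exact Subgroup.map_mono hT
    set V := U ⊔ T
    have hVp : IsPGroup 2 ↥V := hSsyl.1.to_le (sup_le (hUle.trans inf_le_left) hTS)
    have hVT : T = V := by
      refine eq_of_le_of_card_ge le_sup_right ?_
      obtain ⟨y, hy, hyV⟩ := exists_conj_le_of_not_dvd_relIndex hT hTsyl.1 hTsyl.2 (sup_le hU' hT) hVp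
      rw [← card_map_conj V y]
      refine Subgroup.card_le_of_le ?_
      rintro _ ⟨v, hv, rfl⟩
      exact hyV v hv
    exact eq_of_le_of_card_ge (le_sup_left.trans_eq hVT.symm) (card_map_conj T x).ge
  -- the projection `U → D` along `T`
  have hproj : ∀ u : ↥U, ∃ d : ↥D, ((d : G))⁻¹ * (u : G) ∈ T := by
    intro u
    have hu := hUle u.2
    rw [← hsup, sup_comm, ← SetLike.mem_coe, coe_mul_of_left_le_normalizer_right _ _ (inf_le_left.trans inf_le_right)] at hu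
    obtain ⟨d, hd, t, ht, hdt⟩ := hu
    refine ⟨⟨d, hd⟩, ?_⟩
    rw [show (u : G) = d * t from hdt.symm]; simpa using ht
  choose f hf using hproj
  have huniq : ∀ (u : ↥U) (d : ↥D), (d : G)⁻¹ * (u : G) ∈ T → f u = d := by
    intro u d hd
    have h1 : (d : G)⁻¹ * (f u : G) ∈ T ⊓ D := by
      refine mem_inf.2 ⟨?_, mul_mem (inv_mem d.2) (f u).2⟩
      have := mul_mem hd (inv_mem (hf u))
      simpa [mul_assoc] using this
    rw [hTD, mem_bot, inv_mul_eq_one] at h1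
    exact Subtype.ext h1.symm
  let φ : ↥U →* ↥D := MonoidHom.mk' f fun u v => huniq _ _ (by
    have hc := mem_centralizer_iff.1 (commutator_eq_bot_iff_le_centralizer.1 hcomm (hf u)) _ (inv_mem (f v).2)
    have := mul_mem (hf u) (hf v)
    simp only [Subgroup.coe_mul, mul_inv_rev]
    have e : (f v : G)⁻¹ * (f u : G)⁻¹ * ((u : G) * (v : G)) = (f u : G)⁻¹ * (u : G) * ((f v : G)⁻¹ * (v : G)) := by
      calc (f v : G)⁻¹ * (f u : G)⁻¹ * ((u : G) * (v : G)) = (f v : G)⁻¹ * ((f u : G)⁻¹ * (u : G)) * (v : G) := by simp [mul_assoc]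
        _ = _ := by rw [hc]; simp [mul_assoc]
    rw [e]; exact this)
  have hinj : Function.Injective φ := by
    rw [← MonoidHom.ker_eq_bot_iff, eq_bot_iff]
    intro u hu
    have h1 := hf u
    rw [show f u = 1 from hu] at h1
    have : (u : G) ∈ U ⊓ T := mem_inf.2 ⟨u.2, by simpa using h1⟩
    rw [hUT, mem_bot] at this
    exact mem_bot.2 (Subtype.ext this)
  have hcard : Nat.card ↥U = Nat.card ↥T := card_map_conj T x
  refine ⟨hcard ▸ Nat.card_le_card_of_injective φ hinj, fun hDT => ?_⟩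
  have hb : Function.Bijective φ := (Nat.bijective_iff_injective_and_card φ).2
    ⟨hinj, le_antisymm (Nat.card_le_card_of_injective φ hinj) (hcard.symm ▸ hDT)⟩
  exact ⟨(MulEquiv.ofBijective φ hb).symm.trans (T.equivMapOfInjective _ (MulAut.conj x).injective).symm⟩

end


/-- Let Q be a tightly embedded subgroup of a finite group G, g an element outside N_G(Q), T a nontrivial Sylow 2-subgroup of Q^g ∩ N_G(Q), and S a Sylow 2-subgroup of QT containing T. Then T ∩ Q = 1, and N_S(T) is the direct product of T and N_S(T) ∩ Q, with N_S(T) ∩ Q isomorphic to T. -/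
theorem result {G : Type*} [Group G] [Finite G] (Q : Subgroup G) (hQ : Cfsg.IsTightlyEmbedded Q)
    (g : G) (hg : g ∉ Subgroup.normalizer (Q : Set G))
    (T : Subgroup G) (hT1 : T ≠ ⊥) (hT : T ≤ Q.map (MulAut.conj g).toMonoidHom ⊓ Subgroup.normalizer (Q : Set G))
    (hTsyl : IsPGroup 2 T ∧ ¬ 2 ∣ T.relIndex (Q.map (MulAut.conj g).toMonoidHom ⊓ Subgroup.normalizer (Q : Set G)))
    (S : Subgroup G) (hTS : T ≤ S) (hS : S ≤ Q ⊔ T) (hSsyl : IsPGroup 2 S ∧ ¬ 2 ∣ S.relIndex (Q ⊔ T)) :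
    T ⊓ Q = ⊥ ∧
      T ⊓ (S ⊓ Subgroup.normalizer (T : Set G) ⊓ Q) = ⊥ ∧
      ⁅T, S ⊓ Subgroup.normalizer (T : Set G) ⊓ Q⁆ = ⊥ ∧
      T ⊔ (S ⊓ Subgroup.normalizer (T : Set G) ⊓ Q) = S ⊓ Subgroup.normalizer (T : Set G) ∧
      Nonempty (↥(S ⊓ Subgroup.normalizer (T : Set G) ⊓ Q) ≃* T) := by
  set B := Q.map (MulAut.conj g).toMonoidHom with hBdef
  have hodd : Odd (Nat.card ↥(Q ⊓ B)) := hQ.2 g hg
  have hBt : ∀ x : G, x ∉ Subgroup.normalizer (B : Set G) → Odd (Nat.card ↥(B ⊓ B.map (MulAut.conj x).toMonoidHom)) := by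
    intro x hx
    have h1 : g⁻¹ * x * g ∉ Subgroup.normalizer (Q : Set G) := by
      intro h
      apply hx
      have := conj_mem_normalizer (g := g) h
      rwa [show g * (g⁻¹ * x * g) * g⁻¹ = x by simp [mul_assoc]] at this
    have h2 := hQ.2 _ h1
    rw [← Lib.LocalFusion.card_map_conj _ g, Subgroup.map_inf _ _ _ (MulAut.conj g).injective, map_conj_mul] at h2
    rw [hBdef, map_conj_mul, show x * g = g * (g⁻¹ * x * g) by simp [mul_assoc]]
    exact h2
  obtain ⟨hbasic, hle, hiso⟩ := core Q B ⟨g, rfl⟩ hBt hodd T hT hTsyl S hTS hS hSsyl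
  refine ⟨hbasic.1, hbasic.2.1, hbasic.2.2.1, hbasic.2.2.2, hiso ?_⟩
  -- the symmetric configuration
  set D := S ⊓ Subgroup.normalizer (T : Set G) ⊓ Q with hD
  have hDB : D ≤ Subgroup.normalizer (B : Set G) := by
    intro d hd
    by_contra hdB
    apply hT1
    refine eq_bot_of_odd hTsyl.1 (hBt d hdB) (le_inf (hT.trans inf_le_left) ?_)
    rw [← map_conj_eq_of_mem_normalizer hd.1.2]
    exact Subgroup.map_mono (hT.trans inf_le_left)
  have hDp : IsPGroup 2 ↥D := hSsyl.1.to_le (inf_le_left.trans inf_le_left)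
  set W := Q ⊓ Subgroup.normalizer (B : Set G) with hW
  obtain ⟨P₁, hP₁⟩ := (hDp.comap_subtype (K := W)).exists_le_sylow
  set T' := (P₁ : Subgroup ↥W).map W.subtype with hT'
  have hT'W : T' ≤ W := map_subtype_le _
  have hDT' : D ≤ T' := fun d hd => ⟨⟨d, mem_inf.2 ⟨hd.2, hDB hd⟩⟩, hP₁ hd, rfl⟩
  have hT'syl : ¬ 2 ∣ T'.relIndex W := by
    rw [hT', Subgroup.relIndex, Subgroup.subgroupOf, comap_map_eq_self_of_injective W.subtype_injective]
    exact P₁.not_dvd_index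
  obtain ⟨P₂, hP₂⟩ := ((P₁.isPGroup'.map W.subtype).comap_subtype (K := B ⊔ T')).exists_le_sylow
  set S' := (P₂ : Subgroup ↥(B ⊔ T')).map (B ⊔ T').subtype with hS'
  have hT'S' : T' ≤ S' := fun t ht => ⟨⟨t, mem_sup_right ht⟩, hP₂ ht, rfl⟩
  have hS'syl : ¬ 2 ∣ S'.relIndex (B ⊔ T') := by
    rw [hS', Subgroup.relIndex, Subgroup.subgroupOf, comap_map_eq_self_of_injective (B ⊔ T').subtype_injective]
    exact P₂.not_dvd_index
  have hQt : ∀ x : G, x ∉ Subgroup.normalizer (Q : Set G) → Odd (Nat.card ↥(Q ⊓ Q.map (MulAut.conj x).toMonoidHom)) := hQ.2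
  obtain ⟨hb', hle', -⟩ := core B Q ⟨g⁻¹, by rw [hBdef, map_conj_mul, inv_mul_cancel, map_conj_one]⟩ hQt
    (by rw [inf_comm]; exact hodd) T' hT'W ⟨P₁.isPGroup'.map _, hT'syl⟩ S' hT'S' (map_subtype_le _) ⟨P₂.isPGroup'.map _, hS'syl⟩
  refine le_trans (Subgroup.card_le_of_le hDT') (hle'.trans ?_)
  -- a `2`-subgroup of `B ∩ N(Q)`
  set D' := S' ⊓ Subgroup.normalizer (T' : Set G) ⊓ B with hD'
  have hD'Q : D' ≤ B ⊓ Subgroup.normalizer (Q : Set G) := by
    refine fun d hd => mem_inf.2 ⟨hd.2, ?_⟩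
    by_contra hdQ
    have hT'1 : T' ≠ ⊥ := by
      intro h
      rw [h, le_bot_iff] at hDT'
      rw [hDT', Subgroup.card_bot] at hle
      exact hT1 (Subgroup.eq_bot_of_card_le _ hle)
    refine hT'1 (eq_bot_of_odd (P₁.isPGroup'.map _) (hQt d hdQ) (le_inf (hT'W.trans inf_le_left) ?_))
    rw [← map_conj_eq_of_mem_normalizer hd.1.2]
    exact Subgroup.map_mono (hT'W.trans inf_le_left)
  obtain ⟨y, hy, hyD⟩ := exists_conj_le_of_not_dvd_relIndex hT hTsyl.1 hTsyl.2 hD'Q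
    ((P₂.isPGroup'.map _).to_le (inf_le_left.trans inf_le_left))
  rw [← Lib.LocalFusion.card_map_conj D' y]
  refine Subgroup.card_le_of_le ?_
  rintro _ ⟨v, hv, rfl⟩
  exact hyD v hv

end Cfsg.Agent.S1910
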