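import Cfsg.Statements.S1915
import Cfsg.Agent.Lib.FourFixRankOne
import Cfsg.Agent.Lib.Components.Basic
-- import your own Cfsg.Agent.* helpers here

set_option autoImplicit false
open Cfsg
open scoped commutatorElement

namespace Cfsg.Agent.S1915

/-- Let A be a semisimple subgroup (A = E(A)) of a finite group and U a Klein four-group normalizing A. If the subgroup of A generated by the normalizers N_A(V) of the nontrivial subgroups V of U has 2-rank exactly 1, then A has 2-rank exactly 1. -/
theorem result {G : Type*} [Group G] [Finite G] (A : Subgroup G) (hA : Cfsg.layer ↥A = ⊤)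
    (U : Subgroup G) (hU : IsKleinFour U) (hUA : U ≤ Subgroup.normalizer (A : Set G))
    (hΓ : Cfsg.PRankLE 2 1 ↥(⨆ V : {V : Subgroup G // V ≤ U ∧ V ≠ ⊥}, A ⊓ Subgroup.normalizer ((V : Subgroup G) : Set G)) ∧
      ¬ Cfsg.PRankLE 2 0 ↥(⨆ V : {V : Subgroup G // V ≤ U ∧ V ≠ ⊥}, A ⊓ Subgroup.normalizer ((V : Subgroup G) : Set G))) :
    Cfsg.PRankLE 2 1 A ∧ ¬ Cfsg.PRankLE 2 0 A := by
  classical
  have hgood : ∀ u ∈ U, u ≠ 1 → ∀ a ∈ A, ∀ b ∈ A, a ≠ 1 → b ≠ 1 → a * a = 1 → b * b = 1 →
      u * a * u⁻¹ = a → u * b * u⁻¹ = b → a * b = b * a → a = b := by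
    intro u hu hu1 a ha b hb ha1 hb1 ha2 hb2 hua hub hab
    by_contra hne
    let V : {V : Subgroup G // V ≤ U ∧ V ≠ ⊥} :=
      ⟨Subgroup.zpowers u, Subgroup.zpowers_le.2 hu, fun h => hu1 (Subgroup.zpowers_eq_bot.1 h)⟩
    have hcent : ∀ y : G, u * y * u⁻¹ = y →
        y ∈ Subgroup.normalizer ((Subgroup.zpowers u : Subgroup G) : Set G) := by
      intro y hy
      have hc : Commute y u := show y * u = u * y by nth_rw 1 [← hy]; group
      refine Subgroup.mem_normalizer_iff.2 fun w => ⟨?_, ?_⟩
      · rintro ⟨i, rfl⟩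
        exact ⟨i, by beta_reduce; rw [(hc.zpow_right i).eq]; group⟩
      · rintro ⟨i, hi⟩
        refine ⟨i, ?_⟩
        beta_reduce at hi ⊢
        calc u ^ i = y⁻¹ * (y * u ^ i) := by group
          _ = y⁻¹ * (u ^ i * y) := by rw [(hc.zpow_right i).eq]
          _ = w := by rw [hi]; group
    let D := ⨆ V : {V : Subgroup G // V ≤ U ∧ V ≠ ⊥}, A ⊓ Subgroup.normalizer ((V : Subgroup G) : Set G)
    have hle : A ⊓ Subgroup.normalizer ((V : Subgroup G) : Set G) ≤ D :=
      le_iSup (fun V : {V : Subgroup G // V ≤ U ∧ V ≠ ⊥} =>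
        A ⊓ Subgroup.normalizer ((V : Subgroup G) : Set G)) V
    let a' : ↥D := ⟨a, hle ⟨ha, hcent a hua⟩⟩
    let b' : ↥D := ⟨b, hle ⟨hb, hcent b hub⟩⟩
    let K : Subgroup ↥D := Subgroup.closure {a', b'}
    have hcomm : IsMulCommutative ↥K := Subgroup.isMulCommutative_closure (by
      rintro y (rfl | rfl) w (rfl | rfl)
      · rfl
      · exact Subtype.ext hab
      · exact Subtype.ext hab.symm
      · rfl)
    have hexp : ∀ y ∈ K, y ^ 2 = 1 := by
      intro y hy
      induction hy using Subgroup.closure_induction with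
      | mem y hy =>
        rcases hy with rfl | rfl
        · exact Subtype.ext (by rw [pow_two]; exact ha2)
        · exact Subtype.ext (by rw [pow_two]; exact hb2)
      | one => exact one_pow 2
      | mul y w hy' hw' hy2 hw2 =>
        have hc : Commute y w := congrArg Subtype.val (hcomm.is_comm.comm (⟨y, hy'⟩ : ↥K) ⟨w, hw'⟩)
        rw [hc.mul_pow, hy2, hw2, one_mul]
      | inv y _ hy2 => rw [inv_pow, hy2, inv_one]
    have hcard := hΓ.1 K hcomm hexp
    have hsub : ({1, a', b'} : Set ↥D) ⊆ (K : Set ↥D) := by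
      rintro y (rfl | rfl | rfl)
      · exact K.one_mem
      · exact Subgroup.subset_closure (Or.inl rfl)
      · exact Subgroup.subset_closure (Or.inr rfl)
    have h3 : ({1, a', b'} : Set ↥D).ncard = 3 := Set.ncard_eq_three.2 ⟨1, a', b',
      fun h => ha1 (congrArg Subtype.val h).symm, fun h => hb1 (congrArg Subtype.val h).symm,
      fun h => hne (congrArg Subtype.val h), rfl⟩
    have := Set.ncard_le_ncard hsub
    rw [h3, ← Nat.card_coe_set_eq] at this
    simp only [SetLike.coe_sort_coe] at this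
    exact absurd (this.trans (hcard.trans (le_of_eq (pow_one 2)))) (by norm_num)
  refine ⟨?_, ?_⟩
  · obtain ⟨u₁, hu₁, h1⟩ : ∃ u ∈ U, u ≠ 1 := by
      rcases U.bot_or_exists_ne_one with h | h
      · exfalso
        have := hU.card_four
        rw [h, Subgroup.card_bot] at this
        omega
      · exact h
    obtain ⟨u₂, hu₂, h2, h12⟩ : ∃ u ∈ U, u ≠ 1 ∧ u₁ ≠ u := by
      by_contra hcon
      push Not at hcon
      have hsub : (U : Set G) ⊆ {1, u₁} := fun y hy => by
        by_cases hy1 : y = 1
        · exact Or.inl hy1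
        · exact Or.inr (hcon y hy hy1).symm
      have := (Set.ncard_le_ncard hsub).trans ((Set.ncard_insert_le _ _).trans
        (Nat.add_le_add_right (Set.ncard_singleton _).le 1))
      rw [← Nat.card_coe_set_eq] at this
      simp only [SetLike.coe_sort_coe, hU.card_four] at this
      omega
    have hU2 : ∀ u ∈ U, u * u = 1 := fun u hu => by
      have := congrArg Subtype.val (IsKleinFour.mul_self (⟨u, hu⟩ : ↥U))
      simpa using this
    let N := Subgroup.normalizer (A : Set G)
    haveI : (A.subgroupOf N).Normal := Subgroup.normal_in_normalizer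
    have hperf : commutator ↥A = ⊤ := by
      have h := Cfsg.Agent.Lib.Components.layer_perfect (G := ↥A)
      rw [hA] at h
      exact h
    let e : ↥(A.subgroupOf N) ≃* ↥A := Subgroup.subgroupOfEquivOfLe Subgroup.le_normalizer
    have hA' : ∀ M : Subgroup ↥(A.subgroupOf N), M.Normal → M.index ≠ 2 := by
      intro M hM h2
      let M' : Subgroup ↥A := M.map e.toMonoidHom
      haveI : M'.Normal := Subgroup.Normal.map hM _ e.surjective
      have hi : M'.index = 2 := by
        rw [← h2]
        exact Subgroup.index_map_equiv M e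
      have hle : commutator ↥A ≤ M' := by
        rw [commutator_def, Subgroup.commutator_le]
        intro p _ q _
        have hm : ∀ {c d : ↥A}, c * d ∈ M' ↔ (c ∈ M' ↔ d ∈ M') := fun {c d} =>
          Subgroup.mul_mem_iff_of_index_two hi
        rw [commutatorElement_def, hm, hm, hm]
        simp only [inv_mem_iff]
        tauto
      rw [hperf, top_le_iff] at hle
      rw [hle, Subgroup.index_top] at hi
      omega
    have hmain := Cfsg.Agent.Lib.FourFixRankOne.main (A.subgroupOf N) (U.subgroupOf N) hA'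
      (fun u hu => Subtype.ext (hU2 u (Subgroup.mem_subgroupOf.1 hu)))
      (u₁ := ⟨u₁, hUA hu₁⟩) (u₂ := ⟨u₂, hUA hu₂⟩) (Subgroup.mem_subgroupOf.2 hu₁)
      (Subgroup.mem_subgroupOf.2 hu₂) (fun h => h1 (congrArg Subtype.val h))
      (fun h => h2 (congrArg Subtype.val h)) (fun h => h12 (congrArg Subtype.val h))
      (fun u hu hu1 a ha b hb ha1 hb1 ha2 hb2 hua hub hab => Subtype.ext
        (hgood u (Subgroup.mem_subgroupOf.1 hu) (fun h => hu1 (Subtype.ext h)) a
          (Subgroup.mem_subgroupOf.1 ha) b (Subgroup.mem_subgroupOf.1 hb)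
          (fun h => ha1 (Subtype.ext h)) (fun h => hb1 (Subtype.ext h)) (congrArg Subtype.val ha2)
          (congrArg Subtype.val hb2) (congrArg Subtype.val hua) (congrArg Subtype.val hub)
          (congrArg Subtype.val hab)))
    intro K hK hK2
    by_contra hcard
    have hbig : 2 < (K : Set ↥A).ncard := by
      rw [← Nat.card_coe_set_eq]
      simp only [SetLike.coe_sort_coe]
      omega
    obtain ⟨a, haK, ha1⟩ := Set.exists_ne_of_one_lt_ncard (by omega : 1 < (K : Set ↥A).ncard) 1
    obtain ⟨b, hbK, hb1, hba⟩ : ∃ b ∈ K, b ≠ 1 ∧ b ≠ a := by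
      by_contra hcon
      push Not at hcon
      have hsub : (K : Set ↥A) ⊆ {1, a} := fun y hy => by
        by_cases hy1 : y = 1
        · exact Or.inl hy1
        · exact Or.inr (hcon y hy hy1)
      have := (Set.ncard_le_ncard hsub).trans ((Set.ncard_insert_le _ _).trans
        (Nat.add_le_add_right (Set.ncard_singleton _).le 1))
      omega
    refine hba ?_
    have hle : A ≤ N := Subgroup.le_normalizer
    have hab := congrArg Subtype.val (hK.is_comm.comm (⟨a, haK⟩ : ↥K) ⟨b, hbK⟩)
    have := hmain ⟨a, hle a.2⟩ (Subgroup.mem_subgroupOf.2 a.2) ⟨b, hle b.2⟩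
      (Subgroup.mem_subgroupOf.2 b.2) (fun h => ha1 (Subtype.ext (by simpa using congrArg Subtype.val h)))
      (fun h => hb1 (Subtype.ext (by simpa using congrArg Subtype.val h)))
      (Subtype.ext (by simpa [pow_two] using congrArg Subtype.val (hK2 a haK)))
      (Subtype.ext (by simpa [pow_two] using congrArg Subtype.val (hK2 b hbK)))
      (Subtype.ext (by simpa using congrArg Subtype.val hab))
    exact (Subtype.ext (by simpa using congrArg Subtype.val this)).symm
  · intro h0
    apply hΓ.2
    have hle : (⨆ V : {V : Subgroup G // V ≤ U ∧ V ≠ ⊥},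
        A ⊓ Subgroup.normalizer ((V : Subgroup G) : Set G)) ≤ A := iSup_le fun V => inf_le_left
    intro K hK hK2
    have h := h0 (K.map (Subgroup.inclusion hle)) inferInstance (by
      rintro _ ⟨k, hk, rfl⟩
      rw [← map_pow, hK2 k hk, map_one])
    rwa [← Nat.card_congr (K.equivMapOfInjective _ (Subgroup.inclusion_injective hle)).toEquiv] at h

end Cfsg.Agent.S1915
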