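import Cfsg.Statements.S1921
import Cfsg.Agent.Lib.Components.Basic

set_option autoImplicit false
open Cfsg

namespace Cfsg.Agent.S1921

open Subgroup Lib.Components


/-- Let a be an involution of a finite group H and L a component of H with a L a⁻¹ ≠ L; put M = ⟨L, aLa⁻¹⟩ and let J be the subgroup generated by the elements x · a x a⁻¹ with x ∈ L (the diagonal). Then every element of M outside J·Z(M) generates M together with J. -/
theorem result {H : Type*} [Group H] [Finite H] (a : H) (ha : orderOf a = 2) (L : Subgroup H) (hL : Cfsg.IsComponent L)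
    (hLa : L.map (MulAut.conj a).toMonoidHom ≠ L) (x : H) (hxM : x ∈ L ⊔ L.map (MulAut.conj a).toMonoidHom)
    (hxJ : x ∉ Subgroup.closure {y : H | ∃ l ∈ L, y = l * (a * l * a⁻¹)} ⊔
      ((L ⊔ L.map (MulAut.conj a).toMonoidHom) ⊓ Subgroup.centralizer ((L ⊔ L.map (MulAut.conj a).toMonoidHom : Subgroup H) : Set H))) :
    Subgroup.closure {y : H | ∃ l ∈ L, y = l * (a * l * a⁻¹)} ⊔ Subgroup.zpowers x = L ⊔ L.map (MulAut.conj a).toMonoidHom := by
  have _ha := ha
  set L' := L.map (MulAut.conj a).toMonoidHom with hL'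
  have hcomm : ∀ l ∈ L, ∀ m ∈ L', l * m = m * l := fun l hl m hm => commutatorElement_eq_one_iff_mul_comm.1
    (mem_bot.1 (comp_commute hL (isComponent_map_equiv hL (MulAut.conj a)) (fun h => hLa h.symm) ▸
      commutator_mem_commutator hl hm))
  set J := closure {y : H | ∃ l ∈ L, y = l * (a * l * a⁻¹)} with hJ
  have hmemL' : ∀ l ∈ L, a * l * a⁻¹ ∈ L' := fun l hl => ⟨l, hl, rfl⟩
  have hJM : J ≤ L ⊔ L' := (closure_le _).2 (by
    rintro _ ⟨l, hl, rfl⟩; exact mul_mem (mem_sup_left hl) (mem_sup_right (hmemL' l hl)))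
  have hjJ : ∀ l ∈ L, l * (a * l * a⁻¹) ∈ J := fun l hl => subset_closure ⟨l, hl, rfl⟩
  refine le_antisymm (sup_le hJM (zpowers_le.2 hxM)) ?_
  set K := J ⊔ zpowers x with hK
  -- write `x = l₁ (a l₂ a⁻¹)`
  have hx' := hxM
  rw [← SetLike.mem_coe, coe_mul_of_left_le_normalizer_right L L'
    ((le_centralizer_iff.1 (fun m hm => mem_centralizer_iff.2 fun l hl => (hcomm l hl m hm))).trans
      (Subgroup.centralizer_le_normalizer _))] at hx'
  obtain ⟨l₁, hl₁, _, ⟨l₂, hl₂, rfl⟩, hxe⟩ := hx'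
  set y := l₁ * l₂⁻¹ with hy
  have hyx : y * (l₂ * (a * l₂ * a⁻¹)) = x := by rw [← hxe]; simp [hy, mul_assoc]
  have hyK : y ∈ K := by
    have h := mul_mem (mem_sup_right (S := J) (mem_zpowers x)) (inv_mem (mem_sup_left (T := zpowers x) (hjJ l₂ hl₂)))
    have e : x * (l₂ * (a * l₂ * a⁻¹))⁻¹ = y := by rw [← hyx, mul_inv_cancel_right]
    rwa [e] at h
  have hyL : y ∈ L := L.mul_mem hl₁ (L.inv_mem hl₂)
  set N : Subgroup ↥L := K.subgroupOf L with hN
  have hNn : N.Normal := ⟨fun n hn g => by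
    have hj := mem_sup_left (T := zpowers x) (hjJ g g.2)
    have h := mul_mem (mul_mem hj (show (n : H) ∈ K from hn)) (inv_mem hj)
    have hc : (a * (g : H) * a⁻¹) * (n : H) = (n : H) * (a * (g : H) * a⁻¹) := (hcomm n n.2 _ (hmemL' g g.2)).symm
    have e : (g : H) * (a * g * a⁻¹) * n * ((g : H) * (a * g * a⁻¹))⁻¹ = (g : H) * n * (g : H)⁻¹ := by
      calc (g : H) * (a * g * a⁻¹) * n * ((g : H) * (a * g * a⁻¹))⁻¹
          = (g : H) * ((a * g * a⁻¹) * n) * (a * g * a⁻¹)⁻¹ * (g : H)⁻¹ := by simp [mul_assoc]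
        _ = (g : H) * ((n : H) * (a * g * a⁻¹)) * (a * g * a⁻¹)⁻¹ * (g : H)⁻¹ := by rw [hc]
        _ = _ := by simp [mul_assoc]
    rw [e] at h
    exact h⟩
  rcases qs_normal hL.2 hNn with h | h
  · have hLK : L ≤ K := fun l hl => by
      have h' : (⟨l, hl⟩ : ↥L) ∈ N := by rw [h]; exact mem_top _
      exact h'
    refine sup_le hLK ?_
    rintro _ ⟨l, hl, rfl⟩
    have := mul_mem (inv_mem (hLK hl)) (mem_sup_left (T := zpowers x) (hjJ l hl))
    simpa [mul_assoc] using this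
  · exfalso
    apply hxJ
    have hyc : (⟨y, hyL⟩ : ↥L) ∈ center ↥L := h (show y ∈ K from hyK)
    have hyM : L ⊔ L' ≤ centralizer {y} := by
      refine sup_le (fun l hl => ?_) fun m hm => ?_
      · exact mem_centralizer_singleton_iff.2 (congrArg Subtype.val (mem_center_iff.1 hyc ⟨l, hl⟩))
      · exact mem_centralizer_singleton_iff.2 (hcomm y hyL m hm).symm
    rw [← hyx]
    refine mul_mem (mem_sup_right ⟨mem_sup_left hyL, mem_centralizer_iff.2 fun m hm => ?_⟩) (mem_sup_left (hjJ l₂ hl₂))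
    exact mem_centralizer_singleton_iff.1 (hyM hm)

end Cfsg.Agent.S1921
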