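import Cfsg.Statements.S1922
import Cfsg.Agent.Lib.Involution.Basic
import Mathlib.GroupTheory.Sylow
import Mathlib.GroupTheory.Perm.Cycle.Type

set_option autoImplicit false
open Cfsg

namespace Cfsg.Agent.S1922

open Subgroup Lib.Involution


/-- Let z be an involution of a finite group G and H a proper subgroup such that z lies in gHg⁻¹ exactly when g ∈ H. Then the following are equivalent: (1) for every conjugate t ≠ z of z commuting with z, the product zt lies in gHg⁻¹ exactly when g ∈ H; (2) z lies in the centre of some Sylow 2-subgroup of G, and for every conjugate t ≠ z of z commuting with z, the centralizer of zt is contained in H. -/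
theorem result {G : Type*} [Group G] [Finite G] (z : G) (hz : orderOf z = 2) (H : Subgroup G) (hH : H ≠ ⊤)
    (h0 : ∀ g : G, z ∈ H.map (MulAut.conj g).toMonoidHom ↔ g ∈ H) :
    (∀ t : G, IsConj z t → t ≠ z → t * z = z * t → ∀ g : G, z * t ∈ H.map (MulAut.conj g).toMonoidHom ↔ g ∈ H) ↔
      ((∃ P : Sylow 2 G, z ∈ (Subgroup.center ↥(P : Subgroup G)).map (P : Subgroup G).subtype) ∧
        ∀ t : G, IsConj z t → t ≠ z → t * z = z * t → Subgroup.centralizer ({z * t} : Set G) ≤ H) := by
  classical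
  have hzz : z * z = 1 := mul_self hz
  have hmem : ∀ g x : G, x ∈ H.map (MulAut.conj g).toMonoidHom ↔ g⁻¹ * x * g ∈ H := by
    intro g x
    constructor
    · rintro ⟨y, hy, rfl⟩; simpa [mul_assoc] using hy
    · intro h; exact ⟨_, h, by simp [mul_assoc]⟩
  have h0' : ∀ g : G, g * z * g⁻¹ ∈ H → g ∈ H := by
    intro g hg
    refine H.inv_mem_iff.1 ((h0 g⁻¹).1 ((hmem _ _).2 ?_))
    rwa [inv_inv]
  have hzH : z ∈ H := by simpa using (hmem 1 z).1 ((h0 1).2 H.one_mem)
  have hCz : ∀ c : G, c * z = z * c → c ∈ H := fun c hc => h0' c (by rw [hc, mul_inv_cancel_right]; exact hzH)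
  constructor
  · intro h1
    have hC2 : ∀ t : G, IsConj z t → t ≠ z → t * z = z * t → Subgroup.centralizer ({z * t} : Set G) ≤ H := by
      intro t ht htne htc c hc
      refine (h1 t ht htne htc c).1 ((hmem _ _).2 ?_)
      have := mem_centralizer_singleton_iff.1 hc
      rw [mul_assoc, ← this, inv_mul_cancel_left]
      exact H.mul_mem hzH (hCz t htc)
    refine ⟨?_, hC2⟩
    -- `z` centralizes a Sylow subgroup
    set C := centralizer ({z} : Set G) with hC
    have hCH : C ≤ H := fun c hc => hCz c (mem_centralizer_singleton_iff.1 hc)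
    suffices hidx : ¬ 2 ∣ C.index by
      obtain ⟨R⟩ : Nonempty (Sylow 2 ↥C) := inferInstance
      have hRi : ¬ 2 ∣ ((R : Subgroup ↥C).map C.subtype).index := by
        rw [index_map_subtype]
        exact fun h => ((Nat.Prime.dvd_mul Nat.prime_two).1 h).elim R.not_dvd_index hidx
      let P : Sylow 2 G := (R.isPGroup'.map C.subtype).toSylow hRi
      have hzR : (⟨z, mem_centralizer_singleton_iff.2 rfl⟩ : ↥C) ∈ (R : Subgroup ↥C) := by
        have hp : IsPGroup 2 ↥(zpowers (⟨z, mem_centralizer_singleton_iff.2 rfl⟩ : ↥C)) :=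
          IsPGroup.of_card (n := 1) (by rw [Nat.card_zpowers, Subgroup.orderOf_mk, hz, pow_one])
        haveI : (zpowers (⟨z, mem_centralizer_singleton_iff.2 rfl⟩ : ↥C)).Normal := ⟨fun n hn g => by
          obtain ⟨i, rfl⟩ := hn
          have hc : Commute g (⟨z, mem_centralizer_singleton_iff.2 rfl⟩ : ↥C) :=
            Subtype.ext (mem_centralizer_singleton_iff.1 g.2)
          rw [(hc.zpow_right i).eq, mul_inv_cancel_right]
          exact ⟨i, rfl⟩⟩
        exact hp.le_sylow_of_normal R (mem_zpowers _)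
      have hzP : z ∈ (P : Subgroup G) := ⟨_, hzR, rfl⟩
      refine ⟨P, ⟨⟨z, hzP⟩, mem_center_iff.2 fun y => ?_, rfl⟩⟩
      obtain ⟨c, -, hc⟩ := y.2
      exact Subtype.ext (by
        show (y : G) * z = z * y
        rw [← hc]; exact mem_centralizer_singleton_iff.1 c.2)
    -- the index of `H` is odd
    have hm : ¬ 2 ∣ H.index := by
      intro h
      haveI : Fintype (G ⧸ H) := Fintype.ofFinite _
      let σ : Equiv.Perm (G ⧸ H) := MulAction.toPerm z
      have hσ : σ ^ 2 ^ 1 = 1 := by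
        ext x
        show z • z • x = x
        rw [smul_smul, hzz, one_smul]
      have hb0 : σ ((1 : G) : G ⧸ H) = ((1 : G) : G ⧸ H) := by
        show (((z • (1 : G)) : G) : G ⧸ H) = _
        rw [QuotientGroup.eq, smul_eq_mul]
        simpa using H.inv_mem hzH
      obtain ⟨x, hx, hx1⟩ := Equiv.Perm.exists_fixed_point_of_prime' (p := 2)
        (by rw [← Nat.card_eq_fintype_card]; exact h) hσ hb0
      apply hx1
      induction x using QuotientGroup.induction_on with
      | _ g =>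
        have h' : (((z • g) : G) : G ⧸ H) = (g : G ⧸ H) := hx
        rw [QuotientGroup.eq, smul_eq_mul, mul_inv_rev, inv_self hz] at h'
        rw [QuotientGroup.eq, mul_one]
        exact H.inv_mem ((h0 g).1 ((hmem g z).2 h'))
    intro hCi
    rw [← relIndex_mul_index hCH] at hCi
    have hn : 2 ∣ C.relIndex H := ((Nat.Prime.dvd_mul Nat.prime_two).1 hCi).resolve_right hm
    obtain ⟨g, hg⟩ := SetLike.exists_not_mem_of_ne_top H hH rfl
    let Inn := {u : G // IsConj z u ∧ u ∈ H}
    let Out := {u : G // IsConj z u ∧ u ∉ H}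
    have hInn : 2 ∣ Nat.card Inn := by
      have hh : ∀ u : Inn, ∃ h : ↥H, (h : G) * z * (h : G)⁻¹ = u.1 := by
        rintro ⟨u, hu, huH⟩
        obtain ⟨k, hk⟩ := isConj_iff.1 hu
        exact ⟨⟨k, h0' k (by rw [hk]; exact huH)⟩, hk⟩
      choose h hh using hh
      let f : Inn → ↥H ⧸ C.subgroupOf H := fun u => (h u : ↥H ⧸ C.subgroupOf H)
      have key : ∀ a b : ↥H, ((a : ↥H ⧸ C.subgroupOf H) = (b : ↥H ⧸ C.subgroupOf H)) ↔
          (a : G) * z * (a : G)⁻¹ = (b : G) * z * (b : G)⁻¹ := by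
        intro a b
        rw [QuotientGroup.eq, mem_subgroupOf, hC, mem_centralizer_singleton_iff]
        push_cast
        constructor
        · intro h
          calc (a : G) * z * (a : G)⁻¹ = (a : G) * (z * ((a : G)⁻¹ * b)) * (b : G)⁻¹ := by simp [mul_assoc]
            _ = (b : G) * z * (b : G)⁻¹ := by rw [← h]; simp [mul_assoc]
        · intro h
          calc (a : G)⁻¹ * b * z = (a : G)⁻¹ * ((b : G) * z * (b : G)⁻¹) * b := by simp [mul_assoc]
            _ = z * ((a : G)⁻¹ * b) := by rw [← h]; simp [mul_assoc]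
      have hf : Function.Bijective f := by
        refine ⟨fun u v e => Subtype.ext (by rw [← hh u, ← hh v]; exact (key _ _).1 e), fun x => ?_⟩
        induction x using QuotientGroup.induction_on with
        | _ a =>
          refine ⟨⟨_, isConj_iff.2 ⟨a, rfl⟩, H.mul_mem (H.mul_mem a.2 hzH) (H.inv_mem a.2)⟩, (key _ _).2 ?_⟩
          exact hh _
      rw [Nat.card_congr (Equiv.ofBijective f hf)]
      exact hn
    have hinv : ∀ u : G, IsConj z u → orderOf u = 2 := fun u hu => (isConj_orderOf hu).symm.trans hz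
    have hodd : ∀ u : G, IsConj z u → u ∉ H → Odd (orderOf (z * u)) := by
      intro u hu huH
      by_contra heven
      have hu2 := hinv u hu
      obtain ⟨k, hk⟩ := even_iff_two_dvd.1 (Nat.not_odd_iff_even.1 heven)
      have hpos : 0 < orderOf (z * u) := orderOf_pos _
      set d := z * u with hd
      set w := d ^ k with hw
      have hw2 : w * w = 1 := by rw [hw, ← pow_add, ← two_mul, ← hk, pow_orderOf_eq_one]
      have hw1 : w ≠ 1 := by
        intro h
        have := orderOf_dvd_of_pow_eq_one h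
        rw [hk] at this
        have := Nat.le_of_dvd (by omega) this
        omega
      have hzd : z * d * z⁻¹ = d⁻¹ := by
        rw [hd, mul_inv_rev, inv_self hz, inv_self hu2]; simp [← mul_assoc, hzz]
      have hzdk : ∀ i : ℕ, z * d ^ i = (d ^ i)⁻¹ * z := by
        intro i
        have h := conj_pow (i := i) (a := z) (b := d)
        rw [hzd, inv_pow] at h
        calc z * d ^ i = z * d ^ i * z⁻¹ * z := by simp
          _ = (d ^ i)⁻¹ * z := by rw [← h]
      have hzw : z * w = w * z := by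
        rw [hw, hzdk, inv_eq_of_mul_eq_one_left hw2]
      have hdw : d * w = w * d := by rw [hw, ← pow_succ', ← pow_succ]
      have hue : u = z * d := by rw [hd, ← mul_assoc, hzz, one_mul]
      have huw : u * w = w * u := by rw [hue, mul_assoc, hdw, ← mul_assoc, hzw, mul_assoc]
      -- `z w` is conjugate to `z`
      have hzwc : IsConj z (w * z) := by
        rcases Nat.even_or_odd k with ⟨j, hj⟩ | ⟨j, hj⟩
        · refine isConj_iff.2 ⟨d ^ j, ?_⟩
          have h1 : z * (d ^ j)⁻¹ = d ^ j * z := by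
            calc z * (d ^ j)⁻¹ = z * ((d ^ j)⁻¹ * (z * z)) := by rw [hzz, mul_one]
              _ = z * ((d ^ j)⁻¹ * z) * z := by simp [mul_assoc]
              _ = d ^ j * z := by rw [← hzdk]; simp [← mul_assoc, hzz]
          rw [hw, hj, pow_add, mul_assoc, h1, ← mul_assoc]
        · -- `w z` is conjugate to `u`
          refine hu.trans (isConj_iff.2 ⟨(d ^ j) * d, ?_⟩)
          have h1 : ∀ i : ℕ, z * (d ^ i)⁻¹ = d ^ i * z := by
            intro i
            calc z * (d ^ i)⁻¹ = z * ((d ^ i)⁻¹ * (z * z)) := by rw [hzz, mul_one]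
              _ = z * ((d ^ i)⁻¹ * z) * z := by simp [mul_assoc]
              _ = d ^ i * z := by rw [← hzdk]; simp [← mul_assoc, hzz]
          have hzd2 : z * d = d⁻¹ * z := by simpa using hzdk 1
          rw [hue]
          calc d ^ j * d * (z * d) * (d ^ j * d)⁻¹ = d ^ j * d * (z * (d ^ j)⁻¹) := by simp [mul_assoc]
            _ = d ^ j * d * (d ^ j * z) := by rw [h1]
            _ = w * z := by rw [hw, hj]; simp only [← mul_assoc, ← pow_succ, ← pow_add]; congr 2; omega
      have hne : w * z ≠ z := fun h => hw1 (mul_right_cancel (h.trans (one_mul z).symm))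
      have hcom : w * z * z = z * (w * z) := by rw [← mul_assoc, hzw]
      refine huH (hC2 _ hzwc hne hcom (mem_centralizer_singleton_iff.2 ?_))
      rw [show z * (w * z) = w by rw [← mul_assoc, hzw, mul_assoc, hzz, mul_one], huw]
    let Φ : Out → Out := fun c => ⟨c.1 * z * c.1⁻¹, isConj_iff.2 ⟨c.1, rfl⟩, fun h => c.2.2 (h0' _ h)⟩
    have hΦ : Function.Bijective Φ := by
      rw [← Finite.surjective_iff_bijective]
      rintro ⟨u, hu, huH⟩
      have hu2 := hinv u hu
      have ho := hodd u hu huH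
      obtain ⟨k, hk⟩ := conj_of_odd hz hu2 ho
      set d := z * u with hd
      obtain ⟨i, hi⟩ := exists_sqrt_of_odd (p := d ^ k) (by
        obtain ⟨r, hr⟩ := (orderOf_pow_dvd k : orderOf (d ^ k) ∣ orderOf d)
        rw [hr] at ho
        exact (Nat.odd_mul.1 ho).1)
      have hzd : z * d * z⁻¹ = d⁻¹ := by
        rw [hd, mul_inv_rev, inv_self hz, inv_self hu2]; simp [← mul_assoc, hzz]
      have hzdk : ∀ i : ℕ, z * (d ^ i)⁻¹ = d ^ i * z := by
        intro i
        have h := conj_pow (i := i) (a := z) (b := d)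
        rw [hzd, inv_pow] at h
        calc z * (d ^ i)⁻¹ = z * (z * d ^ i * z⁻¹) := by rw [← h]
          _ = d ^ i * z := by rw [inv_self hz]; simp [← mul_assoc, hzz]
      set c := d ^ k * z with hc
      have hcz : IsConj z c := by
        refine isConj_iff.2 ⟨(d ^ k) ^ i, ?_⟩
        rw [hc]
        conv_rhs => rw [← hi, pow_two]
        rw [← pow_mul, mul_assoc, hzdk, ← mul_assoc]
      have hcu : c * z * c⁻¹ = u := by
        rw [hc, mul_inv_rev]
        calc d ^ k * z * z * (z⁻¹ * (d ^ k)⁻¹) = d ^ k * z * (d ^ k)⁻¹ := by simp [mul_assoc]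
          _ = u := hk
      refine ⟨⟨c, hcz, fun hcH => huH ?_⟩, Subtype.ext hcu⟩
      rw [← hcu]; exact H.mul_mem (H.mul_mem hcH hzH) (H.inv_mem hcH)
    let Sw := {c : G // IsConj z c ∧ g⁻¹ * c ∈ H}
    have hswH : ∀ c : Sw, c.1 ∉ H := fun c h => hg (by
      have := H.mul_mem h (H.inv_mem c.2.2)
      simpa using this)
    have hgc : ∀ c : Sw, c.1 * g ∈ H := by
      intro c
      have := H.inv_mem c.2.2
      rwa [mul_inv_rev, inv_inv, inv_self (hinv _ c.2.1)] at this
    let Ψ : Sw → Inn := fun c => ⟨g⁻¹ * (c.1 * z * c.1⁻¹) * g, (isConj_iff.2 ⟨g⁻¹ * c.1, by simp [mul_assoc]⟩), by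
      have := H.mul_mem (H.mul_mem c.2.2 hzH) (H.inv_mem c.2.2)
      simpa [mul_assoc] using this⟩
    have hΨ : Function.Bijective Ψ := by
      constructor
      · intro a b e
        have e' : g⁻¹ * (a.1 * z * a.1⁻¹) * g = g⁻¹ * (b.1 * z * b.1⁻¹) * g := congrArg Subtype.val e
        have h : Φ ⟨a.1, a.2.1, hswH a⟩ = Φ ⟨b.1, b.2.1, hswH b⟩ := Subtype.ext (mul_left_cancel (mul_right_cancel e'))
        have h' := congrArg Subtype.val (hΦ.1 h)
        exact Subtype.ext h'
      · rintro ⟨v, hv, hvH⟩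
        have hout : g * v * g⁻¹ ∉ H := by
          obtain ⟨k, hk⟩ := isConj_iff.1 hv
          intro h
          have hkH : k ∈ H := h0' k (hk.symm ▸ hvH)
          have : g * k ∈ H := h0' _ (by rw [← hk] at h; simpa [mul_assoc] using h)
          exact hg (by simpa using H.mul_mem this (H.inv_mem hkH))
        obtain ⟨⟨c, hc, hcH⟩, he⟩ := hΦ.2 ⟨g * v * g⁻¹, hv.trans (isConj_iff.2 ⟨g, rfl⟩), hout⟩
        have he' : c * z * c⁻¹ = g * v * g⁻¹ := congrArg Subtype.val he
        refine ⟨⟨c, hc, h0' _ ?_⟩, Subtype.ext ?_⟩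
        · rw [show g⁻¹ * c * z * (g⁻¹ * c)⁻¹ = g⁻¹ * (c * z * c⁻¹) * g by simp [mul_assoc], he']
          simpa [mul_assoc] using hvH
        · show g⁻¹ * (c * z * c⁻¹) * g = v
          rw [he']; simp [mul_assoc]
    have hSw : 2 ∣ Nat.card Sw := (Nat.card_congr (Equiv.ofBijective Ψ hΨ)).symm ▸ hInn
    haveI : Fintype Sw := Fintype.ofFinite _
    obtain ⟨a⟩ : Nonempty Sw := by
      haveI : Nonempty Inn := ⟨⟨z, IsConj.refl z, hzH⟩⟩
      exact (Equiv.ofBijective Ψ hΨ).nonempty
    have ha2 := hinv _ a.2.1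
    let τ : Sw → Sw := fun c => ⟨a.1 * c.1 * a.1⁻¹, c.2.1.trans (isConj_iff.2 ⟨a.1, rfl⟩), by
      have := H.inv_mem (H.mul_mem (H.mul_mem (hgc a) c.2.2) (H.mul_mem (H.inv_mem a.2.2) (H.one_mem)))
      have e : (a.1 * g * (g⁻¹ * c.1) * ((g⁻¹ * a.1)⁻¹ * 1))⁻¹ = g⁻¹ * (a.1 * c.1 * a.1⁻¹) := by
        simp [mul_assoc, inv_self ha2, inv_self (hinv _ c.2.1)]
      rwa [e] at this⟩
    have hτ : Function.Involutive τ := fun c => Subtype.ext (by
      show a.1 * (a.1 * c.1 * a.1⁻¹) * a.1⁻¹ = c.1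
      rw [inv_self ha2, ← mul_assoc, ← mul_assoc, mul_self ha2, one_mul, mul_assoc, mul_self ha2, mul_one])
    obtain ⟨b, hb, hba⟩ := Equiv.Perm.exists_fixed_point_of_prime' (p := 2) (n := 1)
      (σ := hτ.toPerm τ) (by rw [← Nat.card_eq_fintype_card]; exact hSw)
      (by ext c; exact congrArg Subtype.val (hτ c))
      (a := a) (Subtype.ext (show a.1 * a.1 * a.1⁻¹ = a.1 by simp))
    have hb' : a.1 * b.1 * a.1⁻¹ = b.1 := congrArg Subtype.val hb
    obtain ⟨x, hx⟩ := isConj_iff.1 a.2.1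
    set t := x⁻¹ * b.1 * x with ht
    have htc : t * z = z * t := by
      have hab : a.1 * b.1 = b.1 * a.1 := by
        calc a.1 * b.1 = a.1 * b.1 * a.1⁻¹ * a.1 := by simp
          _ = b.1 * a.1 := by rw [hb']
      rw [← hx] at hab
      calc t * z = x⁻¹ * (b.1 * (x * z * x⁻¹)) * x := by simp [ht, mul_assoc]
        _ = x⁻¹ * ((x * z * x⁻¹) * b.1) * x := by rw [hab]
        _ = z * t := by simp [ht, mul_assoc]
    have htne : t ≠ z := fun h => hba (Subtype.ext (by
      have e : b.1 = x * t * x⁻¹ := by simp [ht, mul_assoc]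
      rw [e, h, hx]))
    have htz : IsConj z t := b.2.1.trans (isConj_iff.2 ⟨x⁻¹, by rw [inv_inv]⟩)
    have hzt : z * t = x⁻¹ * (a.1 * b.1) * x := by rw [← hx]; simp [ht, mul_assoc]
    have hab1 : a.1 * b.1 ∈ H := by simpa [mul_assoc] using H.mul_mem (hgc a) b.2.2
    have hab2 : g⁻¹ * (a.1 * b.1) * g ∈ H := by simpa [mul_assoc] using H.mul_mem a.2.2 (hgc b)
    have hx1 : x⁻¹ ∈ H := (h1 t htz htne htc x⁻¹).1 ((hmem _ _).2 (by
      rw [hzt, inv_inv]; simpa [mul_assoc] using hab1))
    have hx2 : x⁻¹ * g ∈ H := (h1 t htz htne htc (x⁻¹ * g)).1 ((hmem _ _).2 (by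
      rw [hzt]; simpa [mul_assoc] using hab2))
    exact hg (by simpa using H.mul_mem (H.inv_mem hx1) hx2)
  · rintro ⟨⟨P, ⟨zP, hzPc, hzPe⟩⟩, hC2⟩ t ht htne htc g
    have htH : t ∈ H := hCz t htc
    have hwH : z * t ∈ H := H.mul_mem hzH htH
    constructor
    swap
    · intro hg
      exact (hmem _ _).2 (H.mul_mem (H.mul_mem (H.inv_mem hg) hwH) hg)
    intro hgw
    set w := z * t with hw
    set w' := g⁻¹ * w * g with hw'
    have hw'H : w' ∈ H := (hmem _ _).1 hgw
    have hPc : ∀ y ∈ (P : Subgroup G), y * z = z * y := by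
      intro y hy
      have := congrArg Subtype.val (mem_center_iff.1 hzPc ⟨y, hy⟩)
      rw [← hzPe]; exact this
    have hPH : (P : Subgroup G) ≤ H := fun y hy => hCz y (hPc y hy)
    have htt : t * t = 1 := mul_self ((isConj_orderOf ht).symm.trans hz)
    have hww : w' ^ 2 = 1 := by
      have : w * w = 1 := by
        calc w * w = z * (t * z) * t := by simp [hw, mul_assoc]
          _ = 1 := by rw [htc, hw]; simp [← mul_assoc, hzz, htt]
      calc w' ^ 2 = g⁻¹ * (w * w) * g := by simp [hw', pow_two, mul_assoc]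
        _ = 1 := by rw [this]; simp
    have hwp : IsPGroup 2 ↥(zpowers (⟨w', hw'H⟩ : ↥H)) := by
      rintro ⟨v, i, rfl⟩
      refine ⟨1, Subtype.ext ?_⟩
      show ((⟨w', hw'H⟩ : ↥H) ^ i) ^ 2 ^ 1 = 1
      have h2 : (⟨w', hw'H⟩ : ↥H) ^ 2 = 1 := Subtype.ext hww
      rw [pow_one, ← zpow_natCast, ← zpow_mul, mul_comm, zpow_mul, zpow_natCast, h2, one_zpow]
    obtain ⟨Y, hY⟩ := hwp.exists_le_sylow
    let PH : Sylow 2 ↥H := P.subtype hPH
    obtain ⟨h, hh⟩ := MulAction.exists_smul_eq ↥H PH Y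
    obtain ⟨y, hy, hye⟩ : (⟨w', hw'H⟩ : ↥H) ∈ ((h • PH : Sylow 2 ↥H) : Subgroup ↥H) := by
      rw [hh]; exact hY (mem_zpowers _)
    have hy' : (y : G) ∈ (P : Subgroup G) := hy
    have hye' : (h : G) * (y : G) * (h : G)⁻¹ = w' := congrArg Subtype.val hye
    set z' := (h : G) * z * (h : G)⁻¹ with hz'
    have hcomm : z' * w' = w' * z' := by
      rw [← hye', hz']
      calc (h : G) * z * (h : G)⁻¹ * ((h : G) * y * (h : G)⁻¹) = (h : G) * (z * y) * (h : G)⁻¹ := by simp [mul_assoc]
        _ = (h : G) * (y * z) * (h : G)⁻¹ := by rw [hPc _ hy']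
        _ = _ := by simp [mul_assoc]
    have hgz : g * z' * g⁻¹ ∈ H := by
      refine hC2 t ht htne htc (mem_centralizer_singleton_iff.2 ?_)
      show g * z' * g⁻¹ * w = w * (g * z' * g⁻¹)
      calc g * z' * g⁻¹ * w = g * (z' * w') * g⁻¹ := by simp [hw', mul_assoc]
        _ = g * (w' * z') * g⁻¹ := by rw [hcomm]
        _ = w * (g * z' * g⁻¹) := by simp [hw', mul_assoc]
    have hgh : g * (h : G) ∈ H := h0' _ (by simpa [hz', mul_assoc] using hgz)
    simpa using H.mul_mem hgh (H.inv_mem h.2)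

end Cfsg.Agent.S1922
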