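import Cfsg.Statements.S1932
import Cfsg.Agent.Lib.QuadraticTwo.SFourOffender
import Cfsg.Agent.Lib.Thompson.Constrained
import Cfsg.Agent.Lib.Thompson.Elementary
import Cfsg.Agent.Lib.Thompson.ZJQuotient
import Cfsg.Agent.Lib.FPF.Thompson
import Cfsg.Agent.Lib.Fusion.Involves
import Cfsg.Agent.Lib.HallHigman.CyclicNormal
import Cfsg.Agent.Lib.Components.Local
import Cfsg.Agent.Lib.Hall.Basic
import Cfsg.Agent.Lib.LocalChar.Dihedral
import Cfsg.Agent.S2759

set_option autoImplicit false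
set_option maxHeartbeats 800000
open Cfsg
open scoped commutatorElement Pointwise

namespace Cfsg.Agent.S1932

open Cfsg.Agent.Lib.QuadraticTwo

universe u

theorem exists_odd' {G : Type u} [Group G] [Finite G] {R : Subgroup G} (h : ¬ IsPGroup 2 R) :
    ∃ d ∈ R, Odd (orderOf d) ∧ d ≠ 1 := by
  by_contra hc
  push_neg at hc
  refine h fun r => ?_
  obtain ⟨e, m, hm, hem⟩ := Nat.exists_eq_two_pow_mul_odd (orderOf_pos r).ne'
  refine ⟨e, Subtype.ext ?_⟩
  have ho : orderOf ((r : G) ^ 2 ^ e) = m := by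
    rw [orderOf_pow_of_dvd (by positivity), Subgroup.orderOf_coe, hem, Nat.mul_div_cancel_left _ (by positivity)]
    rw [Subgroup.orderOf_coe, hem]; exact dvd_mul_right _ _
  simpa using hc _ (R.pow_mem r.2 _) (by rwa [ho])

theorem eq_one_of_odd {G : Type u} [Group G] {x : G} {k : ℕ} (h : x ^ 2 ^ k = 1) {n : ℕ} (hn : Odd n)
    (hx : x ^ n = 1) : x = 1 := by
  rw [← orderOf_eq_one_iff]
  refine Nat.eq_one_of_dvd_coprimes ?_ (orderOf_dvd_of_pow_eq_one h) (orderOf_dvd_of_pow_eq_one hx)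
  exact Nat.Coprime.pow_left _ (Nat.coprime_two_left.2 hn)

/-- An element of odd order fixing a shift of 2-power order. -/
theorem fix_of_odd {G : Type u} [Group G] {d q c : G} (hd : Odd (orderOf d)) (hc : d * c * d⁻¹ = c)
    (hq : d * q * d⁻¹ = c * q) {k : ℕ} (hk : c ^ 2 ^ k = 1) : c = 1 := by
  have h : ∀ n : ℕ, d ^ n * q * (d ^ n)⁻¹ = c ^ n * q := by
    intro n
    induction n with
    | zero => simp
    | succ n ih =>
      have hcn : d * c ^ n * d⁻¹ = c ^ n := by rw [← conj_pow, hc]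
      calc d ^ (n + 1) * q * (d ^ (n + 1))⁻¹ = d * (d ^ n * q * (d ^ n)⁻¹) * d⁻¹ := by
            rw [pow_succ']; group
        _ = (d * c ^ n * d⁻¹) * (d * q * d⁻¹) := by rw [ih]; group
        _ = c ^ (n + 1) * q := by rw [hcn, hq, pow_succ, mul_assoc]
  have h1 := h (orderOf d)
  rw [pow_orderOf_eq_one, one_mul, inv_one, mul_one] at h1
  exact eq_one_of_odd hk hd (mul_eq_right.1 h1.symm)

theorem lift_pgroup {G H : Type*} [Group G] [Finite G] [Group H] (φ : G →* H) {T : Subgroup H}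
    (hT : T ≤ φ.range) (hp : IsPGroup 2 T) : ∃ T0 : Subgroup G, IsPGroup 2 T0 ∧ T0.map φ = T := by
  haveI : Fact (Nat.Prime 2) := ⟨Nat.prime_two⟩
  let ψ := φ.subgroupComap T
  have hψ : Function.Surjective ψ := by
    rintro ⟨t, ht⟩
    obtain ⟨g, hg⟩ := hT ht
    exact ⟨⟨g, show φ g ∈ T by rw [hg]; exact ht⟩, Subtype.ext hg⟩
  haveI : Finite T := Finite.of_surjective _ hψ
  obtain ⟨P⟩ : Nonempty (Sylow 2 ↥(T.comap φ)) := inferInstance
  refine ⟨(P : Subgroup ↥(T.comap φ)).map (T.comap φ).subtype, P.isPGroup'.map _, ?_⟩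
  have htop : ((P.mapSurjective hψ : Sylow 2 ↥T) : Subgroup ↥T) = ⊤ :=
    ((P.mapSurjective hψ).is_maximal' (hp.of_equiv Subgroup.topEquiv.symm) le_top).symm
  refine le_antisymm ?_ ?_
  · rintro _ ⟨_, ⟨x, hx, rfl⟩, rfl⟩; exact x.2
  · intro t ht
    obtain ⟨x, hx, hxt⟩ : (⟨t, ht⟩ : ↥T) ∈ ((P.mapSurjective hψ : Sylow 2 ↥T) : Subgroup ↥T) :=
      htop ▸ Subgroup.mem_top _
    exact ⟨x, ⟨x, hx, rfl⟩, congrArg Subtype.val hxt⟩

theorem card_eq_map_mul {G H : Type*} [Group G] [Finite G] [Group H] (φ : G →* H) (T0 : Subgroup G) :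
    Nat.card T0 = Nat.card (T0.map φ) * Nat.card ↥(T0 ⊓ φ.ker) := by
  let ψ := φ.comp T0.subtype
  have hr : ψ.range = T0.map φ := by rw [MonoidHom.range_comp, Subgroup.range_subtype]
  have hk : ψ.ker.map T0.subtype = T0 ⊓ φ.ker := by
    rw [show ψ.ker = φ.ker.subgroupOf T0 from rfl, Subgroup.subgroupOf_map_subtype, inf_comm]
  rw [Subgroup.card_eq_card_quotient_mul_card_subgroup ψ.ker,
    Nat.card_congr (QuotientGroup.quotientKerEquivRange ψ).toEquiv, hr, ← hk,
    Nat.card_congr (ψ.ker.equivMapOfInjective _ T0.subtype_injective).toEquiv]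

theorem card_mul_le {G : Type*} [Group G] [Finite G] {T0 X : Subgroup G}
    (hc : ∀ a ∈ T0, ∀ b ∈ X, a * b = b * a) :
    Nat.card T0 * Nat.card X ≤ Nat.card ↥(T0 ⊔ X) * Nat.card ↥(T0 ⊓ X) := by
  let f : ↥T0 × ↥X →* G := MonoidHom.noncommCoprod T0.subtype X.subtype (fun a b => hc a a.2 b b.2)
  have hr : f.range ≤ T0 ⊔ X := by
    rintro _ ⟨⟨a, b⟩, rfl⟩
    exact Subgroup.mul_mem_sup a.2 b.2
  have hk : Nat.card f.ker ≤ Nat.card ↥(T0 ⊓ X) := by
    refine Nat.card_le_card_of_injective (fun p => ⟨(p.1.1 : G), p.1.1.2, ?_⟩) ?_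
    · have hp : (p.1.1 : G) * (p.1.2 : G) = 1 := p.2
      rw [eq_inv_of_mul_eq_one_left hp]
      exact X.inv_mem p.1.2.2
    · rintro ⟨⟨a, b⟩, hp⟩ ⟨⟨a', b'⟩, hp'⟩ e
      have e1 : a = a' := Subtype.ext (congrArg Subtype.val e :)
      subst e1
      refine Subtype.ext (Prod.ext rfl (Subtype.ext ?_))
      exact mul_left_cancel ((show (a : G) * b = 1 from hp).trans (show (a : G) * b' = 1 from hp').symm)
  rw [← Nat.card_prod, Subgroup.card_eq_card_quotient_mul_card_subgroup f.ker,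
    Nat.card_congr (QuotientGroup.quotientKerEquivRange f).toEquiv]
  exact Nat.mul_le_mul (Nat.card_le_card_of_injective _ (Subgroup.inclusion_injective hr)) hk

/-- The core statement. -/
theorem core {G : Type u} [Group G] [Finite G]
    (hC : Subgroup.centralizer (pCore 2 G : Set G) ≤ pCore 2 G)
    (hS4 : ¬ Cfsg.Involves (Equiv.Perm (Fin 4)) G)
    (hcl : ∀ T : Subgroup G, IsPGroup 2 T → ∀ x ∈ T, ∀ y ∈ T, ∀ z ∈ T, z * ⁅x, y⁆ = ⁅x, y⁆ * z)
    {A : Subgroup G} (hA : A ∈ maxElementaryAbelianSubgroups 2 G) : A ≤ pCore 2 G := by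
  classical
  haveI : Fact (Nat.Prime 2) := ⟨Nat.prime_two⟩
  set Q := pCore 2 G with hQdef
  haveI hQn : Q.Normal := Lib.Hall.pCore_normal 2
  have hQ2 : IsPGroup 2 Q := Lib.Hall.isPGroup_pCore 2
  set Z := Q ⊓ Subgroup.centralizer (Q : Set G) with hZdef
  haveI hZn : Z.Normal := by rw [hZdef]; infer_instance
  have hZc : ∀ z ∈ Z, ∀ z' ∈ Z, z * z' = z' * z := fun z hz z' hz' =>
    Subgroup.mem_centralizer_iff.1 hz'.2 z hz.1
  set W : Subgroup G :=
    { carrier := {z | z ∈ Z ∧ z ^ 2 = 1}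
      mul_mem' := fun {a b} ha hb => ⟨Z.mul_mem ha.1 hb.1, by
        rw [(show Commute a b from hZc a ha.1 b hb.1).mul_pow, ha.2, hb.2, one_mul]⟩
      one_mem' := ⟨Z.one_mem, one_pow 2⟩
      inv_mem' := fun {a} ha => ⟨Z.inv_mem ha.1, by rw [inv_pow, ha.2, inv_one]⟩ } with hWdef
  have hWmem : ∀ x, x ∈ W ↔ x ∈ Z ∧ x ^ 2 = 1 := fun x => Iff.rfl
  haveI hWn : W.Normal := ⟨fun x hx g => ⟨hZn.conj_mem x hx.1 g, by rw [conj_pow, hx.2, mul_one, mul_inv_cancel]⟩⟩
  have hW2 : IsPGroup 2 W := fun x => ⟨1, Subtype.ext (by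
    rw [pow_one, SubgroupClass.coe_pow]; exact x.2.2)⟩
  letI : CommGroup W :=
    { (inferInstance : Group W) with
      mul_comm := fun u v => Subtype.ext (hZc u u.2.1 v v.2.1) }
  let ρ0 : G →* AddMonoid.End (Additive W) :=
    { toFun := fun g => MonoidHom.toAdditive (MulAut.conjNormal g : MulAut W).toMonoidHom
      map_one' := by
        refine AddMonoidHom.ext fun v => ?_
        obtain ⟨w, rfl⟩ := Additive.ofMul.surjective v
        exact congrArg Additive.ofMul (Subtype.ext (by simp))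
      map_mul' := fun g h => by
        refine AddMonoidHom.ext fun v => ?_
        obtain ⟨w, rfl⟩ := Additive.ofMul.surjective v
        exact congrArg Additive.ofMul (DFunLike.congr_fun (map_mul (MulAut.conjNormal : G →* MulAut W) g h) w) }
  let ρ : G →* AutE (Additive W) := MonoidHom.toHomUnits ρ0
  let val : Additive W → G := fun v => ((Additive.toMul v : W) : G)
  have hval_inj : Function.Injective val := fun v w h => Additive.toMul.injective (Subtype.ext h)
  have hval_mem : ∀ v, val v ∈ W := fun v => (Additive.toMul v : W).2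
  have hval_add : ∀ v w, val (v + w) = val v * val w := fun v w => rfl
  have hval_zero : val 0 = 1 := rfl
  have happ : ∀ (g : G) (v : Additive W),
      val (((ρ g : AutE (Additive W)) : AddMonoid.End (Additive W)) v) = g * val v * g⁻¹ :=
    fun g v => MulAut.conjNormal_apply g (Additive.toMul v)
  have h2 : ∀ v : Additive W, v + v = 0 := fun v => hval_inj (by
    rw [hval_add, hval_zero, ← pow_two]; exact (hval_mem v).2)
  have hdisp : ∀ (g : G) (v : Additive W), val (disp (ρ g) v) = ⁅g, val v⁆ := by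
    intro g v
    rw [disp, hval_add, happ, commutatorElement_def]
    congr 1
    exact (inv_eq_of_mul_eq_one_right (by rw [← pow_two]; exact (hval_mem v).2)).symm
  -- 2-subgroups of the image act quadratically
  have hquad : IsQuad ρ.range := by
    intro T hT hp s hs t ht v
    obtain ⟨T0, hT0, rfl⟩ := lift_pgroup ρ hT hp
    obtain ⟨s0, hs0, rfl⟩ := hs
    obtain ⟨t0, ht0, rfl⟩ := ht
    have hc := hcl (T0 ⊔ W) (hT0.to_sup_of_normal_right hW2) t0 (Subgroup.mem_sup_left ht0) (val v)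
      (Subgroup.mem_sup_right (hval_mem v)) s0 (Subgroup.mem_sup_left hs0)
    refine hval_inj ?_
    rw [hdisp, hdisp, hval_zero, commutatorElement_eq_one_iff_mul_comm]
    exact hc
  -- the image has no two involutions generating a group of order divisible by three
  have hnothree : ¬ HasThree ρ.range := by
    rintro ⟨a, haR, b, hbR, haa, hbb, h3⟩
    set c := (a * b) ^ (orderOf (a * b) / 3) with hcdef
    have hoc : orderOf c = 3 := by
      rw [hcdef]
      exact orderOf_pow_orderOf_div (orderOf_pos (a * b)).ne' h3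
    have hac : a * c * a⁻¹ = c⁻¹ := by
      rw [hcdef, ← conj_pow, ← inv_pow]
      congr 1
      rw [mul_inv_rev, inv_eq_of_mul_eq_one_right haa, inv_eq_of_mul_eq_one_right hbb, ← mul_assoc, haa,
        one_mul]
    set K := Subgroup.closure ({c, a} : Set (AutE (Additive W))) with hKdef
    have hcK : c ∈ K := Subgroup.subset_closure (Set.mem_insert _ _)
    have haK : a ∈ K := Subgroup.subset_closure (Set.mem_insert_of_mem _ rfl)
    have hKR : K ≤ ρ.range := by
      rw [hKdef, Subgroup.closure_le]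
      rintro x (rfl | rfl)
      · exact ρ.range.pow_mem (ρ.range.mul_mem haR hbR) _
      · exact haR
    have hc3 : (⟨c, hcK⟩ : K) ^ 3 = 1 := Subtype.ext (by
      rw [SubgroupClass.coe_pow, ← hoc, pow_orderOf_eq_one]; rfl)
    have hc1 : (⟨c, hcK⟩ : K) ≠ 1 := fun e => by
      have h' := congrArg (fun x : K => orderOf (x : AutE (Additive W))) e
      simp [hoc] at h'
    have ha1 : a ≠ 1 := fun e => by
      rw [e, one_mul] at h3
      have h' := h3.trans (orderOf_dvd_of_pow_eq_one (n := 2) (by rw [pow_two, hbb]))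
      norm_num at h'
    haveI : Fact (Nat.Prime 3) := ⟨Nat.prime_three⟩
    have hbij := Lib.LocalChar.Dihedral.lift_bijective (⟨c, hcK⟩ : K) (⟨a, haK⟩ : K) hc3
      (Subtype.ext (by rw [SubgroupClass.coe_pow, pow_two, haa]; rfl)) (Subtype.ext hac) hc1
      (fun h => by
        obtain ⟨i, hi⟩ := h
        have h' : c ^ i = a := congrArg Subtype.val hi
        refine ha1 ?_
        have h4 : a ^ 3 = 1 := by
          rw [← h', ← zpow_natCast, ← zpow_mul, mul_comm, zpow_mul, zpow_natCast, ← hoc, pow_orderOf_eq_one,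
            one_zpow]
        rw [pow_succ, pow_two, haa, one_mul] at h4
        exact h4)
      (by
        rw [eq_top_iff]
        rintro ⟨x, hx⟩ -
        have : K ≤ (Subgroup.zpowers (⟨c, hcK⟩ : K) ⊔ Subgroup.zpowers (⟨a, haK⟩ : K)).map K.subtype := by
          refine (Subgroup.closure_le _).2 ?_
          rintro y (hy | hy)
          · subst hy; exact ⟨⟨_, hcK⟩, Subgroup.mem_sup_left (Subgroup.mem_zpowers _), rfl⟩
          · rw [Set.mem_singleton_iff] at hy; subst hy
            exact ⟨⟨_, haK⟩, Subgroup.mem_sup_right (Subgroup.mem_zpowers _), rfl⟩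
        obtain ⟨y, hy, hyx⟩ := this hx
        rwa [show y = ⟨x, hx⟩ from Subtype.ext hyx] at hy)
    obtain ⟨e3⟩ := S2759.dihedral_three
    have h1 : Cfsg.Involves (Equiv.Perm (Fin 3)) K :=
      Lib.Fusion.involves_of_surjective (K := ⊤)
        ((((Subgroup.topEquiv (G := ↥K)).trans (MulEquiv.ofBijective _ hbij).symm).trans e3).toMonoidHom)
        (MulEquiv.surjective (((Subgroup.topEquiv (G := ↥K)).trans (MulEquiv.ofBijective _ hbij).symm).trans e3))
    set N := Subgroup.normalizer (W : Set G) with hNdef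
    let f : ↥N →* AutE (Additive W) := ρ.comp N.subtype
    have hker : f.ker = (Subgroup.centralizer (W : Set G)).subgroupOf N := by
      ext n
      rw [MonoidHom.mem_ker, Subgroup.mem_subgroupOf, Subgroup.mem_centralizer_iff]
      constructor
      · intro h w hw
        have e := congrArg (fun g : AutE (Additive W) =>
          val ((g : AddMonoid.End (Additive W)) (Additive.ofMul (⟨w, hw⟩ : W)))) h
        simp only [f, MonoidHom.comp_apply, happ, apply_one] at e
        exact (mul_inv_eq_iff_eq_mul.mp e).symm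
      · intro h
        refine ext_apply fun v => hval_inj ?_
        simp only [f, MonoidHom.comp_apply, happ, apply_one]
        exact mul_inv_eq_iff_eq_mul.mpr (h _ (hval_mem v)).symm
    have hrange : K ≤ f.range := fun x hx => by
      obtain ⟨g, rfl⟩ := hKR hx
      exact ⟨⟨g, by rw [hNdef, Subgroup.normalizer_eq_top (H := W)]; exact Subgroup.mem_top g⟩, rfl⟩
    refine hS4 (S2759.result.2 ⟨W, hW2, ?_⟩)
    let E := ((QuotientGroup.quotientMulEquivOfEq hker).symm.trans (QuotientGroup.quotientKerEquivRange f)).symm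
    exact Lib.Fusion.involves_mono (E.toMonoidHom.comp (Subgroup.inclusion hrange))
      (fun x y e => Subgroup.inclusion_injective hrange (E.injective e)) h1
  -- the normal closure of `A`
  set H := Subgroup.normalClosure (A : Set G) with hHdef
  by_cases hH : IsPGroup 2 H
  · exact Subgroup.le_normalClosure.trans (Lib.Hall.le_pCore hH)
  exfalso
  obtain ⟨d, hdH, hdo, hd1⟩ := exists_odd' hH
  have hAe : Cfsg.IsElementaryAbelian 2 A := hA.1
  by_cases hρd : ρ d = 1
  · -- `d` centralizes the core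
    have hfixW : ∀ w ∈ W, d * w * d⁻¹ = w := by
      intro w hw
      have e := congrArg (fun g : AutE (Additive W) =>
          val ((g : AddMonoid.End (Additive W)) (Additive.ofMul (⟨w, hw⟩ : W)))) hρd
      simp only [happ, apply_one] at e
      exact e
    have hfixZ : ∀ (k : ℕ), ∀ z ∈ Z, z ^ 2 ^ k = 1 → d * z * d⁻¹ = z := by
      intro k
      induction k with
      | zero =>
        intro z _ hz1
        rw [pow_zero, pow_one] at hz1
        rw [hz1, mul_one, mul_inv_cancel]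
      | succ k ih =>
        intro z hz hzk
        rw [pow_succ', pow_mul] at hzk
        have h2z := ih (z ^ 2) (Z.pow_mem hz 2) hzk
        set c := d * z * d⁻¹ * z⁻¹ with hc
        have hcz : d * z * d⁻¹ ∈ Z := hZn.conj_mem z hz d
        have hcW : c ∈ W := by
          refine (hWmem c).2 ⟨Z.mul_mem hcz (Z.inv_mem hz), ?_⟩
          rw [hc, (show Commute (d * z * d⁻¹) z⁻¹ from hZc _ hcz _ (Z.inv_mem hz)).mul_pow, conj_pow,
            h2z, inv_pow, mul_inv_cancel]
        have hc1 : c = 1 := fix_of_odd hdo (hfixW c hcW) (q := z) (by rw [hc, inv_mul_cancel_right]) (k := 1)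
          (by rw [pow_one]; exact hcW.2)
        exact mul_inv_eq_one.1 hc1
    let M : Subgroup G :=
      { carrier := {h | ∀ q ∈ Q, ⁅h, q⁆ ∈ Z}
        mul_mem' := fun {x y} hx hy q hq => by
          rw [show ⁅x * y, q⁆ = x * ⁅y, q⁆ * x⁻¹ * ⁅x, q⁆ by simp only [commutatorElement_def]; group]
          exact Z.mul_mem (hZn.conj_mem _ (hy q hq) x) (hx q hq)
        one_mem' := fun q _ => by rw [commutatorElement_one_left]; exact Z.one_mem
        inv_mem' := fun {x} hx q hq => by
          rw [show ⁅x⁻¹, q⁆ = x⁻¹ * ⁅x, q⁆⁻¹ * x⁻¹⁻¹ by simp only [commutatorElement_def]; group]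
          exact hZn.conj_mem _ (Z.inv_mem (hx q hq)) _ }
    have hHM : H ≤ M := by
      rw [hHdef, Subgroup.normalClosure, Subgroup.closure_le]
      intro s hs q hq
      obtain ⟨a, ha, hax⟩ := Group.mem_conjugatesOfSet_iff.1 hs
      obtain ⟨g, rfl⟩ := isConj_iff.1 hax
      set s := g * a * g⁻¹ with hs'
      have hs2 : s ^ 2 = 1 := by rw [hs', conj_pow, hAe.2 a ha, mul_one, mul_inv_cancel]
      have hT : IsPGroup 2 ↥(Subgroup.zpowers s ⊔ Q) :=
        (Lib.Thompson.isPGroup_of_elementary (Lib.Thompson.isElementaryAbelian_zpowers hs2)).to_sup_of_normal_right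
          hQ2
      refine ⟨?_, Subgroup.mem_centralizer_iff.2 fun q' hq' => ?_⟩
      · rw [commutatorElement_def]
        exact Q.mul_mem (hQn.conj_mem q hq s) (Q.inv_mem hq)
      · exact hcl _ hT s (Subgroup.mem_sup_left (Subgroup.mem_zpowers s)) q (Subgroup.mem_sup_right hq) q'
          (Subgroup.mem_sup_right hq')
    have hdQ : d ∈ Q := hC (Subgroup.mem_centralizer_iff.2 fun q hq => by
      set c := ⁅d, q⁆ with hc
      have hcZ : c ∈ Z := hHM hdH q hq
      obtain ⟨k, hk⟩ := hQ2 ⟨c, hcZ.1⟩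
      have hk' : c ^ 2 ^ k = 1 := congrArg Subtype.val hk
      have hc1 : c = 1 := fix_of_odd hdo (hfixZ k c hcZ hk') (q := q)
        (by rw [hc, commutatorElement_def, inv_mul_cancel_right]) hk'
      exact (commutatorElement_eq_one_iff_mul_comm.1 hc1).symm)
    obtain ⟨k, hk⟩ := hQ2 ⟨d, hdQ⟩
    exact hd1 (eq_one_of_odd (congrArg Subtype.val hk) hdo (pow_orderOf_eq_one d))
  · -- reduce to an offender
    set A' := A.map ρ with hA'def
    have hA'2 : IsPGroup 2 A' := (Lib.Thompson.isPGroup_of_elementary hAe).map ρ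
    have hA'R : A' ≤ ρ.range := Subgroup.map_le_range _ _
    have hH' : ¬ IsPGroup 2 (Subgroup.closure (conjSet ρ.range A')) := by
      intro hp
      have hle : H ≤ (Subgroup.closure (conjSet ρ.range A')).comap ρ := by
        rw [hHdef, Subgroup.normalClosure, Subgroup.closure_le]
        intro s hs
        obtain ⟨a, ha, hax⟩ := Group.mem_conjugatesOfSet_iff.1 hs
        obtain ⟨g, rfl⟩ := isConj_iff.1 hax
        exact Subgroup.subset_closure ⟨ρ g, ⟨g, rfl⟩, ρ a, ⟨a, ha, rfl⟩, by simp⟩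
      obtain ⟨k, hk⟩ := hp ⟨ρ d, hle hdH⟩
      refine hρd (eq_one_of_odd (congrArg Subtype.val hk) hdo ?_)
      rw [← map_pow, pow_orderOf_eq_one, map_one]
    have hfixA : ∀ v : Additive W, val v ∈ A → v ∈ fixS A' := by
      rintro v hv _ ⟨a, ha, rfl⟩
      refine hval_inj ?_
      rw [happ, Lib.Thompson.commute_of_elementary hAe ha hv, mul_inv_cancel_right]
    have hmax : ∀ T : Subgroup (AutE (Additive W)), T ≤ A' →
        Nat.card T * Nat.card (fixS T) ≤ Nat.card A' * Nat.card (fixS A') := by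
      intro T hT
      set T0 := A ⊓ T.comap ρ with hT0
      have hT0m : T0.map ρ = T := by
        refine le_antisymm ?_ fun t ht => ?_
        · rintro _ ⟨x, hx, rfl⟩; exact hx.2
        · obtain ⟨x, hx, rfl⟩ := hT ht
          exact ⟨x, ⟨hx, ht⟩, rfl⟩
      have hker : T0 ⊓ ρ.ker = A ⊓ ρ.ker := by
        refine le_antisymm (inf_le_inf_right _ inf_le_left) (le_inf (fun x hx => ⟨hx.1, ?_⟩) inf_le_right)
        show ρ x ∈ T
        rw [MonoidHom.mem_ker.1 hx.2]; exact T.one_mem
      set X : Subgroup G :=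
        { carrier := val '' (fixS T : Set (Additive W))
          mul_mem' := by
            rintro _ _ ⟨v, hv, rfl⟩ ⟨w, hw, rfl⟩
            exact ⟨v + w, (fixS T).add_mem hv hw, hval_add v w⟩
          one_mem' := ⟨0, (fixS T).zero_mem, hval_zero⟩
          inv_mem' := by
            rintro _ ⟨v, hv, rfl⟩
            exact ⟨-v, (fixS T).neg_mem hv, rfl⟩ } with hX
      have hcX : Nat.card X = Nat.card (fixS T) := by
        have := Nat.card_image_of_injective hval_inj (fixS T : Set (Additive W))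
        exact this
      have hXW : X ≤ W := by rintro _ ⟨v, -, rfl⟩; exact hval_mem v
      have hcomm : ∀ a ∈ T0, ∀ b ∈ X, a * b = b * a := by
        rintro a ha _ ⟨v, hv, rfl⟩
        have e : ρ a ∈ T := ha.2
        have h' := congrArg val (hv (ρ a) e)
        rw [happ] at h'
        exact mul_inv_eq_iff_eq_mul.1 h'
      have hE : Cfsg.IsElementaryAbelian 2 (T0 ⊔ X) :=
        Lib.Thompson.isElementaryAbelian_sup (Lib.Thompson.isElementaryAbelian_le hAe inf_le_left)
          ⟨⟨⟨fun x y => Subtype.ext (hZc x (hXW x.2).1 y (hXW y.2).1)⟩⟩, fun x hx => (hXW hx).2⟩ hcomm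
      have h1 := card_mul_le hcomm
      have h3 : Nat.card ↥(T0 ⊓ X) ≤ Nat.card (fixS A') := by
        refine Nat.card_le_card_of_injective
          (fun x => ⟨Additive.ofMul (⟨(x : G), hXW x.2.2⟩ : W), hfixA _ x.2.1.1⟩) fun x y h => ?_
        exact Subtype.ext (congrArg (fun z : fixS A' => val (z : Additive W)) h :)
      have hcA : Nat.card A = Nat.card A' * Nat.card ↥(A ⊓ ρ.ker) := card_eq_map_mul ρ A
      have hcT : Nat.card T0 = Nat.card T * Nat.card ↥(A ⊓ ρ.ker) := by
        rw [card_eq_map_mul ρ T0, hT0m, hker]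
      refine Nat.le_of_mul_le_mul_right ?_ (Nat.card_pos (α := ↥(A ⊓ ρ.ker)))
      calc Nat.card T * Nat.card (fixS T) * Nat.card ↥(A ⊓ ρ.ker)
          = Nat.card T0 * Nat.card X := by rw [hcT, hcX]; ring
        _ ≤ Nat.card ↥(T0 ⊔ X) * Nat.card ↥(T0 ⊓ X) := h1
        _ ≤ Nat.card A * Nat.card (fixS A') := Nat.mul_le_mul (hA.2 _ hE) h3
        _ = Nat.card A' * Nat.card (fixS A') * Nat.card ↥(A ⊓ ρ.ker) := by rw [hcA]; ring
    obtain ⟨G'', hq'', hn'', ho'', -, hlift⟩ := reduce h2 hquad hA'R hA'2 hmax hH'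
    exact hnothree (hlift (hasThree (V := ↥(moved ρ.range A')) (fun x => Subtype.ext (h2 x.1)) hq'' hn'' ho''))

/-- Let G be a finite group that is 2-constrained and has no section isomorphic to the symmetric group of degree 4, and let S be a Sylow 2-subgroup of G of nilpotency class at most 2. Then G = N_G(J(S))·O_{2'}(G), where J(S) is the Thompson subgroup generated by the elementary abelian subgroups of S of largest order. -/
theorem result {G : Type*} [Group G] [Finite G] (hcon : Cfsg.IsPConstrained 2 G) (hS4 : ¬ Cfsg.Involves (Equiv.Perm (Fin 4)) G) (S : Sylow 2 G) (hcl : Subgroup.lowerCentralSeries (S : Subgroup G) 2 = ⊥) : Subgroup.normalizer ((Cfsg.thompsonSubgroupOf 2 (S : Subgroup G)) : Set G) ⊔ Cfsg.pPrimeCore 2 G = ⊤ := by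
  haveI : Fact (Nat.Prime 2) := ⟨Nat.prime_two⟩
  set π := QuotientGroup.mk' (Cfsg.pPrimeCore 2 G) with hπ
  have hsurj : Function.Surjective π := QuotientGroup.mk'_surjective _
  set S' := S.mapSurjective hsurj with hS'
  have hcl1 : ∀ x ∈ (S' : Subgroup (G ⧸ pPrimeCore 2 G)), ∀ y ∈ (S' : Subgroup (G ⧸ pPrimeCore 2 G)),
      ∀ z ∈ (S' : Subgroup (G ⧸ pPrimeCore 2 G)), z * ⁅x, y⁆ = ⁅x, y⁆ * z := by
    rw [hS', Sylow.coe_mapSurjective]
    rintro _ ⟨x, hx, rfl⟩ _ ⟨y, hy, rfl⟩ _ ⟨z, hz, rfl⟩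
    have h : ⁅⁅x, y⁆, z⁆ ∈ Subgroup.lowerCentralSeries (S : Subgroup G) 2 := by
      refine Subgroup.commutator_mem_commutator ?_ hz
      exact Subgroup.commutator_mem_commutator hx hy
    rw [hcl, Subgroup.mem_bot, commutatorElement_eq_one_iff_mul_comm] at h
    rw [← map_commutatorElement, ← map_mul, ← map_mul, h]
  have hcl2 : ∀ T : Subgroup (G ⧸ pPrimeCore 2 G), IsPGroup 2 T →
      ∀ x ∈ T, ∀ y ∈ T, ∀ z ∈ T, z * ⁅x, y⁆ = ⁅x, y⁆ * z := by
    intro T hT
    obtain ⟨T', hTT'⟩ := hT.exists_le_sylow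
    obtain ⟨g, hg⟩ := MulAction.exists_smul_eq (G ⧸ pPrimeCore 2 G) T' S'
    intro x hx y hy z hz
    have hmem : ∀ w ∈ T, MulAut.conj g w ∈ (S' : Subgroup (G ⧸ pPrimeCore 2 G)) := fun w hw => by
      rw [← hg, Sylow.coe_subgroup_smul]
      exact Subgroup.smul_mem_pointwise_smul _ _ _ (hTT' hw)
    have h := hcl1 _ (hmem x hx) _ (hmem y hy) _ (hmem z hz)
    rw [← map_commutatorElement, ← map_mul, ← map_mul] at h
    exact (MulAut.conj g).injective h
  have hS4' : ¬ Cfsg.Involves (Equiv.Perm (Fin 4)) (G ⧸ pPrimeCore 2 G) :=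
    fun h => hS4 (Lib.HallHigman.involves_of_quotient _ h)
  have hmaxQ : ∀ A ∈ maxElementaryAbelianSubgroups 2 (G ⧸ pPrimeCore 2 G), A ≤ pCore 2 (G ⧸ pPrimeCore 2 G) :=
    fun A hA => core (Lib.Thompson.isPConstrained_iff.1 hcon) hS4' hcl2 hA
  obtain ⟨A0, hA0, hA0S⟩ := Lib.Thompson.exists_maxElementary_le_sylow (p := 2) S'
  haveI hnor : (pCore 2 (G ⧸ pPrimeCore 2 G)).Normal := Lib.Hall.pCore_normal 2
  have hQS : pCore 2 (G ⧸ pPrimeCore 2 G) ≤ (S' : Subgroup (G ⧸ pPrimeCore 2 G)) :=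
    sup_eq_left.1 (S'.is_maximal' (S'.isPGroup'.to_sup_of_normal_right (Lib.Hall.isPGroup_pCore 2)) le_sup_left)
  have hJ : thompsonSubgroupOf 2 (S' : Subgroup (G ⧸ pPrimeCore 2 G)) =
      thompsonSubgroup 2 (G ⧸ pPrimeCore 2 G) := by
    rw [Lib.Thompson.thompsonSubgroupOf_eq hA0 hA0S, thompsonSubgroup]
    exact le_antisymm (sSup_le fun A hA => le_sSup hA.1)
      (sSup_le fun A hA => le_sSup ⟨hA, (hmaxQ A hA).trans hQS⟩)
  have hinj : Set.InjOn π ((S : Subgroup G) : Set G) := by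
    intro x hx y hy e
    have hmem : x⁻¹ * y ∈ (S : Subgroup G) ⊓ pPrimeCore 2 G :=
      ⟨S.mul_mem (S.inv_mem hx) hy, QuotientGroup.eq.1 e⟩
    have hbot : (S : Subgroup G) ⊓ pPrimeCore 2 G = ⊥ := by
      obtain ⟨k, hk⟩ := IsPGroup.iff_card.1 S.isPGroup'
      refine Subgroup.inf_eq_bot_of_coprime ?_
      rw [hk]
      exact ((Lib.Components.pPrimeCore_coprime 2).symm).pow_left k
    rw [hbot, Subgroup.mem_bot] at hmem
    exact inv_mul_eq_one.1 hmem
  have hn : ((thompsonSubgroupOf 2 (S : Subgroup G)).map π).Normal := by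
    rw [Lib.FPF.thompsonSubgroupOf_map π hinj, ← Sylow.coe_mapSurjective hsurj, ← hS', hJ]
    haveI := Lib.Thompson.thompsonSubgroup_characteristic (G := G ⧸ pPrimeCore 2 G) (p := 2)
    infer_instance
  rw [sup_comm]
  exact Lib.Thompson.sup_normalizer_eq_top (S.isPGroup'.to_le (Lib.FPF.thompsonSubgroupOf_le _)) hn

end Cfsg.Agent.S1932
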