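import Cfsg.Statements.S1936
import Cfsg.Agent.Lib.PPrimeAbelian
import Cfsg.Agent.Lib.SmallSimple.Basic
import Cfsg.Agent.Lib.Transfer.Hall
import Cfsg.Agent.Lib.Thompson.ActionStable
import Cfsg.Agent.S0117
import Cfsg.Agent.S0118
import Cfsg.Agent.S0144

set_option autoImplicit false
open Cfsg Subgroup
open scoped Pointwise commutatorElement

namespace Cfsg.Agent.S1936

open Lib.PPrimeAbelian

universe u

/-- Every subgroup of order prime to `p` is abelian of exponent dividing `p - 1`. -/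
def Hyp (p : ℕ) (G : Type u) [Group G] : Prop :=
  ∀ H : Subgroup G, (Nat.card H).Coprime p → IsMulCommutative H ∧ ∀ x ∈ H, x ^ (p - 1) = 1

variable {p : ℕ} [hp : Fact p.Prime]

theorem hyp_subgroup {G : Type u} [Group G] (h : Hyp p G) (K : Subgroup G) : Hyp p K := by
  intro H hH
  obtain ⟨hc, he⟩ := h (H.map K.subtype) (by rwa [card_subtype])
  refine ⟨⟨⟨fun a b => ?_⟩⟩, fun x hx => ?_⟩
  · have := hc
    refine Subtype.ext (Subtype.ext ?_)
    have h1 : ((a : K) : G) * ((b : K) : G) = ((b : K) : G) * ((a : K) : G) :=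
      congrArg Subtype.val (mul_comm' (⟨_, mem_map_of_mem K.subtype a.2⟩ : H.map K.subtype)
        ⟨_, mem_map_of_mem K.subtype b.2⟩)
    exact h1
  · exact Subtype.ext (he _ (mem_map_of_mem K.subtype hx))

theorem hyp_quotient {G : Type u} [Group G] [Finite G] (h : Hyp p G)
    (hsol : ∀ K : Subgroup G, K ≠ ⊤ → Group.IsSolvable K) (N : Subgroup G) [N.Normal]
    (hq : ¬ (Nat.card (G ⧸ N)).Coprime p) : Hyp p (G ⧸ N) := by
  intro Hb hHb
  set f := QuotientGroup.mk' N
  set K := Hb.comap f with hK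
  have hKtop : K ≠ ⊤ := fun e => hq (by
    have : Hb = ⊤ := comap_injective (QuotientGroup.mk'_surjective N) (e.trans (comap_top f).symm)
    rwa [this, card_top] at hHb)
  haveI := hsol K hKtop
  obtain ⟨T, hT, k, hk⟩ := exists_hall (G := K) p
  set T' := T.map K.subtype with hT'
  have hcard : (Nat.card T').Coprime p := by rwa [hT', card_subtype]
  obtain ⟨hc, he⟩ := h T' hcard
  have himg : T'.map f = Hb := by
    refine le_antisymm ?_ ?_
    · rw [map_le_iff_le_comap]; exact map_subtype_le _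
    · set g : K →* Hb := (f.comp K.subtype).codRestrict Hb fun x => x.2 with hg
      have hgs : Function.Surjective g := by
        rintro ⟨y, hy⟩
        obtain ⟨x, rfl⟩ := QuotientGroup.mk'_surjective N y
        exact ⟨⟨x, hy⟩, rfl⟩
      have h1 : T.map g = ⊤ := index_eq_one.mp (Nat.eq_one_of_dvd_coprimes
        (hHb.pow_right k).symm (hk ▸ index_map_dvd T hgs) (index_dvd_card _))
      intro y hy
      obtain ⟨x, hx, hxy⟩ := h1.ge (mem_top (⟨y, hy⟩ : Hb))
      exact ⟨_, mem_map_of_mem K.subtype hx, congrArg Subtype.val hxy⟩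
  refine ⟨⟨⟨fun a b => ?_⟩⟩, fun x hx => ?_⟩
  · obtain ⟨x, hx, hxa⟩ := himg.ge a.2
    obtain ⟨y, hy, hyb⟩ := himg.ge b.2
    refine Subtype.ext ?_
    show (a : G ⧸ N) * b = b * a
    rw [← hxa, ← hyb, ← map_mul, ← map_mul]
    exact congrArg f (congrArg Subtype.val (mul_comm' (⟨x, hx⟩ : T') ⟨y, hy⟩))
  · obtain ⟨y, hy, rfl⟩ := himg.ge hx
    rw [← map_pow, he y hy, map_one]

/-- A `p'`-quotient by a solvable normal subgroup. -/
theorem solvable_of_coprime_quotient {G : Type u} [Group G] [Finite G] (h : Hyp p G)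
    (hsol : ∀ K : Subgroup G, K ≠ ⊤ → Group.IsSolvable K) (N : Subgroup G) [N.Normal]
    [Group.IsSolvable N] (hq : (Nat.card (G ⧸ N)).Coprime p) : Group.IsSolvable G := by
  obtain ⟨P⟩ : Nonempty (Sylow p N) := inferInstance
  have hfr := P.normalizer_sup_eq_top
  set Pm := (P : Subgroup N).map N.subtype with hPm
  by_cases hM : normalizer (Pm : Set G) = ⊤
  · haveI : Pm.Normal := normalizer_eq_top_iff.mp hM
    have hPp : IsPGroup p Pm := P.2.map _
    have hcop : (Nat.card Pm).Coprime Pm.index := by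
      obtain ⟨n, hn⟩ := IsPGroup.iff_card.mp hPp
      rw [hn]
      refine Nat.Coprime.pow_left n ((Nat.Prime.coprime_iff_not_dvd hp.out).mpr ?_)
      rw [hPm, index_map_subtype]
      intro hd
      rcases hp.out.dvd_mul.mp hd with hd | hd
      · exact P.not_dvd_index hd
      · rw [index_eq_card] at hd
        exact (Nat.Prime.coprime_iff_not_dvd hp.out).mp hq.symm hd
    obtain ⟨C, hC⟩ := Subgroup.exists_right_complement'_of_coprime hcop
    have hCc : (Nat.card C).Coprime p := by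
      rw [← hC.symm.index_eq_card]
      refine Nat.Coprime.symm ((Nat.Prime.coprime_iff_not_dvd hp.out).mpr fun hd => ?_)
      rw [hPm, index_map_subtype] at hd
      rcases hp.out.dvd_mul.mp hd with hd | hd
      · exact P.not_dvd_index hd
      · rw [index_eq_card] at hd
        exact (Nat.Prime.coprime_iff_not_dvd hp.out).mp hq.symm hd
    have := (h C hCc).1
    haveI : Group.IsSolvable C := Group.isSolvable_of_comm fun a b => mul_comm' a b
    haveI : Group.IsSolvable Pm := by
      haveI := hPp.isNilpotent; infer_instance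
    have hs : Function.Surjective ((QuotientGroup.mk' Pm).comp C.subtype) := by
      intro x
      obtain ⟨g, rfl⟩ := QuotientGroup.mk'_surjective Pm x
      obtain ⟨⟨⟨a, ha⟩, ⟨c, hc⟩⟩, hac⟩ := hC.2 g
      refine ⟨⟨c, hc⟩, ?_⟩
      rw [← hac]
      show QuotientGroup.mk' Pm c = QuotientGroup.mk' Pm (a * c)
      rw [map_mul, show QuotientGroup.mk' Pm a = 1 from (QuotientGroup.eq_one_iff a).mpr ha, one_mul]
    haveI : Group.IsSolvable (G ⧸ Pm) := Group.isSolvable_of_surjective hs
    exact Group.isSolvable_of_ker_le_range Pm.subtype (QuotientGroup.mk' Pm) (by simp)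
  · haveI := hsol _ hM
    have hs : Function.Surjective ((QuotientGroup.mk' N).comp (normalizer (Pm : Set G)).subtype) := by
      rw [← MonoidHom.range_eq_top, MonoidHom.range_comp, range_subtype,
        ← map_top_of_surjective _ (QuotientGroup.mk'_surjective N), ← hfr, Subgroup.map_sup,
        QuotientGroup.map_mk'_self, sup_bot_eq]
    haveI : Group.IsSolvable (G ⧸ N) := Group.isSolvable_of_surjective hs
    exact Group.isSolvable_of_ker_le_range N.subtype (QuotientGroup.mk' N) (by simp)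

section Simple

variable {G : Type u} [Group G] [Finite G]

theorem pow_eq_one (h : Hyp p G) {x : G} (hx : (orderOf x).Coprime p) : x ^ (p - 1) = 1 :=
  (h (zpowers x) (by rwa [Nat.card_zpowers])).2 x (mem_zpowers x)

theorem prime_dvd (h : Hyp p G) {q : ℕ} (hq : q.Prime) (hqp : q ≠ p) (hd : q ∣ Nat.card G) :
    q ∣ p - 1 := by
  haveI : Fact q.Prime := ⟨hq⟩
  obtain ⟨x, hx⟩ := exists_prime_orderOf_dvd_card' q hd
  rw [← hx]
  exact orderOf_dvd_of_pow_eq_one (pow_eq_one h (by rw [hx]; exact (Nat.coprime_primes hq hp.out).mpr hqp))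

omit hp in
theorem coprime_of_isPGroup {q : ℕ} (hq : q.Prime) (hpp : p.Prime) (hqp : q ≠ p) {S : Subgroup G}
    (hS : IsPGroup q S) : (Nat.card S).Coprime p := by
  haveI : Fact q.Prime := ⟨hq⟩
  obtain ⟨n, hn⟩ := IsPGroup.iff_card.mp hS
  rw [hn]
  exact Nat.Coprime.pow_left n ((Nat.coprime_primes hq hpp).mpr hqp)

theorem coprime_pgroup {A X : Subgroup G} (hA : (Nat.card A).Coprime p) (hX : IsPGroup p X) :
    (Nat.card A).Coprime (Nat.card X) := by
  obtain ⟨n, hn⟩ := IsPGroup.iff_card.mp hX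
  rw [hn]; exact hA.pow_right n

/-- An abelian Sylow subgroup of a perfect group has no fixed point of its normaliser. -/
theorem fixed_eq_one (hperf : commutator G = ⊤) {q : ℕ} [Fact q.Prime] (S : Sylow q G)
    [IsMulCommutative (S : Subgroup G)] {u : G} (hu : u ∈ (S : Subgroup G))
    (hc : u ∈ centralizer (normalizer ((S : Subgroup G) : Set G) : Set G)) : u = 1 := by
  open scoped IsMulCommutative in
  let φ : (S : Subgroup G) →* (S : Subgroup G) := MonoidHom.id _
  have key : ∀ (k : ℕ) (g₀ : G), g₀⁻¹ * u ^ k * g₀ ∈ (S : Subgroup G) → g₀⁻¹ * u ^ k * g₀ = u ^ k := by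
    intro k g hg
    obtain ⟨n, hn, hne⟩ := S.conj_eq_normalizer_conj_of_mem (u ^ k) g (pow_mem hu k) hg
    rw [hne, mul_assoc, ← mem_centralizer_iff.mp (pow_mem hc k) n hn, inv_mul_cancel_left]
  open scoped IsMulCommutative in
  have h1 : MonoidHom.transfer φ u = 1 :=
    Abelianization.commutator_subset_ker (MonoidHom.transfer φ) (hperf.ge (mem_top u))
  open scoped IsMulCommutative in
  rw [MonoidHom.transfer_eq_pow φ u key] at h1
  have h2 : u ^ (S : Subgroup G).index = 1 := congrArg Subtype.val h1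
  refine Lib.Transfer.eq_one_of_pow_eq_one_of_coprime ?_ h2
  obtain ⟨n, hn⟩ := IsPGroup.iff_card.mp S.2
  refine Nat.Coprime.coprime_dvd_left (hn ▸ Subgroup.orderOf_dvd_natCard _ hu) ?_
  exact Nat.Coprime.pow_left n ((Nat.Prime.coprime_iff_not_dvd Fact.out).mpr S.not_dvd_index)

/-- A subgroup of an abelian Sylow subgroup normal in its normaliser has order `1` modulo `p`. -/
theorem card_modEq_one (h : Hyp p G) (hperf : commutator G = ⊤)
    (hsol : ∀ K : Subgroup G, K ≠ ⊤ → Group.IsSolvable K)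
    {q : ℕ} [Fact q.Prime] (hqp : q ≠ p) (S : Sylow q G) (E : Subgroup G) (hES : E ≤ (S : Subgroup G))
    (hEN : normalizer ((S : Subgroup G) : Set G) ≤ normalizer (E : Set G))
    (hN : normalizer ((S : Subgroup G) : Set G) ≠ ⊤) :
    Nat.card E ≡ 1 [MOD p] := by
  haveI : IsMulCommutative (S : Subgroup G) := (h _ (coprime_of_isPGroup Fact.out hp.out hqp S.2)).1
  set N := normalizer ((S : Subgroup G) : Set G) with hNdef
  haveI := hsol N hN
  obtain ⟨X⟩ : Nonempty (Sylow p N) := inferInstance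
  set X' := (X : Subgroup N).map N.subtype with hX'
  have hXp : IsPGroup p X' := X.2.map _
  have hXE : X' ≤ normalizer (E : Set G) := (map_subtype_le _).trans hEN
  let _ : MulAction X' E := MulAction.compHom E (Lib.Coprime.conjHom hXE)
  have hmod := hXp.card_modEq_card_fixedPoints E
  suffices hfix : Nat.card (MulAction.fixedPoints X' E) = 1 by rwa [hfix] at hmod
  rw [Nat.card_eq_one_iff_unique]
  refine ⟨⟨fun a b => ?_⟩, ⟨⟨1, fun x => map_one (Lib.Coprime.conjHom hXE x)⟩⟩⟩
  suffices h1 : ∀ e : MulAction.fixedPoints X' E, ((e : E) : G) = 1 by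
    exact Subtype.ext (Subtype.ext ((h1 a).trans (h1 b).symm))
  rintro ⟨⟨e, he⟩, hfx⟩
  show e = 1
  refine fixed_eq_one hperf S (hES he) (mem_centralizer_iff.mpr ?_)
  obtain ⟨T, hT, k, hk⟩ := exists_hall (G := N) p
  have hTC : ∀ t ∈ T, (t : G) * e = e * t := by
    set S' := (S : Subgroup G).subgroupOf N with hS'
    have hSN : (S : Subgroup G) ≤ N := le_normalizer
    have hS'c : (Nat.card S').Coprime T.index := by
      rw [hS', Lib.Coprime.card_subgroupOf hSN, hk]
      exact (coprime_of_isPGroup Fact.out hp.out hqp S.2).pow_right k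
    obtain ⟨g, hg⟩ := Lib.Hall.exists_le_conj (hk ▸ hT.pow_right k) hS'c
    have hn : S'.Normal := (normal_subgroupOf_iff_le_normalizer hSN).mpr le_rfl
    have hST : S' ≤ T := by
      intro s hs
      have h1 := hg (hn.conj_mem s hs g)
      rw [Lib.Coprime.mem_conj_smul] at h1
      simpa [mul_assoc] using h1
    intro t ht
    have hTm := (h (T.map N.subtype) (by rwa [card_subtype])).1
    exact congrArg Subtype.val (mul_comm' (⟨_, mem_map_of_mem N.subtype ht⟩ : T.map N.subtype)
      ⟨e, mem_map_of_mem N.subtype (hST (mem_subgroupOf.mpr (hES he) : (⟨e, hSN (hES he)⟩ : N) ∈ S'))⟩)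
  have hle : N ≤ T.map N.subtype ⊔ X' := by
    have htop : T ⊔ (X : Subgroup N) = ⊤ := by
      rw [← index_eq_one]
      exact Nat.eq_one_of_dvd_coprimes
        (((Nat.Prime.coprime_iff_not_dvd hp.out).mpr X.not_dvd_index).pow_left k)
        (hk ▸ index_dvd_of_le le_sup_left) (index_dvd_of_le le_sup_right)
    rw [hX', ← Subgroup.map_sup, htop, ← MonoidHom.range_eq_map, range_subtype]
  have hcent : T.map N.subtype ⊔ X' ≤ centralizer ({e} : Set G) := by
    refine sup_le ?_ fun x hx => ?_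
    · rintro _ ⟨t, ht, rfl⟩
      exact mem_centralizer_singleton_iff.mpr (hTC t ht)
    · refine mem_centralizer_singleton_iff.mpr ?_
      have h1 : x * e * x⁻¹ = e := congrArg Subtype.val (hfx ⟨x, hx⟩)
      exact mul_inv_eq_iff_eq_mul.mp h1
  intro n hn
  exact mem_centralizer_singleton_iff.mp (hcent (hle hn))

/-- The order of the Sylow normaliser. -/
theorem index_normalizer_modEq (h : Hyp p G) (hperf : commutator G = ⊤)
    (hsol : ∀ K : Subgroup G, K ≠ ⊤ → Group.IsSolvable K)
    (hNtop : ∀ (q : ℕ) [Fact q.Prime] (S : Sylow q G), (S : Subgroup G) ≠ ⊥ →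
      normalizer ((S : Subgroup G) : Set G) ≠ ⊤)
    {m k : ℕ} (hm : Nat.card G = p ^ k * m) (hpm : ¬ p ∣ m) : m ≡ 1 [MOD p] := by
  have hm0 : m ≠ 0 := fun e => hpm (e ▸ dvd_zero p)
  have key : ∀ q ∈ m.primeFactors, q ^ m.factorization q ≡ 1 [MOD p] := by
    intro q hq
    have hqp : q.Prime := Nat.prime_of_mem_primeFactors hq
    have hne : q ≠ p := fun e => hpm (e ▸ Nat.dvd_of_mem_primeFactors hq)
    haveI : Fact q.Prime := ⟨hqp⟩
    obtain ⟨S⟩ : Nonempty (Sylow q G) := inferInstance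
    have hfac : (Nat.card G).factorization q = m.factorization q := by
      rw [hm, Nat.factorization_mul (pow_ne_zero k hp.out.ne_zero) hm0]
      simp [hp.out.factorization_pow, Finsupp.single_apply, Ne.symm hne]
    rw [← hfac, ← Sylow.card_eq_multiplicity S]
    refine card_modEq_one h hperf hsol hne S _ le_rfl le_rfl (hNtop q S (S.ne_bot_of_dvd_card ?_))
    exact hm ▸ dvd_mul_of_dvd_right (Nat.dvd_of_mem_primeFactors hq) _
  have h2 : ∀ s : Finset ℕ, (∀ q ∈ s, q ^ m.factorization q ≡ 1 [MOD p]) →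
      ∏ q ∈ s, q ^ m.factorization q ≡ 1 [MOD p] := by
    intro s
    induction s using Finset.induction_on with
    | empty => intro; simp [Nat.ModEq]
    | insert a s ha ih =>
      intro hs
      rw [Finset.prod_insert ha]
      simpa using (hs a (Finset.mem_insert_self a s)).mul
        (ih fun q hq => hs q (Finset.mem_insert_of_mem hq))
  have h3 := h2 _ key
  rwa [← Nat.prod_primeFactors_pow_factorization hm0] at h3

/-- A maximal `p'`-subgroup with a large elementary subgroup normalises a unique maximal `p`-subgroup. -/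
theorem exists_unique_max (hsol : ∀ K : Subgroup G, K ≠ ⊤ → Group.IsSolvable K)
    (hNp : ∀ T : Subgroup G, T ≠ ⊥ → IsPGroup p T → normalizer (T : Set G) ≠ ⊤)
    (hCtop : ∀ x : G, x ≠ 1 → centralizer ({x} : Set G) ≠ ⊤)
    {A : Subgroup G} [IsMulCommutative A] (hA : IsMaxPPrime p A)
    {E : Subgroup G} (hEA : E ≤ A) {r : ℕ} (hr : r.Prime) (hE : ∀ x ∈ E, x ^ r = 1)
    (hEbig : r ^ 3 ≤ Nat.card E) :
    ∃ W : Subgroup G, IsPGroup p W ∧ A ≤ normalizer (W : Set G) ∧
      ∀ X : Subgroup G, IsPGroup p X → A ≤ normalizer (X : Set G) → X ≤ W := by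
  classical
  haveI : Fact r.Prime := ⟨hr⟩
  let Inv : Subgroup G → Prop := fun X => IsPGroup p X ∧ A ≤ normalizer (X : Set G)
  have hbot : Inv ⊥ := ⟨IsPGroup.of_bot, by rw [normalizer_eq_top_iff.mpr inferInstance]; exact le_top⟩
  have hext : ∀ X, Inv X → ∃ W, X ≤ W ∧ Maximal Inv W := fun X hX => Finite.exists_le_maximal hX
  have hAc : ∀ x ∈ A, ∀ y ∈ A, x * y = y * x := fun x hx y hy =>
    congrArg Subtype.val (mul_comm' (⟨x, hx⟩ : A) ⟨y, hy⟩)
  have hcopA : ∀ {B : Subgroup G} (X : Subgroup G), B ≤ A → Inv X → (Nat.card B).Coprime (Nat.card X) :=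
    fun X hB hX => coprime_pgroup (hA.1.coprime_dvd_left (card_dvd_of_le hB)) hX.1
  -- subgroups of order `r ^ 2`
  have hsq : ∀ x ∈ E, ∀ y ∈ E, x ≠ 1 → y ∉ zpowers x →
      Nat.card (zpowers y ⊔ zpowers x : Subgroup G) = r ^ 2 ∧
        (zpowers y ⊔ zpowers x : Subgroup G) ≤ E := by
    intro x hx y hy hx1 hyx
    have hy1 : y ≠ 1 := fun e => hyx (e ▸ one_mem _)
    have ox : Nat.card (zpowers x) = r := by rw [Nat.card_zpowers]; exact orderOf_eq_prime (hE x hx) hx1
    have oy : Nat.card (zpowers y) = r := by rw [Nat.card_zpowers]; exact orderOf_eq_prime (hE y hy) hy1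
    have hnorm : zpowers y ≤ normalizer (zpowers x : Set G) := by
      refine zpowers_le.mpr (mem_normalizer_fintype fun z hz => ?_)
      rw [hAc y (hEA hy) z (hEA (zpowers_le.mpr hx hz)), mul_inv_cancel_right]
      exact hz
    have hinf : zpowers y ⊓ zpowers x = ⊥ := by
      by_contra hne
      obtain ⟨z, hz, hz1⟩ := (bot_or_exists_ne_one _).resolve_left hne
      have hzy : zpowers z = zpowers y := eq_of_le_of_card_ge (zpowers_le.mpr hz.1) (by
        rw [oy, Nat.card_zpowers, orderOf_eq_prime (hE z (zpowers_le.mpr hx hz.2)) hz1])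
      exact hyx (zpowers_le.mp (hzy ▸ zpowers_le.mpr hz.2))
    have h1 := Lib.Coprime.card_sup_mul_card_inf_of_le_normalizer hnorm
    rw [hinf, card_bot, mul_one, ox, oy] at h1
    exact ⟨by rw [h1, sq], sup_le (zpowers_le.mpr hy) (zpowers_le.mpr hx)⟩
  have hgen : ∀ (B X : Subgroup G), B ≤ E → Nat.card B = r ^ 2 → Inv X → X ≠ ⊥ →
      ∃ b ∈ B, b ≠ 1 ∧ X ⊓ centralizer {b} ≠ ⊥ := by
    intro B X hB hcard hX hX1
    by_contra hno
    push Not at hno
    have h1 := Lib.Coprime.fixGen_eq_of_elementary hr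
      (fun x hx y hy => hAc x (hEA (hB hx)) y (hEA (hB hy))) (fun x hx => hE x (hB hx)) hcard
      ((hB.trans hEA).trans hX.2) (hcopA X (hB.trans hEA) hX)
    refine hX1 (eq_bot_iff.mpr (h1.ge.trans ?_))
    exact iSup₂_le fun b hb => (hno b hb.1 hb.2).le
  have hcX : ∀ (X : Subgroup G) (a : G), Inv X → a ∈ A → Inv (X ⊓ centralizer {a}) := by
    intro X a hX ha
    refine ⟨hX.1.to_le inf_le_left, fun b hb => mem_normalizer_fintype ?_⟩
    rintro z ⟨hz, hzc⟩
    refine ⟨(mem_normalizer_iff.mp (hX.2 hb) z).mp hz, ?_⟩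
    have h1 : Commute z a := mem_centralizer_singleton_iff.mp hzc
    have h2 : Commute b a := hAc b hb a ha
    exact mem_centralizer_singleton_iff.mpr ((h2.mul_left h1).mul_left h2.inv_left).eq
  -- maximal invariant subgroups meeting nontrivially in a proper subgroup
  have hlocal : ∀ (H : Subgroup G), A ≤ H → H ≠ ⊤ → ∃ W3, Maximal Inv W3 ∧
      ∀ X, Inv X → X ≤ H → X ≤ W3 := by
    intro H hAH hH
    obtain ⟨R, -, hRp, hRA, hRmax, -, -⟩ := overgroup hA (hsol H hH) hAH
    obtain ⟨W3, hRW, hW3⟩ := hext R ⟨hRp, hRA⟩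
    exact ⟨W3, hW3, fun X hX hXH => (hRmax X hXH hX.1 hX.2).trans hRW⟩
  have huniq : ∀ n : ℕ, ∀ W1 W2, Maximal Inv W1 → Maximal Inv W2 →
      Nat.card G - Nat.card (W1 ⊓ W2 : Subgroup G) ≤ n → W1 = W2 := by
    intro n
    induction n using Nat.strong_induction_on with
    | _ n ih => ?_
    intro W1 W2 hW1 hW2 hn
    by_contra hne
    have step : ∀ W3, Maximal Inv W3 → W1 ⊓ W2 < W3 ⊓ W1 → W1 ⊓ W2 < W3 ⊓ W2 → False := by
      intro W3 hW3 h1 h2
      have e : ∀ Wi, Maximal Inv Wi → W1 ⊓ W2 < W3 ⊓ Wi → W3 = Wi := by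
        intro Wi hWi hlt
        have hc : Nat.card (W1 ⊓ W2 : Subgroup G) < Nat.card (W3 ⊓ Wi : Subgroup G) :=
          lt_of_not_ge fun hle => hlt.ne (eq_of_le_of_card_ge hlt.le hle)
        have hle := card_le_card_group (W3 ⊓ Wi)
        exact ih _ (by omega) W3 Wi hW3 hWi le_rfl
      exact hne ((e W1 hW1 h1).symm.trans (e W2 hW2 h2))
    have hlt1 : W1 ⊓ W2 < W1 := lt_of_le_of_ne inf_le_left fun e =>
      hne (hW1.eq_of_le hW2.prop (inf_eq_left.mp e))
    have hlt2 : W1 ⊓ W2 < W2 := lt_of_le_of_ne inf_le_right fun e =>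
      hne (hW2.eq_of_le hW1.prop (inf_eq_right.mp e)).symm
    by_cases hT : W1 ⊓ W2 = ⊥
    · have hne1 : W1 ≠ ⊥ := fun e => hlt1.ne (by rw [hT, e])
      have hne2 : W2 ≠ ⊥ := fun e => hlt2.ne (by rw [hT, e])
      have h1E : 1 < Nat.card E := lt_of_lt_of_le (Nat.one_lt_pow (by norm_num) hr.one_lt) hEbig
      obtain ⟨x0, hx0, hx01⟩ := (bot_or_exists_ne_one E).resolve_left (E.one_lt_card_iff_ne_bot.mp h1E)
      have hex : ∀ B : Subgroup G, B ≤ E → Nat.card B ≤ r ^ 2 → ∃ y ∈ E, y ∉ B := by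
        intro B hB hc
        by_contra hno
        push Not at hno
        have := Nat.pow_lt_pow_right hr.one_lt (show 2 < 3 by norm_num)
        have := card_le_of_le (show E ≤ B from hno)
        omega
      have hcz : ∀ x ∈ E, Nat.card (zpowers x) ≤ r ^ 2 := fun x hx => by
        rw [Nat.card_zpowers]
        exact (Nat.le_of_dvd hr.pos (orderOf_dvd_of_pow_eq_one (hE x hx))).trans
          (Nat.le_self_pow two_ne_zero r)
      obtain ⟨y0, hy0, hy0x⟩ := hex _ (zpowers_le.mpr hx0) (hcz x0 hx0)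
      obtain ⟨c0, s0⟩ := hsq x0 hx0 y0 hy0 hx01 hy0x
      obtain ⟨e1, he1, he11, hX⟩ := hgen _ W1 s0 c0 hW1.prop hne1
      have he1E := s0 he1
      obtain ⟨x1, hx1, hx1e⟩ := hex _ (zpowers_le.mpr he1E) (hcz e1 he1E)
      obtain ⟨c1, s1⟩ := hsq e1 he1E x1 hx1 he11 hx1e
      obtain ⟨y1, hy1, hy1n⟩ := hex _ s1 c1.le
      have hx11 : x1 ≠ 1 := fun e => hx1e (e ▸ one_mem _)
      obtain ⟨c2, s2⟩ := hsq x1 hx1 y1 hy1 hx11 fun hh =>
        hy1n ((zpowers_le.mpr (mem_sup_left (mem_zpowers x1))) hh)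
      have he1n : e1 ∉ (zpowers y1 ⊔ zpowers x1 : Subgroup G) := by
        intro hh
        have hle : (zpowers x1 ⊔ zpowers e1 : Subgroup G) ≤ zpowers y1 ⊔ zpowers x1 :=
          sup_le le_sup_right (zpowers_le.mpr hh)
        exact hy1n (eq_of_le_of_card_ge hle (by rw [c1, c2]) ▸ mem_sup_left (mem_zpowers y1))
      obtain ⟨b1, hb1, hb11, hY⟩ := hgen _ (W1 ⊓ centralizer {e1}) s2 c2
        (hcX W1 e1 hW1.prop (hEA he1E)) hX
      have hb1e : b1 ∉ zpowers e1 := by
        intro hh
        have hz : zpowers b1 = zpowers e1 := eq_of_le_of_card_ge (zpowers_le.mpr hh) (by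
          rw [Nat.card_zpowers, Nat.card_zpowers, orderOf_eq_prime (hE b1 (s2 hb1)) hb11,
            orderOf_eq_prime (hE e1 he1E) he11])
        exact he1n (zpowers_le.mpr hb1 (hz ▸ mem_zpowers e1))
      obtain ⟨c3, s3⟩ := hsq e1 he1E b1 (s2 hb1) he11 hb1e
      obtain ⟨b, hb, hb1', hB2⟩ := hgen _ W2 s3 c3 hW2.prop hne2
      have hle : W1 ⊓ centralizer {e1} ⊓ centralizer {b1} ≤ W1 ⊓ centralizer {b} := by
        rintro z ⟨⟨hz, hze⟩, hzb⟩
        refine ⟨hz, ?_⟩
        have hsub : (zpowers b1 ⊔ zpowers e1 : Subgroup G) ≤ centralizer ({z} : Set G) :=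
          sup_le (zpowers_le.mpr (mem_centralizer_singleton_iff.mpr (mem_centralizer_singleton_iff.mp hzb).symm))
            (zpowers_le.mpr (mem_centralizer_singleton_iff.mpr (mem_centralizer_singleton_iff.mp hze).symm))
        exact mem_centralizer_singleton_iff.mpr (mem_centralizer_singleton_iff.mp (hsub hb)).symm
      have hbA : b ∈ A := hEA (s3 hb)
      obtain ⟨W3, hW3, hW3i⟩ := hlocal (centralizer {b})
        (fun a ha => mem_centralizer_singleton_iff.mpr (hAc a ha b hbA)) (hCtop b hb1')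
      refine step W3 hW3 ?_ ?_
      · rw [hT, bot_lt_iff_ne_bot]
        intro e
        refine hY (eq_bot_iff.mpr (hle.trans ?_))
        rw [← e]
        exact le_inf (hW3i _ (hcX W1 b hW1.prop hbA) inf_le_right) inf_le_left
      · rw [hT, bot_lt_iff_ne_bot]
        intro e
        refine hB2 (eq_bot_iff.mpr ?_)
        rw [← e]
        exact le_inf (hW3i _ (hcX W2 b hW2.prop hbA) inf_le_right) inf_le_left
    · set T := W1 ⊓ W2 with hTdef
      have hTp : IsPGroup p T := hW1.prop.1.to_le inf_le_left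
      have hAT : A ≤ normalizer (T : Set G) := fun a ha => mem_normalizer_fintype fun z hz =>
        ⟨(mem_normalizer_iff.mp (hW1.prop.2 ha) z).mp hz.1, (mem_normalizer_iff.mp (hW2.prop.2 ha) z).mp hz.2⟩
      obtain ⟨W3, hW3, hW3i⟩ := hlocal _ hAT (hNp T hT hTp)
      have grow : ∀ Wi, Inv Wi → T < Wi → T < W3 ⊓ Wi := by
        intro Wi hWi hlt
        haveI := hWi.1.isNilpotent
        have h1 : T.subgroupOf Wi < normalizer ((T.subgroupOf Wi : Subgroup Wi) : Set Wi) :=
          Group.normalizerCondition_of_isNilpotent (G := Wi) _ (lt_top_iff_ne_top.mpr fun e =>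
            hlt.not_ge (subgroupOf_eq_top.mp e))
        obtain ⟨x, hxn, hxT⟩ := SetLike.exists_of_lt h1
        have hxN : (x : G) ∈ normalizer (T : Set G) := by
          refine mem_normalizer_fintype fun z hz => ?_
          exact mem_subgroupOf.mp ((mem_normalizer_iff.mp hxn ⟨z, hlt.le hz⟩).mp (mem_subgroupOf.mpr hz))
        have hI : Inv (Wi ⊓ normalizer (T : Set G)) := by
          refine ⟨hWi.1.to_le inf_le_left, fun a ha => mem_normalizer_fintype fun z hz => ⟨?_, ?_⟩⟩
          · exact (mem_normalizer_iff.mp (hWi.2 ha) z).mp hz.1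
          · exact Subgroup.mul_mem _ (Subgroup.mul_mem _ (hAT ha) hz.2) (Subgroup.inv_mem _ (hAT ha))
        have hle := hW3i _ hI inf_le_right
        refine lt_of_le_of_ne (le_inf ((le_inf hlt.le le_normalizer).trans hle) hlt.le) fun e => hxT ?_
        rw [mem_subgroupOf, e]
        exact ⟨hle ⟨x.2, hxN⟩, x.2⟩
      exact step W3 hW3 (grow W1 hW1.prop hlt1) (grow W2 hW2.prop hlt2)
  obtain ⟨W, -, hW⟩ := hext ⊥ hbot
  refine ⟨W, hW.prop.1, hW.prop.2, fun X hX hXA => ?_⟩
  obtain ⟨W', hXW, hW'⟩ := hext X ⟨hX, hXA⟩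
  exact hXW.trans_eq (huniq _ W' W hW' hW le_rfl)

theorem false_of_simple (h : Hyp p G) (h5 : 5 ≤ p) [IsSimpleGroup G] (hG : ¬ IsMulCommutative G)
    (hsol : ∀ K : Subgroup G, K ≠ ⊤ → Group.IsSolvable K) : False := by
  have hperf := Lib.SmallSimple.commutator_eq_top hG
  have hnorm : ∀ T : Subgroup G, T ≠ ⊥ → T ≠ ⊤ → normalizer (T : Set G) ≠ ⊤ := by
    intro T h1 h2 e
    rcases (normalizer_eq_top_iff.mp e).eq_bot_or_eq_top with e' | e'
    exacts [h1 e', h2 e']
  have hnotop : ∀ (q : ℕ) [Fact q.Prime] (T : Subgroup G), IsPGroup q T → T ≠ ⊤ := by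
    intro q _ T hT e
    haveI : Group.IsNilpotent G := Group.isNilpotent_top.mp (e ▸ hT.isNilpotent)
    haveI : Group.IsSolvable G := inferInstance
    exact (Group.IsSolvable.commutator_lt_top_of_nontrivial G).ne hperf
  have hNp : ∀ T : Subgroup G, T ≠ ⊥ → IsPGroup p T → normalizer (T : Set G) ≠ ⊤ :=
    fun T h1 hT => hnorm T h1 (hnotop p T hT)
  have hNq : ∀ (q : ℕ) [Fact q.Prime] (S : Sylow q G), (S : Subgroup G) ≠ ⊥ →
      normalizer ((S : Subgroup G) : Set G) ≠ ⊤ := fun q _ S h1 => hnorm _ h1 (hnotop q _ S.2)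
  have hCtop : ∀ x : G, x ≠ 1 → centralizer ({x} : Set G) ≠ ⊤ := by
    intro x hx e
    have hc : x ∈ center G := mem_center_iff.mpr fun g => mem_centralizer_singleton_iff.mp (e ▸ mem_top g)
    rcases (inferInstance : (center G).Normal).eq_bot_or_eq_top with e' | e'
    · exact hx (mem_bot.mp (e' ▸ hc))
    · exact hG ⟨⟨fun a b => mem_center_iff.mp (e' ▸ mem_top b) a⟩⟩
  obtain ⟨P⟩ : Nonempty (Sylow p G) := inferInstance
  have hP1 : (P : Subgroup G) ≠ ⊥ := by
    intro e
    have hcop : (Nat.card (⊤ : Subgroup G)).Coprime p := by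
      rw [card_top]
      refine Nat.Coprime.symm ((Nat.Prime.coprime_iff_not_dvd hp.out).mpr fun hd => ?_)
      exact P.ne_bot_of_dvd_card hd e
    have hc := (h ⊤ hcop).1
    exact hG ⟨⟨fun a b => congrArg Subtype.val (mul_comm' (⟨a, mem_top a⟩ : (⊤ : Subgroup G)) ⟨b, mem_top b⟩)⟩⟩
  -- fusion in `P` is controlled by a proper subgroup
  set Z := Cfsg.centerThompsonOf p (P : Subgroup G) with hZ
  set H0 := normalizer (Z : Set G) with hH0
  have hH0top : H0 ≠ ⊤ := hnorm _ (S0117.zje_ne_bot P.2 hP1) fun e =>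
    hnotop p _ P.2 (top_le_iff.mp (e ▸ (inf_le_left.trans (map_subtype_le _) : Z ≤ (P : Subgroup G))))
  have hNH0 : normalizer ((P : Subgroup G) : Set G) ≤ H0 :=
    (Lib.FPF.normalizer_le_normalizer_thompson _).trans (Lib.FPF.normalizer_le_normalizer_center _)
  have hp2 : p ≠ 2 := by omega
  have hfree : ¬ ∃ (H K : Subgroup G) (hK : (K.subgroupOf H).Normal),
      Nonempty ((H ⧸ K.subgroupOf H) ≃* Matrix.SpecialLinearGroup (Fin 2) (ZMod p)) := by
    rintro ⟨H, K, hK, ⟨e⟩⟩
    refine Lib.Thompson.noSL2_of_abelian_sylow_two (p := p) hp2 (fun T => (h _ ?_).1) H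
      (e.toMonoidHom.comp (QuotientGroup.mk' (K.subgroupOf H)))
      (e.surjective.comp (QuotientGroup.mk'_surjective _))
    exact coprime_of_isPGroup Nat.prime_two hp.out (Ne.symm hp2) T.2
  have hPH0 : (P : Subgroup G) ≤ ⁅H0, H0⁆ := by
    have h1 := Subgroup.commutator_inf_eq_focalSubgroup P
    rw [hperf, top_inf_eq] at h1
    refine le_trans (le_of_eq h1) ?_
    rw [focalSubgroup_def, closure_le]
    rintro g ⟨hg, a, ha, v, rfl⟩
    have hconj : v * a⁻¹ * v⁻¹ ∈ (P : Subgroup G) := by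
      have := mul_mem (inv_mem ha) hg
      rw [commutatorElement_def] at this
      simpa [mul_assoc] using this
    obtain ⟨n, hn, hne⟩ := S0118.result hp2 hfree P {a⁻¹} (Set.singleton_subset_iff.2 (inv_mem ha)) v⁻¹ (by
      rw [Set.image_singleton, Set.singleton_subset_iff, inv_inv]
      exact hconj)
    have h2 : n⁻¹ * a⁻¹ * n = v * a⁻¹ * v⁻¹ := by simpa using hne a⁻¹ rfl
    have h3 : ⁅a, n⁻¹⁆ = ⁅a, v⁆ := by
      rw [commutatorElement_def, inv_inv, show a * n⁻¹ * a⁻¹ * n = a * (n⁻¹ * a⁻¹ * n) by group, h2,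
        commutatorElement_def]
      group
    rw [SetLike.mem_coe, ← h3]
    exact commutator_mem_commutator (hNH0 (le_normalizer ha)) (inv_mem hn)
  haveI := hsol H0 hH0top
  -- a Hall subgroup of `H0`
  obtain ⟨T, hT, k, hk⟩ := exists_hall (G := H0) p
  set T0 := T.map H0.subtype with hT0
  have hT0c : (Nat.card T0).Coprime p := by rwa [hT0, card_subtype]
  haveI hTc : IsMulCommutative T := (hyp_subgroup h H0 T hT).1
  obtain ⟨hn, -⟩ := abelian_hall_structure T hT ⟨k, hk⟩
  set N0 := pCore p H0 ⊔ T with hN0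
  have hPle : (P : Subgroup G) ≤ H0 := le_normalizer.trans hNH0
  have hN0top : N0 = ⊤ := by
    have hq : IsPGroup p (H0 ⧸ N0) := by
      obtain ⟨j, -, hj⟩ := (Nat.dvd_prime_pow hp.out).mp
        (hk ▸ index_dvd_of_le (le_sup_right : T ≤ N0))
      exact IsPGroup.of_card (n := j) (by rw [← index_eq_card]; exact hj)
    have h2 := Lib.Transfer.sup_sylow_eq_top_of_isPGroup_quotient (P.subtype hPle) hq
    have hPs : ((P.subtype hPle : Sylow p H0) : Subgroup H0) ≤ commutator H0 := by
      intro x hx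
      have h1 : (x : G) ∈ ⁅H0, H0⁆ := hPH0 hx
      rw [← map_subtype_commutator] at h1
      obtain ⟨y, hy, hyx⟩ := h1
      rwa [← H0.subtype_injective hyx]
    have h3 : commutator (H0 ⧸ N0) = ⊤ := by
      rw [eq_top_iff, ← map_top_of_surjective _ (QuotientGroup.mk'_surjective N0), ← h2, Subgroup.map_sup,
        QuotientGroup.map_mk'_self, bot_sup_eq]
      refine (map_mono hPs).trans ?_
      rw [_root_.commutator_def, _root_.commutator_def, map_commutator]
      exact commutator_mono le_top le_top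
    by_contra hne
    haveI : Nontrivial (H0 ⧸ N0) := QuotientGroup.nontrivial_iff.mpr hne
    haveI : Group.IsNilpotent (H0 ⧸ N0) := hq.isNilpotent
    haveI : Group.IsSolvable (H0 ⧸ N0) := inferInstance
    exact (Group.IsSolvable.commutator_lt_top_of_nontrivial (H0 ⧸ N0)).ne h3
  have hcardH0 : Nat.card H0 = Nat.card (pCore p H0) * Nat.card T := by
    rw [← Lib.Coprime.card_sup_of_coprime (A := T) (N := pCore p H0) le_normalizer_of_normal
      (coprime_pgroup (G := H0) hT (Lib.Hall.isPGroup_pCore p)) |>.trans (mul_comm _ _),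
      sup_comm, ← hN0, hN0top, card_top]
  have hOP : (P.subtype hPle : Sylow p H0) = (pCore p H0 : Subgroup H0) := by
    refine (eq_of_le_of_card_ge (Lib.Hall.pCore_le_sylow _) ?_).symm
    obtain ⟨a, ha⟩ := IsPGroup.iff_card.mp (P.subtype hPle).2
    have h1 : p ^ a ∣ Nat.card (pCore p H0) * Nat.card T := by
      rw [← hcardH0, ← ha]; exact card_subgroup_dvd_card _
    have h2 := (hT.symm.pow_left a).dvd_of_dvd_mul_right h1
    rw [ha]
    exact Nat.le_of_dvd Nat.card_pos h2
  have hH0N : H0 ≤ normalizer ((P : Subgroup G) : Set G) := by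
    intro x hx
    refine mem_normalizer_fintype fun z hz => ?_
    have hz' : (⟨z, hPle hz⟩ : H0) ∈ (pCore p H0 : Subgroup H0) := hOP ▸ mem_subgroupOf.mpr hz
    have h4 := (inferInstance : (pCore p H0).Normal).conj_mem _ hz' ⟨x, hx⟩
    rw [← hOP] at h4
    exact h4
  have heqN : normalizer ((P : Subgroup G) : Set G) = H0 := le_antisymm hNH0 hH0N
  have hT0mod : Nat.card T ≡ 1 [MOD p] := by
    obtain ⟨a, ha⟩ := IsPGroup.iff_card.mp P.2
    set m := (P : Subgroup G).index with hmdef
    have hm : Nat.card G = p ^ a * m := by rw [← ha, hmdef, card_mul_index]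
    have hmod := index_normalizer_modEq h hperf hsol hNq hm P.not_dvd_index
    have hn := Sylow.card_eq_index_normalizer P
    rw [← Sylow.coe_coe, heqN] at hn
    have h1 : p ^ a * m = Nat.card (Sylow p G) * (p ^ a * Nat.card T) := by
      rw [hn, ← hm, ← H0.index_mul_card, hcardH0, ← hOP, ← ha, Sylow.coe_subtype,
        Lib.Coprime.card_subgroupOf hPle]
    have h2 : m = Nat.card (Sylow p G) * Nat.card T :=
      Nat.eq_of_mul_eq_mul_left (pow_pos hp.out.pos a) (by rw [h1]; ring)
    have h3 : Nat.card (Sylow p G) * Nat.card T ≡ 1 * Nat.card T [MOD p] :=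
      (card_sylow_modEq_one p G).mul_right _
    rw [one_mul, ← h2] at h3
    exact h3.symm.trans hmod
  by_cases hcyc : IsCyclic T0
  · obtain ⟨g, hg⟩ := hcyc.exists_generator
    have hd : Nat.card T ∣ p - 1 := by
      rw [← card_subtype, ← hT0, ← orderOf_eq_card_of_forall_mem_zpowers hg, ← Subgroup.orderOf_coe]
      exact orderOf_dvd_of_pow_eq_one ((h T0 hT0c).2 g g.2)
    have hlt : Nat.card T < p := lt_of_le_of_lt (Nat.le_of_dvd (by omega) hd) (by omega)
    have h1 : Nat.card T = 1 := by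
      have := hT0mod
      rwa [Nat.ModEq, Nat.mod_eq_of_lt hlt, Nat.mod_eq_of_lt hp.out.one_lt] at this
    rw [Subgroup.card_eq_one.mp h1, sup_bot_eq] at hN0
    have hHP : H0 ≤ (P : Subgroup G) := by
      intro x hx
      have : (⟨x, hx⟩ : H0) ∈ ((P.subtype hPle : Sylow p H0) : Subgroup H0) := by
        rw [hOP, ← hN0, hN0top]; exact mem_top _
      exact this
    haveI := P.2.isNilpotent
    haveI : Group.IsSolvable (P : Subgroup G) := inferInstance
    exact (Lib.Hall.commutator_lt_of_solvable hP1).not_ge (hPH0.trans (commutator_mono hHP hHP))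
  · haveI : IsMulCommutative T0 := (h T0 hT0c).1
    obtain ⟨r, B, hr, hBT, hBexp, hBcard⟩ := Lib.Coprime.exists_elementary_sq hcyc
    haveI : Fact r.Prime := ⟨hr⟩
    have hrp : r ≠ p := fun e => (Nat.Prime.coprime_iff_not_dvd hp.out).mp hT0c.symm
      (e ▸ (dvd_pow_self r two_ne_zero).trans (hBcard ▸ card_dvd_of_le hBT))
    have hrd : r ∣ Nat.card G :=
      (dvd_pow_self r two_ne_zero).trans (hBcard ▸ card_subgroup_dvd_card B)
    obtain ⟨S, hBS⟩ := (IsPGroup.of_card hBcard).exists_le_sylow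
    obtain ⟨A, hSA, hA⟩ := exists_isMaxPPrime (coprime_of_isPGroup hr hp.out hrp S.2)
    haveI : IsMulCommutative A := (h A hA.1).1
    have hBA : B ≤ A := hBS.trans hSA
    have hAc : ∀ x ∈ A, ∀ y ∈ A, x * y = y * x := fun x hx y hy =>
      congrArg Subtype.val (mul_comm' (⟨x, hx⟩ : A) ⟨y, hy⟩)
    -- the elements of order `r` of `S`
    let E : Subgroup G :=
      { carrier := {x | x ∈ (S : Subgroup G) ∧ x ^ r = 1}
        one_mem' := ⟨one_mem _, one_pow r⟩
        mul_mem' := fun {a b} ha hb => ⟨mul_mem ha.1 hb.1, by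
          rw [Commute.mul_pow (hAc a (hSA ha.1) b (hSA hb.1)), ha.2, hb.2, one_mul]⟩
        inv_mem' := fun {a} ha => ⟨inv_mem ha.1, by rw [inv_pow, ha.2, inv_one]⟩ }
    have hEN : normalizer ((S : Subgroup G) : Set G) ≤ normalizer (E : Set G) := fun x hx =>
      mem_normalizer_fintype fun z hz => ⟨(mem_normalizer_iff.mp hx z).mp hz.1, by
        rw [conj_pow, hz.2, mul_one, mul_inv_cancel]⟩
    have hS1 : (S : Subgroup G) ≠ ⊥ := S.ne_bot_of_dvd_card hrd
    have hEmod : Nat.card E ≡ 1 [MOD p] :=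
      card_modEq_one h hperf hsol hrp S E (fun x hx => hx.1) hEN (hNq r S hS1)
    have hEbig : r ^ 3 ≤ Nat.card E := by
      obtain ⟨e, he⟩ := IsPGroup.iff_card.mp (S.2.to_le (fun x hx => hx.1 : E ≤ (S : Subgroup G)))
      rw [he]
      refine Nat.pow_le_pow_right hr.pos ?_
      have hBE : Nat.card B ≤ Nat.card E := card_le_of_le fun x hx => ⟨hBS hx, hBexp x hx⟩
      rw [hBcard, he, Nat.pow_le_pow_iff_right hr.one_lt] at hBE
      by_contra hlt
      have he2 : e = 2 := by omega
      rw [he, he2] at hEmod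
      have hdvd : p ∣ (r + 1) * (r - 1) := by
        have h1 := (Nat.modEq_iff_dvd' (Nat.one_le_pow _ _ hr.pos)).mp hEmod.symm
        rwa [← Nat.sq_sub_sq, one_pow]
      have hrle : r ≤ p - 1 := Nat.le_of_dvd (by omega) (prime_dvd h hr hrp hrd)
      have h2 := hr.two_le
      rcases hp.out.dvd_mul.mp hdvd with hd | hd
      · have h3 : p = r + 1 := le_antisymm (Nat.le_of_dvd (by omega) hd) (by omega)
        rcases hr.eq_two_or_odd with h4 | h4
        · omega
        · rcases hp.out.eq_two_or_odd with h5' | h5' <;> omega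
      · exact absurd (Nat.le_of_dvd (by omega) hd) (by omega)
    obtain ⟨W, hWp, hWA, hWmax⟩ :=
      exists_unique_max hsol hNp hCtop hA (fun x hx => hSA hx.1 : E ≤ A) hr (fun x hx => hx.2) hEbig
    set M := W ⊔ normalizer (A : Set G) with hM
    have hNW : normalizer (A : Set G) ≤ normalizer (W : Set G) := by
      intro g hg
      refine mem_normalizer_fintype ?_
      intro z hz
      refine hWmax (W.map (MulAut.conj g).toMonoidHom) (hWp.map _) ?_ (mem_map_of_mem _ hz)
      intro a ha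
      refine mem_normalizer_fintype ?_
      rintro _ ⟨x, hx, rfl⟩
      refine ⟨(g⁻¹ * a * g) * x * (g⁻¹ * a * g)⁻¹,
        (mem_normalizer_iff.mp (hWA ((mem_normalizer_iff''.mp hg a).mp ha)) x).mp hx, ?_⟩
      simp [mul_assoc]
    have hA1 : A ≠ ⊥ := fun e => hS1 (eq_bot_iff.mpr (e ▸ hSA))
    have hAtop : A ≠ ⊤ := fun e =>
      hG ⟨⟨fun a b => hAc a (e ▸ mem_top a) b (e ▸ mem_top b)⟩⟩
    have hMtop : M ≠ ⊤ := by
      by_cases hW : W = ⊥
      · rw [hM, hW, bot_sup_eq]; exact hnorm A hA1 hAtop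
      · intro e
        exact hNp W hW hWp (top_le_iff.mp (e ▸ sup_le le_normalizer hNW))
    have hover : ∀ H : Subgroup G, H ≠ ⊤ → A ≤ H → H ≤ M := by
      intro H hH hAH
      obtain ⟨R, -, hRp, hRA, -, hle, -⟩ := overgroup hA (hsol H hH) hAH
      exact hle.trans (sup_le_sup (hWmax R hRp hRA) le_rfl)
    have hCM : ∀ x ∈ A, x ≠ 1 → centralizer ({x} : Set G) ≤ M := fun x hx hx1 =>
      hover _ (hCtop x hx1) fun a ha => mem_centralizer_singleton_iff.mpr (hAc a ha x hx)
    have hPM : (P : Subgroup G) ≤ M := by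
      have hBN : B ≤ normalizer ((P : Subgroup G) : Set G) :=
        hBT.trans ((map_subtype_le _).trans hH0N)
      have hcop : (Nat.card B).Coprime (Nat.card (P : Subgroup G)) :=
        coprime_pgroup (hT0c.coprime_dvd_left (card_dvd_of_le hBT)) P.2
      rw [← Lib.Coprime.fixGen_eq_of_elementary hr (fun x hx y hy => hAc x (hBA hx) y (hBA hy)) hBexp
        hBcard hBN hcop]
      exact iSup₂_le fun b hb => inf_le_right.trans (hCM b (hBA hb.1) hb.2)
    have hT0M : T0 ≤ M := by
      have hB1 : B ≠ ⊥ := fun e => by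
        rw [e, card_bot] at hBcard
        exact (Nat.one_lt_pow two_ne_zero hr.one_lt).ne hBcard
      obtain ⟨b, hb, hb1⟩ := (bot_or_exists_ne_one B).resolve_left hB1
      intro t ht
      refine hCM b (hBA hb) hb1 (mem_centralizer_singleton_iff.mpr ?_)
      exact congrArg Subtype.val (mul_comm' (⟨t, ht⟩ : T0) ⟨b, hBT hb⟩)
    have hH0M : H0 ≤ M := by
      intro x hx
      have h1 : (⟨x, hx⟩ : H0) ∈ N0 := hN0top ▸ mem_top _
      have h2 := mem_map_of_mem H0.subtype h1
      rw [hN0, Subgroup.map_sup] at h2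
      refine sup_le ?_ hT0M h2
      rw [← hOP, Sylow.coe_subtype, subgroupOf_map_subtype]
      exact inf_le_left.trans hPM
    have hAM : A ≤ M := le_normalizer.trans le_sup_right
    obtain ⟨R, -, hRp, hRA, -, -, hperfM⟩ := overgroup hA (hsol M hMtop) hAM
    have hMR : M ≤ R ⊔ A := hperfM P (hPH0.trans (commutator_mono hH0M hH0M))
    have hNS : normalizer ((S : Subgroup G) : Set G) ≤ M :=
      hover _ (hNq r S hS1) fun a ha => mem_normalizer_fintype fun z hz => by
        rw [hAc a ha z (hSA hz), mul_inv_cancel_right]; exact hz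
    refine Lib.SmallSimple.not_normalizer_le_centralizer hG S hrd fun g hg => ?_
    have hg' : g ∈ A ⊔ R := sup_comm R A ▸ hMR (hNS hg)
    obtain ⟨a, ha, w, hw, rfl⟩ := (Lib.Coprime.mem_sup_of_le_normalizer hRA).mp hg'
    refine mem_centralizer_iff.mpr fun s hs => ?_
    have h1 : w * s * w⁻¹ * s⁻¹ ∈ (S : Subgroup G) ⊓ R := by
      refine ⟨(S : Subgroup G).mul_mem ?_ ((S : Subgroup G).inv_mem hs), ?_⟩
      · have h2 := (mem_normalizer_iff.mp hg s).mp hs
        have h3 : (a * w) * s * (a * w)⁻¹ = w * s * w⁻¹ := by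
          have h4 : a * (w * s * w⁻¹) * a⁻¹ ∈ A := by
            have := hSA h2; simpa [mul_assoc] using this
          have h5 : w * s * w⁻¹ ∈ A := by
            have := A.mul_mem (A.mul_mem (A.inv_mem ha) h4) ha
            simpa [mul_assoc] using this
          calc (a * w) * s * (a * w)⁻¹ = a * (w * s * w⁻¹) * a⁻¹ := by group
            _ = w * s * w⁻¹ := by rw [hAc a ha _ h5, mul_inv_cancel_right]
        exact h3 ▸ h2
      · have h2 : s * w⁻¹ * s⁻¹ ∈ R := (mem_normalizer_iff.mp (hRA (hSA hs)) w⁻¹).mp (inv_mem hw)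
        have h3 := R.mul_mem hw h2
        simpa [mul_assoc] using h3
    have hbotSR : (S : Subgroup G) ⊓ R = ⊥ :=
      (IsPGroup.disjoint_of_ne r p hrp _ _ S.2 hRp).eq_bot
    rw [hbotSR, mem_bot, mul_inv_eq_one, mul_inv_eq_iff_eq_mul] at h1
    calc s * (a * w) = a * (s * w) := by rw [← mul_assoc, hAc s (hSA hs) a ha, mul_assoc]
      _ = a * (w * s) := by rw [h1]
      _ = a * w * s := (mul_assoc _ _ _).symm

end Simple

theorem solvable_aux : ∀ (n : ℕ) (G : Type u) [Group G] [Finite G], Nat.card G = n → Hyp p G →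
    Group.IsSolvable G := by
  intro n
  induction n using Nat.strong_induction_on with
  | _ n ih => ?_
  intro G _ _ hn h
  have hsol : ∀ K : Subgroup G, K ≠ ⊤ → Group.IsSolvable K := by
    intro K hK
    refine ih _ (hn ▸ ?_) K rfl (hyp_subgroup h K)
    exact lt_of_le_of_ne (card_le_card_group K) fun e => hK (eq_top_of_card_eq K e)
  by_cases hN : ∃ N : Subgroup G, N.Normal ∧ N ≠ ⊥ ∧ N ≠ ⊤
  · obtain ⟨N, hNn, hN1, hNt⟩ := hN
    haveI := hsol N hNt
    by_cases hq : (Nat.card (G ⧸ N)).Coprime p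
    · exact solvable_of_coprime_quotient h hsol N hq
    · haveI := ih _ (hn ▸ Lib.Coprime.card_quotient_lt hN1) (G ⧸ N) rfl (hyp_quotient h hsol N hq)
      exact Group.isSolvable_of_ker_le_range N.subtype (QuotientGroup.mk' N) (by simp)
  · by_contra hns
    have hG : ¬ IsMulCommutative G := fun hc => hns (Group.isSolvable_of_comm fun a b => hc.1.1 a b)
    haveI : Nontrivial G := by
      by_contra hnt
      haveI := not_nontrivial_iff_subsingleton.mp hnt
      exact hns inferInstance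
    haveI : IsSimpleGroup G := ⟨fun N hNn => by
      by_contra hne
      push Not at hne
      exact hN ⟨N, hNn, hne.1, hne.2⟩⟩
    by_cases h5 : 5 ≤ p
    · exact false_of_simple h h5 hG hsol
    · refine hns ?_
      have h4 : p = 2 ∨ p = 3 := by
        have h2 := hp.out.two_le
        have : p ≠ 4 := fun e => by
          have := hp.out; rw [e] at this; norm_num at this
        omega
      refine Lib.Char.isSolvable_of_card_eq_two_primes Nat.prime_two Nat.prime_three _ G rfl
        fun r hr hd => ?_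
      by_cases hrp : r = p
      · rcases h4 with e | e <;> omega
      · have h6 := Nat.le_of_dvd (by omega) (prime_dvd h hr hrp hd)
        have := hr.two_le
        omega

/-- Let p be a prime and G a finite group in which every subgroup of order prime to p is abelian of exponent dividing p − 1. Then G is solvable. -/
theorem result {G : Type*} [Group G] [Finite G] (p : ℕ) [Fact p.Prime] (h : ∀ H : Subgroup G, (Nat.card ↥H).Coprime p → IsMulCommutative ↥H ∧ ∀ x ∈ H, x ^ (p - 1) = 1) : Group.IsSolvable G :=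
  solvable_aux (p := p) _ G rfl h

end Cfsg.Agent.S1936
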