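import Cfsg.Statements.S1950
import Cfsg.Agent.Lib.PairSolvable.Main
import Cfsg.Agent.Lib.GenStruct.PHall
import Cfsg.Agent.Lib.Fusion.SolvableSeries

set_option autoImplicit false
open Cfsg

namespace Cfsg.Agent.S1950

open Cfsg.Agent.Lib Cfsg.Agent.Lib.PairSolvable

universe u

variable {p : ℕ} [Fact p.Prime]

theorem closure_map {G H : Type*} [Group G] [Group H] (f : G →* H) (x y : G)
    (h : IsPSolvable p (Subgroup.closure ({x, y} : Set G))) :
    IsPSolvable p (Subgroup.closure ({f x, f y} : Set H)) := by
  have e : Subgroup.closure ({f x, f y} : Set H) = (Subgroup.closure ({x, y} : Set G)).map f := by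
    rw [MonoidHom.map_closure, Set.image_pair]
  rw [e]
  exact PLength.isPSolvable_map (f.subgroupMap_surjective _) h

theorem closure_comap {G : Type u} [Group G] (N : Subgroup G) (x y : N)
    (h : IsPSolvable p (Subgroup.closure ({(x : G), (y : G)} : Set G))) :
    IsPSolvable p (Subgroup.closure ({x, y} : Set N)) := by
  have e : Subgroup.closure ({(x : G), (y : G)} : Set G) =
      (Subgroup.closure ({x, y} : Set N)).map N.subtype := by
    rw [MonoidHom.map_closure, Set.image_pair]
    rfl
  rw [e] at h
  exact PLength.isPSolvable_map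
    (f := ((Subgroup.closure ({x, y} : Set N)).equivMapOfInjective N.subtype
      N.subtype_injective).symm.toMonoidHom) (MulEquiv.surjective _) h

/-- The induction. -/
theorem psolvable_aux (n : ℕ) : ∀ (G : Type u) [Group G] [Finite G], Nat.card G = n →
    ∀ P : Sylow p G, IsCyclic (P : Subgroup G) →
      (∀ x y : G, orderOf x = p → orderOf y = p →
        IsPSolvable p (Subgroup.closure ({x, y} : Set G))) → IsPSolvable p G := by
  induction n using Nat.strong_induction_on with
  | _ n ih =>
    intro G _ _ hn P hP hpair
    have hp : p.Prime := Fact.out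
    -- proper subgroups
    have hsub : ∀ N : Subgroup G, N ≠ ⊤ → IsPSolvable p N := by
      intro N hN
      obtain ⟨S⟩ : Nonempty (Sylow p N) := inferInstance
      refine ih (Nat.card N) ?_ N rfl S ?_ fun x y hx hy =>
        closure_comap N x y (hpair x y (by rwa [Subgroup.orderOf_coe]) (by rwa [Subgroup.orderOf_coe]))
      · rw [← hn]
        exact lt_of_le_of_ne (Subgroup.card_le_card_group N) fun h =>
          hN ((Subgroup.card_eq_iff_eq_top N).1 h)
      · haveI := isCyclic_of_isPGroup hP (S.2.map N.subtype)
        exact isCyclic_of_injective (N.subtype.subgroupMap (S : Subgroup N))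
          (fun a b hab => Subtype.ext (N.subtype_injective (congrArg Subtype.val hab :)))
    by_cases hO : pPrimeCore p G = ⊥
    swap
    · -- pass to the quotient
      set N := pPrimeCore p G with hNdef
      haveI : N.Normal := by rw [hNdef]; infer_instance
      have hcop : (Nat.card N).Coprime p := Hall.coprime_card_pPrimeCore p
      refine HallHigman.isPSolvable_of_quotient N (Or.inr hcop) ?_
      set π := QuotientGroup.mk' N
      obtain hπ := QuotientGroup.mk'_surjective N
      have hlift : ∀ xb : G ⧸ N, orderOf xb = p → ∃ x : G, orderOf x = p ∧ π x = xb := by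
        intro xb hxb
        obtain ⟨g, rfl⟩ := hπ xb
        obtain ⟨z, r, hzr, hc, hz, hr⟩ := Block.exists_isPPart (p := p) g
        have hπr : π r = 1 := by
          rw [← orderOf_eq_one_iff]
          refine Nat.eq_one_of_dvd_coprimes (k := orderOf (π r)) (a := orderOf r) (b := p)
            (hp.coprime_iff_not_dvd.2 hr).symm (orderOf_map_dvd π r) ?_
          obtain ⟨-, hrm⟩ := Block.exists_pow_of_parts hzr hc hz hr
          obtain ⟨i, hi⟩ := hrm
          refine orderOf_dvd_of_pow_eq_one ?_
          rw [← hi, map_zpow, ← zpow_natCast, ← zpow_mul, mul_comm, zpow_mul, zpow_natCast, ← hxb,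
            pow_orderOf_eq_one, one_zpow]
        have hπz : π z = π g := by rw [← hzr, map_mul, hπr, mul_one]
        have hzp : z ^ p = 1 := by
          refine Block.eq_one_of_isPElem_of_regular (p := p) ?_ ?_
          · obtain ⟨i, hi⟩ := Block.isPElem_iff.1 hz
            exact Block.isPElem_iff.2 ⟨i, by rw [← pow_mul, mul_comm, pow_mul, hi, one_pow]⟩
          · have hm : z ^ p ∈ N := by
              rw [← QuotientGroup.eq_one_iff (N := N)]
              show π (z ^ p) = 1
              rw [map_pow, hπz, ← hxb, pow_orderOf_eq_one]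
            intro hd
            have h := hd.trans (by rw [← Subgroup.orderOf_mk _ hm]; exact orderOf_dvd_natCard _ :
              orderOf (z ^ p) ∣ Nat.card N)
            exact Hall.not_dvd_card_pPrimeCore hp h
        refine ⟨z, ((Nat.dvd_prime hp).1 (orderOf_dvd_of_pow_eq_one hzp)).resolve_left fun h => ?_,
          hπz⟩
        rw [orderOf_eq_one_iff.1 h, map_one] at hπz
        rw [← hπz, orderOf_one] at hxb
        exact hp.one_lt.ne hxb
      refine ih (Nat.card (G ⧸ N)) ?_ (G ⧸ N) rfl (P.mapSurjective hπ) ?_ fun xb yb hx hy => ?_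
      · rw [← hn, ← N.card_mul_index, Subgroup.index_eq_card]
        exact lt_mul_left Nat.card_pos (N.one_lt_card_iff_ne_bot.mpr hO)
      · haveI := hP
        rw [Sylow.coe_mapSurjective]
        exact isCyclic_of_surjective ((QuotientGroup.mk' N).subgroupMap (P : Subgroup G))
          (MonoidHom.subgroupMap_surjective _ _)
      · obtain ⟨x, hx', rfl⟩ := hlift xb hx
        obtain ⟨y, hy', rfl⟩ := hlift yb hy
        exact closure_map π x y (hpair x y hx' hy')
    -- a cyclic normal subgroup of order p
    by_cases hZ : ∃ z : G, orderOf z = p ∧ (Subgroup.zpowers z).Normal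
    · obtain ⟨z, hz, hzn⟩ := hZ
      set C := Subgroup.centralizer ({z} : Set G) with hC
      have hact : ∀ g : G, ∃ a : ℕ, g * z * g⁻¹ = z ^ a := fun g => by
        obtain ⟨a, ha⟩ := (isOfFinOrder_of_finite z).mem_powers_iff_mem_zpowers.2
          (hzn.conj_mem z (Subgroup.mem_zpowers z) g)
        exact ⟨a, ha.symm⟩
      haveI : C.Normal := ⟨fun c hc g => by
        rw [hC, Subgroup.mem_centralizer_singleton_iff] at hc ⊢
        obtain ⟨a, ha⟩ := hact g⁻¹
        rw [inv_inv] at ha
        have hca : c * (g⁻¹ * z * g) = (g⁻¹ * z * g) * c := by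
          rw [ha]; exact (show Commute c z from hc).pow_right a
        calc g * c * g⁻¹ * z = g * (c * (g⁻¹ * z * g)) * g⁻¹ := by group
          _ = _ := by rw [hca]; group⟩
      by_cases hCt : C = ⊤
      · -- central: a normal complement
        have hzP : z ∈ (P : Subgroup G) := by
          have hpg : IsPGroup p (Subgroup.zpowers z) :=
            Block.IsPElem.isPGroup_zpowers ⟨1, by rw [hz, pow_one]⟩
          exact Hall.pCore_le_sylow P (Hall.le_pCore hpg (Subgroup.mem_zpowers z))
        have hNC : Subgroup.normalizer ((P : Subgroup G) : Set G) ≤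
            Subgroup.centralizer ((P : Subgroup G) : Set G) := fun g hg =>
          mem_centralizer_of_fix hP hzP hz hg (by
            have hgC : g ∈ C := hCt ▸ Subgroup.mem_top g
            rw [hC, Subgroup.mem_centralizer_singleton_iff] at hgC
            rw [hgC, mul_inv_cancel_right])
        set K := (MonoidHom.transferSylow P hNC).ker with hK
        have hKc : ¬ p ∣ Nat.card K := MonoidHom.not_dvd_card_ker_transferSylow P hNC
        obtain ⟨a, ha⟩ := IsPGroup.iff_card.1 P.2
        refine HallHigman.isPSolvable_of_quotient K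
          (Or.inr (hp.coprime_iff_not_dvd.2 hKc).symm) (isPSolvable_of_card (Or.inl ⟨a, ?_⟩))
        rw [← ha, ← Subgroup.index_eq_card,
          (MonoidHom.ker_transferSylow_isComplement' P hNC).symm.index_eq_card]
      · refine Fusion.SolvableSeries.isPSolvable_of_normal C (hsub C hCt) (Or.inr fun g => ⟨p - 1, ?_, ?_⟩)
        · exact ((hp.coprime_iff_not_dvd).2 fun h => absurd
            (Nat.le_of_dvd (by have := hp.two_le; omega) h) (by have := hp.two_le; omega)).symm
        · obtain ⟨a, ha⟩ := hact g
          have hiter : ∀ i : ℕ, g ^ i * z * (g ^ i)⁻¹ = z ^ (a ^ i) := by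
            intro i
            induction i with
            | zero => simp
            | succ i ih =>
              calc g ^ (i + 1) * z * (g ^ (i + 1))⁻¹ = g * (g ^ i * z * (g ^ i)⁻¹) * g⁻¹ := by
                    rw [pow_succ']; group
                _ = (g * z * g⁻¹) ^ (a ^ i) := by rw [ih, conj_pow]
                _ = z ^ (a ^ (i + 1)) := by rw [ha, ← pow_mul, pow_succ']
          have ha0 : ¬ p ∣ a := fun h => by
            have h1 : g * z * g⁻¹ = 1 := by
              rw [ha]; exact orderOf_dvd_iff_pow_eq_one.1 (hz ▸ h)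
            rw [mul_inv_eq_one] at h1
            have h2 : z = 1 := mul_left_cancel (h1.trans (mul_one g).symm)
            rw [h2, orderOf_one] at hz
            exact hp.one_lt.ne hz
          rw [hC, Subgroup.mem_centralizer_singleton_iff]
          have h := hiter (p - 1)
          rw [show z ^ a ^ (p - 1) = z by
            conv_rhs => rw [← pow_one z]
            rw [pow_eq_pow_iff_modEq, hz, ← ZMod.natCast_eq_natCast_iff, Nat.cast_pow, Nat.cast_one]
            exact ZMod.pow_card_sub_one_eq_one fun h => ha0 ((ZMod.natCast_eq_zero_iff a p).1 h)] at h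
          exact mul_inv_eq_iff_eq_mul.1 h
    by_cases hs : ∀ N : Subgroup G, N.Normal → N = ⊥ ∨ N = ⊤
    swap
    · -- a proper normal subgroup
      push Not at hs
      obtain ⟨N, hNn, hN1, hN2⟩ := hs
      exfalso
      have hNs := hsub N hN2
      haveI := hNn
      have hON : pPrimeCore p N = ⊥ := by
        refine (Subgroup.map_eq_bot_iff_of_injective _ N.subtype_injective).1 (le_bot_iff.1 ?_)
        exact hO ▸ Char2.map_pPrimeCore_le_of_isSubnormal p hNn.isSubnormal
      have hQ1 : pCore p N ≠ ⊥ := fun h => hN1 (by
        have hc := LocalFusion.centralizer_pCore_le_of_isPSolvable hNs hON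
        rw [h] at hc
        rw [eq_bot_iff]
        intro g hg
        have h1 : (⟨g, hg⟩ : N) ∈ (⊥ : Subgroup N) := hc
          (Subgroup.mem_centralizer_iff.2 fun k hk => by
            rw [SetLike.mem_coe, Subgroup.mem_bot] at hk
            rw [hk, one_mul, mul_one])
        rw [Subgroup.mem_bot] at h1 ⊢
        exact congrArg Subtype.val h1)
      set Q := (pCore p N).map N.subtype with hQdef
      have hQle : Q ≤ pCore p G := Char2.map_pCore_le_of_isSubnormal p hNn.isSubnormal
      have hcp : pCore p G ≠ ⊥ := fun h => hQ1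
        ((Subgroup.map_eq_bot_iff_of_injective _ N.subtype_injective).1 (le_bot_iff.1 (h ▸ hQle)))
      haveI hcn : (pCore p G).Normal := pCore_normal p G
      obtain ⟨w, hw⟩ := exists_prime_orderOf_dvd_card' (G := pCore p G) p (by
        obtain ⟨k, hk⟩ := IsPGroup.iff_card.1 (Hall.isPGroup_pCore (G := G) p)
        rw [hk]
        refine dvd_pow_self p ?_
        rintro rfl
        exact hcp (Subgroup.card_eq_one.1 (by rw [hk, pow_zero])))
      refine hZ ⟨(w : G), by rw [Subgroup.orderOf_coe, hw], ⟨fun u hu g => ?_⟩⟩
      have huQ : u ∈ pCore p G := Subgroup.zpowers_le.2 w.2 hu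
      refine mem_zpowers_of_pow_eq_one (isCyclic_of_isPGroup hP (Hall.isPGroup_pCore p)) w.2
        ((Subgroup.orderOf_coe w).trans hw) (hcn.conj_mem u huQ g) ?_
      obtain ⟨i, rfl⟩ := hu
      have hwp : (w : G) ^ p = 1 :=
        orderOf_dvd_iff_pow_eq_one.1 ((Subgroup.orderOf_coe w).trans hw).dvd
      rw [conj_pow, ← zpow_natCast _ p, ← zpow_mul, mul_comm, zpow_mul, zpow_natCast, hwp, one_zpow,
        mul_one, mul_inv_cancel]
    by_cases hdvd : p ∣ Nat.card G
    swap
    · exact isPSolvable_of_card (Or.inr (hp.coprime_iff_not_dvd.2 hdvd).symm)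
    haveI : Nontrivial G := Finite.one_lt_card_iff_nontrivial.1
      (hp.one_lt.trans_le (Nat.le_of_dvd Nat.card_pos hdvd))
    haveI : IsSimpleGroup G := ⟨fun N hN => hs N hN⟩
    by_cases hNC : Subgroup.normalizer ((P : Subgroup G) : Set G) ≤
        Subgroup.centralizer ((P : Subgroup G) : Set G)
    · obtain ⟨a, ha⟩ := IsPGroup.iff_card.1 P.2
      refine HallHigman.isPSolvable_of_quotient (MonoidHom.transferSylow P hNC).ker
        (Or.inr (hp.coprime_iff_not_dvd.2 (MonoidHom.not_dvd_card_ker_transferSylow P hNC)).symm)
        (isPSolvable_of_card (Or.inl ⟨a, ?_⟩))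
      rw [← ha, ← Subgroup.index_eq_card,
        (MonoidHom.ker_transferSylow_isComplement' P hNC).symm.index_eq_card]
    · exact (false_of_pairs hP hNC hpair).elim

/-- Let G be a finite group whose Sylow p-subgroups are cyclic. Then G is p-solvable if and only if every two elements of order p of G generate a p-solvable subgroup. -/
theorem result {G : Type*} [Group G] [Finite G] {p : ℕ} [Fact p.Prime] (P : Sylow p G) (hP : IsCyclic ↥(P : Subgroup G)) :
    Cfsg.IsPSolvable p G ↔ ∀ x y : G, orderOf x = p → orderOf y = p → Cfsg.IsPSolvable p ↥(Subgroup.closure ({x, y} : Set G)) := by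
  exact ⟨fun h x y _ _ => GenStruct.PHall.isPSolvable_subgroup h _,
    fun h => psolvable_aux (Nat.card G) G rfl P hP h⟩

end Cfsg.Agent.S1950
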