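import Cfsg.Statements.S5206
import Cfsg.Agent.Lib.Fusion.LocalGroup
import Cfsg.Agent.Lib.Fusion.QdAction
import Cfsg.Agent.Lib.Fusion.Involves

set_option autoImplicit false
universe u
open Cfsg Cfsg.FusionSystem Cfsg.Agent.Lib.Fusion
open scoped commutatorElement

namespace Cfsg.Agent.S5206

/-- Let p be an odd prime, G a finite group and P a Sylow p-subgroup of G. Then the fusion system of G on P is Qd(p)-free (Qd(p), the natural semidirect product of an elementary abelian group of order p² by SL₂(p), is not involved in any model of the normalizer system of a fully normalized centric subgroup) if and only if Qd(p) is not involved in G. -/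
theorem result {G : Type u} [Group G] [Finite G] {p : ℕ} [Fact p.Prime] (hp : p ≠ 2) (P : Sylow p G) : (Cfsg.groupFusionSystem (P : Subgroup G)).IsSectionFree p ↥(Cfsg.qd p) ↔ ¬ Cfsg.Involves ↥(Cfsg.qd p) G := by
  constructor
  · intro hfree hinv
    obtain ⟨K, R, hKR⟩ := exists_qdAction_of_involves hinv
    obtain ⟨hRK, hRp, hKN, -⟩ := id hKR
    set C := Subgroup.centralizer (R : Set G) with hC
    obtain ⟨D, hD, -⟩ := exists_isSylowIn (p := p) (K := C) (R := ⊥) bot_le IsPGroup.of_bot
    have hRD : R ≤ Subgroup.normalizer (D : Set G) := by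
      intro r hr
      refine mem_normalizer_of_conj_mem fun d hd => ?_
      rw [(Subgroup.mem_centralizer_iff.1 (hD.1 hd) r hr), mul_inv_cancel_right]
      exact hd
    set Q₀ := R ⊔ D
    have hQ₀p : IsPGroup p Q₀ := hRp.to_sup_of_normal_right' hD.2.1 hRD
    -- the normalizer of `D` still induces everything on `R`
    have hK₁ : ∀ k ∈ K, ∃ c ∈ C, c * k ∈ Subgroup.normalizer (D : Set G) := by
      intro k hk
      obtain ⟨c, hc, hck⟩ := hD.exists_conj_le (R := D.map (MulAut.conj k).toMonoidHom)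
        ((Subgroup.map_mono hD.1).trans (by
          have h1 := equivariant_centralizer.map_le k R
          rwa [show cj k R = R from Subgroup.mem_normalizer_iff_map_conj_eq.1 (hKN hk)] at h1))
        (hD.2.1.map _)
      exact ⟨c, hc, mem_normalizer_of_conj_mem fun x hx => by
        simpa [mul_assoc] using hck _ ⟨x, hx, rfl⟩⟩
    set K₁ := (K ⊔ C) ⊓ Subgroup.normalizer (D : Set G)
    have hcj : ∀ c ∈ C, ∀ r ∈ R, c * r * c⁻¹ = r := fun c hc r hr => by
      rw [← Subgroup.mem_centralizer_iff.1 hc r hr, mul_inv_cancel_right]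
    have hsupN : K ⊔ C ≤ Subgroup.normalizer (R : Set G) :=
      sup_le hKN (equivariant_centralizer.le_normalizer R)
    have hact₁ : QdAction p K₁ R := by
      obtain ⟨-, -, -, π, hadd, hsurj, hact, hlin⟩ := hKR
      refine ⟨le_inf (hRK.trans le_sup_left) hRD, hRp, inf_le_left.trans hsupN, π, hadd, hsurj,
        fun x hx => ?_, fun M => ?_⟩
      · have hKC : K ≤ Subgroup.normalizer (C : Set G) := fun k hk =>
          mem_normalizer_of_conj_mem fun c hc => by
            have h1 := equivariant_centralizer.map_le k R ⟨c, hc, rfl⟩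
            rwa [show cj k R = R from Subgroup.mem_normalizer_iff_map_conj_eq.1 (hKN hk)] at h1
        obtain ⟨k, hk, c, hc, rfl⟩ := mem_sup_of_normalizes hKC hx.1
        obtain ⟨M, hM⟩ := hact k hk
        refine ⟨M, fun r hr => ?_⟩
        rw [show k * c * r * (k * c)⁻¹ = k * (c * r * c⁻¹) * k⁻¹ by group, hcj c hc r hr]
        exact hM r hr
      · obtain ⟨k, hk, hM⟩ := hlin M
        obtain ⟨c, hc, hck⟩ := hK₁ k hk
        refine ⟨c * k, ⟨mul_mem (Subgroup.mem_sup_right hc) (Subgroup.mem_sup_left hk), hck⟩,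
          fun r hr => ?_⟩
        rw [show c * k * r * (c * k)⁻¹ = c * (k * r * k⁻¹) * c⁻¹ by group,
          hcj c hc _ (conj_mem_of_mem_normalizer (hKN hk) hr)]
        exact hM r hr
    have hK₁Q : K₁ ≤ Subgroup.normalizer (Q₀ : Set G) := fun x hx => by
      refine mem_normalizer_of_conj_mem fun y hy => ?_
      have h2 : Q₀.map (MulAut.conj x).toMonoidHom = Q₀ := by
        rw [Subgroup.map_sup]
        exact congrArg₂ _ (map_conj_eq (hsupN hx.1)) (map_conj_eq hx.2)
      exact h2 ▸ ⟨y, hy, rfl⟩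
    obtain ⟨T', hT'⟩ := hQ₀p.exists_le_sylow
    obtain ⟨a, ha⟩ := MulAction.exists_smul_eq G T' P
    have haQ : cj a Q₀ ≤ (P : Subgroup G) := by
      rintro _ ⟨x, hx, rfl⟩
      rw [← ha, Sylow.coe_subgroup_smul]
      exact Subgroup.smul_mem_pointwise_smul _ (MulAut.conj a) _ (hT' hx)
    obtain ⟨Q, hconj, hQn⟩ :=
      exists_fullyNormalized (F := groupFusionSystem (P : Subgroup G)) haQ
    obtain ⟨φ, ⟨-, -, b, hb⟩, hφr⟩ := hconj
    set g := b * a
    have hQ : cj g Q₀ = Q := by
      rw [← cj_cj, ← hφr]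
      ext y
      constructor
      · rintro ⟨x, hx, rfl⟩
        exact ⟨⟨x, hx⟩, hb _⟩
      · rintro ⟨x, rfl⟩
        exact ⟨x, x.2, (hb x).symm⟩
    have hQc : (groupFusionSystem (P : Subgroup G)).IsCentric Q := by
      refine ⟨hQn.1, fun Q' hQ' => ?_⟩
      obtain ⟨ψ, ⟨-, hψS, c, hc⟩, hψr⟩ := hQ'
      set h := c * g
      have hQ'eq : cj h Q₀ = Q' := by
        rw [← cj_cj, hQ, ← hψr]
        ext y
        constructor
        · rintro ⟨x, hx, rfl⟩
          exact ⟨⟨x, hx⟩, hc _⟩
        · rintro ⟨x, rfl⟩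
          exact ⟨x, x.2, (hc x).symm⟩
      intro x hx
      have hxp : x ∈ (P : Subgroup G) ⊓ cj h C := by
        refine ⟨(mem_centralizerIn.1 hx).1, ⟨h⁻¹ * x * h, ?_, by simp; group⟩⟩
        refine Subgroup.mem_centralizer_iff.2 fun r hr => ?_
        have h1 := (mem_centralizerIn.1 hx).2 (h * r * h⁻¹)
          (hQ'eq ▸ ⟨r, Subgroup.mem_sup_left hr, rfl⟩)
        calc r * (h⁻¹ * x * h) = h⁻¹ * (h * r * h⁻¹ * x) * h := by group
          _ = h⁻¹ * (x * (h * r * h⁻¹)) * h := by rw [h1]
          _ = h⁻¹ * x * h * r := by group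
      have hback : cj h⁻¹ ((P : Subgroup G) ⊓ cj h C) = D := by
        refine hD.eq_of_le ?_ ?_ ((P.isPGroup'.to_le inf_le_left).map _)
        · intro d hd
          refine ⟨h * d * h⁻¹, ⟨?_, ⟨d, hD.1 hd, rfl⟩⟩, by simp; group⟩
          obtain ⟨y, hy⟩ := (hψr ▸ hQ'eq ▸ ⟨d, Subgroup.mem_sup_right hd, rfl⟩ :
            h * d * h⁻¹ ∈ ψ.range)
          exact hy ▸ hψS y
        · exact (Subgroup.map_mono inf_le_right).trans (le_of_eq
            (show cj h⁻¹ (cj h C) = C by rw [cj_cj, inv_mul_cancel, cj_one]))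
      have h2 : h⁻¹ * x * h ∈ D := hback ▸ ⟨x, hxp, by simp⟩
      rw [← hQ'eq]
      exact ⟨_, Subgroup.mem_sup_right h2, by simp; group⟩
    obtain ⟨N, hN⟩ := exists_normalizerSystem (groupFusionSystem (P : Subgroup G)) hQn.1
    obtain ⟨L, _, ι, hL⟩ := exists_model (P.isPGroup'.to_le inf_le_left)
      (normalizerSystem_constrained P.isPGroup' (groupFusionSystem_saturated P) hQn hQc hN)
    obtain ⟨f, -, hf⟩ := exists_group_model_hom P hQn hQc hN hL
    obtain ⟨hfin, hreal, -, -⟩ := id hL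
    let κ : Subgroup.normalizer (Q₀ : Set G) →* Subgroup.normalizer (Q : Set G) :=
      ((MulAut.conj g).toMonoidHom.comp (Subgroup.normalizer (Q₀ : Set G)).subtype).codRestrict _
        fun x => hQ ▸ mem_normalizer_map (MulAut.conj g).toMonoidHom x.2
    refine hfree Q hQn hQc N hN L ι hL (involves_qd_of_qdAction hp
      (hact₁.map hK₁Q (f.comp κ) fun r hr h1 => ?_))
    have hrQ : g * r * g⁻¹ ∈ Q := hQ ▸ ⟨r, Subgroup.mem_sup_left hr, rfl⟩
    have h2 := hf ⟨_, le_normalizerIn hQn.1 hrQ⟩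
    rw [MonoidHom.comp_apply] at h1
    rw [show (⟨((⟨_, le_normalizerIn hQn.1 hrQ⟩ : normalizerIn (P : Subgroup G) Q) : G),
      (le_normalizerIn hQn.1 hrQ).2⟩ : Subgroup.normalizer (Q : Set G)) = κ r from rfl, h1] at h2
    have h3 := congrArg Subtype.val (hreal.1 (h2.symm.trans (map_one ι).symm))
    exact Subtype.ext (conj_eq_one_iff.1 h3)
  · intro hG Q hn hc N hN L _ ι hL hinv
    obtain ⟨f, hf, -⟩ := exists_group_model_hom P hn hc hN hL
    obtain ⟨K, h, hh⟩ := exists_surjective_of_involves hinv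
    exact hG (involves_mono (Subgroup.normalizer (Q : Set G)).subtype (Subgroup.subtype_injective _)
      (involves_of_surjective (h.comp (f.subgroupComap K))
        (hh.comp (MonoidHom.subgroupComap_surjective_of_surjective f K hf))))

end Cfsg.Agent.S5206
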