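import Cfsg.Statements.S1988
import Cfsg.Agent.Lib.KInf.NPCSec
import Cfsg.Agent.Lib.KInf.FusionK
import Cfsg.Agent.S1978
-- import your own Cfsg.Agent.* helpers here

set_option autoImplicit false
universe u
open Cfsg

namespace Cfsg.Agent.S1988

open Cfsg.Agent.Lib.KInf in
/-- If the `p'`-elements of `N(U)` centralise `U`, a self-centralising subgroup of a Sylow subgroup `S` inside `N(U)`,
then `N(U)` has a normal `p`-complement. -/
lemma npc_normalizer {G : Type u} [Group G] [Finite G] {p : ℕ} [Fact p.Prime] (S : Sylow p G) {U : Subgroup G}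
    (hSN : (S : Subgroup G) ≤ Subgroup.normalizer (U : Set G))
    (hcU : (S : Subgroup G) ⊓ Subgroup.centralizer (U : Set G) ≤ U)
    (h : ∀ g ∈ Subgroup.normalizer (U : Set G), (orderOf g).Coprime p → g ∈ Subgroup.centralizer (U : Set G)) :
    Cfsg.HasNormalPComplement p ↥(Subgroup.normalizer (U : Set G)) := by
  refine Lib.Transfer.frobenius_criterion (Lib.Transfer.autPGroup_of_sylow (S.subtype hSN) ?_)
  intro Q hQ g hg hgo
  let V := Subgroup.normalizer (U : Set G)
  have hQS : ∀ q ∈ Q, (q : G) ∈ (S : Subgroup G) := fun q hq => hQ hq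
  have hgU : (g : G) ∈ Subgroup.centralizer (U : Set G) := h g g.2 (by rwa [Subgroup.orderOf_coe])
  have hQp : IsPGroup p ↥Q := (S.subtype hSN).2.to_le hQ
  refine Lib.Thompson.mem_centralizer_of_factor hQp
    (inf_le_left : Q ⊓ (Subgroup.centralizer (U : Set G)).subgroupOf V ≤ Q) hgo ?_ ?_
  · rintro e ⟨he, heC⟩
    exact Subtype.ext (hgU (e : G) (hcU ⟨hQS e he, heC⟩))
  · intro q hq
    refine ⟨Q.mul_mem (Q.inv_mem hq) ((Subgroup.mem_normalizer_iff.1 hg q).1 hq), ?_⟩
    intro u hu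
    have hqu : (q : G) * u * (q : G)⁻¹ ∈ U := (Subgroup.mem_normalizer_iff.1 q.2 u).1 hu
    show u * ((q : G)⁻¹ * ((g : G) * q * (g : G)⁻¹)) = (q : G)⁻¹ * ((g : G) * q * (g : G)⁻¹) * u
    have hga : ∀ w ∈ U, (g : G)⁻¹ * w = w * (g : G)⁻¹ := fun w hw =>
      (((Subgroup.centralizer (U : Set G)).inv_mem hgU) w hw).symm
    calc u * ((q : G)⁻¹ * ((g : G) * q * (g : G)⁻¹))
        = (q : G)⁻¹ * (((q : G) * u * (q : G)⁻¹) * (g : G)) * q * (g : G)⁻¹ := by group
      _ = (q : G)⁻¹ * (g : G) * q * (u * (g : G)⁻¹) := by rw [hgU _ hqu]; group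
      _ = (q : G)⁻¹ * (g : G) * q * ((g : G)⁻¹ * u) := by rw [hga u hu]
      _ = _ := by group

/-- Let p be an odd prime, G a finite group with Sylow p-subgroup S and K the lower K-infinity subgroup of S. If N_G(K) has a normal p-complement, or if N_G(K)/C_G(K) is a p-group (every element of N_G(K) of order prime to p centralizes K), then G has a normal p-complement. -/
theorem result {G : Type u} [Group G] [Finite G] {p : ℕ} [Fact p.Prime] (hp : p ≠ 2) (S : Sylow p G) (h : Cfsg.HasNormalPComplement p ↥(Subgroup.normalizer ((Cfsg.inducedFunctor Cfsg.kInfLower (S : Subgroup G) : Subgroup G) : Set G)) ∨ ∀ g ∈ Subgroup.normalizer ((Cfsg.inducedFunctor Cfsg.kInfLower (S : Subgroup G) : Subgroup G) : Set G), (orderOf g).Coprime p → g ∈ Subgroup.centralizer ((Cfsg.inducedFunctor Cfsg.kInfLower (S : Subgroup G) : Subgroup G) : Set G)) : Cfsg.HasNormalPComplement p G := by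
  open Cfsg.Agent.Lib.KInf in
  have hW := isCharPFunctor_kInfLower.{u} p
  have hN : Cfsg.HasNormalPComplement p ↥(Subgroup.normalizer
      ((Cfsg.inducedFunctor Cfsg.kInfLower (S : Subgroup G) : Subgroup G) : Set G)) := by
    refine h.elim id (npc_normalizer S
      (Cfsg.Agent.Lib.LocalFusion.le_normalizer_functor (Cfsg.Agent.Lib.KInf.isConjugacyFunctor_induced hW) S.2) ?_)
    rintro x ⟨hxS, hxC⟩
    refine ⟨⟨x, hxS⟩, (Cfsg.Agent.S1978.result S.2).1 ?_, rfl⟩
    exact fun y hy => Subtype.ext (hxC _ ⟨y, hy, rfl⟩)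
  refine Cfsg.Agent.Lib.KInf.npc_sections_aux hp hW (G₀ := G) ?_ _ G Cfsg.Agent.Lib.KInf.IsSec.refl S rfl hN
  intro X _ _ _ h2 T
  refine Cfsg.Agent.Lib.KInf.csf_of_sf (Cfsg.Agent.Lib.KInf.sf_kInf ?_ hW (fun _ _ _ h => Or.inl h) X Cfsg.Agent.Lib.KInf.IsSec.refl) T
  intro K R _
  exact Cfsg.Agent.Lib.KInf.isNormalizerPStable_of_abTwo hp
    ((h2.subgroup K).of_surj (QuotientGroup.mk' _) (QuotientGroup.mk'_surjective _))

end Cfsg.Agent.S1988
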