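import Cfsg.Statements.S1990
import Cfsg.Agent.Lib.KInf.NPCSec
-- import your own Cfsg.Agent.* helpers here

set_option autoImplicit false
universe u
open Cfsg

namespace Cfsg.Agent.S1990

/-- Let p be an odd prime, G a finite group with Sylow p-subgroup S, and W an isomorphism-invariant p-group functor (W assigns to every group Q a subgroup W(Q), nontrivial whenever Q is a nontrivial finite p-group, and every isomorphism from a finite p-group Q onto a group R carries W(Q) onto W(R)). Suppose N_G(W(S)) has a normal p-complement, and W(T) controls strong fusion in every section G* = K/R of G all of whose sections are p-stable in the normalizer form, for every Sylow p-subgroup T of G*. Then G has a normal p-complement. -/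
theorem result {G : Type u} [Group G] [Finite G] {p : ℕ} [Fact p.Prime] (hp : p ≠ 2) (W : ∀ (Q : Type u) [Group Q], Subgroup Q) (hW : Cfsg.IsCharPFunctor.{u} p W) (S : Sylow p G) (hN : Cfsg.HasNormalPComplement p ↥(Subgroup.normalizer ((Cfsg.inducedFunctor (G := G) W (S : Subgroup G) : Subgroup G) : Set G))) (hctl : ∀ (K R : Subgroup G) [hR : (R.subgroupOf K).Normal], (∀ (K' R' : Subgroup (↥K ⧸ R.subgroupOf K)) [hR' : (R'.subgroupOf K').Normal], Cfsg.IsNormalizerPStable p (↥K' ⧸ R'.subgroupOf K')) → ∀ T : Sylow p (↥K ⧸ R.subgroupOf K), Cfsg.ControlsStrongFusion p (Cfsg.inducedFunctor (G := (↥K ⧸ R.subgroupOf K)) W (T : Subgroup (↥K ⧸ R.subgroupOf K)))) : Cfsg.HasNormalPComplement p G := by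
  refine Cfsg.Agent.Lib.KInf.npc_sections_aux hp hW (G₀ := G) ?_ _ G Cfsg.Agent.Lib.KInf.IsSec.refl S rfl hN
  intro X _ _ hX h2 T
  obtain ⟨K, R, hn, ⟨e⟩⟩ := hX.exists_quot
  have hQ : Cfsg.Agent.Lib.KInf.AbTwo (↥K ⧸ R.subgroupOf K) := h2.of_surj e.symm.toMonoidHom e.symm.surjective
  have hst : ∀ (K' R' : Subgroup (↥K ⧸ R.subgroupOf K)) [hR' : (R'.subgroupOf K').Normal],
      Cfsg.IsNormalizerPStable p (↥K' ⧸ R'.subgroupOf K') := fun K' R' _ =>
    Cfsg.Agent.Lib.KInf.isNormalizerPStable_of_abTwo hp
      ((hQ.subgroup K').of_surj (QuotientGroup.mk' _) (QuotientGroup.mk'_surjective _))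
  have hs : Function.Surjective e.symm.toMonoidHom := e.symm.surjective
  have hc := Cfsg.Agent.Lib.KInf.csf_of_equiv e (hctl K R hst (T.mapSurjective hs))
  rw [← Cfsg.Agent.Lib.KInf.induced_map_equiv hW e (T.mapSurjective hs).2, Sylow.coe_mapSurjective,
    Subgroup.map_map] at hc
  rwa [show e.toMonoidHom.comp e.symm.toMonoidHom = MonoidHom.id X from MonoidHom.ext fun x => e.apply_symm_apply x,
    Subgroup.map_id] at hc

end Cfsg.Agent.S1990
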