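import Cfsg.Statements.S1997
import Cfsg.Agent.Lib.KInf.FusionCor
import Cfsg.Agent.Lib.KInf.KFunctor
import Cfsg.Agent.Lib.KInf.NPCSec
import Cfsg.Agent.Lib.Hall.Systems

set_option autoImplicit false
universe u
open Cfsg

namespace Cfsg.Agent.S1997

open Subgroup
open Cfsg.Agent.Lib.KInf Cfsg.Agent.Lib.LocalFusion

variable {G : Type u} [Group G] [Finite G] {p : ℕ} [hp : Fact p.Prime]

/-- Elements normalising `W₁(S)` are products of an element centralising `Z` and one normalising `W₂(S)`. -/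
theorem subset_mul (W₂ : ∀ (Q : Type u) [Group Q], Subgroup Q) (hW₂ : Cfsg.IsCharPFunctor.{u} p W₂)
    (S : Sylow p G) (Z B : Subgroup G) (hBp : IsPGroup p B) (hZB : Z ≤ B) (hBS : B ≤ (S : Subgroup G))
    (hZ1 : ∀ z ∈ Z, z ^ p = 1) (hZc : ∀ z ∈ Z, ∀ s ∈ (S : Subgroup G), s * z = z * s)
    (hfac : ∀ (K R : Subgroup G) [hR : (R.subgroupOf K).Normal], Subgroup.centralizer ((Cfsg.pCore p (↥K ⧸ R.subgroupOf K) : Subgroup (↥K ⧸ R.subgroupOf K)) : Set (↥K ⧸ R.subgroupOf K)) ≤ Cfsg.pCore p (↥K ⧸ R.subgroupOf K) → ∀ T : Sylow p (↥K ⧸ R.subgroupOf K), ∀ x : (↥K ⧸ R.subgroupOf K), ∃ a ∈ Subgroup.centralizer ((Cfsg.omegaOne p ((T : Subgroup (↥K ⧸ R.subgroupOf K)) ⊓ Subgroup.centralizer (((T : Subgroup (↥K ⧸ R.subgroupOf K)) : Subgroup (↥K ⧸ R.subgroupOf K)) : Set (↥K ⧸ R.subgroupOf K))) : Subgroup (↥K ⧸ R.subgroupOf K)) : Set (↥K ⧸ R.subgroupOf K)), ∃ b ∈ Subgroup.normalizer ((Cfsg.inducedFunctor (G := (↥K ⧸ R.subgroupOf K)) W₂ (T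 : Subgroup (↥K ⧸ R.subgroupOf K)) : Subgroup (↥K ⧸ R.subgroupOf K)) : Set (↥K ⧸ R.subgroupOf K)), x = a * b) :
    ∀ H : Subgroup G, (S : Subgroup G) ≤ H → H ≤ normalizer (B : Set G) → ∀ x ∈ H,
      ∃ c ∈ centralizer (Z : Set G),
        ∃ b ∈ normalizer ((Cfsg.inducedFunctor (G := G) W₂ (S : Subgroup G) : Subgroup G) : Set G), x = c * b := by
  intro H
  induction hn : Nat.card H using Nat.strong_induction_on generalizing H with
  | _ n ih =>
  intro hSH hHB
  subst hn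
  -- the cores of `H`
  set BH := B.subgroupOf H with hBH
  have hBHn : BH.Normal := normal_subgroupOf_of_le_normalizer hHB
  set QH := Cfsg.pCore p H with hQH
  have hBQ : BH ≤ QH := Lib.Hall.le_pCore hBp.comap_subtype
  have : QH.Normal := Lib.Hall.pCore_normal p
  set C := centralizer (QH : Set H) with hC
  have hCn : C.Normal := normal_centralizer
  have hCZ : ∀ k ∈ C, (k : G) ∈ centralizer (Z : Set G) := fun k hk => mem_centralizer_iff.mpr fun z hz => by
    have h1 := mem_centralizer_iff.mp hk ⟨z, hSH (hBS (hZB hz))⟩ (hBQ (mem_subgroupOf.mpr (hZB hz)))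
    exact congrArg Subtype.val h1
  let SH : Sylow p H := S.subtype hSH
  set D := (SH : Subgroup H) ⊓ C with hD
  set M := normalizer (D : Set H) with hM
  by_cases hMtop : M = ⊤
  swap
  · -- Frattini
    intro x hx
    have hSM : (SH : Subgroup H) ≤ M := fun s hs => by
      rw [hM, mem_normalizer_iff]
      intro y
      exact and_congr (mem_normalizer_iff.mp (le_normalizer hs) y)
        (mem_normalizer_iff.mp ((normalizer_eq_top C).ge (mem_top s)) y)
    have hcover : M ⊔ C = ⊤ := by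
      obtain ⟨T, hT⟩ := Lib.Transfer.exists_sylow_subgroupOf (H := C) (SH.2.to_le inf_le_left : IsPGroup p D)
        inf_le_right (by
          intro hd
          apply SH.not_dvd_index
          have h1 : D.relIndex C = (SH : Subgroup H).relIndex C := inf_relIndex_right _ _
          rw [h1] at hd
          exact hd.trans (Lib.Hall.relIndex_normal_dvd_index _ C))
      have h2 := Sylow.normalizer_sup_eq_top T
      rwa [hT, map_subgroupOf_eq_of_le inf_le_right] at h2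
    obtain ⟨m, hm, k, hk, hmk⟩ := mem_sup_of_normal_right.mp (hcover.symm ▸ mem_top (⟨x, hx⟩ : H))
    have hlt : Nat.card (M.map H.subtype) < Nat.card H := by
      rw [card_map_of_injective H.subtype_injective]
      exact Lib.Coprime.card_lt_of_ne_top hMtop
    obtain ⟨c, hc, b, hb, hcb⟩ := ih _ hlt (M.map H.subtype) rfl
      (fun s hs => ⟨⟨s, hSH hs⟩, hSM hs, rfl⟩) ((map_subtype_le M).trans hHB) m (mem_map_of_mem _ hm)
    refine ⟨((m * k * m⁻¹ : H) : G) * c, mul_mem (hCZ _ (hCn.conj_mem k hk m)) hc, b, hb, ?_⟩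
    have hxv : x = (m : G) * k := (congrArg Subtype.val hmk).symm
    calc x = ((m * k * m⁻¹ : H) : G) * (m : G) := by
          rw [hxv]; push_cast; group
      _ = _ := by
          rw [show (m : G) = c * b from hcb]; group
  -- the constrained case
  have hDn : D.Normal := normalizer_eq_top_iff.mp hMtop
  have hDp : IsPGroup p D := SH.2.to_le inf_le_left
  have hDQ : D ≤ QH := Lib.Hall.le_pCore hDp
  set R := Cfsg.pPrimeCore p H with hR
  have : R.Normal := Lib.Hall.pPrimeCore_normal p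
  have hRQ : QH ⊓ R = ⊥ := by
    refine disjoint_iff.mp (disjoint_of_coprime_natCard ?_)
    obtain ⟨k, hk⟩ := (Lib.Hall.isPGroup_pCore (G := H) p).exists_card_eq
    exact hk ▸ (Lib.Hall.coprime_card_pPrimeCore p).symm.pow_left k
  have hCle : C ≤ D ⊔ R := by
    obtain ⟨T, hT⟩ : ∃ T : Sylow p C, (T : Subgroup C) = D.subgroupOf C :=
      Lib.Transfer.exists_sylow_subgroupOf (H := C) hDp inf_le_right (by
        intro hd
        apply SH.not_dvd_index
        rw [show D.relIndex C = (SH : Subgroup H).relIndex C from inf_relIndex_right _ _] at hd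
        exact hd.trans (Lib.Hall.relIndex_normal_dvd_index _ C))
    have hnpc : Cfsg.HasNormalPComplement p C := by
      refine Lib.Transfer.hasNormalPComplement_of_normalizer_le_centralizer T fun c _ => ?_
      rw [mem_centralizer_iff]
      intro s hs
      replace hs : s ∈ (T : Subgroup C) := hs
      rw [hT, mem_subgroupOf] at hs
      exact Subtype.ext (mem_centralizer_iff.mp c.2 _ (hDQ hs))
    have hres : (Cfsg.pResidual p C).map C.subtype ≤ R := by
      have : (Cfsg.pResidual p C).Characteristic := Lib.Transfer.pResidual_characteristic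
      refine Lib.Hall.le_pPrimeCore ?_
      rw [card_map_of_injective C.subtype_injective]
      exact (hp.out.coprime_iff_not_dvd.mpr (Lib.Transfer.hasNormalPComplement_iff.mp hnpc)).symm
    intro c hc
    obtain ⟨r, hr, d, hd, hrd⟩ := mem_sup_of_normal_left.mp
      ((Lib.Transfer.pResidual_sup_sylow T).symm ▸ mem_top (⟨c, hc⟩ : C))
    rw [hT, mem_subgroupOf] at hd
    rw [show c = (r : H) * (d : H) from (congrArg Subtype.val hrd).symm]
    exact mul_mem (mem_sup_right (hres (mem_map_of_mem _ hr))) (mem_sup_left hd)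
  -- the section `H/R`
  let Rm : Subgroup G := R.map H.subtype
  have hRm : Rm.subgroupOf H = R := comap_map_eq_self_of_injective H.subtype_injective R
  have : (Rm.subgroupOf H).Normal := hRm.symm ▸ this
  let π := QuotientGroup.mk' (Rm.subgroupOf H)
  have hπ : Function.Surjective π := QuotientGroup.mk'_surjective _
  have hker : ∀ k : H, π k = 1 ↔ k ∈ R := fun k => by rw [← hRm]; exact QuotientGroup.eq_one_iff k
  have hcons : centralizer ((Cfsg.pCore p (↥H ⧸ Rm.subgroupOf H)) : Set (↥H ⧸ Rm.subgroupOf H)) ≤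
      Cfsg.pCore p (↥H ⧸ Rm.subgroupOf H) := by
    have hQle : QH.map π ≤ Cfsg.pCore p (↥H ⧸ Rm.subgroupOf H) := by
      have : (QH.map π).Normal := Subgroup.Normal.map inferInstance π hπ
      exact Lib.Hall.le_pCore ((Lib.Hall.isPGroup_pCore (G := H) p).map π)
    intro y hy
    obtain ⟨k, rfl⟩ := hπ y
    have hkC : k ∈ C := mem_centralizer_iff.mpr fun q hq => by
      have h1 := mem_centralizer_iff.mp hy (π q) (hQle (mem_map_of_mem π hq))
      have h2 : q * k * q⁻¹ * k⁻¹ ∈ QH ⊓ R := by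
        refine mem_inf.mpr ⟨?_, ?_⟩
        · rw [show q * k * q⁻¹ * k⁻¹ = q * (k * q⁻¹ * k⁻¹) by group]
          exact mul_mem hq (Normal.conj_mem inferInstance _ (inv_mem hq) k)
        · rw [← hker, map_mul, map_mul, map_mul, map_inv, map_inv, h1]; group
      rw [hRQ, mem_bot, mul_inv_eq_one, mul_inv_eq_iff_eq_mul] at h2
      exact h2
    obtain ⟨d, hd, r, hr, rfl⟩ := mem_sup_of_normal_right.mp (hCle hkC)
    rw [map_mul, (hker r).mpr hr, mul_one]
    exact hQle (mem_map_of_mem π (hDQ hd))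
  intro x hx
  let T : Sylow p (↥H ⧸ Rm.subgroupOf H) := SH.mapSurjective hπ
  obtain ⟨a, ha, b, hb, hab⟩ := hfac H Rm hcons T (π ⟨x, hx⟩)
  have hT : (T : Subgroup (↥H ⧸ Rm.subgroupOf H)) = (SH : Subgroup H).map π := Sylow.coe_mapSurjective hπ SH
  have hinj : Set.InjOn π (SH : Subgroup H) := fun u hu v hv e => by
    have h1 : u⁻¹ * v ∈ R := by rw [← hker, map_mul, map_inv, e, inv_mul_cancel]
    have h2 : (SH : Subgroup H) ⊓ R = ⊥ := by
      refine disjoint_iff.mp (disjoint_of_coprime_natCard ?_)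
      obtain ⟨k, hk⟩ := SH.2.exists_card_eq
      exact hk ▸ (Lib.Hall.coprime_card_pPrimeCore p).symm.pow_left k
    have hu' : u ∈ (SH : Subgroup H) := hu
    have hv' : v ∈ (SH : Subgroup H) := hv
    exact inv_mul_eq_one.mp (mem_bot.mp (h2 ▸ mem_inf.mpr ⟨mul_mem (inv_mem hu') hv', h1⟩))
  rw [hT, induced_map hW₂ π SH.2 hinj] at hb
  obtain ⟨b', hb', rfl⟩ := Lib.FPF.normalizer_map_le_map_normalizer (p := p) (Rm.subgroupOf H)
    (by rw [hRm]; exact Lib.Hall.coprime_card_pPrimeCore p) (SH.2.to_le (induced_le _)) hb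
  obtain ⟨a', rfl⟩ := hπ a
  have hr : a'⁻¹ * (⟨x, hx⟩ * b'⁻¹) ∈ R := by
    rw [← hker, map_mul, map_mul, map_inv, map_inv, hab]
    simp [π, mul_assoc]
  have hRZ : ∀ r ∈ R, (r : G) ∈ centralizer (Z : Set G) := fun r hr => by
    refine mem_centralizer_iff.mpr fun z hz => ?_
    have h1 := commute_of_normal_of_disjoint QH R inferInstance inferInstance (disjoint_iff.mpr hRQ)
      ⟨z, hSH (hBS (hZB hz))⟩ r (hBQ (mem_subgroupOf.mpr (hZB hz))) hr
    exact congrArg Subtype.val h1.eq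
  have haZ : (a' : G) ∈ centralizer (Z : Set G) := by
    refine mem_centralizer_iff.mpr fun z hz => ?_
    set zH : H := ⟨z, hSH (hBS (hZB hz))⟩
    have hzΩ : π zH ∈ Cfsg.omegaOne p ((T : Subgroup (↥H ⧸ Rm.subgroupOf H)) ⊓
        centralizer ((T : Subgroup (↥H ⧸ Rm.subgroupOf H)) : Set (↥H ⧸ Rm.subgroupOf H))) := by
      refine subset_closure ⟨?_, ?_⟩
      · rw [hT]
        refine ⟨mem_map_of_mem π (hBS (hZB hz)), mem_centralizer_iff.mpr ?_⟩
        rintro _ ⟨s, hs, rfl⟩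
        rw [← map_mul, ← map_mul, show s * zH = zH * s from Subtype.ext (hZc z hz s hs)]
      · rw [← map_pow, show zH ^ p = 1 from Subtype.ext (hZ1 z hz), map_one]
    have h1 := mem_centralizer_iff.mp ha _ hzΩ
    have h2 : zH * a' * zH⁻¹ * a'⁻¹ ∈ QH ⊓ R := by
      refine mem_inf.mpr ⟨?_, ?_⟩
      · rw [show zH * a' * zH⁻¹ * a'⁻¹ = zH * (a' * zH⁻¹ * a'⁻¹) by group]
        exact mul_mem (hBQ (mem_subgroupOf.mpr (hZB hz)))
          (Normal.conj_mem inferInstance _ (inv_mem (hBQ (mem_subgroupOf.mpr (hZB hz)))) a')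
      · rw [← hker, map_mul, map_mul, map_mul, map_inv, map_inv, h1]; group
    rw [hRQ, mem_bot, mul_inv_eq_one, mul_inv_eq_iff_eq_mul] at h2
    exact congrArg Subtype.val h2
  refine ⟨((a' : G)) * ((a'⁻¹ * (⟨x, hx⟩ * b'⁻¹) : H) : G), mul_mem haZ (hRZ _ hr), b', ?_, ?_⟩
  · have h1 : (b' : G) ∈ (normalizer ((Cfsg.inducedFunctor (G := H) W₂ (SH : Subgroup H) : Subgroup H) : Set H)).map H.subtype :=
      mem_map_of_mem _ hb'
    have h2 := le_normalizer_map H.subtype h1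
    rwa [← induced_map hW₂ H.subtype SH.2 H.subtype_injective.injOn, Sylow.coe_subtype,
      map_subgroupOf_eq_of_le hSH] at h2
  · push_cast; group


/-- Let p be a prime, G a finite group with Sylow p-subgroup S, and W₁, W₂ two isomorphism-invariant p-group functors (W assigns to every group Q a subgroup W(Q), nontrivial whenever Q is a nontrivial finite p-group, and every isomorphism from a finite p-group Q onto a group R carries W(Q) onto W(R)). Suppose that G* = C_{G*}(Ω₁Z(S*)) N_{G*}(W₁(S*)) = C_{G*}(Ω₁Z(S*)) N_{G*}(W₂(S*)) = N_{G*}(W₁(S*)) N_{G*}(W₂(S*)) whenever G* = K/R is a section of G with C_{G*}(O_p(G*)) ≤ O_p(G*) and S* is a Sylow p-subgroup of G*, where Ω₁Z denotes the subgroup generated by the elements of order dividing p in the centre. Suppose also Ω₁Z(S) ≤ W₁(S) ∩ W₂(S), and let A be the normal closure of Ω₁Z(S) in N_G(W₁(S)). Then A is an elementary abelian subgroup of S, strongly closed in S with respect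 to G, and A controls strong fusion in G. -/
theorem result {G : Type u} [Group G] [Finite G] {p : ℕ} [Fact p.Prime] (S : Sylow p G) (W₁ W₂ : ∀ (Q : Type u) [Group Q], Subgroup Q) (hW₁ : Cfsg.IsCharPFunctor.{u} p W₁) (hW₂ : Cfsg.IsCharPFunctor.{u} p W₂) (hfac : ∀ (K R : Subgroup G) [hR : (R.subgroupOf K).Normal], Subgroup.centralizer ((Cfsg.pCore p (↥K ⧸ R.subgroupOf K) : Subgroup (↥K ⧸ R.subgroupOf K)) : Set (↥K ⧸ R.subgroupOf K)) ≤ Cfsg.pCore p (↥K ⧸ R.subgroupOf K) → ∀ T : Sylow p (↥K ⧸ R.subgroupOf K), (∀ x : (↥K ⧸ R.subgroupOf K), ∃ a ∈ Subgroup.centralizer ((Cfsg.omegaOne p ((T : Subgroup (↥K ⧸ R.subgroupOf K)) ⊓ Subgroup.centralizer (((T : Subgroup (↥K ⧸ R.subgroupOf K)) : Subgroup (↥K ⧸ R.subgroupOf K)) : Set (↥K ⧸ R.subgroupOf K))) : Subgroup (↥K ⧸ R.subgroupOf K)) : Set (↥K ⧸ R.subgroupOf K)), ∃ b ∈ Subgroup.normalizer ((Cfsg.inducedFunctor (G := (↥K ⧸ R.subgroupOf K)) W₁ (T : Subgroup (↥K ⧸ R.subgroupOf K)) : Subgroup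 (↥K ⧸ R.subgroupOf K)) : Set (↥K ⧸ R.subgroupOf K)), x = a * b) ∧ (∀ x : (↥K ⧸ R.subgroupOf K), ∃ a ∈ Subgroup.centralizer ((Cfsg.omegaOne p ((T : Subgroup (↥K ⧸ R.subgroupOf K)) ⊓ Subgroup.centralizer (((T : Subgroup (↥K ⧸ R.subgroupOf K)) : Subgroup (↥K ⧸ R.subgroupOf K)) : Set (↥K ⧸ R.subgroupOf K))) : Subgroup (↥K ⧸ R.subgroupOf K)) : Set (↥K ⧸ R.subgroupOf K)), ∃ b ∈ Subgroup.normalizer ((Cfsg.inducedFunctor (G := (↥K ⧸ R.subgroupOf K)) W₂ (T : Subgroup (↥K ⧸ R.subgroupOf K)) : Subgroup (↥K ⧸ R.subgroupOf K)) : Set (↥K ⧸ R.subgroupOf K)), x = a * b) ∧ (∀ x : (↥K ⧸ R.subgroupOf K), ∃ a ∈ Subgroup.normalizer ((Cfsg.inducedFunctor (G := (↥K ⧸ R.subgroupOf K)) W₁ (T : Subgroup (↥K ⧸ R.subgroupOf K)) : Subgroup (↥K ⧸ R.subgroupOf K)) : Set (↥K ⧸ R.subgroupOf K)), ∃ b ∈ Subgroup.normalizer ((Cfsg.inducedFunctor (G := (↥K ⧸ R.subgroupOf K)) W₂ (T : Subgroup (↥K ⧸ R.subgroupOf K)) : Subgroup (↥K ⧸ R.subgroupOf K)) : Set (↥K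 ⧸ R.subgroupOf K)), x = a * b)) (hZ : Cfsg.omegaOne p ((S : Subgroup G) ⊓ Subgroup.centralizer (((S : Subgroup G) : Subgroup G) : Set G)) ≤ Cfsg.inducedFunctor (G := G) W₁ (S : Subgroup G) ⊓ Cfsg.inducedFunctor (G := G) W₂ (S : Subgroup G)) (N₁ : Subgroup G) (hN₁ : N₁ = Subgroup.normalizer ((Cfsg.inducedFunctor (G := G) W₁ (S : Subgroup G) : Subgroup G) : Set G)) (A : Subgroup G) (hA : A = (Subgroup.normalClosure (((Cfsg.omegaOne p ((S : Subgroup G) ⊓ Subgroup.centralizer (((S : Subgroup G) : Subgroup G) : Set G))).subgroupOf N₁ : Subgroup ↥N₁) : Set ↥N₁)).map N₁.subtype) : A ≤ (S : Subgroup G) ∧ Cfsg.IsElementaryAbelian p A ∧ Cfsg.IsStronglyClosed A (S : Subgroup G) ∧ Cfsg.ControlsStrongFusion p A := by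
  set Z := Cfsg.omegaOne p ((S : Subgroup G) ⊓ centralizer (((S : Subgroup G) : Subgroup G) : Set G)) with hZdef
  set B₁ := Cfsg.inducedFunctor (G := G) W₁ (S : Subgroup G) with hB₁
  set B₂ := Cfsg.inducedFunctor (G := G) W₂ (S : Subgroup G) with hB₂
  have hB₁S : B₁ ≤ (S : Subgroup G) := induced_le _
  have hB₂S : B₂ ≤ (S : Subgroup G) := induced_le _
  have hZ1c : ∀ z ∈ Z, z ^ p = 1 ∧ ∀ s ∈ (S : Subgroup G), s * z = z * s := by
    intro z hz
    induction hz using closure_induction with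
    | mem y hy => exact ⟨hy.2, fun s hs => mem_centralizer_iff.mp hy.1.2 s hs⟩
    | one => exact ⟨one_pow p, fun s _ => by rw [mul_one, one_mul]⟩
    | mul y w hy hw ihy ihw =>
      have hwS : w ∈ (S : Subgroup G) := hB₁S ((le_inf_iff.mp hZ).1 hw)
      refine ⟨?_, fun s hs => ?_⟩
      · rw [(ihy.2 w hwS).symm |> Commute.mul_pow, ihy.1, ihw.1, mul_one]
      · rw [← mul_assoc, ihy.2 s hs, mul_assoc, ihw.2 s hs, ← mul_assoc]
    | inv y hy ih =>
      exact ⟨by rw [inv_pow, ih.1, inv_one], fun s hs => ((Commute.inv_right (ih.2 s hs : Commute s y))).eq⟩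
  have hZ1 : ∀ z ∈ Z, z ^ p = 1 := fun z hz => (hZ1c z hz).1
  have hZc : ∀ z ∈ Z, ∀ s ∈ (S : Subgroup G), s * z = z * s := fun z hz => (hZ1c z hz).2
  have hSN₁ : (S : Subgroup G) ≤ normalizer (B₁ : Set G) :=
    le_normalizer_functor (isConjugacyFunctor_induced hW₁) S.2
  have hSN₂ : (S : Subgroup G) ≤ normalizer (B₂ : Set G) :=
    le_normalizer_functor (isConjugacyFunctor_induced hW₂) S.2
  have key1 := subset_mul W₂ hW₂ S Z B₁ (S.2.to_le hB₁S) (le_inf_iff.mp hZ).1 hB₁S hZ1 hZc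
    (fun K R _ hc T => (hfac K R hc T).2.1) _ hSN₁ le_rfl
  have key2 := subset_mul W₁ hW₁ S Z B₂ (S.2.to_le hB₂S) (le_inf_iff.mp hZ).2 hB₂S hZ1 hZc
    (fun K R _ hc T => (hfac K R hc T).1) _ hSN₂ le_rfl
  have hN₁' : N₁ = normalizer (B₁ : Set G) := hN₁
  have hZN₁ : Z ≤ N₁ := hN₁'.symm ▸ ((le_inf_iff.mp hZ).1.trans le_normalizer)
  -- the generators of `A`
  have hgen : ∀ x ∈ N₁, ∀ z ∈ Z, x * z * x⁻¹ ∈ A := by
    intro x hx z hz
    rw [hA]
    exact ⟨⟨x, hx⟩ * ⟨z, hZN₁ hz⟩ * ⟨x, hx⟩⁻¹,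
      normalClosure_normal.conj_mem _ (subset_normalClosure (mem_subgroupOf.mpr hz)) _, rfl⟩
  have hAle : ∀ D : Subgroup G, (∀ x ∈ N₁, ∀ z ∈ Z, x * z * x⁻¹ ∈ D) → A ≤ D := by
    intro D hD
    rw [hA, Subgroup.normalClosure, MonoidHom.map_closure, closure_le]
    rintro _ ⟨y, hy, rfl⟩
    obtain ⟨z, hz, hc⟩ := Group.mem_conjugatesOfSet_iff.mp hy
    obtain ⟨x, hx⟩ := isConj_iff.mp hc
    rw [← hx]
    simpa using hD x x.2 z (mem_subgroupOf.mp hz)
  -- `A` lies in the elements of order `p` of the centre of `W₁(S)`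
  let E : Subgroup G :=
    { carrier := {y | y ∈ B₁ ∧ y ^ p = 1 ∧ ∀ b ∈ B₁, b * y = y * b}
      one_mem' := ⟨one_mem _, one_pow p, fun b _ => by rw [mul_one, one_mul]⟩
      mul_mem' := fun {y w} hy hw => ⟨mul_mem hy.1 hw.1,
        by rw [Commute.mul_pow (hw.2.2 y hy.1), hy.2.1, hw.2.1, mul_one],
        fun b hb => by rw [← mul_assoc, hy.2.2 b hb, mul_assoc, hw.2.2 b hb, ← mul_assoc]⟩
      inv_mem' := fun {y} hy => ⟨inv_mem hy.1, by rw [inv_pow, hy.2.1, inv_one],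
        fun b hb => (Commute.inv_right (hy.2.2 b hb : Commute b y)).eq⟩ }
  have hAE : A ≤ E := by
    refine hAle E fun x hx z hz => ?_
    rw [hN₁'] at hx
    have hz1 : z ∈ B₁ := (le_inf_iff.mp hZ).1 hz
    refine ⟨(mem_normalizer_iff.mp hx z).mp hz1, ?_, fun b hb => ?_⟩
    · rw [conj_pow, hZ1 z hz, mul_one, mul_inv_cancel]
    · have hb' : x⁻¹ * b * x ∈ B₁ := (mem_normalizer_iff''.mp hx b).mp hb
      calc b * (x * z * x⁻¹) = x * ((x⁻¹ * b * x) * z) * x⁻¹ := by group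
        _ = x * (z * (x⁻¹ * b * x)) * x⁻¹ := by rw [hZc z hz _ (hB₁S hb')]
        _ = _ := by group
  have hAS : A ≤ (S : Subgroup G) := fun y hy => hB₁S (hAE hy).1
  have hmemN : ∀ (M : Subgroup G), (∀ y ∈ M, ∀ a ∈ A, y * a * y⁻¹ ∈ A) → M ≤ normalizer (A : Set G) := by
    intro M h y hy
    rw [mem_normalizer_iff]
    refine fun a => ⟨h y hy a, fun ha => ?_⟩
    have := h y⁻¹ (inv_mem hy) _ ha
    simpa [mul_assoc] using this
  have hA₁ : normalizer (B₁ : Set G) ≤ normalizer (A : Set G) := by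
    rw [← hN₁']
    refine hmemN _ fun y hy a ha => ?_
    have h1 : A ≤ A.comap (MulAut.conj y).toMonoidHom := hAle _ fun x hx z hz => by
      show y * (x * z * x⁻¹) * y⁻¹ ∈ A
      have := hgen (y * x) (mul_mem hy hx) z hz
      simpa [mul_assoc] using this
    exact h1 ha
  have hswap : ∀ (c z : G), c ∈ centralizer (Z : Set G) → z ∈ Z → c⁻¹ * z * c = z := fun c z hc hz => by
    rw [mul_assoc, mem_centralizer_iff.mp hc z hz, inv_mul_cancel_left]
  have hA₂ : normalizer (B₂ : Set G) ≤ normalizer (A : Set G) := by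
    refine hmemN _ fun y hy a ha => ?_
    have h1 : A ≤ A.comap (MulAut.conj y).toMonoidHom := hAle _ fun x hx z hz => by
      show y * (x * z * x⁻¹) * y⁻¹ ∈ A
      obtain ⟨c, hc, b, hb, hcb⟩ := key1 x⁻¹ (inv_mem (hN₁' ▸ hx))
      obtain ⟨c', hc', b', hb', hcb'⟩ := key2 (b * y⁻¹) (mul_mem hb (inv_mem hy))
      have e1 : x * z * x⁻¹ = b⁻¹ * z * b := by
        rw [show x = b⁻¹ * c⁻¹ by rw [← mul_inv_rev, ← hcb, inv_inv]]
        calc b⁻¹ * c⁻¹ * z * (b⁻¹ * c⁻¹)⁻¹ = b⁻¹ * (c⁻¹ * z * c) * b := by group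
          _ = _ := by rw [hswap c z hc hz]
      have e2 : y * (b⁻¹ * z * b) * y⁻¹ = b'⁻¹ * z * b' := by
        calc y * (b⁻¹ * z * b) * y⁻¹ = (b * y⁻¹)⁻¹ * z * (b * y⁻¹) := by group
          _ = b'⁻¹ * (c'⁻¹ * z * c') * b' := by rw [hcb']; group
          _ = _ := by rw [hswap c' z hc' hz]
      rw [e1, e2]
      simpa using hgen b'⁻¹ (hN₁'.symm ▸ inv_mem hb') z hz
    exact h1 ha
  -- fusion
  have h𝓦 : ∀ V ∈ ({W₁, W₂} : Set (∀ (Q : Type u) [Group Q], Subgroup Q)), Cfsg.IsCharPFunctor.{u} p V := by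
    rintro _ (rfl | rfl)
    · exact hW₁
    · exact hW₂
  have hsf : SF ({W₁, W₂} : Set (∀ (Q : Type u) [Group Q], Subgroup Q)) p G := by
    refine sf_of_local h𝓦 ?_ G IsSec.refl
    intro X _ _ hX hc
    obtain ⟨K', R', hn, ⟨e⟩⟩ := hX.exists_quot
    refine sf_of_equiv h𝓦 e fun T B g hB hg => ?_
    refine chain_of_factor T (le_normalizer_functor (isConjugacyFunctor_induced hW₁) T.2)
      (le_normalizer_functor (isConjugacyFunctor_induced hW₂) T.2)
      (hfac K' R' (isCons_of_equiv e.symm hc) T).2.2 ?_ ?_ B g hB hg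
    · exact fun C x hx hC hxC => chain_single hC ⟨_, ⟨W₁, Or.inl rfl, rfl⟩, mem_top _, hx⟩ hxC
    · exact fun C x hx hC hxC => chain_single hC ⟨_, ⟨W₂, Or.inr rfl, rfl⟩, mem_top _, hx⟩ hxC
  have hctl : ∀ (C : Set G) (g : G), C ⊆ (S : Subgroup G) →
      (fun a => g * a * g⁻¹) '' C ⊆ (S : Subgroup G) →
      ∃ m ∈ normalizer (A : Set G), ∀ a ∈ C, g * a * g⁻¹ = m * a * m⁻¹ := by
    intro C g hC hg
    have hch : LChain ((normalizer (A : Set G) : Subgroup G) : Set G) (S : Subgroup G) C g :=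
      chain_steps (hsf S C g hC hg) fun z ⟨_, ⟨V, hV, hV'⟩, _, hz⟩ => by
        subst hV'
        rcases hV with rfl | rfl
        · exact hA₁ hz
        · exact hA₂ hz
    obtain ⟨m, hm, he⟩ := hch.collapse
    exact ⟨m, hm, fun a ha => (he a ha).symm⟩
  refine ⟨hAS, ⟨⟨⟨fun a b => Subtype.ext ((hAE b.2).2.2 a (hAE a.2).1)⟩⟩, fun a ha => (hAE ha).2.1⟩,
    ⟨hAS, fun y hy g hg => ?_⟩, ⟨S, hAS, fun C hC => ⟨hC, fun g hg => hctl C g hC hg⟩⟩⟩
  obtain ⟨m, hm, he⟩ := hctl {y} g (Set.singleton_subset_iff.mpr (hAS hy))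
    (by rw [Set.image_singleton, Set.singleton_subset_iff]; exact hg)
  rw [he y rfl]
  exact (mem_normalizer_iff.mp hm y).mp hy

end Cfsg.Agent.S1997
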