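import Cfsg.Statements.S2005
import Cfsg.Agent.Lib.KInf.NPCMax

set_option autoImplicit false
universe u
open Cfsg

namespace Cfsg.Agent.S2005

/-- Thompson's normal p-complement criterion in functor form. Let p be a prime, G a finite group with Sylow p-subgroup S, and W an isomorphism-invariant p-group functor (W assigns to every group Q a subgroup W(Q), nontrivial whenever Q is a nontrivial finite p-group, and every isomorphism from a finite p-group Q onto a group R carries W(Q) onto W(R)). Suppose N_G(W(S)) has a normal p-complement, and that W(S*) is normal in G* whenever G* = K/R is a section of G with C_{G*}(O_p(G*)) ≤ O_p(G*) such that G*/O_p(G*) has a normal p-complement, and S* is a Sylow p-subgroup of G* that is a maximal subgroup of G*. Then G has a normal p-complement. -/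
theorem result {G : Type u} [Group G] [Finite G] {p : ℕ} [Fact p.Prime] (W : ∀ (Q : Type u) [Group Q], Subgroup Q) (hW : Cfsg.IsCharPFunctor.{u} p W) (S : Sylow p G) (hN : Cfsg.HasNormalPComplement p ↥(Subgroup.normalizer ((Cfsg.inducedFunctor (G := G) W (S : Subgroup G) : Subgroup G) : Set G))) (hloc : ∀ (K R : Subgroup G) [hR : (R.subgroupOf K).Normal], Subgroup.centralizer ((Cfsg.pCore p (↥K ⧸ R.subgroupOf K) : Subgroup (↥K ⧸ R.subgroupOf K)) : Set (↥K ⧸ R.subgroupOf K)) ≤ Cfsg.pCore p (↥K ⧸ R.subgroupOf K) → Cfsg.HasNormalPComplement p ((↥K ⧸ R.subgroupOf K) ⧸ Cfsg.pCore p (↥K ⧸ R.subgroupOf K)) → ∀ T : Sylow p (↥K ⧸ R.subgroupOf K), IsCoatom (T : Subgroup (↥K ⧸ R.subgroupOf K)) → (Cfsg.inducedFunctor (G := (↥K ⧸ R.subgroupOf K)) W ((T : Subgroup (↥K ⧸ R.subgroupOf K)))).Normal) : Cfsg.HasNormalPComplement p G := by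
  open Cfsg.Agent.Lib.KInf in
  refine npc_of_maximal_sylow hW (G₀ := G) ?_ _ G IsSec.refl S rfl hN
  intro X _ _ hX hc hq T hT
  obtain ⟨K', R', hR', ⟨e⟩⟩ := hX.exists_quot
  have hs : Function.Surjective e.symm.toMonoidHom := e.symm.surjective
  set T' : Sylow p (↥K' ⧸ R'.subgroupOf K') := T.mapSurjective hs with hT'
  have hTT : (T' : Subgroup (↥K' ⧸ R'.subgroupOf K')).map e.toMonoidHom = (T : Subgroup X) := by
    rw [hT', Sylow.coe_mapSurjective, Subgroup.map_map]
    convert Subgroup.map_id (T : Subgroup X)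
    ext; simp
  have hP : (Cfsg.pCore p X).map e.symm.toMonoidHom = Cfsg.pCore p (↥K' ⧸ R'.subgroupOf K') :=
    Cfsg.Agent.Lib.Hall.map_pCore_equiv p e.symm
  have hq' : Cfsg.HasNormalPComplement p
      ((↥K' ⧸ R'.subgroupOf K') ⧸ Cfsg.pCore p (↥K' ⧸ R'.subgroupOf K')) :=
    Cfsg.Agent.Lib.Transfer.HasNormalPComplement.of_surjective
      (QuotientGroup.congr _ _ e.symm hP).toMonoidHom (QuotientGroup.congr _ _ e.symm hP).surjective hq
  have hco : IsCoatom (T' : Subgroup (↥K' ⧸ R'.subgroupOf K')) := by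
    have h1 := ((e.symm.mapSubgroup).isCoatom_iff (T : Subgroup X)).2 hT
    exact h1
  rw [← hTT, induced_map_equiv hW e T'.2]
  exact (hloc K' R' (isCons_of_equiv e.symm hc) hq' T' hco).map _ e.surjective

end Cfsg.Agent.S2005
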