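import Cfsg.Statements.S2006
import Cfsg.Agent.Lib.KInf.NPCMax
import Cfsg.Agent.Lib.KInf.EngelMax

set_option autoImplicit false
universe u
open Cfsg

namespace Cfsg.Agent.S2006

/-- Let p be a prime, G a finite group with Sylow p-subgroup S, and W an isomorphism-invariant p-group functor (W assigns to every group Q a subgroup W(Q), nontrivial whenever Q is a nontrivial finite p-group, and every isomorphism from a finite p-group Q onto a group R carries W(Q) onto W(R)). Suppose N_G(W(S)) has a normal p-complement, and that whenever G* = K/R is a section of G with C_{G*}(O_p(G*)) ≤ O_p(G*) and S* is a Sylow p-subgroup of G* with W(S*) not normal in G*, there are an element g of S* outside O_p(G*) and a chief factor X/Y of G* with X ≤ O_p(G*) such that [X, g, …, g] ≤ Y with p − 1 entries g but [X, g] ≰ Y. Then G has a normal p-complement. -/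
theorem result {G : Type u} [Group G] [Finite G] {p : ℕ} [Fact p.Prime] (W : ∀ (Q : Type u) [Group Q], Subgroup Q) (hW : Cfsg.IsCharPFunctor.{u} p W) (S : Sylow p G) (hN : Cfsg.HasNormalPComplement p ↥(Subgroup.normalizer ((Cfsg.inducedFunctor (G := G) W (S : Subgroup G) : Subgroup G) : Set G))) (hloc : ∀ (K R : Subgroup G) [hR : (R.subgroupOf K).Normal], Subgroup.centralizer ((Cfsg.pCore p (↥K ⧸ R.subgroupOf K) : Subgroup (↥K ⧸ R.subgroupOf K)) : Set (↥K ⧸ R.subgroupOf K)) ≤ Cfsg.pCore p (↥K ⧸ R.subgroupOf K) → ∀ T : Sylow p (↥K ⧸ R.subgroupOf K), ¬ (Cfsg.inducedFunctor (G := (↥K ⧸ R.subgroupOf K)) W ((T : Subgroup (↥K ⧸ R.subgroupOf K)))).Normal → ∃ g : (↥K ⧸ R.subgroupOf K), g ∈ (T : Subgroup (↥K ⧸ R.subgroupOf K)) ∧ g ∉ Cfsg.pCore p (↥K ⧸ R.subgroupOf K) ∧ ∃ U V : Subgroup (↥K ⧸ R.subgroupOf K), Cfsg.IsChiefFactor U V ∧ U ≤ Cfsg.pCore p (↥K ⧸ R.subgroupOf K) ∧ Cfsg.iterCommutator U (Subgroup.zpowers g) (p - 1) ≤ V ∧ ¬ ⁅U, Subgroup.zpowers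 g⁆ ≤ V) : Cfsg.HasNormalPComplement p G := by
  open Cfsg.Agent.Lib.KInf in
  refine npc_of_maximal_sylow hW (G₀ := G) ?_ _ G IsSec.refl S rfl hN
  intro X _ _ hX hc hq T hT
  obtain ⟨K', R', hR', ⟨e⟩⟩ := hX.exists_quot
  have hs : Function.Surjective e.symm.toMonoidHom := e.symm.surjective
  set T' : Sylow p (↥K' ⧸ R'.subgroupOf K') := T.mapSurjective hs with hT'
  have hTT : (T' : Subgroup (↥K' ⧸ R'.subgroupOf K')).map e.toMonoidHom = (T : Subgroup X) := by
    rw [hT', Sylow.coe_mapSurjective, Subgroup.map_map]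
    convert Subgroup.map_id (T : Subgroup X)
    ext; simp
  have hP : (Cfsg.pCore p X).map e.symm.toMonoidHom = Cfsg.pCore p (↥K' ⧸ R'.subgroupOf K') :=
    Cfsg.Agent.Lib.Hall.map_pCore_equiv p e.symm
  have hq' : Cfsg.HasNormalPComplement p
      ((↥K' ⧸ R'.subgroupOf K') ⧸ Cfsg.pCore p (↥K' ⧸ R'.subgroupOf K')) :=
    Cfsg.Agent.Lib.Transfer.HasNormalPComplement.of_surjective
      (QuotientGroup.congr _ _ e.symm hP).toMonoidHom (QuotientGroup.congr _ _ e.symm hP).surjective hq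
  have hco : IsCoatom (T' : Subgroup (↥K' ⧸ R'.subgroupOf K')) :=
    ((e.symm.mapSubgroup).isCoatom_iff (T : Subgroup X)).2 hT
  rw [← hTT, induced_map_equiv hW e T'.2]
  refine Subgroup.Normal.map ?_ _ e.surjective
  by_contra hn
  obtain ⟨g, hgT, hgP, U, V, hUV, hU, hit, hng⟩ := hloc K' R' (isCons_of_equiv e.symm hc) T' hn
  exact engel_false_of_isCoatom hq' T' hco hgT hgP hUV hU hit hng

end Cfsg.Agent.S2006
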