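import Cfsg.Statements.S2054
import Cfsg.Agent.Lib.SporPres.FiTwentyThree.LiftExt

set_option autoImplicit false
open Cfsg

namespace Cfsg.Agent.S2054

open Cfsg.Agent.Lib.SporPres.FiTwentyThree

/-- The Schur multiplier of the Fischer group Fi₂₃ (the finitely presented group of the definitions) is trivial; here the Schur multiplier is described through stem extensions, as in the definitions: surjective homomorphisms onto the group from a finite group, whose kernel is central in that finite group and contained in that finite group's commutator subgroup. -/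
theorem result : Cfsg.HasCyclicSchurMultiplier Cfsg.Spor.Fi23 1 := by
  refine ⟨⟨Cfsg.Spor.Fi23, inferInstance, group_le.1, MonoidHom.id Cfsg.Spor.Fi23,
    ⟨Function.surjective_id, ?_, ?_⟩, ?_⟩, fun Γ _ _ σ hσ => ⟨1, fun z => ⟨1, ?_⟩⟩⟩
  · rw [MonoidHom.ker_id]; exact bot_le
  · rw [MonoidHom.ker_id]; exact bot_le
  · haveI : Subsingleton (Multiplicative (ZMod 1)) := inferInstanceAs (Subsingleton (Fin 1))
    haveI : Subsingleton (MonoidHom.id Cfsg.Spor.Fi23).ker :=
      ⟨fun a b => Subtype.ext ((MonoidHom.mem_ker.1 a.2).trans (MonoidHom.mem_ker.1 b.2).symm)⟩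
    exact ⟨{ toFun := fun _ => 1, invFun := fun _ => 1, left_inv := fun _ => Subsingleton.elim _ _,
             right_inv := fun _ => Subsingleton.elim _ _, map_mul' := fun _ _ => Subsingleton.elim _ _ }⟩
  · refine Subtype.ext ?_
    have h : (z : Γ) ∈ (⊥ : Subgroup Γ) := Lift.ker_eq_bot σ hσ ▸ z.2
    rw [map_one]
    exact (Subgroup.mem_bot.1 h).symm

end Cfsg.Agent.S2054
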