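import Cfsg.Statements.S2060
import Cfsg.Agent.Lib.Golay.OuterGroups
-- import your own Cfsg.Agent.* helpers here

set_option autoImplicit false
open Cfsg

namespace Cfsg.Agent.S2060

open Cfsg.Agent.Lib.Golay
open scoped Pointwise

/-- The outer automorphism group of the Mathieu group M₁₁ (the stabiliser of a dodecad and one of its points in the automorphism group of the length-24 binary code) is trivial: every automorphism is inner. -/
theorem result : Nat.card (Cfsg.Out ↥Cfsg.Spor.M11) = 1 := by
  rw [show Spor.M11 = stabM [d0] 1 by
    rw [show stabM [d0] 1 = stSetPt (toSet d0) (some 0) from gM11_eq, ← d0_eq]; rfl]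
  exact od11_cert.out_one rfl

end Cfsg.Agent.S2060
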