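import Cfsg.Statements.S5620
import Cfsg.Agent.Lib.Golay.Mathieu
-- import your own Cfsg.Agent.* helpers here

set_option autoImplicit false
open scoped Pointwise
open Cfsg

namespace Cfsg.Agent.S5620

open Cfsg
open Cfsg.Agent.Lib.Golay
open scoped Pointwise

theorem compl_trans {u v : GolayPt} (hu : u ∈ (toSet d0)ᶜ) (hv : v ∈ (toSet d0)ᶜ) :
    ∃ σ ∈ stSetPt (toSet d0) (some 0), σ u = v := by
  have h12 : ((toSet d0)ᶜ).card = 12 := by decide +kernel
  have key : ∀ u ∈ (toSet d0)ᶜ, ∃ x : Fin 3 → GolayPt,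
      Function.Injective x ∧ (∀ i, x i ∈ (toSet d0)ᶜ) ∧ x 0 = u := by
    intro u hu
    obtain ⟨t, hut, htD, ht⟩ := Finset.exists_subsuperset_card_eq (s := {u}) (n := 3)
      (Finset.singleton_subset_iff.2 hu) (by simp) (by omega)
    let e := (t.equivFinOfCardEq ht).symm
    refine ⟨fun i => e (Equiv.swap 0 (e.symm ⟨u, Finset.singleton_subset_iff.1 hut⟩) i), ?_,
      fun i => htD (Finset.coe_mem _), ?_⟩
    · intro i j h; exact (Equiv.swap _ _).injective (e.injective (Subtype.ext h))
    · simp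
  obtain ⟨x, hx, hxD, hx0⟩ := key u hu
  obtain ⟨y, hy, hyD, hy0⟩ := key v hv
  obtain ⟨σ, hσ, he⟩ := stSetPt_three_out d0_dodecad (p := some 0) (by decide +kernel)
    x y hx hy hxD hyD
  exact ⟨σ, hσ, by rw [← hx0, ← hy0]; exact he 0⟩

theorem smul_compl' (x : Equiv.Perm GolayPt) (s : Finset GolayPt) :
    x • (Finset.univ \ s) = Finset.univ \ s ↔ x • s = s := by
  rw [Finset.smul_finset_sdiff, Finset.smul_finset_univ]
  constructor
  · intro h
    rw [← Finset.compl_eq_univ_sdiff, ← Finset.compl_eq_univ_sdiff, compl_inj_iff] at h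
    exact h
  · intro h; rw [h]


/-- Inside the stabiliser of the dodecad of squares (a Mathieu group of degree 12), the stabiliser of the residue 0 (a point of the dodecad) and the stabiliser of the extra point (a point outside the dodecad) are isomorphic but not conjugate; conjugation by a suitable element of the code's group that maps the dodecad of squares onto its complement carries the first onto the second. -/
theorem result : Nonempty (↥(Cfsg.Spor.M12 ⊓ MulAction.stabilizer (Equiv.Perm Cfsg.GolayPt) (none : Cfsg.GolayPt)) ≃* ↥Cfsg.Spor.M11) ∧ (¬ ∃ k ∈ Cfsg.Spor.M12, MulAut.conj k • Cfsg.Spor.M11 = Cfsg.Spor.M12 ⊓ MulAction.stabilizer (Equiv.Perm Cfsg.GolayPt) (none : Cfsg.GolayPt)) ∧ ∃ g ∈ Cfsg.M24, g • Cfsg.Spor.squareDodecad = Finset.univ \ Cfsg.Spor.squareDodecad ∧ MulAut.conj g • Cfsg.Spor.M11 = Cfsg.Spor.M12 ⊓ MulAction.stabilizer (Equiv.Perm Cfsg.GolayPt) (none : Cfsg.GolayPt) := by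
  have hg : projInv • Spor.squareDodecad = Finset.univ \ Spor.squareDodecad := by
    decide +kernel
  have hg0 : projInv (some 0) = none := by decide
  have hgM := projInv_mem
  have hkey : ∀ x : Equiv.Perm GolayPt, x ∈ Spor.M11 ↔
      projInv * x * projInv⁻¹ ∈
        Spor.M12 ⊓ MulAction.stabilizer (Equiv.Perm GolayPt) (none : GolayPt) := by
    intro x
    simp only [Spor.M11, Spor.M12, Subgroup.mem_inf, ← mem_M24_conj hgM]
    rw [mem_stabilizer_conj projInv x Spor.squareDodecad, hg,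
      mem_stabilizer_conj projInv x (some 0 : GolayPt), Equiv.Perm.smul_def, hg0]
    simp only [MulAction.mem_stabilizer_iff, smul_compl']
  have heq : MulAut.conj projInv • Spor.M11 =
      Spor.M12 ⊓ MulAction.stabilizer (Equiv.Perm GolayPt) (none : GolayPt) := by
    ext y
    rw [Subgroup.mem_pointwise_smul_iff_inv_smul_mem, hkey]
    simp [MulAut.smul_def, mul_assoc]
  refine ⟨⟨(conjEquiv projInv hkey).symm⟩, ?_, _, hgM, hg, heq⟩
  rintro ⟨k, hk, hk'⟩
  have hM11 : Spor.M11 = stSetPt (toSet d0) (some 0) := by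
    rw [← d0_eq]; rfl
  have hk0 : k (some 0) ∈ toSet d0 := by
    refine apply_mem_of_smul ?_ (by decide +kernel)
    rw [← d0_eq]; exact (Subgroup.mem_inf.1 hk).2
  obtain ⟨a, ha, hka⟩ := Finset.exists_mem_ne (s := toSet d0)
    (by rw [card_toSet]; decide +kernel) (k (some 0))
  have hout : ∀ y ∈ toSet d0, projInv y ∈ (toSet d0)ᶜ := by decide +kernel
  have hinv : ∀ y, projInv (projInv y) = y := by decide
  obtain ⟨x, hx, hxe⟩ := compl_trans (hout _ hk0) (hout _ ha)
  rw [← hM11, hkey, ← hk', Subgroup.mem_pointwise_smul_iff_inv_smul_mem] at hx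
  simp only [MulAut.smul_def, MulAut.conj_inv_apply] at hx
  have h2 : (k⁻¹ * (projInv * x * projInv⁻¹) * k) (some 0) = some 0 := (Subgroup.mem_inf.1 hx).2
  have hpi : ∀ y, projInv⁻¹ y = projInv y := fun y => rfl
  simp only [Equiv.Perm.mul_apply, hpi, hxe, hinv] at h2
  apply hka
  conv_rhs => rw [← h2]
  simp

end Cfsg.Agent.S5620
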