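import Cfsg.Statements.S2061
import Cfsg.Agent.Lib.Golay.OuterGroups
import Cfsg.Agent.S5620
-- import your own Cfsg.Agent.* helpers here

set_option autoImplicit false
open Cfsg

namespace Cfsg.Agent.S2061

open Cfsg.Agent.Lib.Golay
open scoped Pointwise

/-- The outer automorphism group of the Mathieu group M₁₂ (the stabiliser of a dodecad in the automorphism group of the length-24 binary code) has order 2. -/
theorem result : Nat.card (Cfsg.Out ↥Cfsg.Spor.M12) = 2 := by
  have hM : Spor.M12 = od12.G := by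
    rw [show od12.G = stSet (toSet d0) from gM12_eq, ← d0_eq]; rfl
  have hg : projInv • Spor.squareDodecad = Finset.univ \ Spor.squareDodecad := by decide +kernel
  have hinv : (projInv : Equiv.Perm GolayPt)⁻¹ = projInv := Equiv.ext fun _ => rfl
  have hn : ∀ x ∈ Spor.M12, projInv * x * projInv⁻¹ ∈ Spor.M12 := by
    intro x hx
    obtain ⟨hx1, hx2⟩ := Subgroup.mem_inf.1 hx
    refine Subgroup.mem_inf.2 ⟨mul_mem (mul_mem projInv_mem hx1) (inv_mem projInv_mem), ?_⟩
    rw [MulAction.mem_stabilizer_iff] at hx2 ⊢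
    rw [hinv, mul_smul, mul_smul, hg,
      (Cfsg.Agent.S5620.smul_compl' x _).2 hx2, ← hg, ← mul_smul,
      show projInv * projInv = (1 : Equiv.Perm GolayPt) by
        nth_rewrite 1 [← hinv]; exact inv_mul_cancel _, one_smul]
  have hn' : ∀ x ∈ Spor.M12, projInv⁻¹ * x * projInv ∈ Spor.M12 := by
    intro x hx
    have := hn x hx
    rw [hinv] at this ⊢
    exact this
  have hnot : ¬ ∃ k ∈ Spor.M12, ∀ x ∈ Spor.M12, projInv * x * projInv⁻¹ = k * x * k⁻¹ := by
    rintro ⟨k, hk, hconj⟩
    set z := k⁻¹ * projInv with hz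
    have hcomm : ∀ x ∈ Spor.M12, z * x = x * z := by
      intro x hx
      have e : projInv * x = k * x * k⁻¹ * projInv := by rw [← hconj x hx]; group
      calc z * x = k⁻¹ * (projInv * x) := by rw [hz]; group
        _ = x * z := by rw [e, hz]; group
    have hk' : k⁻¹ • toSet d0 = toSet d0 := by
      rw [← d0_eq]; exact (Subgroup.mem_inf.1 (inv_mem hk)).2
    have hu : z (some 0) ∈ (toSet d0)ᶜ := by
      rw [Finset.mem_compl, hz, Equiv.Perm.mul_apply]
      intro hmem
      rw [← hk', ← Equiv.Perm.smul_def, Finset.smul_mem_smul_finset_iff] at hmem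
      revert hmem; decide +kernel
    obtain ⟨v, hv, hvne⟩ := Finset.exists_mem_ne (s := (toSet d0)ᶜ) (by decide +kernel) (z (some 0))
    obtain ⟨x, hx, hxe⟩ := Cfsg.Agent.S5620.compl_trans hu hv
    rw [← gM11_eq] at hx
    obtain ⟨hxM, hxS, hx0⟩ := mem_stabM.1 hx
    have := DFunLike.congr_fun (hcomm x (Subgroup.mem_inf.2 ⟨hxM, by
      rw [d0_eq]; exact hxS d0 (by simp)⟩)) (some 0)
    simp only [Equiv.Perm.mul_apply] at this
    rw [hx0 (some 0) (by decide +kernel), hxe] at this
    exact hvne this.symm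
  rw [hM] at hn hn' hnot ⊢
  exact od12_cert.out_two (r₁ := o12Other.head (by decide)) rfl (τ := normAut _ projInv hn hn')
    (normAut_notMem hnot)

end Cfsg.Agent.S2061
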