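import Cfsg.Statements.S5599
import Cfsg.Agent.Lib.Golay.Action
import Cfsg.Agent.Lib.Golay.Subgroups
-- import your own Cfsg.Agent.* helpers here

set_option autoImplicit false
open scoped Pointwise
open Cfsg

namespace Cfsg.Agent.S5599

open Cfsg
open Cfsg.Agent.Lib.Golay
open scoped Pointwise

theorem z_trivial {z : Equiv.Perm GolayPt} (hz : z ∈ M24)
    (hp : ∀ p, p ≠ none → p ≠ some 0 → z p = p) : z = 1 := by
  refine eq_one_of_rigid (F := FULL ^^^ (1 <<< 23 ||| 1)) hz (by decide +kernel) fun p hmem => ?_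
  rw [toSet_compl, Finset.mem_compl] at hmem
  refine hp p ?_ ?_ <;> rintro rfl <;> exact hmem (by decide +kernel)

theorem swap_pair {x : Equiv.Perm GolayPt} {a b : GolayPt} (h1 : x a = a ∧ x b = b ∨ x a = b ∧ x b = a) :
    x • ({a, b} : Finset GolayPt) = {a, b} := by
  rcases h1 with ⟨h, h'⟩ | ⟨h, h'⟩
  · simp [Finset.smul_finset_insert, Equiv.Perm.smul_def, h, h']
  · simp [Finset.smul_finset_insert, Equiv.Perm.smul_def, h, h', Finset.pair_comm]

theorem pair_card : ({s : Finset GolayPt | s.card = 2}).ncard = 276 := by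
  have : {s : Finset GolayPt | s.card = 2} =
      ↑((Finset.univ : Finset GolayPt).powersetCard 2) := by
    ext s; simp [Finset.mem_powersetCard]
  rw [this, Set.ncard_coe_finset, Finset.card_powersetCard, Finset.card_univ]
  decide +kernel

theorem exists_other (p q : GolayPt) : ∃ r : GolayPt, r ≠ none ∧ r ≠ some 0 ∧ r ≠ p ∧ r ≠ q := by
  obtain ⟨r, -, hr⟩ := Finset.exists_mem_notMem_of_card_lt_card
    (s := ({none, some 0, p, q} : Finset GolayPt)) (t := Finset.univ) (by
      refine lt_of_le_of_lt Finset.card_le_four ?_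
      rw [Finset.card_univ]; decide)
  exact ⟨r, by simp at hr; exact hr.1, by simp at hr; exact hr.2.1, by simp at hr; exact hr.2.2.1,
    by simp at hr; exact hr.2.2.2⟩


/-- In the automorphism group of the length-24 code, the two-point Mathieu group (permutations of the code's group fixing the extra point and the residue 0) has index 2 in the setwise stabiliser of that pair of points, and an element of the code's group interchanging the two points normalises the two-point group and induces on it, by conjugation, an automorphism that is not inner. -/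
theorem result (g : Equiv.Perm Cfsg.GolayPt) (hg : g ∈ Cfsg.M24) (h₁ : g none = some 0) (h₂ : g (some 0) = none) : Cfsg.Spor.M22.relIndex (Cfsg.M24 ⊓ MulAction.stabilizer (Equiv.Perm Cfsg.GolayPt) ({none, some 0} : Finset Cfsg.GolayPt)) = 2 ∧ (∀ x ∈ Cfsg.Spor.M22, g * x * g⁻¹ ∈ Cfsg.Spor.M22) ∧ ¬ ∃ h ∈ Cfsg.Spor.M22, ∀ x ∈ Cfsg.Spor.M22, g * x * g⁻¹ = h * x * h⁻¹ := by
  have hne : (none : GolayPt) ≠ some 0 := by decide
  have hpair : ({none, some 0} : Finset GolayPt).card = 2 := Finset.card_pair hne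
  set H := M24 ⊓ MulAction.stabilizer (Equiv.Perm GolayPt) ({none, some 0} : Finset GolayPt)
    with hH
  have hle : Spor.M22 ≤ H := by
    intro x hx
    obtain ⟨⟨hxM, hx0⟩, hx1⟩ := hx
    exact ⟨hxM, swap_pair (Or.inl ⟨hx0, hx1⟩)⟩
  have i0 : g⁻¹ none = some 0 := by rw [Equiv.Perm.inv_eq_iff_eq, h₂]
  have i1 : g⁻¹ (some 0) = none := by rw [Equiv.Perm.inv_eq_iff_eq, h₁]
  refine ⟨?_, ?_, ?_⟩
  · have h1 := card_eq_orbit_mul M24 ({none, some 0} : Finset GolayPt) {s | s.card = 2}
      (fun σ _ => by show (σ • ({none, some 0} : Finset GolayPt)).card = 2; rw [Finset.card_smul_finset, hpair])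
      (fun b hb => M24_trans_sets (by rw [hpair]; norm_num) (by rw [hpair]; exact hb.symm))
    rw [M24_card, pair_card, ← hH] at h1
    have h2 := Subgroup.card_mul_index (Spor.M22.subgroupOf H)
    rw [Nat.card_congr (Subgroup.subgroupOfEquivOfLe hle).toEquiv,
      show Nat.card ↥Spor.M22 = 443520 from st2_card hne] at h2
    rw [Subgroup.relIndex]
    omega
  · rintro x ⟨⟨hxM, hx0⟩, hx1⟩
    have e0 : x none = none := hx0
    have e1 : x (some 0) = some 0 := hx1
    refine ⟨⟨M24.mul_mem (M24.mul_mem hg hxM) (M24.inv_mem hg), ?_⟩, ?_⟩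
    · show g (x (g⁻¹ none)) = none
      rw [i0, e1, h₂]
    · show g (x (g⁻¹ (some 0))) = some 0
      rw [i1, e0, h₁]
  · rintro ⟨h, hh, hconj⟩
    obtain ⟨⟨hhM, hh0⟩, hh1⟩ := hh
    have e0 : h none = none := hh0
    have e1 : h (some 0) = some 0 := hh1
    set z := h⁻¹ * g with hz
    have hzM : z ∈ M24 := mul_mem (inv_mem hhM) hg
    have hcomm : ∀ x ∈ Spor.M22, z * x = x * z := by
      intro x hx
      have e : g * x = h * x * h⁻¹ * g := by rw [← hconj x hx]; group
      calc z * x = h⁻¹ * (g * x) := by rw [hz]; group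
        _ = x * z := by rw [e, hz]; group
    have hz0 : z none = some 0 := by
      rw [hz, Equiv.Perm.mul_apply, h₁, Equiv.Perm.inv_eq_iff_eq, e1]
    have hz1 : z (some 0) = none := by
      rw [hz, Equiv.Perm.mul_apply, h₂, Equiv.Perm.inv_eq_iff_eq, e0]
    have hfix : ∀ p, p ≠ none → p ≠ some 0 → z p = p := by
      intro p hp0 hp1
      by_contra hzp
      have q0 : z p ≠ none := fun e => hp1 (z.injective (e.trans hz1.symm))
      have q1 : z p ≠ some 0 := fun e => hp0 (z.injective (e.trans hz0.symm))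
      obtain ⟨q, n0, n1, n2, n3⟩ := exists_other p (z p)
      obtain ⟨x, hxM, hx⟩ := exists_M24_map (k := 4) (by norm_num)
        ![none, some 0, p, z p] ![none, some 0, p, q]
        (by intro i j; fin_cases i <;> fin_cases j <;>
          simp [hne, hne.symm, Ne.symm hp0, Ne.symm hp1, hp0, hp1, q0, q1, Ne.symm q0, Ne.symm q1, hzp, Ne.symm hzp])
        (by intro i j; fin_cases i <;> fin_cases j <;>
          simp [hne, hne.symm, Ne.symm hp0, Ne.symm hp1, hp0, hp1, n0, n1, n2, Ne.symm n0, Ne.symm n1, Ne.symm n2])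
      have := DFunLike.congr_fun (hcomm x ⟨⟨hxM, hx 0⟩, hx 1⟩) p
      simp only [Equiv.Perm.mul_apply] at this
      rw [show x p = p from hx 2, show x (z p) = q from hx 3] at this
      exact n3 this.symm
    rw [z_trivial hzM hfix] at hz0
    exact hne hz0

end Cfsg.Agent.S5599
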