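import Cfsg.Statements.S2062
import Cfsg.Agent.Lib.Golay.OuterGroups
import Cfsg.Agent.S5599
-- import your own Cfsg.Agent.* helpers here

set_option autoImplicit false
open Cfsg

namespace Cfsg.Agent.S2062

open Cfsg.Agent.Lib.Golay
open scoped Pointwise

/-- The outer automorphism group of the Mathieu group M₂₂ (the permutations in the automorphism group of the length-24 binary code that fix each of two given points) has order 2. -/
theorem result : Nat.card (Cfsg.Out ↥Cfsg.Spor.M22) = 2 := by
  obtain ⟨g, hg, hmap⟩ := exists_M24_map (k := 2) (by norm_num)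
    ![(none : GolayPt), some 0] ![some 0, none] (by decide) (by decide)
  have h1 : g none = some 0 := hmap 0
  have h2 : g (some 0) = none := hmap 1
  have i1 : g⁻¹ none = some 0 := by rw [Equiv.Perm.inv_eq_iff_eq, h2]
  have i2 : g⁻¹ (some 0) = none := by rw [Equiv.Perm.inv_eq_iff_eq, h1]
  obtain ⟨-, hn, hnot⟩ := Cfsg.Agent.S5599.result g hg h1 h2
  obtain ⟨-, hn', -⟩ := Cfsg.Agent.S5599.result g⁻¹ (inv_mem hg) i1 i2
  simp only [inv_inv] at hn'
  have hM : Spor.M22 = od22.G := gM22_eq.symm
  rw [hM] at hn hn' hnot ⊢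
  exact od22_cert.out_two (r₁ := o22Other.head (by decide)) rfl (τ := normAut _ g hn hn')
    (normAut_notMem hnot)

end Cfsg.Agent.S2062
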