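import Cfsg.Statements.S2066
import Cfsg.Agent.Lib.HallJanko.Outer

set_option autoImplicit false
open Cfsg

namespace Cfsg.Agent.S2066

theorem out_congr' {A B : Type*} [Group A] [Group B] (e : A ≃* B) :
    Nonempty (Cfsg.Out A ≃* Cfsg.Out B) := by
  refine ⟨QuotientGroup.congr _ _ (MulAut.congr e) ?_⟩
  ext α
  constructor
  · rintro ⟨_, ⟨y, rfl⟩, rfl⟩
    exact ⟨e y, by ext x; simp⟩
  · rintro ⟨y, rfl⟩
    exact ⟨MulAut.conj (e.symm y), ⟨_, rfl⟩, by ext x; simp⟩

/-- The outer automorphism group of the Hall–Janko group J₂ (the icosian reflection group modulo its centre) has order 2. -/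
theorem result : Nat.card (Cfsg.Out Cfsg.Spor.J2) = 2 := by
  obtain ⟨e⟩ := out_congr' Cfsg.Agent.Lib.HallJanko.j2Equiv100
  rw [Nat.card_congr e.toEquiv]
  exact Cfsg.Agent.Lib.HallJanko.card_out_G100

end Cfsg.Agent.S2066
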