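import Cfsg.Statements.S2119
import Cfsg.Agent.Lib.Alt.Aut

set_option autoImplicit false
open Cfsg

namespace Cfsg.Agent.S2119

/-- Automorphisms of the alternating groups: for n ≥ 4 with n ≠ 6, every automorphism of the alternating group of degree n is conjugation by a unique permutation, i.e. conjugation induces an isomorphism from the symmetric group of degree n onto the automorphism group of the alternating group (so the outer automorphism group has order 2). -/
theorem result (n : ℕ) (hn : 4 ≤ n) (h6 : n ≠ 6) : Function.Bijective (MulAut.conjNormal : Equiv.Perm (Fin n) →* MulAut ↥(alternatingGroup (Fin n))) := by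
  constructor
  · rw [← MonoidHom.ker_eq_bot_iff, eq_bot_iff]
    intro g hg
    rw [Subgroup.mem_bot]
    apply Cfsg.Agent.Lib.Alt.Aut.eq_one_of_centralizes (by simpa using hn)
    intro a ha
    have h := congrArg Subtype.val (DFunLike.congr_fun (MonoidHom.mem_ker.1 hg) ⟨a, ha⟩)
    rw [MulAut.conjNormal_apply] at h
    exact mul_inv_eq_iff_eq_mul.1 h
  · intro φ
    obtain ⟨σ, hσ⟩ := Cfsg.Agent.Lib.Alt.Aut.exists_conj (by simpa using hn) (by simpa using h6) φ
    exact ⟨σ, MulEquiv.ext fun a => Subtype.ext (by rw [MulAut.conjNormal_apply]; exact (hσ a).symm)⟩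

end Cfsg.Agent.S2119
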