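import Cfsg.Statements.S2179

import Cfsg.Agent.Lib.Chev.RootCent
import Cfsg.Agent.Lib.Chev.Data.F4
set_option autoImplicit false
open Cfsg

namespace Cfsg.Agent.S2179

open Cfsg.Lie Cfsg.Agent.Lib.Chev

theorem chkW : (F4.fast.abCheck [44, 47] && F4.fast.fixCheck [44, 47] [44, 47] &&
    F4.fast.stabCheck [(44, 1), (47, 1)] [1, 2] &&
    F4.fast.torCheck [44, 47] [1, 2] [[1, 0], [], [], [0, 1]] &&
    F4.fast.centCheck [44, 47] [1, 2]) = true := by
  decide +kernel

/-- the roots of the support of the conjugates of `x_39(1) x_45(1)` -/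
def six : List ℕ := [39, 40, 44, 45, 46, 47]

/-- the roots of the centraliser -/
def gens : List ℕ := [14, 23, 24] ++ List.range' 28 6 ++ List.range' 35 13

theorem chkV : (F4.fast.abCheck six && F4.fast.fixCheck [39, 45] six &&
    F4.fast.stabCheck [(39, 2), (45, 3)] [0, 3] &&
    F4.fast.torCheck [39, 45] [0, 3] [[], [1, 1], [2, 1], []] &&
    gens.all (fun s => F4.fast.evenC s 39 && F4.fast.evenC s 45) &&
    (List.range' 28 6).all (fun s => F4.fast.evenC s 44) &&
    F4.fast.evenC 34 45 && F4.fast.evenC 27 44 && F4.fast.evenC 27 45 &&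
    F4.fast.evenC 26 39 && F4.fast.evenC 26 40 && F4.fast.evenC 26 44 &&
    F4.fast.evenC 25 39 && F4.fast.evenC 25 40 && F4.fast.evenC 25 44 && F4.fast.evenC 25 47 &&
    F4.fast.evenC 24 39 && F4.fast.evenC 24 40 && F4.fast.evenC 24 44 && F4.fast.evenC 24 45 &&
    F4.fast.evenC 24 47 &&
    F4.fast.oneC 34 39 44 && F4.fast.oneC 27 39 40 && F4.fast.oneC 26 45 47 &&
    F4.fast.oneC 25 45 46 && F4.fast.oneC 24 46 47) = true := by
  decide +kernel

theorem levi_roots : ∀ r < 48, chevF4.IsPosRoot r → F4.fast.cf r 1 = 0 → F4.fast.cf r 2 = 0 →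
    r = 24 ∨ r = 33 := by
  decide +kernel

theorem pos_roots : chevF4.posRoots = List.range' 24 24 := by decide +kernel

theorem neg_simple : (List.range 4).map (fun i => (chevF4.simple i, chevF4.neg (chevF4.simple i))) =
    [(33, 14), (27, 20), (25, 22), (24, 23)] := by decide +kernel

section
variable {F : Type*} [Field F] [CharP F 2] (C : Checked chevF4 F4.fast)

/-- the elements of the orbit of `x_39(1) x_45(1)` under `U` -/
def orb (a b c e : F) : GL chevF4.Idx F :=
  C.xg 39 1 * C.xg 40 a * C.xg 44 b * C.xg 45 1 * C.xg 46 c * C.xg 47 e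

theorem conj_orbit {u : GL chevF4.Idx F} (hu : u ∈ chevF4.posUnipotent F) :
    ∃ t : ℕ → F, u = C.wg ((List.range' 24 24).map fun r => (r, t r)) ∧
      u * (C.xg 39 1 * C.xg 45 1) * u⁻¹ = orb C (t 27) (t 34) (t 25) (t 24 * t 25 + t 26) := by
  rw [posUnipotent_eq] at hu
  obtain ⟨t, hut⟩ := C.exists_ordered C.closedSet_pos hu
  rw [← C.posRoots_eq, pos_roots] at hut
  refine ⟨t, hut, ?_⟩
  have h := chkV
  simp only [Bool.and_eq_true, List.all_eq_true] at h
  obtain ⟨⟨⟨⟨⟨⟨⟨⟨⟨⟨⟨⟨⟨⟨⟨⟨⟨⟨⟨⟨⟨⟨⟨⟨⟨-, -⟩, -⟩, -⟩, hg⟩, hM⟩, e3445⟩, e2744⟩, e2745⟩,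
    e2639⟩, e2640⟩, e2644⟩, e2539⟩, e2540⟩, e2544⟩, e2547⟩, e2439⟩, e2440⟩, e2444⟩, e2445⟩, e2447⟩,
    o34⟩, o27⟩, o26⟩, o25⟩, o24⟩ := h
  -- conjugation by a commuting letter
  have cE : ∀ (r s : ℕ) (x y : F), F4.fast.evenC r s = true → r < 48 → s < 48 → s ≠ chevF4.neg r →
      MulAut.conj (C.xg r x) (C.xg s y) = C.xg s y := by
    intro r s x y h hr hs hne
    rw [MulAut.conj_apply, (C.comm_of_even hr hs hne h x y).eq, mul_inv_cancel_right]
  have cO : ∀ (r s c : ℕ) (x y : F), F4.fast.oneC r s c = true → r < 48 → s < 48 → s ≠ r →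
      s ≠ chevF4.neg r → MulAut.conj (C.xg r x) (C.xg s y) = C.xg s y * C.xg c (x * y) := by
    intro r s c x y h hr hs hne hneg
    rw [MulAut.conj_apply, C.conj_of_one hr hs hne hneg h x y]
  have cW : ∀ (l : List ℕ) (s : ℕ) (y : F), s < 48 → (∀ r ∈ l, F4.fast.evenC r s = true) →
      (∀ r ∈ l, r < 48 ∧ s ≠ chevF4.neg r) →
      MulAut.conj (C.wg (l.map fun r => (r, t r))) (C.xg s y) = C.xg s y := by
    intro l
    induction l with
    | nil => intro s y _ _ _; simp [C.wg_nil]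
    | cons r l ih =>
      intro s y hs h1 h2
      rw [List.map_cons, C.wg_cons, map_mul, MulAut.mul_apply,
        ih s y hs (fun q hq => h1 q (by simp [hq])) (fun q hq => h2 q (by simp [hq])),
        cE r s (t r) y (h1 r (by simp)) (h2 r (by simp)).1 hs (h2 r (by simp)).2]
  have hsplit : u = C.xg 24 (t 24) * C.xg 25 (t 25) * C.xg 26 (t 26) * C.xg 27 (t 27) *
      C.wg ((List.range' 28 6).map fun r => (r, t r)) * C.xg 34 (t 34) *
      C.wg ((List.range' 35 13).map fun r => (r, t r)) := by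
    rw [hut, show List.range' 24 24 = [24, 25, 26, 27] ++ (List.range' 28 6 ++ ([34] ++ List.range' 35 13))
      from rfl]
    simp only [List.map_append, C.wg_append', List.map_cons, List.map_nil, C.wg_cons, C.wg_nil, mul_one,
      mul_assoc]
  have n1 : ∀ r ∈ List.range' 28 6, r < 48 ∧ (39 ≠ chevF4.neg r ∧ 44 ≠ chevF4.neg r ∧ 45 ≠ chevF4.neg r) := by
    decide +kernel
  have n2 : ∀ r ∈ List.range' 35 13, r < 48 ∧ (39 ≠ chevF4.neg r ∧ 45 ≠ chevF4.neg r) := by
    decide +kernel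
  have step1 : MulAut.conj (C.wg ((List.range' 35 13).map fun r => (r, t r))) (C.xg 39 1 * C.xg 45 1) =
      C.xg 39 1 * C.xg 45 1 := by
    rw [map_mul, cW _ 39 1 (by omega) (fun r hr => (hg r (by simp [gens, hr])).1)
      (fun r hr => ⟨(n2 r hr).1, (n2 r hr).2.1⟩),
      cW _ 45 1 (by omega) (fun r hr => (hg r (by simp [gens, hr])).2)
      (fun r hr => ⟨(n2 r hr).1, (n2 r hr).2.2⟩)]
  have step2 : MulAut.conj (C.xg 34 (t 34)) (C.xg 39 1 * C.xg 45 1) =
      C.xg 39 1 * C.xg 44 (t 34) * C.xg 45 1 := by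
    rw [map_mul, cO 34 39 44 _ _ o34 (by omega) (by omega) (by omega) (by decide +kernel),
      cE 34 45 _ _ e3445 (by omega) (by omega) (by decide +kernel), mul_one]
  have step3 : MulAut.conj (C.wg ((List.range' 28 6).map fun r => (r, t r)))
      (C.xg 39 1 * C.xg 44 (t 34) * C.xg 45 1) = C.xg 39 1 * C.xg 44 (t 34) * C.xg 45 1 := by
    rw [map_mul, map_mul, cW _ 39 1 (by omega) (fun r hr => (hg r (by simp [gens, hr])).1)
      (fun r hr => ⟨(n1 r hr).1, (n1 r hr).2.1⟩),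
      cW _ 44 _ (by omega) hM (fun r hr => ⟨(n1 r hr).1, (n1 r hr).2.2.1⟩),
      cW _ 45 1 (by omega) (fun r hr => (hg r (by simp [gens, hr])).2)
      (fun r hr => ⟨(n1 r hr).1, (n1 r hr).2.2.2⟩)]
  have step4 : MulAut.conj (C.xg 27 (t 27)) (C.xg 39 1 * C.xg 44 (t 34) * C.xg 45 1) =
      C.xg 39 1 * C.xg 40 (t 27) * C.xg 44 (t 34) * C.xg 45 1 := by
    rw [map_mul, map_mul, cO 27 39 40 _ _ o27 (by omega) (by omega) (by omega) (by decide +kernel),
      cE 27 44 _ _ e2744 (by omega) (by omega) (by decide +kernel),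
      cE 27 45 _ _ e2745 (by omega) (by omega) (by decide +kernel), mul_one]
  have step5 : MulAut.conj (C.xg 26 (t 26)) (C.xg 39 1 * C.xg 40 (t 27) * C.xg 44 (t 34) * C.xg 45 1) =
      C.xg 39 1 * C.xg 40 (t 27) * C.xg 44 (t 34) * (C.xg 45 1 * C.xg 47 (t 26)) := by
    rw [map_mul, map_mul, map_mul, cE 26 39 _ _ e2639 (by omega) (by omega) (by decide +kernel),
      cE 26 40 _ _ e2640 (by omega) (by omega) (by decide +kernel),
      cE 26 44 _ _ e2644 (by omega) (by omega) (by decide +kernel),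
      cO 26 45 47 _ _ o26 (by omega) (by omega) (by omega) (by decide +kernel), mul_one]
  have step6 : MulAut.conj (C.xg 25 (t 25))
      (C.xg 39 1 * C.xg 40 (t 27) * C.xg 44 (t 34) * (C.xg 45 1 * C.xg 47 (t 26))) =
      C.xg 39 1 * C.xg 40 (t 27) * C.xg 44 (t 34) * (C.xg 45 1 * C.xg 46 (t 25) * C.xg 47 (t 26)) := by
    rw [map_mul, map_mul, map_mul, map_mul, cE 25 39 _ _ e2539 (by omega) (by omega) (by decide +kernel),
      cE 25 40 _ _ e2540 (by omega) (by omega) (by decide +kernel),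
      cE 25 44 _ _ e2544 (by omega) (by omega) (by decide +kernel),
      cE 25 47 _ _ e2547 (by omega) (by omega) (by decide +kernel),
      cO 25 45 46 _ _ o25 (by omega) (by omega) (by omega) (by decide +kernel), mul_one]
  have step7 : MulAut.conj (C.xg 24 (t 24))
      (C.xg 39 1 * C.xg 40 (t 27) * C.xg 44 (t 34) * (C.xg 45 1 * C.xg 46 (t 25) * C.xg 47 (t 26))) =
      orb C (t 27) (t 34) (t 25) (t 24 * t 25 + t 26) := by
    rw [map_mul, map_mul, map_mul, map_mul, map_mul,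
      cE 24 39 _ _ e2439 (by omega) (by omega) (by decide +kernel),
      cE 24 40 _ _ e2440 (by omega) (by omega) (by decide +kernel),
      cE 24 44 _ _ e2444 (by omega) (by omega) (by decide +kernel),
      cE 24 45 _ _ e2445 (by omega) (by omega) (by decide +kernel),
      cE 24 47 _ _ e2447 (by omega) (by omega) (by decide +kernel),
      cO 24 46 47 _ _ o24 (by omega) (by omega) (by omega) (by decide +kernel), orb,
      ← C.xg_add (show 47 < chevF4.nroots by decide +kernel)]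
    simp only [mul_assoc]
  rw [← MulAut.conj_apply]
  conv_lhs => rw [hsplit]
  simp only [map_mul (MulAut.conj (G := GL chevF4.Idx F)), MulAut.mul_apply]
  rw [step1, step2, step3, step4, step5, step6, step7]

theorem orb_eq (a b c e : F) : orb C a b c e = C.wg (six.map fun r => (r,
    if r = 40 then a else if r = 44 then b else if r = 46 then c else if r = 47 then e else 1)) := by
  simp [orb, six, C.wg_cons, C.wg_nil, mul_assoc]

theorem fix_mem {K : Subgroup (GL chevF4.Idx F)} (hK : ∀ r ∈ [33] ++ gens, ∀ x : F, C.xg r x ∈ K)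
    {u : GL chevF4.Idx F} (hu : u ∈ chevF4.posUnipotent F)
    (h : u * (C.xg 39 1 * C.xg 45 1) * u⁻¹ = C.xg 39 1 * C.xg 45 1) : u ∈ K := by
  obtain ⟨t, hut, e⟩ := conj_orbit C hu
  rw [e, orb_eq] at h
  have hv : C.xg 39 1 * C.xg 45 1 = C.wg (six.map fun r => (r,
      if r = 40 then (0 : F) else if r = 44 then 0 else if r = 46 then 0 else if r = 47 then 0 else 1)) := by
    simp [six, C.wg_cons, C.wg_nil, C.xg_zero]
  rw [hv] at h
  have hpos : ∀ r ∈ six, chevF4.IsPosRoot r := by decide +kernel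
  have hco := C.ordered_inj six (by simp [six]) hpos _ _ h
  have h27 : t 27 = 0 := by simpa using hco 40 (by simp [six])
  have h34 : t 34 = 0 := by simpa using hco 44 (by simp [six])
  have h25 : t 25 = 0 := by simpa using hco 46 (by simp [six])
  have h26 : t 26 = 0 := by simpa [h25] using hco 47 (by simp [six])
  rw [hut]
  refine Subgroup.list_prod_mem _ fun x hx => ?_
  obtain ⟨p, hp, rfl⟩ := List.mem_map.1 hx
  obtain ⟨r, hr, rfl⟩ := List.mem_map.1 hp
  have hcase : ∀ r ∈ List.range' 24 24, r ∈ [33] ++ gens ∨ r = 25 ∨ r = 26 ∨ r = 27 ∨ r = 34 := by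
    decide +kernel
  rcases hcase r hr with h | rfl | rfl | rfl | rfl
  · exact hK r h _
  all_goals simp [h25, h26, h27, h34, C.xg_zero]

end


/-- Centralizers of the two remaining classes of involutions in the Chevalley group G of type F₄ over a finite field F of characteristic two (this problem's root numbering for type F₄, from the Chevalley data module: p₁, p₂ short, p₃, p₄ long with indices 33, 27, 25, 24 and negatives 14, 20, 22, 23; U generated by the positive root subgroups). For an element of G with matrix x_47(1)x_44(1) (highest root times highest short root): its centralizer in G is generated by U, X_{−p₂} and X_{−p₃}. For an element of G with matrix x_39(1)x_45(1) (roots (1,2,2,1) and (2,4,2,1), an orthogonal short/long pair): its centralizer in G is generated by X_{p₁}, X_{−p₁}, X_{p₄}, X_{−p₄} and the root subgroups of all positive roots other than p₂ (27), p₃ (25), p₁ + p₂ (34) and p₃ + p₄ (26). -/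
theorem result {F : Type*} [Field F] [Fintype F] [CharP F 2] (w v : GL Cfsg.Lie.chevF4.Idx F) (hw : (w : Matrix Cfsg.Lie.chevF4.Idx Cfsg.Lie.chevF4.Idx F) = Cfsg.Lie.chevF4.x F 47 1 * Cfsg.Lie.chevF4.x F 44 1) (hv : (v : Matrix Cfsg.Lie.chevF4.Idx Cfsg.Lie.chevF4.Idx F) = Cfsg.Lie.chevF4.x F 39 1 * Cfsg.Lie.chevF4.x F 45 1) :
    Cfsg.Lie.chevF4.group F ⊓ Subgroup.centralizer {w} = Cfsg.Lie.chevF4.posUnipotent F ⊔ Cfsg.Lie.chevF4.rootSubgroup F 20 ⊔ Cfsg.Lie.chevF4.rootSubgroup F 22 ∧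
    Cfsg.Lie.chevF4.group F ⊓ Subgroup.centralizer {v} = Cfsg.Lie.chevF4.rootSubgroup F 33 ⊔ Cfsg.Lie.chevF4.rootSubgroup F 14 ⊔ Cfsg.Lie.chevF4.rootSubgroup F 24 ⊔ Cfsg.Lie.chevF4.rootSubgroup F 23 ⊔
      Subgroup.closure {g : GL Cfsg.Lie.chevF4.Idx F | ∃ (r : ℕ) (c : F), Cfsg.Lie.chevF4.IsPosRoot r ∧ r ∉ [27, 25, 34, 26] ∧ (g : Matrix Cfsg.Lie.chevF4.Idx Cfsg.Lie.chevF4.Idx F) = Cfsg.Lie.chevF4.x F r c} := by
  have C : Checked chevF4 F4.fast := F4.checked
  refine ⟨?_, ?_⟩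
  · have h := chkW
    simp only [Bool.and_eq_true] at h
    obtain ⟨⟨⟨⟨hab, hfix⟩, hst⟩, hM⟩, hc⟩ := h
    have hy : C.wg ([44, 47].map fun r => (r, (1 : F))) = w := by
      have hcm := ((C.commute_of_ab (F := F) hab).2 44 (by simp) 47 (by simp) 1 1).eq
      simp only [List.map_cons, List.map_nil, C.wg_cons, C.wg_nil, mul_one]
      rw [hcm]
      exact Units.ext (by rw [hw, Units.val_mul, C.val_xg, C.val_xg])
    rw [← hy, sup_assoc, rootSubgroup_eq, rootSubgroup_eq]
    refine C.central_cent (by simp) hab hfix hst hM hc (by simp) ?_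
    congr 1
    refine le_antisymm (sup_le (grp_mono ?_) (grp_mono ?_)) (C.grp_le ?_)
    · rintro s rfl; exact ⟨1, by simp, rfl⟩
    · rintro s rfl; exact ⟨2, by simp, rfl⟩
    · rintro s ⟨j, hj, rfl⟩ x
      simp only [List.mem_cons, List.not_mem_nil, or_false] at hj
      rcases hj with rfl | rfl
      · exact Subgroup.mem_sup_left (C.xg_mem (S := {20}) rfl x)
      · exact Subgroup.mem_sup_right (C.xg_mem (S := {22}) rfl x)
  have hv' : v = C.xg 39 1 * C.xg 45 1 := Units.ext (by rw [hv, Units.val_mul, C.val_xg, C.val_xg])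
  set K := chevF4.rootSubgroup F 33 ⊔ chevF4.rootSubgroup F 14 ⊔ chevF4.rootSubgroup F 24 ⊔
    chevF4.rootSubgroup F 23 ⊔ Subgroup.closure {g : GL chevF4.Idx F | ∃ (r : ℕ) (c : F),
      chevF4.IsPosRoot r ∧ r ∉ [27, 25, 34, 26] ∧
      (g : Matrix chevF4.Idx chevF4.Idx F) = chevF4.x F r c} with hKdef
  have hgen : ∀ r ∈ [33] ++ gens, r = 14 ∨ r = 23 ∨ chevF4.IsPosRoot r ∧ r ∉ [27, 25, 34, 26] := by
    decide +kernel
  have hK : ∀ r ∈ [33] ++ gens, ∀ x : F, C.xg r x ∈ K := by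
    intro r hr x
    rcases hgen r hr with rfl | rfl | ⟨hp, hn⟩
    · exact Subgroup.mem_sup_left (Subgroup.mem_sup_left (Subgroup.mem_sup_left
        (Subgroup.mem_sup_right (Subgroup.subset_closure ⟨x, rfl⟩))))
    · exact Subgroup.mem_sup_left (Subgroup.mem_sup_right (Subgroup.subset_closure ⟨x, rfl⟩))
    · exact Subgroup.mem_sup_right (Subgroup.subset_closure ⟨r, x, hp, hn, rfl⟩)
  have hKle : K ≤ chevF4.group F ⊓ Subgroup.centralizer {v} := by
    have hrev : ∀ r, r = 33 ∨ r = 14 ∨ r = 24 ∨ r = 23 ∨ (chevF4.IsPosRoot r ∧ r ∉ [27, 25, 34, 26]) →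
        r ∈ [33] ++ gens := by
      intro r hr
      rcases hr with rfl | rfl | rfl | rfl | ⟨hp, hn⟩ <;> try (simp [gens])
      have h1 : ∀ r < 48, chevF4.IsPosRoot r → r ∉ [27, 25, 34, 26] → r ∈ [33] ++ gens := by
        decide +kernel
      simpa [gens] using h1 r hp.1 hp hn
    have hmem : ∀ r ∈ [33] ++ gens, ∀ x : F, C.xg r x ∈ chevF4.group F ⊓ Subgroup.centralizer {v} := by
      intro r hr x
      have hb : ∀ r ∈ [33] ++ gens, r < 48 ∧ 39 ≠ chevF4.neg r ∧ 45 ≠ chevF4.neg r ∧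
          F4.fast.evenC r 39 = true ∧ F4.fast.evenC r 45 = true := by
        decide +kernel
      obtain ⟨h1, h2, h3, h4, h5⟩ := hb r hr
      refine Subgroup.mem_inf.2 ⟨C.xg_mem_group h1 x, Subgroup.mem_centralizer_singleton_iff.2 ?_⟩
      rw [hv']
      exact ((C.comm_of_even h1 (show 39 < 48 by omega) h2 h4 x 1).mul_right
        (C.comm_of_even h1 (show 45 < 48 by omega) h3 h5 x 1)).eq
    rw [hKdef, rootSubgroup_eq, rootSubgroup_eq, rootSubgroup_eq, rootSubgroup_eq]
    refine sup_le (sup_le (sup_le (sup_le ?_ ?_) ?_) ?_) ((Subgroup.closure_le _).2 ?_)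
    · exact C.grp_le fun r hr x => hmem r (hrev r (Or.inl hr)) x
    · exact C.grp_le fun r hr x => hmem r (hrev r (Or.inr (Or.inl hr))) x
    · exact C.grp_le fun r hr x => hmem r (hrev r (Or.inr (Or.inr (Or.inl hr)))) x
    · exact C.grp_le fun r hr x => hmem r (hrev r (Or.inr (Or.inr (Or.inr (Or.inl hr))))) x
    · rintro g ⟨r, c, hp, hn, hg⟩
      rw [C.eq_xg hg]
      exact hmem r (hrev r (Or.inr (Or.inr (Or.inr (Or.inr ⟨hp, hn⟩))))) c
  refine le_antisymm (fun g hg => ?_) hKle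
  obtain ⟨hgG, hgc⟩ := Subgroup.mem_inf.1 hg
  rw [Subgroup.mem_centralizer_singleton_iff] at hgc
  obtain ⟨b, hb, n, hn, u, hu, rfl⟩ := C.exists_bnu hgG
  obtain ⟨v₀, hv₀, h, hh, rfl⟩ := C.mem_borel.1 hb
  have huU : u ∈ chevF4.posUnipotent F := by
    rw [posUnipotent_eq]; exact grp_mem_mono hu fun r hr => hr.1
  have hc := chkV
  simp only [Bool.and_eq_true] at hc
  have hab : F4.fast.abCheck six = true := hc.1.1.1.1.1.1.1.1.1.1.1.1.1.1.1.1.1.1.1.1.1.1.1.1.1
  have hfix : F4.fast.fixCheck [39, 45] six = true := hc.1.1.1.1.1.1.1.1.1.1.1.1.1.1.1.1.1.1.1.1.1.1.1.1.2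
  have hst : F4.fast.stabCheck [(39, 2), (45, 3)] [0, 3] = true :=
    hc.1.1.1.1.1.1.1.1.1.1.1.1.1.1.1.1.1.1.1.1.1.1.1.2
  have hM : F4.fast.torCheck [39, 45] [0, 3] [[], [1, 1], [2, 1], []] = true :=
    hc.1.1.1.1.1.1.1.1.1.1.1.1.1.1.1.1.1.1.1.1.1.1.2
  obtain ⟨t, -, et⟩ := conj_orbit C huU
  obtain ⟨s, -, es⟩ := conj_orbit C (inv_mem hv₀)
  rw [← hv', orb_eq] at et es
  rw [inv_inv] at es
  obtain ⟨χ, hχ, eh⟩ := C.exists_chr (inv_mem hh)
  have hsix : ∀ r ∈ six, chevF4.IsPosRoot r := by decide +kernel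
  have hlt : ∀ w : ℕ → F, ∀ p ∈ six.map (fun r => (r, w r)), p.1 < chevF4.nroots := by
    intro w p hp
    obtain ⟨r, hr, rfl⟩ := List.mem_map.1 hp
    exact (hsix r hr).1
  have hmid : n * (u * v * u⁻¹) * n⁻¹ = h⁻¹ * (v₀⁻¹ * v * v₀) * h⁻¹⁻¹ := by
    calc n * (u * v * u⁻¹) * n⁻¹
        = (v₀ * h)⁻¹ * (v₀ * h * n * u * v) * (v₀ * h * n * u)⁻¹ * (v₀ * h) := by group
      _ = (v₀ * h)⁻¹ * (v * (v₀ * h * n * u)) * (v₀ * h * n * u)⁻¹ * (v₀ * h) := by rw [hgc]
      _ = _ := by group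
  rw [et, es, C.diag_conj_wg hχ eh _ (hlt _), List.map_map] at hmid
  have himg := C.coords_image (by simp [six]) hab hn _ _ hmid
  have hfix' := C.fix_of_check (R := [39, 45]) (by decide +kernel) hfix hn fun r hr => by
    simp only [List.mem_cons, List.not_mem_nil, or_false] at hr
    rcases hr with rfl | rfl <;> exact (himg _ (by simp [six]) (by simp)).1
  obtain ⟨⟨h', hh', w', hw', rfl⟩, hcoef⟩ := C.mem_of_stab (R := [(39, (2 : ℤ)), (45, 3)]) (J := [0, 3])
    (by decide +kernel) hst hn (by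
      intro p hp
      simp only [List.mem_cons, List.not_mem_nil, or_false] at hp
      rcases hp with rfl | rfl
      exacts [hfix' 39 (by simp), hfix' 45 (by simp)])
  have huK : u ∈ K := by
    have hle : grp chevF4 F (C.inv (h' * w')) ≤ K := C.grp_le fun r hr x => by
      obtain ⟨hp, hneg⟩ := hr
      have hz : ∀ k < 4, k ∉ [0, 3] → F4.fast.cf r k = 0 := by
        intro k hk hkJ
        have h1 := C.coef_nonneg hp (j := k) hk
        have h2 := C.coef_nonneg ((C.neg_pos_iff (C.sg_lt hn hp.1)).2 hneg) (j := k) hk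
        rw [C.root.coef_neg (C.sg_lt hn hp.1) hk, hcoef r hp.1 k hk hkJ] at h2
        simp only [Fast.aux] at h1 h2
        omega
      rcases levi_roots r hp.1 hp (hz 1 (by omega) (by simp)) (hz 2 (by omega) (by simp)) with rfl | rfl
      · exact hK 24 (by simp [gens]) x
      · exact hK 33 (by simp) x
    exact hle hu
  have hKj : ∀ j ∈ ([0, 3] : List ℕ), ∀ x : F, C.xg (chevF4.simple j) x ∈ K ∧
      C.xg (chevF4.neg (chevF4.simple j)) x ∈ K := by
    intro j hj x
    have hs : ∀ j ∈ ([0, 3] : List ℕ), chevF4.simple j ∈ [33] ++ gens ∧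
        chevF4.neg (chevF4.simple j) ∈ [33] ++ gens := by decide +kernel
    exact ⟨hK _ (hs j hj).1 x, hK _ (hs j hj).2 x⟩
  have hwK := C.closure_ng_le hKj hw'
  set d := h * h' with hd
  have hdv : v₀ * d ∈ Subgroup.centralizer {v} := by
    have := mul_mem (mul_mem (Subgroup.mem_centralizer_singleton_iff.2 hgc)
      (inv_mem (Subgroup.mem_inf.1 (hKle huK)).2)) (inv_mem (Subgroup.mem_inf.1 (hKle hwK)).2)
    convert this using 1
    rw [hd]; group
  have hdd : d ∈ chevF4.diagonalSubgroup F := mul_mem hh hh'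
  obtain ⟨ψ, hψ, eψ⟩ := C.exists_chr hdd
  have hconj : d * v * d⁻¹ = v₀⁻¹ * v * v₀ := by
    have := Subgroup.mem_centralizer_singleton_iff.1 hdv
    calc d * v * d⁻¹ = v₀⁻¹ * (v₀ * d * v) * d⁻¹ := by group
      _ = v₀⁻¹ * (v * (v₀ * d)) * d⁻¹ := by rw [this]
      _ = _ := by group
  have hv6 : v = C.wg (six.map fun r => (r,
      if r = 40 then (0 : F) else if r = 44 then 0 else if r = 46 then 0 else if r = 47 then 0 else 1)) := by
    rw [hv']; simp [six, C.wg_cons, C.wg_nil, C.xg_zero]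
  have hψ1 : ψ 39 = 1 ∧ ψ 45 = 1 := by
    have h1 := hconj
    rw [es] at h1
    rw [hv6, C.diag_conj_wg hψ eψ _ (hlt _), List.map_map] at h1
    have hco := C.ordered_inj six (by simp [six]) hsix _ _ h1
    exact ⟨by simpa using hco 39 (by simp [six]), by simpa using hco 45 (by simp [six])⟩
  have hdK : d ∈ K := C.diag_mem_of hKj (by decide +kernel) hM hdd fun r hr => by
    simp only [List.mem_cons, List.not_mem_nil, or_false] at hr
    rcases hr with rfl | rfl <;> rw [C.diag_xg hψ eψ (by decide +kernel)] <;> simp [hψ1.1, hψ1.2]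
  have hvK : v₀ ∈ K := by
    refine fix_mem C hK hv₀ ?_
    rw [← hv']
    have h1 : v₀ ∈ Subgroup.centralizer {v} := by
      simpa using mul_mem hdv (inv_mem (Subgroup.mem_inf.1 (hKle hdK)).2)
    rw [Subgroup.mem_centralizer_singleton_iff.1 h1, mul_inv_cancel_right]
  have := mul_mem (mul_mem (mul_mem hvK hdK) hwK) huK
  convert this using 1
  rw [hd]; group

end Cfsg.Agent.S2179
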