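import Cfsg.Statements.S2249
import Cfsg.Agent.Lib.GS.SylowGoodVal

set_option autoImplicit false
open Cfsg

namespace Cfsg.Agent.S2249

open Matrix

universe v w

section Wreath

variable (F : Type v) [Field F] (A M R : Type w) [Fintype A] [DecidableEq A] [Fintype M] [DecidableEq M]
  [Fintype R] [DecidableEq R]

/-- block diagonal embedding -/
def wD : (M → GL A F) × GL R F →* GL ((A × M) ⊕ R) F :=
  MonoidHom.toHomUnits
    { toFun := fun f => Matrix.fromBlocks (Matrix.blockDiagonal fun k => (f.1 k : Matrix A A F)) 0 0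
        (f.2 : Matrix R R F)
      map_one' := by
        have h1 : (fun k : M => (((1 : (M → GL A F) × GL R F).1 k : GL A F) : Matrix A A F)) = 1 := rfl
        rw [h1, Matrix.blockDiagonal_one]
        exact Matrix.fromBlocks_one
      map_mul' := fun f g => by
        rw [Matrix.fromBlocks_multiply]
        simp [← Matrix.blockDiagonal_mul] }

/-- block permutations -/
def wP : Equiv.Perm M →* GL ((A × M) ⊕ R) F :=
  MonoidHom.toHomUnits
    { toFun := fun σ => Matrix.fromBlocks (Equiv.Perm.permMatrix F (Equiv.prodCongrRight fun _ : A => σ⁻¹)) 0 0 1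
      map_one' := by
        rw [inv_one, show (Equiv.prodCongrRight fun _ : A => (1 : Equiv.Perm M)) = 1 from rfl,
          Matrix.permMatrix_one, Matrix.fromBlocks_one]
      map_mul' := fun σ τ => by
        simp only [Matrix.fromBlocks_multiply, Matrix.zero_mul, Matrix.mul_zero, add_zero, zero_add, one_mul]
        rw [← Matrix.permMatrix_mul]
        congr 2 }

theorem wD_injective : Function.Injective (wD F A M R) := by
  intro f g h
  have h' : Matrix.fromBlocks (Matrix.blockDiagonal fun k => (f.1 k : Matrix A A F)) 0 0 (f.2 : Matrix R R F) =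
      Matrix.fromBlocks (Matrix.blockDiagonal fun k => (g.1 k : Matrix A A F)) 0 0 (g.2 : Matrix R R F) :=
    congrArg Units.val h
  rw [Matrix.fromBlocks_inj, Matrix.blockDiagonal_inj] at h'
  exact Prod.ext (funext fun k => Units.ext (congrFun h'.1 k)) (Units.ext h'.2.2.2)

variable {F A M R}

theorem wP_mul_apply (σ : Equiv.Perm M) (X : Matrix (A × M) (A × M) F) (x y : A × M) :
    (Equiv.Perm.permMatrix F (Equiv.prodCongrRight fun _ : A => σ⁻¹) * X) x y = X (x.1, σ.symm x.2) y := by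
  rw [Equiv.Perm.permMatrix, PEquiv.toMatrix_toPEquiv_mul]
  rfl

theorem mul_wP_apply (σ : Equiv.Perm M) (X : Matrix (A × M) (A × M) F) (x y : A × M) :
    (X * Equiv.Perm.permMatrix F (Equiv.prodCongrRight fun _ : A => σ⁻¹)) x y = X x (y.1, σ y.2) := by
  rw [Equiv.Perm.permMatrix, PEquiv.mul_toMatrix_toPEquiv]
  rfl

theorem wP_conj (σ : Equiv.Perm M) (f : (M → GL A F) × GL R F) :
    wP F A M R σ * wD F A M R f * (wP F A M R σ)⁻¹ = wD F A M R (fun i => f.1 (σ.symm i), f.2) := by
  rw [mul_inv_eq_iff_eq_mul]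
  apply Units.ext
  show Matrix.fromBlocks _ 0 0 1 * Matrix.fromBlocks _ 0 0 _ =
    Matrix.fromBlocks _ 0 0 _ * Matrix.fromBlocks _ 0 0 1
  simp only [Matrix.fromBlocks_multiply, Matrix.zero_mul, Matrix.mul_zero, add_zero, zero_add, one_mul, mul_one]
  congr 1
  ext ⟨a, k⟩ ⟨b, l⟩
  rw [wP_mul_apply, mul_wP_apply]
  simp only [blockDiagonal_apply, Equiv.symm_apply_eq]

theorem wDP_inj (hA : Nonempty A) (f : (M → GL A F) × GL R F) (σ : Equiv.Perm M)
    (h : wD F A M R f * wP F A M R σ = 1) : f = 1 ∧ σ = 1 := by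
  obtain ⟨a⟩ := hA
  have h' : Matrix.fromBlocks (Matrix.blockDiagonal fun k => (f.1 k : Matrix A A F)) 0 0 (f.2 : Matrix R R F) *
      Matrix.fromBlocks (Equiv.Perm.permMatrix F (Equiv.prodCongrRight fun _ : A => σ⁻¹)) 0 0 1 = 1 :=
    congrArg Units.val h
  rw [Matrix.fromBlocks_multiply, ← Matrix.fromBlocks_one, Matrix.fromBlocks_inj] at h'
  have hσ : σ = 1 := by
    refine Equiv.ext fun k => by_contra fun hk => ?_
    have := congrFun (congrFun h'.1 (a, k)) (a, k)
    rw [Matrix.zero_mul, add_zero, mul_wP_apply, blockDiagonal_apply, if_neg (by simpa [eq_comm] using hk)] at this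
    simp at this
  subst hσ
  rw [map_one, mul_one, ← map_one (wD F A M R)] at h
  exact ⟨wD_injective F A M R h, rfl⟩

variable (F A M R) in
/-- the wreath subgroup -/
def wK : Subgroup (GL ((A × M) ⊕ R) F) := (wD F A M R).range ⊔ (wP F A M R).range

theorem card_wK [Finite F] (hA : Nonempty A) :
    Nat.card (wK F A M R) = Nat.card (GL A F) ^ Fintype.card M * Nat.card (GL R F) * (Fintype.card M).factorial := by
  have hnorm : (wP F A M R).range ≤ Subgroup.normalizer ((wD F A M R).range : Set (GL ((A × M) ⊕ R) F)) := by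
    rintro _ ⟨σ, rfl⟩
    refine Subgroup.mem_normalizer_fintype fun u hu => ?_
    obtain ⟨z, rfl⟩ := hu
    exact ⟨_, (wP_conj σ z).symm⟩
  have hinj : Function.Injective fun y : ((M → GL A F) × GL R F) × Equiv.Perm M =>
      wD F A M R y.1 * wP F A M R y.2 := by
    rintro ⟨f, σ⟩ ⟨g, τ⟩ h
    obtain ⟨h1, h2⟩ := wDP_inj hA (g⁻¹ * f) (σ * τ⁻¹) (by
      simp only [map_mul, map_inv] at *
      rw [show (wD F A M R g)⁻¹ * wD F A M R f * (wP F A M R σ * (wP F A M R τ)⁻¹) =
        (wD F A M R g)⁻¹ * (wD F A M R f * wP F A M R σ) * (wP F A M R τ)⁻¹ by group, h]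
      group)
    exact Prod.ext (inv_mul_eq_one.1 h1).symm (mul_inv_eq_one.1 h2)
  have hset : (wK F A M R : Set (GL ((A × M) ⊕ R) F)) =
      Set.range fun y : ((M → GL A F) × GL R F) × Equiv.Perm M => wD F A M R y.1 * wP F A M R y.2 := by
    rw [wK, Subgroup.coe_mul_of_right_le_normalizer_left _ _ hnorm]
    ext z
    simp only [Set.mem_range, Prod.exists]
    constructor
    · rintro ⟨_, ⟨f, rfl⟩, _, ⟨σ, rfl⟩, rfl⟩; exact ⟨f.1, f.2, σ, rfl⟩
    · rintro ⟨f, g, σ, rfl⟩; exact ⟨_, ⟨(f, g), rfl⟩, _, ⟨σ, rfl⟩, rfl⟩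
  have : Nat.card (wK F A M R) = Nat.card (((M → GL A F) × GL R F) × Equiv.Perm M) := by
    rw [← Nat.card_range_of_injective hinj, ← hset]; rfl
  rw [this, Nat.card_prod, Nat.card_prod, Nat.card_fun, Nat.card_perm, Nat.card_eq_fintype_card (α := M)]

end Wreath

/-- reindexing -/
def reGL {F : Type v} [Field F] {ι κ : Type*} [Fintype ι] [DecidableEq ι] [Fintype κ] [DecidableEq κ]
    (e : ι ≃ κ) : GL ι F ≃* GL κ F := Units.mapEquiv (Matrix.reindexAlgEquiv F F e).toMulEquiv

theorem exists_normal_elem {G : Type*} [Group G] [Finite G] (E0 K : Subgroup G)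
    (hcomm : ∀ a ∈ E0, ∀ b ∈ E0, a * b = b * a) (hsq : ∀ a ∈ E0, a ^ 2 = 1) {k : ℕ} (hcard : Nat.card E0 = 2 ^ k)
    (hK : K ≤ Subgroup.normalizer (E0 : Set G))
    (hv : (Nat.card G).factorization 2 ≤ (Nat.card K).factorization 2) (S : Sylow 2 G) :
    ∃ E : Subgroup ↥(S : Subgroup G), E.Normal ∧ Cfsg.IsElementaryAbelian 2 E ∧ 2 ^ k ≤ Nat.card ↥E := by
  haveI : Fact (Nat.Prime 2) := ⟨Nat.prime_two⟩
  set N := Subgroup.normalizer (E0 : Set G)
  obtain ⟨Q⟩ := (inferInstance : Nonempty (Sylow 2 N))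
  have hv' : (Nat.card N).factorization 2 = (Nat.card G).factorization 2 :=
    le_antisymm ((Nat.factorization_le_iff_dvd Nat.card_pos.ne' Nat.card_pos.ne').2
        (Subgroup.card_subgroup_dvd_card _) 2)
      (hv.trans ((Nat.factorization_le_iff_dvd Nat.card_pos.ne' Nat.card_pos.ne').2 (Subgroup.card_dvd_of_le hK) 2))
  let P : Sylow 2 G := Sylow.ofCard ((Q : Subgroup N).map N.subtype) (by
    rw [Subgroup.card_map_of_injective N.subtype_injective, Q.card_eq_multiplicity, hv'])
  have hE0P : E0 ≤ (P : Subgroup G) := by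
    haveI : (E0.subgroupOf N).Normal := Subgroup.normal_subgroupOf_iff Subgroup.le_normalizer |>.2
      fun h g hh hg => (Subgroup.mem_normalizer_iff.1 hg h).1 hh
    have hp : IsPGroup 2 (E0.subgroupOf N) := by
      refine IsPGroup.of_card (n := k) ?_
      rw [Nat.card_congr (Subgroup.subgroupOfEquivOfLe Subgroup.le_normalizer).toEquiv, hcard]
    have hle : E0.subgroupOf N ≤ (Q : Subgroup N) := by
      have := Q.3 (Q.2.to_sup_of_normal_right hp) le_sup_left
      rw [← this]; exact le_sup_right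
    intro x hx
    exact ⟨⟨x, Subgroup.le_normalizer hx⟩, hle hx, rfl⟩
  obtain ⟨g, hg⟩ := MulAction.exists_smul_eq G P S
  have hSeq : (S : Subgroup G) = (P : Subgroup G).map (MulAut.conj g).toMonoidHom := by
    rw [← hg]; rfl
  set E1 := E0.map (MulAut.conj g).toMonoidHom with hE1
  have hE1S : E1 ≤ (S : Subgroup G) := hSeq ▸ Subgroup.map_mono hE0P
  refine ⟨E1.subgroupOf S, ?_, ⟨?_, ?_⟩, ?_⟩
  · rw [Subgroup.normal_subgroupOf_iff hE1S]
    intro h s hh hs
    rw [hSeq] at hs
    obtain ⟨x, hx, rfl⟩ := hs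
    obtain ⟨e, he, rfl⟩ := hh
    have hxN : x ∈ N := by
      obtain ⟨y, -, rfl⟩ := (hx : x ∈ ((Q : Subgroup N).map N.subtype))
      exact y.2
    exact ⟨x * e * x⁻¹, (Subgroup.mem_normalizer_iff.1 hxN e).1 he, by simp only [map_mul, map_inv]⟩
  · refine ⟨⟨fun a b => ?_⟩⟩
    apply Subtype.ext; apply Subtype.ext
    obtain ⟨e, he, hea⟩ := a.2
    obtain ⟨e', he', heb⟩ := b.2
    simp only [Subgroup.coe_mul]
    rw [← show (MulAut.conj g).toMonoidHom e = ((a : (S : Subgroup G)) : G) from hea,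
      ← show (MulAut.conj g).toMonoidHom e' = ((b : (S : Subgroup G)) : G) from heb, ← map_mul, ← map_mul,
      hcomm e he e' he']
  · intro a ha
    obtain ⟨e, he, hea⟩ := ha
    apply Subtype.ext
    rw [Subgroup.coe_pow, Subgroup.coe_one, ← show (MulAut.conj g).toMonoidHom e = ((a : (S : Subgroup G)) : G) from hea,
      ← map_pow, hsq e he, map_one]
  · rw [Nat.card_congr (Subgroup.subgroupOfEquivOfLe hE1S).toEquiv, hE1,
      Subgroup.card_map_of_injective (MulAut.conj g).injective, hcard]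

/-- the lower bound from a block decomposition -/
theorem lower {F : Type v} [Field F] [Fintype F] (h2 : (2 : F) ≠ 0) {n a m r : ℕ} [NeZero a] (hr : r ≤ 1)
    (hn : a * m + r = n)
    (hv : (Nat.card (GL (Fin n) F)).factorization 2 ≤
      (Nat.card (GL (Fin a) F) ^ m * Nat.card (GL (Fin r) F) * m.factorial).factorization 2)
    (S : Sylow 2 (GL (Fin n) F)) :
    ∃ E : Subgroup ↥(S : Subgroup (GL (Fin n) F)), E.Normal ∧ Cfsg.IsElementaryAbelian 2 E ∧
      2 ^ (m + r) ≤ Nat.card ↥E := by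
  classical
  have hneg : ∀ (k : ℕ) [NeZero k], orderOf (-1 : GL (Fin k) F) = 2 := by
    intro k _
    rw [orderOf_eq_prime_iff]
    refine ⟨by rw [neg_one_sq], fun h => ?_⟩
    have := congrArg (fun X : GL (Fin k) F => (X : Matrix (Fin k) (Fin k) F) 0 0) h
    simp at this
    exact h2 (by linear_combination -this)
  have hsign : ∀ k : ℕ, k ≤ 1 → Nat.card (Subgroup.zpowers (-1 : GL (Fin k) F)) = 2 ^ k := by
    intro k hk
    interval_cases k
    · rw [pow_zero, Subgroup.card_eq_one]
      exact Subsingleton.elim _ _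
    · rw [Nat.card_zpowers, hneg, pow_one]
  have hval : ∀ {k : ℕ}, ∀ z ∈ Subgroup.zpowers (-1 : GL (Fin k) F), z = 1 ∨ z = -1 := by
    rintro k _ ⟨j, rfl⟩
    rcases Int.even_or_odd j with hk | hk
    · exact Or.inl hk.neg_one_zpow
    · exact Or.inr hk.neg_one_zpow
  let Z : Subgroup ((Fin m → GL (Fin a) F) × GL (Fin r) F) :=
    (Subgroup.pi Set.univ fun _ : Fin m => Subgroup.zpowers (-1 : GL (Fin a) F)).prod
      (Subgroup.zpowers (-1 : GL (Fin r) F))
  have hZcentral : ∀ z ∈ Z, ∀ f, f * z = z * f := by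
    rintro ⟨z1, z2⟩ ⟨hz1, hz2⟩ ⟨f1, f2⟩
    refine Prod.ext (funext fun i => ?_) ?_
    · rcases (hval _ (hz1 i (Set.mem_univ i)) : z1 i = 1 ∨ z1 i = -1) with h | h <;> simp [h]
    · rcases (hval _ hz2 : z2 = 1 ∨ z2 = -1) with h | h <;> simp [h]
  have hZsq : ∀ z ∈ Z, z ^ 2 = 1 := by
    rintro ⟨z1, z2⟩ ⟨hz1, hz2⟩
    refine Prod.ext (funext fun i => ?_) ?_
    · rcases (hval _ (hz1 i (Set.mem_univ i)) : z1 i = 1 ∨ z1 i = -1) with h | h <;> simp [h]
    · rcases (hval _ hz2 : z2 = 1 ∨ z2 = -1) with h | h <;> simp [h]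
  let e : (Fin a × Fin m) ⊕ Fin r ≃ Fin n :=
    (Equiv.sumCongr finProdFinEquiv (Equiv.refl _)).trans (finSumFinEquiv.trans (finCongr hn))
  let Θ := (reGL (F := F) e).toMonoidHom
  have hΘ : Function.Injective Θ := (reGL (F := F) e).injective
  let Φ := Θ.comp (wD F (Fin a) (Fin m) (Fin r))
  have hΦ : Function.Injective Φ := hΘ.comp (wD_injective _ _ _ _)
  refine exists_normal_elem (Z.map Φ) ((wK F (Fin a) (Fin m) (Fin r)).map Θ) ?_ ?_ ?_ ?_ ?_ S
  · rintro _ ⟨x, hx, rfl⟩ _ ⟨y, hy, rfl⟩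
    rw [← map_mul, ← map_mul, hZcentral y hy x]
  · rintro _ ⟨x, hx, rfl⟩
    rw [← map_pow, hZsq x hx, map_one]
  · rw [Subgroup.card_map_of_injective hΦ]
    rw [Nat.card_congr (Subgroup.prodEquiv _ _).toEquiv, Nat.card_prod, Lib.GS.card_pi_univ, Nat.card_zpowers,
      hneg, hsign r hr, pow_add]
  · rw [Subgroup.map_le_iff_le_comap, wK, sup_le_iff]
    constructor
    · rintro _ ⟨f, rfl⟩
      refine Subgroup.mem_normalizer_fintype fun u hu => ?_
      obtain ⟨z, hz, rfl⟩ := hu
      refine ⟨z, hz, ?_⟩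
      show Φ z = Φ f * Φ z * (Φ f)⁻¹
      rw [← map_mul, hZcentral z hz f, map_mul, mul_inv_cancel_right]
    · rintro _ ⟨σ, rfl⟩
      refine Subgroup.mem_normalizer_fintype fun u hu => ?_
      obtain ⟨z, ⟨hz1, hz2⟩, rfl⟩ := hu
      refine ⟨(fun i => z.1 (σ.symm i), z.2), ⟨fun i _ => hz1 _ (Set.mem_univ _), hz2⟩, ?_⟩
      show Θ (wD _ _ _ _ _) = Θ (wP _ _ _ _ σ) * Θ (wD _ _ _ _ z) * (Θ (wP _ _ _ _ σ))⁻¹
      rw [← map_inv, ← map_mul, ← map_mul, wP_conj]
  · rw [Subgroup.card_map_of_injective hΘ, card_wK inferInstance, Fintype.card_fin]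
    exact hv

section Diag

variable {F : Type v} [Field F] {n : ℕ}

theorem common_eig (h2 : (2 : F) ≠ 0) (l : Finset (Matrix (Fin n) (Fin n) F)) :
    (∀ g ∈ l, g * g = 1) → (∀ g ∈ l, ∀ h ∈ l, g * h = h * g) →
      ∀ v : Fin n → F, v ∈ Submodule.span F {w : Fin n → F | ∀ g ∈ l, g *ᵥ w = w ∨ g *ᵥ w = -w} := by
  classical
  induction l using Finset.induction_on with
  | empty => exact fun _ _ v => Submodule.subset_span (fun g hg => absurd hg (Finset.notMem_empty g))
  | insert g l hg ih =>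
    intro hinv hcomm v
    refine Submodule.span_le.2 ?_ (ih (fun x hx => hinv x (Finset.mem_insert_of_mem hx))
      (fun x hx y hy => hcomm x (Finset.mem_insert_of_mem hx) y (Finset.mem_insert_of_mem hy)) v)
    intro w hw
    have hgw : g *ᵥ (g *ᵥ w) = w := by
      rw [Matrix.mulVec_mulVec, hinv g (Finset.mem_insert_self g l), Matrix.one_mulVec]
    have key : ∀ s : F, s = 1 ∨ s = -1 → (2 : F)⁻¹ • (w + s • (g *ᵥ w)) ∈
        {w : Fin n → F | ∀ x ∈ insert g l, x *ᵥ w = w ∨ x *ᵥ w = -w} := by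
      intro s hs x hx
      rcases Finset.mem_insert.1 hx with rfl | hxl
      · rw [Matrix.mulVec_smul, Matrix.mulVec_add, Matrix.mulVec_smul, hgw]
        rcases hs with rfl | rfl
        · left; simp [add_comm]
        · right; simp [neg_add_rev, sub_eq_add_neg, add_comm]
      · have hxg : x *ᵥ (g *ᵥ w) = g *ᵥ (x *ᵥ w) := by
          rw [Matrix.mulVec_mulVec, Matrix.mulVec_mulVec,
            hcomm x hx g (Finset.mem_insert_self g l)]
        rw [Matrix.mulVec_smul, Matrix.mulVec_add, Matrix.mulVec_smul, hxg]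
        rcases hw x hxl with h | h <;> rw [h]
        · exact Or.inl rfl
        · right; simp [Matrix.mulVec_neg, add_comm]
    have hw2 : w = (2 : F)⁻¹ • (w + (1 : F) • (g *ᵥ w)) + (2 : F)⁻¹ • (w + (-1 : F) • (g *ᵥ w)) := by
      rw [← smul_add, one_smul, neg_one_smul, add_add_add_comm, add_neg_cancel, add_zero, ← two_smul F, smul_smul,
        inv_mul_cancel₀ h2, one_smul]
    rw [SetLike.mem_coe, hw2]
    exact Submodule.add_mem _ (Submodule.subset_span (key 1 (Or.inl rfl))) (Submodule.subset_span (key (-1) (Or.inr rfl)))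

theorem exists_diag [Fintype F] (h2 : (2 : F) ≠ 0) (E : Subgroup (GL (Fin n) F))
    (hcomm : ∀ a ∈ E, ∀ b ∈ E, a * b = b * a) (hsq : ∀ a ∈ E, a ^ 2 = 1) :
    ∃ (P : GL (Fin n) F) (c : Fin n → E → F), ∀ e : E,
      ((P⁻¹ * (e : GL (Fin n) F) * P : GL (Fin n) F) : Matrix (Fin n) (Fin n) F) = Matrix.diagonal (fun i => c i e) ∧
      ∀ i, c i e = 1 ∨ c i e = -1 := by
  classical
  haveI : Fintype E := Fintype.ofFinite E
  let l : Finset (Matrix (Fin n) (Fin n) F) := (Finset.univ : Finset E).image fun e : E => ((e : GL (Fin n) F) : Matrix _ _ F)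
  let T := {w : Fin n → F | ∀ g ∈ l, g *ᵥ w = w ∨ g *ᵥ w = -w}
  have htop : ∀ v : Fin n → F, v ∈ Submodule.span F T := by
    refine common_eig h2 l ?_ ?_
    · intro g hg
      obtain ⟨e, -, rfl⟩ := Finset.mem_image.1 hg
      rw [← Units.val_mul, ← pow_two, hsq e e.2, Units.val_one]
    · intro g hg g' hg'
      obtain ⟨e, -, rfl⟩ := Finset.mem_image.1 hg
      obtain ⟨e', -, rfl⟩ := Finset.mem_image.1 hg'
      rw [← Units.val_mul, hcomm e e.2 e' e'.2, Units.val_mul]
  obtain ⟨b, hbT, hbspan, hbli⟩ := exists_linearIndependent F T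
  have hB := Module.Basis.mk hbli (by rw [Subtype.range_coe, hbspan]; exact fun v _ => htop v)
  let ε : Fin n ≃ b := (Pi.basisFun F (Fin n)).indexEquiv hB
  let u : Fin n → Fin n → F := fun j => (ε j : Fin n → F)
  have hu : LinearIndependent F u := hbli.comp ε ε.injective
  obtain ⟨P, hP⟩ : IsUnit (Matrix.of fun i j => u j i) := Matrix.linearIndependent_cols_iff_isUnit.1 hu
  have hc : ∀ (i : Fin n) (e : E), ∃ s : F, (s = 1 ∨ s = -1) ∧
      ((e : GL (Fin n) F) : Matrix (Fin n) (Fin n) F) *ᵥ u i = s • u i := by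
    intro i e
    rcases hbT (ε i).2 _ (Finset.mem_image_of_mem _ (Finset.mem_univ e)) with h | h
    · exact ⟨1, Or.inl rfl, by rw [one_smul]; exact h⟩
    · exact ⟨-1, Or.inr rfl, by rw [neg_one_smul]; exact h⟩
  choose c hc1 hc2 using hc
  refine ⟨P, c, fun e => ⟨?_, fun i => hc1 i e⟩⟩
  have : ((e : GL (Fin n) F) : Matrix (Fin n) (Fin n) F) * (P : Matrix (Fin n) (Fin n) F) =
      (P : Matrix (Fin n) (Fin n) F) * Matrix.diagonal (fun i => c i e) := by
    ext i j
    rw [Matrix.mul_diagonal, hP, Matrix.of_apply, mul_comm (u j i)]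
    have := congrFun (hc2 j e) i
    simpa [Matrix.mulVec, dotProduct, Matrix.mul_apply] using this
  rw [Units.val_mul, Units.val_mul, mul_assoc, this, ← mul_assoc, Units.inv_mul, one_mul]

theorem card_le_image [Fintype F] [DecidableEq F] (E : Subgroup (GL (Fin n) F))
    (P : GL (Fin n) F) (c : Fin n → E → F) [DecidableEq (E → F)]
    (hc : ∀ e : E, ((P⁻¹ * (e : GL (Fin n) F) * P : GL (Fin n) F) : Matrix (Fin n) (Fin n) F) =
      Matrix.diagonal (fun i => c i e) ∧ ∀ i, c i e = 1 ∨ c i e = -1) :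
    Nat.card E ≤ 2 ^ (Finset.univ.image c).card := by
  have hinj : Function.Injective fun (e : E) (χ : ↥(Finset.univ.image c)) => decide (χ.1 e = 1) := by
    intro e f h
    have hcc : (fun i => c i e) = fun i => c i f := by
      funext i
      have := congrFun h ⟨c i, Finset.mem_image_of_mem _ (Finset.mem_univ i)⟩
      simp only [decide_eq_decide] at this
      rcases (hc e).2 i with h1 | h1
      · rw [h1, this.1 h1]
      · rcases (hc f).2 i with h3 | h3
        · rw [h3, this.2 h3]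
        · rw [h1, h3]
    have := (hc e).1.trans ((congrArg Matrix.diagonal hcc).trans (hc f).1.symm)
    exact Subtype.ext (mul_left_cancel (mul_right_cancel (Units.ext this)))
  refine (Nat.card_le_card_of_injective _ hinj).trans ?_
  rw [Nat.card_fun, Nat.card_eq_fintype_card (α := Bool), Nat.card_eq_fintype_card, Fintype.card_coe,
    Fintype.card_bool]

end Diag

theorem exists_sum_fibre {ι β : Type*} [Fintype ι] [DecidableEq β] (c : ι → β) (T : β → β)
    (hT : Function.Injective T)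
    (h : ∀ χ ∈ Finset.univ.image c,
      (Finset.univ.filter fun i => c i = χ).card ≤ (Finset.univ.filter fun i => c i = T χ).card) :
    ∀ χ ∈ Finset.univ.image c,
      (Finset.univ.filter fun i => c i = χ).card = (Finset.univ.filter fun i => c i = T χ).card := by
  classical
  set I := Finset.univ.image c with hI
  have hTI : I.image T = I := by
    refine Finset.eq_of_subset_of_card_le (fun χ hχ => ?_) (by rw [Finset.card_image_of_injective _ hT])
    obtain ⟨ψ, hψ, rfl⟩ := Finset.mem_image.1 hχ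
    have hpos : 0 < (Finset.univ.filter fun i => c i = ψ).card := by
      obtain ⟨i, hi, rfl⟩ := Finset.mem_image.1 hψ
      exact Finset.card_pos.2 ⟨i, by simp⟩
    obtain ⟨i, hi⟩ := Finset.card_pos.1 (hpos.trans_le (h ψ hψ))
    exact Finset.mem_image.2 ⟨i, Finset.mem_univ i, (Finset.mem_filter.1 hi).2⟩
  have hsum : ∑ χ ∈ I, (Finset.univ.filter fun i => c i = χ).card =
      ∑ χ ∈ I, (Finset.univ.filter fun i => c i = T χ).card := by
    conv_lhs => rw [← hTI]
    rw [Finset.sum_image hT.injOn]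
  exact (Finset.sum_eq_sum_iff_of_le h).1 hsum

theorem mono_dvd {F : Type v} [Field F] [Fintype F] {W : Type} [Fintype W] [DecidableEq W]
    (H : Subgroup (GL W F))
    (hmono : ∀ z ∈ H, ∃ σ : Equiv.Perm W, ∀ i j, i ≠ σ j → (z : Matrix W W F) i j = 0) :
    Nat.card H ∣ (Fintype.card F - 1) ^ Fintype.card W * (Fintype.card W).factorial := by
  classical
  let e : W ≃ (Fin 1 × W) ⊕ Fin 0 := (Equiv.uniqueProd W (Fin 1)).symm.trans (Equiv.sumEmpty _ _).symm
  let Θ := (reGL (F := F) e).toMonoidHom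
  have hle : H.map Θ ≤ wK F (Fin 1) W (Fin 0) := by
    rintro _ ⟨z, hz, rfl⟩
    obtain ⟨σ, hσ⟩ := hmono z hz
    have hne : ∀ j, (z : Matrix W W F) (σ j) j ≠ 0 := by
      intro j h0
      have hcol : (z : Matrix W W F).col j = 0 := funext fun i => by
        by_cases hi : i = σ j
        · subst hi; exact h0
        · exact hσ i j hi
      exact (Matrix.linearIndependent_cols_iff_isUnit.2 z.isUnit).ne_zero j hcol
    let d : W → GL (Fin 1) F := fun i => Matrix.GeneralLinearGroup.mkOfDetNeZero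
      (Matrix.of fun _ _ => (z : Matrix W W F) i (σ.symm i)) (by
        rw [Matrix.det_fin_one]; simpa using hne (σ.symm i))
    have : Θ z = wD F (Fin 1) W (Fin 0) (d, 1) * wP F (Fin 1) W (Fin 0) σ := by
      apply Units.ext
      ext (⟨a, i⟩ | x) (⟨b, j⟩ | y)
      · show (z : Matrix W W F) i j = (Matrix.fromBlocks (Matrix.blockDiagonal fun k => (d k : Matrix (Fin 1) (Fin 1) F)) 0 0
          ((1 : GL (Fin 0) F) : Matrix (Fin 0) (Fin 0) F) *
          Matrix.fromBlocks (Equiv.Perm.permMatrix F (Equiv.prodCongrRight fun _ : Fin 1 => σ⁻¹)) 0 0 1 : Matrix _ _ F)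
            (Sum.inl (a, i)) (Sum.inl (b, j))
        rw [Matrix.fromBlocks_multiply, Matrix.fromBlocks_apply₁₁, Matrix.zero_mul, add_zero, mul_wP_apply,
          Matrix.blockDiagonal_apply]
        by_cases h : i = σ j
        · rw [if_pos h]; subst h; simp [d]
        · rw [if_neg h]; exact hσ i j h
      · exact y.elim0
      · exact x.elim0
      · exact x.elim0
    rw [this]
    exact mul_mem (Subgroup.mem_sup_left ⟨_, rfl⟩) (Subgroup.mem_sup_right ⟨_, rfl⟩)
  have := Subgroup.card_dvd_of_le hle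
  have hΘ : Function.Injective Θ := (reGL (F := F) e).injective
  rw [Subgroup.card_map_of_injective hΘ, card_wK inferInstance] at this
  have h1 : Nat.card (GL (Fin 1) F) = Fintype.card F - 1 := by rw [Matrix.card_GL_field]; simp
  have h0 : Nat.card (GL (Fin 0) F) = 1 := by rw [Matrix.card_GL_field]; simp
  rwa [h1, h0, mul_one] at this

theorem card_GL_mul_dvd {F : Type v} [Field F] [Fintype F] {W C ι : Type} [Fintype W] [DecidableEq W]
    [Fintype C] [DecidableEq C] [Fintype ι] [DecidableEq ι] (e : W ⊕ C ≃ ι) :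
    Nat.card (GL W F) * Nat.card (GL C F) ∣ Nat.card (GL ι F) := by
  let Φ : GL W F × GL C F →* GL (W ⊕ C) F := MonoidHom.toHomUnits
    { toFun := fun f => Matrix.fromBlocks (f.1 : Matrix W W F) 0 0 (f.2 : Matrix C C F)
      map_one' := Matrix.fromBlocks_one
      map_mul' := fun f g => by rw [Matrix.fromBlocks_multiply]; simp }
  have hinj : Function.Injective Φ := fun f g h => by
    have h' : Matrix.fromBlocks (f.1 : Matrix W W F) 0 0 (f.2 : Matrix C C F) =
        Matrix.fromBlocks (g.1 : Matrix W W F) 0 0 (g.2 : Matrix C C F) := congrArg Units.val h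
    rw [Matrix.fromBlocks_inj] at h'
    exact Prod.ext (Units.ext h'.1) (Units.ext h'.2.2.2)
  rw [← Nat.card_prod, ← Nat.card_congr (reGL (F := F) e).toEquiv]
  exact Subgroup.card_dvd_of_injective Φ hinj

theorem no_two_lines {F : Type v} [Field F] [Fintype F] (hodd : Odd (Fintype.card F)) (h3 : Fintype.card F % 4 = 3)
    {r : ℕ} (hr : padicValNat 2 (Nat.card (GL (Fin r) F)) ≤
      padicValNat 2 ((Fintype.card F - 1) ^ r * r.factorial)) : r ≤ 1 := by
  haveI : Fact (Nat.Prime 2) := ⟨Nat.prime_two⟩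
  by_contra hlt
  have hq1 : 1 < Fintype.card F := Fintype.one_lt_card
  have ho : ¬ 2 ∣ Fintype.card F := by omega
  rw [Lib.GS.v2_card_GL hodd] at hr
  generalize hq : Fintype.card F = q at *
  have v1 : padicValNat 2 (q - 1) = 1 := by
    rw [show q - 1 = 2 * ((q - 1) / 2) by omega, padicValNat.mul two_ne_zero (by omega),
      padicValNat.self one_lt_two, padicValNat.eq_zero_of_not_dvd (by omega)]
  have v2 : 3 ≤ padicValNat 2 (q ^ 2 - 1) := by
    have e2 : q ^ 2 - 1 = (q + 1) * (q - 1) := by simpa using Nat.pow_two_sub_pow_two q 1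
    rw [e2, padicValNat.mul (by omega) (by omega), v1]
    have : 2 ≤ padicValNat 2 (q + 1) := (padicValNat_dvd_iff_le (by omega)).1 (show 2 ^ 2 ∣ q + 1 by omega)
    omega
  rw [padicValNat.mul (pow_ne_zero _ (by omega)) (Nat.factorial_ne_zero r), padicValNat.pow _ _, v1, mul_one] at hr
  obtain ⟨l, b, hb, rfl⟩ : ∃ l b, b < 2 ∧ r = 2 * l + b := ⟨r / 2, r % 2, by omega, by omega⟩
  rw [padicValNat_factorial_mul_add _ hb, padicValNat_factorial_mul] at hr
  obtain ⟨hv, hne⟩ := Lib.GS.v2_prod_all hq1 ho l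
  rw [v1, mul_add, mul_one] at hv
  have hmul : l * 3 ≤ l * padicValNat 2 (q ^ 2 - 1) := Nat.mul_le_mul_left l v2
  interval_cases b
  · rw [add_zero, hv] at hr; omega
  · have hne' : q ^ (2 * l + 1) - 1 ≠ 0 := by
      have := Nat.one_lt_pow (n := 2 * l + 1) (by omega) hq1
      omega
    rw [Finset.prod_range_succ, padicValNat.mul hne hne', hv, Lib.GS.v2_odd_pow hq1 ho, v1] at hr
    omega

theorem upper_three {F : Type v} [Field F] [Fintype F] (h2 : (2 : F) ≠ 0) (hodd : Odd (Fintype.card F))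
    (h3 : Fintype.card F % 4 = 3) {n : ℕ} (S : Sylow 2 (GL (Fin n) F)) (E : Subgroup (GL (Fin n) F))
    (hnorm : ∀ s ∈ (S : Subgroup (GL (Fin n) F)), ∀ e ∈ E, s * e * s⁻¹ ∈ E)
    (hcomm : ∀ a ∈ E, ∀ b ∈ E, a * b = b * a) (hsq : ∀ a ∈ E, a ^ 2 = 1) :
    Nat.card E ≤ 2 ^ ((n + 1) / 2) := by
  classical
  haveI : Fact (Nat.Prime 2) := ⟨Nat.prime_two⟩
  obtain ⟨P, c, hc⟩ := exists_diag h2 E hcomm hsq
  refine (card_le_image E P c hc).trans (Nat.pow_le_pow_right two_pos ?_)
  let G := GL (Fin n) F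
  let sz : (E → F) → ℕ := fun χ => (Finset.univ.filter fun i => c i = χ).card
  let p : Fin n → Prop := fun i => sz (c i) = 1
  let X : ↥(S : Subgroup G) → Matrix (Fin n) (Fin n) F := fun s =>
    ((P⁻¹ * (s : G) * P : G) : Matrix (Fin n) (Fin n) F)
  let T : ↥(S : Subgroup G) → (E → F) → (E → F) := fun s χ e =>
    χ ⟨(s : G)⁻¹ * e * s, by simpa using hnorm _ (inv_mem s.2) e e.2⟩
  have hTinj : ∀ s, Function.Injective (T s) := by
    intro s χ ψ h
    funext e
    have := congrFun h ⟨(s : G) * e * (s : G)⁻¹, hnorm _ s.2 e e.2⟩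
    simpa [T, mul_assoc] using this
  have hsupp : ∀ s i j, X s i j ≠ 0 → c i = T s (c j) := by
    intro s i j hx
    funext e
    set e' : E := ⟨(s : G)⁻¹ * e * s, by simpa using hnorm _ (inv_mem s.2) e e.2⟩
    have h : (P⁻¹ * (s : G) * P) * (P⁻¹ * (e' : G) * P) = (P⁻¹ * (e : G) * P) * (P⁻¹ * (s : G) * P) := by
      show _ * (P⁻¹ * ((s : G)⁻¹ * e * s) * P) = _
      group
    have hm : X s * Matrix.diagonal (fun i => c i e') = Matrix.diagonal (fun i => c i e) * X s := by
      rw [← (hc e').1, ← (hc e).1]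
      exact (Units.val_mul _ _).symm.trans ((congrArg Units.val h).trans (Units.val_mul _ _))
    have := congrFun (congrFun hm i) j
    rw [Matrix.mul_diagonal, Matrix.diagonal_mul] at this
    show c i e = c j e'
    exact mul_right_cancel₀ hx (this.symm.trans (mul_comm _ _))
  have hcols : ∀ s, LinearIndependent F (X s).col := fun s =>
    Matrix.linearIndependent_cols_iff_isUnit.2 (P⁻¹ * (s : G) * P).isUnit
  have hcol : ∀ s j, ∃ i, X s i j ≠ 0 := fun s j => by
    by_contra h
    push Not at h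
    exact (hcols s).ne_zero j (funext h)
  have hsz : ∀ s j, sz (T s (c j)) = sz (c j) := by
    intro s j
    refine (exists_sum_fibre c (T s) (hTinj s) ?_ _ (Finset.mem_image_of_mem _ (Finset.mem_univ j))).symm
    intro χ _
    have hli : LinearIndependent F fun (j : {j // c j = χ}) => fun (i : {i // c i = T s χ}) => X s i.1 j.1 := by
      rw [Fintype.linearIndependent_iff]
      intro g hg
      have := Fintype.linearIndependent_iff.1 ((hcols s).comp (fun j : {j // c j = χ} => j.1) Subtype.val_injective) g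
      refine this (funext fun i => ?_)
      rw [Finset.sum_apply]
      by_cases hi : c i = T s χ
      · simpa using congrFun hg ⟨i, hi⟩
      · refine Finset.sum_eq_zero fun k _ => ?_
        have hz : X s i k.1 = 0 := by
          by_contra h
          exact hi (by rw [hsupp s i k.1 h, k.2])
        simp [hz]
    have := hli.fintype_card_le_finrank
    rw [Module.finrank_fintype_fun_eq_card, Fintype.card_subtype, Fintype.card_subtype] at this
    exact this
  have hpiff : ∀ s i j, X s i j ≠ 0 → (p i ↔ p j) := fun s i j h => by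
    show sz (c i) = 1 ↔ sz (c j) = 1
    rw [hsupp s i j h, hsz s j]
  have hoff : ∀ s i j, ¬ (p i ↔ p j) → X s i j = 0 := fun s i j h => by_contra fun h' => h (hpiff s i j h')
  have huniq : ∀ i i', p i → c i = c i' → i = i' := by
    intro i i' hi h
    exact Finset.card_le_one.1 (le_of_eq hi) i (by simp) i' (by simp [h])
  have hXmul : ∀ s t, X (s * t) = X s * X t := fun s t => by
    simp only [X]
    rw [← Units.val_mul]
    congr 1
    rw [Subgroup.coe_mul]
    group
  have hXone : X 1 = 1 := by simp [X]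
  let A1 : ↥(S : Subgroup G) →* Matrix {i // p i} {i // p i} F :=
    { toFun := fun s => (X s).submatrix Subtype.val Subtype.val
      map_one' := by
        rw [hXone, Matrix.submatrix_one _ Subtype.val_injective]
      map_mul' := fun s t => by
        ext i j
        rw [hXmul, Matrix.submatrix_apply, Matrix.mul_apply, Matrix.mul_apply, ← Fintype.sum_subtype_add_sum_subtype p]
        simp only [Matrix.submatrix_apply]
        rw [add_eq_left]
        exact Finset.sum_eq_zero fun k _ => by rw [hoff s i.1 k.1 (fun h => k.2 (h.1 i.2)), zero_mul] }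
  let A2 : ↥(S : Subgroup G) →* Matrix {i // ¬ p i} {i // ¬ p i} F :=
    { toFun := fun s => (X s).submatrix Subtype.val Subtype.val
      map_one' := by
        rw [hXone, Matrix.submatrix_one _ Subtype.val_injective]
      map_mul' := fun s t => by
        ext i j
        rw [hXmul, Matrix.submatrix_apply, Matrix.mul_apply, Matrix.mul_apply, ← Fintype.sum_subtype_add_sum_subtype p]
        simp only [Matrix.submatrix_apply]
        rw [add_eq_right]
        exact Finset.sum_eq_zero fun k _ => by rw [hoff s i.1 k.1 (fun h => i.2 (h.2 k.2)), zero_mul] }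
  let W := A1.toHomUnits
  let C := A2.toHomUnits
  have hinj : Function.Injective (W.rangeRestrict.prod C) := by
    intro s t h
    simp only [MonoidHom.prod_apply, Prod.mk.injEq] at h
    have h1 : A1 s = A1 t := congrArg Units.val (congrArg Subtype.val h.1)
    have h2' : A2 s = A2 t := congrArg Units.val h.2
    have : X s = X t := by
      ext i j
      by_cases hi : p i <;> by_cases hj : p j
      · exact congrFun (congrFun h1 ⟨i, hi⟩) ⟨j, hj⟩
      · rw [hoff s i j (fun h => hj (h.1 hi)), hoff t i j (fun h => hj (h.1 hi))]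
      · rw [hoff s i j (fun h => hi (h.2 hj)), hoff t i j (fun h => hi (h.2 hj))]
      · exact congrFun (congrFun h2' ⟨i, hi⟩) ⟨j, hj⟩
    exact Subtype.ext (mul_left_cancel (mul_right_cancel (Units.ext this)))
  have hmono : ∀ z ∈ W.range, ∃ σ : Equiv.Perm {i // p i}, ∀ i j, i ≠ σ j →
      ((z : GL {i // p i} F) : Matrix {i // p i} {i // p i} F) i j = 0 := by
    rintro _ ⟨s, rfl⟩
    choose f hf using hcol s
    let g : {i // p i} → {i // p i} := fun j => ⟨f j.1, (hpiff s _ _ (hf j.1)).2 j.2⟩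
    have hg : Function.Injective g := fun j k h => by
      have h' : f j.1 = f k.1 := congrArg Subtype.val h
      refine Subtype.ext (huniq _ _ j.2 (hTinj s ?_))
      rw [← hsupp s _ _ (hf j.1), ← hsupp s _ _ (hf k.1), h']
    refine ⟨Equiv.ofBijective g (Finite.injective_iff_bijective.1 hg), fun i j hij => ?_⟩
    by_contra h
    refine hij (Subtype.ext (huniq _ _ i.2 ?_))
    exact (hsupp s i.1 j.1 h).trans (hsupp s _ _ (hf j.1)).symm
  have hd1 : Nat.card W.range ∣ (Fintype.card F - 1) ^ Fintype.card {i // p i} * (Fintype.card {i // p i}).factorial :=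
    mono_dvd _ hmono
  have hd2 : Nat.card ↥(S : Subgroup G) ∣ Nat.card W.range * Nat.card (GL {i // ¬ p i} F) := by
    rw [← Nat.card_prod]; exact Subgroup.card_dvd_of_injective _ hinj
  have hd3 : Nat.card (GL {i // p i} F) * Nat.card (GL {i // ¬ p i} F) ∣ Nat.card (GL (Fin n) F) :=
    card_GL_mul_dvd (Equiv.sumCompl p)
  have hr : Fintype.card {i // p i} ≤ 1 := by
    refine no_two_lines hodd h3 ?_
    have e1 := ((padicValNat_dvd_iff_le Nat.card_pos.ne').1 (pow_padicValNat_dvd.trans hd3) :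
      padicValNat 2 (Nat.card (GL {i // p i} F) * Nat.card (GL {i // ¬ p i} F)) ≤ _)
    rw [padicValNat.mul Nat.card_pos.ne' Nat.card_pos.ne'] at e1
    rw [← Nat.card_congr (reGL (F := F) (Fintype.equivFin {i // p i})).toEquiv]
    have hne : (Fintype.card F - 1) ^ Fintype.card {i // p i} * (Fintype.card {i // p i}).factorial ≠ 0 :=
      mul_ne_zero (pow_ne_zero _ (by have := Fintype.one_lt_card (α := F); omega)) (Nat.factorial_ne_zero _)
    have e2 : padicValNat 2 (Nat.card G) ≤ padicValNat 2 ((Fintype.card F - 1) ^ Fintype.card {i // p i} *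
        (Fintype.card {i // p i}).factorial * Nat.card (GL {i // ¬ p i} F)) := by
      refine (padicValNat_dvd_iff_le (mul_ne_zero hne Nat.card_pos.ne')).1 ?_
      have := hd2.trans (Nat.mul_dvd_mul_right hd1 _)
      rwa [Lib.GS.sylow_two_card] at this
    rw [padicValNat.mul hne Nat.card_pos.ne'] at e2
    have e1' : _ ≤ padicValNat 2 (Nat.card G) := e1
    omega
  have hsum : Fintype.card (Fin n) = ∑ χ ∈ Finset.univ.image c, sz χ :=
    Finset.card_eq_sum_card_fiberwise fun i _ => Finset.mem_image_of_mem _ (Finset.mem_univ i)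
  rw [Fintype.card_fin] at hsum
  have hk : ((Finset.univ.image c).filter fun χ => sz χ = 1).card ≤ 1 := by
    refine Finset.card_le_one.2 fun χ hχ ψ hψ => ?_
    obtain ⟨h1, h1'⟩ := Finset.mem_filter.1 hχ
    obtain ⟨h4, h4'⟩ := Finset.mem_filter.1 hψ
    obtain ⟨i, -, rfl⟩ := Finset.mem_image.1 h1
    obtain ⟨j, -, rfl⟩ := Finset.mem_image.1 h4
    have := Fintype.card_le_one_iff.1 hr ⟨i, h1'⟩ ⟨j, h4'⟩
    rw [show i = j from congrArg Subtype.val this]
  have hge : ∀ χ ∈ Finset.univ.image c, 2 ≤ sz χ + (if sz χ = 1 then 1 else 0) := by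
    intro χ hχ
    obtain ⟨i, -, rfl⟩ := Finset.mem_image.1 hχ
    have : 0 < sz (c i) := Finset.card_pos.2 ⟨i, by simp⟩
    split_ifs <;> omega
  have h5 := Finset.card_nsmul_le_sum _ _ _ hge
  rw [Finset.sum_add_distrib, ← hsum, Finset.sum_boole, smul_eq_mul, Nat.cast_id] at h5
  omega

/-- The normal 2-rank of the general linear group over a finite field of odd order q: for n ≥ 1 and S a Sylow 2-subgroup of GL_n(F), the largest rank of an elementary abelian subgroup of S that is normal in S equals n when q ≡ 1 (mod 4) and ⌊(n + 1)/2⌋ when q ≡ 3 (mod 4). -/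
theorem result {F : Type*} [Field F] [Fintype F] {q : ℕ} (hF : Fintype.card F = q) (hodd : Odd q) (n : ℕ) (hn : 1 ≤ n) (S : Sylow 2 (Matrix.GeneralLinearGroup (Fin n) F)) :
    (q % 4 = 1 → ((∃ E : Subgroup ↥(S : Subgroup (Matrix.GeneralLinearGroup (Fin n) F)), E.Normal ∧ Cfsg.IsElementaryAbelian 2 E ∧ 2 ^ (n) ≤ Nat.card ↥E) ∧
      ∀ E : Subgroup ↥(S : Subgroup (Matrix.GeneralLinearGroup (Fin n) F)), E.Normal → Cfsg.IsElementaryAbelian 2 E → Nat.card ↥E ≤ 2 ^ (n))) ∧
    (q % 4 = 3 → ((∃ E : Subgroup ↥(S : Subgroup (Matrix.GeneralLinearGroup (Fin n) F)), E.Normal ∧ Cfsg.IsElementaryAbelian 2 E ∧ 2 ^ ((n + 1) / 2) ≤ Nat.card ↥E) ∧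
      ∀ E : Subgroup ↥(S : Subgroup (Matrix.GeneralLinearGroup (Fin n) F)), E.Normal → Cfsg.IsElementaryAbelian 2 E → Nat.card ↥E ≤ 2 ^ ((n + 1) / 2))) := by
  classical
  haveI : Fact (Nat.Prime 2) := ⟨Nat.prime_two⟩
  subst hF
  have h2 : (2 : F) ≠ 0 := by
    intro h
    have h' : ringChar F = 2 := CharP.ringChar_of_prime_eq_zero Nat.prime_two (by exact_mod_cast h)
    have := FiniteField.even_card_of_char_two h'
    rw [Nat.odd_iff] at hodd
    omega
  have hq1 : 1 < Fintype.card F := Fintype.one_lt_card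
  have ho : ¬ 2 ∣ Fintype.card F := by rw [Nat.odd_iff] at hodd; omega
  have hG1 : padicValNat 2 (Nat.card (GL (Fin 1) F)) = padicValNat 2 (Fintype.card F - 1) := by
    rw [Lib.GS.v2_card_GL hodd]; simp
  have hG0 : Nat.card (GL (Fin 0) F) = 1 := by simp [Matrix.card_GL_field]
  have hG2 : padicValNat 2 (Nat.card (GL (Fin 2) F)) =
      padicValNat 2 (Fintype.card F - 1) + padicValNat 2 (Fintype.card F ^ 2 - 1) := by
    rw [Lib.GS.v2_card_GL hodd, show 2 = 2 * 1 from rfl, (Lib.GS.v2_prod_all hq1 ho 1).1]; simp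
  obtain ⟨l, b, hb, hn2⟩ : ∃ l b, b < 2 ∧ n = 2 * l + b := ⟨n / 2, n % 2, by omega, by omega⟩
  obtain ⟨hv, hne⟩ := Lib.GS.v2_prod_all hq1 ho l
  have hne' : Fintype.card F ^ (2 * l + 1) - 1 ≠ 0 := by
    have := Nat.one_lt_pow (n := 2 * l + 1) (by omega) hq1
    omega
  have hGn : padicValNat 2 (Nat.card (GL (Fin n) F)) =
      l * (padicValNat 2 (Fintype.card F - 1) + padicValNat 2 (Fintype.card F ^ 2 - 1)) +
        padicValNat 2 l.factorial + b * padicValNat 2 (Fintype.card F - 1) := by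
    rw [Lib.GS.v2_card_GL hodd, hn2]
    interval_cases b
    · rw [add_zero, hv, zero_mul, add_zero]
    · rw [Finset.prod_range_succ, padicValNat.mul hne hne', hv, Lib.GS.v2_odd_pow hq1 ho, one_mul]
  have hup : ∀ E : Subgroup ↥(S : Subgroup (GL (Fin n) F)), Cfsg.IsElementaryAbelian 2 E →
      (∀ a ∈ E.map (S : Subgroup (GL (Fin n) F)).subtype, ∀ b ∈ E.map (S : Subgroup (GL (Fin n) F)).subtype,
        a * b = b * a) ∧ ∀ a ∈ E.map (S : Subgroup (GL (Fin n) F)).subtype, a ^ 2 = 1 := by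
    intro E hE
    refine ⟨?_, ?_⟩
    · rintro _ ⟨x, hx, rfl⟩ _ ⟨y, hy, rfl⟩
      rw [← map_mul, ← map_mul]
      exact congrArg _ (congrArg Subtype.val (hE.1.is_comm.comm ⟨x, hx⟩ ⟨y, hy⟩))
    · rintro _ ⟨x, hx, rfl⟩
      rw [← map_pow, hE.2 x hx, map_one]
  have hcard : ∀ E : Subgroup ↥(S : Subgroup (GL (Fin n) F)),
      Nat.card E = Nat.card (E.map (S : Subgroup (GL (Fin n) F)).subtype) := fun E =>
    (Subgroup.card_map_of_injective (S : Subgroup (GL (Fin n) F)).subtype_injective).symm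
  refine ⟨fun h1 => ⟨?_, fun E hnE hE => ?_⟩, fun h3 => ⟨?_, fun E hnE hE => ?_⟩⟩
  · refine lower (a := 1) (m := n) (r := 0) h2 (by omega) (by omega) ?_ S
    rw [hG0, Nat.factorization_def _ Nat.prime_two, Nat.factorization_def _ Nat.prime_two, mul_one, hGn,
      padicValNat.mul (pow_ne_zero _ Nat.card_pos.ne') (Nat.factorial_ne_zero n), padicValNat.pow _ _, hG1, hn2,
      padicValNat_factorial_mul_add _ hb, padicValNat_factorial_mul]
    have e2 : Fintype.card F ^ 2 - 1 = (Fintype.card F + 1) * (Fintype.card F - 1) := by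
      simpa using Nat.pow_two_sub_pow_two (Fintype.card F) 1
    have v1 : padicValNat 2 (Fintype.card F + 1) = 1 := by
      rw [show Fintype.card F + 1 = 2 * ((Fintype.card F + 1) / 2) by omega,
        padicValNat.mul two_ne_zero (by omega), padicValNat.self one_lt_two,
        padicValNat.eq_zero_of_not_dvd (by omega)]
    rw [e2, padicValNat.mul (by omega) (by omega), v1]
    exact le_of_eq (by ring)
  · obtain ⟨hc, hs⟩ := hup E hE
    obtain ⟨P, c, hP⟩ := exists_diag h2 _ hc hs
    rw [hcard]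
    refine (card_le_image _ P c hP).trans (Nat.pow_le_pow_right two_pos ?_)
    exact Finset.card_image_le.trans (by simp)
  · rw [show (n + 1) / 2 = l + b by omega]
    refine lower (a := 2) (m := l) (r := b) h2 (by omega) (by omega) ?_ S
    rw [Nat.factorization_def _ Nat.prime_two, Nat.factorization_def _ Nat.prime_two, hGn,
      padicValNat.mul (mul_ne_zero (pow_ne_zero _ Nat.card_pos.ne') Nat.card_pos.ne') (Nat.factorial_ne_zero l),
      padicValNat.mul (pow_ne_zero _ Nat.card_pos.ne') Nat.card_pos.ne', padicValNat.pow _ _, hG2]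
    interval_cases b
    · rw [hG0, padicValNat.one]; omega
    · rw [hG1]; omega
  · obtain ⟨hc, hs⟩ := hup E hE
    rw [hcard]
    refine upper_three h2 hodd h3 S _ ?_ hc hs
    rintro s hs' _ ⟨x, hx, rfl⟩
    exact ⟨⟨s, hs'⟩ * x * ⟨s, hs'⟩⁻¹, hnE.conj_mem x hx _, rfl⟩

end Cfsg.Agent.S2249
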