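import Cfsg.Statements.S2250
import Cfsg.Agent.Lib.Classical.SympTwoRank
import Cfsg.Agent.Lib.Classical.SympOrder
import Cfsg.Agent.Lib.Classical.Order

set_option autoImplicit false
open Cfsg

namespace Cfsg.Agent.S2250

open Matrix
open scoped MatrixGroups

universe v
variable {F : Type v} [Field F] {n : ℕ}

local notation "Sp" => Matrix.symplecticGroup (Fin n) F
local notation "Ms" => Matrix (Fin n ⊕ Fin n) (Fin n ⊕ Fin n) F

/-- blockwise embedding of `SL₂ⁿ` -/
def phiM (f : Fin n → SL(2, F)) : Ms :=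
  Matrix.fromBlocks (Matrix.diagonal fun i => f i 0 0) (Matrix.diagonal fun i => f i 0 1)
    (Matrix.diagonal fun i => f i 1 0) (Matrix.diagonal fun i => f i 1 1)

theorem phiM_mem (f : Fin n → SL(2, F)) : phiM f ∈ Sp := by
  rw [SymplecticGroup.mem_iff]
  have hd : ∀ i, f i 0 0 * f i 1 1 - f i 0 1 * f i 1 0 = 1 := fun i => by
    have := (f i).2; rwa [Matrix.det_fin_two] at this
  simp only [phiM, Matrix.J, Matrix.fromBlocks_transpose, Matrix.diagonal_transpose, Matrix.fromBlocks_multiply,
    Matrix.mul_zero, Matrix.mul_neg, Matrix.mul_one, zero_add, add_zero, Matrix.neg_mul,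
    Matrix.diagonal_mul_diagonal]
  congr 1
  · ext i j; by_cases h : i = j <;> simp [h, mul_comm]
  · ext i j; by_cases h : i = j
    · subst h; simp; linear_combination -(hd i)
    · simp [h]
  · ext i j; by_cases h : i = j
    · subst h; simp; linear_combination hd i
    · simp [h]
  · ext i j; by_cases h : i = j <;> simp [h, mul_comm]

/-- blockwise embedding -/
def phi : (Fin n → SL(2, F)) →* Sp where
  toFun f := ⟨phiM f, phiM_mem f⟩
  map_one' := by
    apply Subtype.ext
    show phiM (1 : Fin n → SL(2, F)) = 1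
    simp [phiM, Matrix.fromBlocks_one]
  map_mul' f g := by
    apply Subtype.ext
    show phiM (f * g) = phiM f * phiM g
    simp only [phiM, Matrix.fromBlocks_multiply, Matrix.diagonal_mul_diagonal, Matrix.diagonal_add]
    congr 1 <;> congr 1 <;> funext i <;> simp [Matrix.mul_apply, Fin.sum_univ_two]

/-- permutation matrix -/
def pmat (σ : Equiv.Perm (Fin n)) : Matrix (Fin n) (Fin n) F := Matrix.of fun i j => if i = σ j then 1 else 0

theorem pmat_mul (σ τ : Equiv.Perm (Fin n)) : (pmat σ : Matrix (Fin n) (Fin n) F) * pmat τ = pmat (σ * τ) := by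
  ext i j
  rw [Matrix.mul_apply, Finset.sum_eq_single (τ j)]
  · simp [pmat]; congr
  · intro b _ hb; simp [pmat, hb]
  · simp

theorem pmat_transpose (σ : Equiv.Perm (Fin n)) : (pmat σ : Matrix (Fin n) (Fin n) F)ᵀ = pmat σ⁻¹ := by
  ext i j
  simp only [pmat, Matrix.transpose_apply, Matrix.of_apply]
  refine if_congr ?_ rfl rfl
  rw [eq_comm, Equiv.Perm.inv_def, Equiv.eq_symm_apply]

theorem pmat_one : (pmat 1 : Matrix (Fin n) (Fin n) F) = 1 := by
  ext i j; simp only [pmat, Matrix.one_apply, Matrix.of_apply, Equiv.Perm.one_apply]; congr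

theorem pmat_diag (σ : Equiv.Perm (Fin n)) (d : Fin n → F) :
    pmat σ * Matrix.diagonal d = Matrix.diagonal (fun i => d (σ⁻¹ i)) * pmat σ := by
  ext i j
  rw [Matrix.mul_diagonal, Matrix.diagonal_mul]
  by_cases h : i = σ j
  · subst h; simp [pmat]
  · simp [pmat, h]

/-- block permutations -/
def psi : Equiv.Perm (Fin n) →* Sp where
  toFun σ := ⟨Matrix.fromBlocks (pmat σ) 0 0 (pmat σ), by
    rw [SymplecticGroup.mem_iff]
    simp [Matrix.J, Matrix.fromBlocks_transpose, Matrix.fromBlocks_multiply, pmat_transpose, pmat_mul, pmat_one]⟩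
  map_one' := Subtype.ext (by simp [pmat_one, Matrix.fromBlocks_one])
  map_mul' σ τ := Subtype.ext (by simp [Matrix.fromBlocks_multiply, pmat_mul])

theorem psi_conj (σ : Equiv.Perm (Fin n)) (f : Fin n → SL(2, F)) :
    psi σ * phi f * (psi σ)⁻¹ = phi (fun i => f (σ⁻¹ i)) := by
  rw [mul_inv_eq_iff_eq_mul]
  apply Subtype.ext
  show Matrix.fromBlocks (pmat σ) 0 0 (pmat σ) * phiM f =
    phiM (fun i => f (σ⁻¹ i)) * Matrix.fromBlocks (pmat σ) 0 0 (pmat σ)
  simp [phiM, Matrix.fromBlocks_multiply, pmat_diag]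

theorem phi_injective : Function.Injective (phi (F := F) (n := n)) := by
  intro f g h
  have h' : phiM f = phiM g := congrArg Subtype.val h
  simp only [phiM, Matrix.fromBlocks_inj, Matrix.diagonal_eq_diagonal_iff] at h'
  funext i
  ext a b
  fin_cases a <;> fin_cases b
  exacts [h'.1 i, h'.2.1 i, h'.2.2.1 i, h'.2.2.2 i]

theorem phi_psi_eq_one (f : Fin n → SL(2, F)) (σ : Equiv.Perm (Fin n)) (h : phi f * psi σ = 1) :
    f = 1 ∧ σ = 1 := by
  have h' : phiM f * Matrix.fromBlocks (pmat σ) 0 0 (pmat σ) = 1 := congrArg Subtype.val h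
  rw [phiM, Matrix.fromBlocks_multiply, ← Matrix.fromBlocks_one, Matrix.fromBlocks_inj] at h'
  have hσ : σ = 1 := by
    ext j : 1
    by_contra hj
    rw [Equiv.Perm.one_apply] at hj
    have e1 := congrFun (congrFun h'.1 (σ j)) j
    have e2 := congrFun (congrFun h'.2.2.1 (σ j)) j
    simp [Matrix.diagonal_mul, pmat, hj] at e1 e2
    have := (f (σ j)).2
    rw [Matrix.det_fin_two, e1, e2] at this
    simp at this
  subst hσ
  rw [map_one, mul_one, ← map_one (phi (F := F) (n := n))] at h
  exact ⟨phi_injective h, rfl⟩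

theorem v2_pow [Fintype F] (hF : Odd (Fintype.card F)) {j : ℕ} (hj : j ≠ 0) :
    (Fintype.card F ^ (2 * j) - 1).factorization 2 =
      (Fintype.card F ^ 2 - 1).factorization 2 + j.factorization 2 := by
  haveI : Fact (Nat.Prime 2) := ⟨Nat.prime_two⟩
  set q := Fintype.card F
  have hq : 1 < q := Fintype.one_lt_card
  rw [Nat.odd_iff] at hF
  have h := padicValNat.pow_two_sub_pow (x := q) (y := 1) hq (by omega) (by omega) (n := 2 * j) (by omega) (even_two_mul j)
  rw [one_pow, padicValNat.mul (by norm_num) hj, padicValNat.self (by norm_num)] at h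
  have h2 : padicValNat 2 (q ^ 2 - 1) = padicValNat 2 (q + 1) + padicValNat 2 (q - 1) := by
    rw [show q ^ 2 - 1 = (q + 1) * (q - 1) by rw [← Nat.sq_sub_sq, one_pow], padicValNat.mul (by omega) (by omega)]
  rw [Nat.factorization_def _ Nat.prime_two, Nat.factorization_def _ Nat.prime_two,
    Nat.factorization_def _ Nat.prime_two, h2]
  omega

theorem v2_Sp [Fintype F] (hF : Odd (Fintype.card F)) :
    (Nat.card Sp).factorization 2 =
      ((Nat.card SL(2, F)) ^ n * n.factorial).factorization 2 := by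
  set q := Fintype.card F with hqdef
  have hq : 1 < q := Fintype.one_lt_card
  have hodd : ¬ 2 ∣ q := by rw [Nat.odd_iff] at hF; omega
  have hq2 : q ^ 2 - 1 ≠ 0 := by
    have := Nat.one_lt_pow two_ne_zero hq; omega
  have hne : ∀ i ∈ Finset.range n, q ^ (2 * (i + 1)) - 1 ≠ 0 := fun i _ => by
    have := Nat.one_lt_pow (show 2 * (i + 1) ≠ 0 by omega) hq; omega
  have hfq : q.factorization 2 = 0 := Nat.factorization_eq_zero_of_not_dvd hodd
  rw [Cfsg.Agent.Lib.Classical.card_symplecticGroup, Cfsg.Agent.Lib.Classical.card_SL_two, ← hqdef,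
    Nat.factorization_mul (pow_ne_zero _ (by omega)) (Finset.prod_ne_zero_iff.2 hne),
    Nat.factorization_mul (pow_ne_zero _ (Nat.mul_ne_zero (by omega) hq2)) n.factorial_ne_zero,
    Nat.factorization_pow, Nat.factorization_pow, Nat.factorization_mul (by omega) hq2]
  simp only [Finsupp.add_apply, Finsupp.smul_apply, smul_eq_mul, hfq, mul_zero, zero_add]
  rw [Nat.factorization_prod_apply hne]
  rw [← Finset.prod_range_add_one_eq_factorial, Nat.factorization_prod_apply (fun i _ => by omega),
    Finset.sum_congr rfl (fun i _ => v2_pow hF (Nat.succ_ne_zero i))]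
  rw [Finset.sum_add_distrib, Finset.sum_const, Finset.card_range, smul_eq_mul]



/-- The normal 2-rank of the symplectic group over a finite field of odd order: for n ≥ 1 and S a Sylow 2-subgroup of Sp_{2n}(F), the largest rank of an elementary abelian subgroup of S that is normal in S equals n. -/
theorem result {F : Type*} [Field F] [Fintype F] (hF : Odd (Fintype.card F)) (n : ℕ) (hn : 1 ≤ n) (S : Sylow 2 ↥(Matrix.symplecticGroup (Fin n) F)) :
    ((∃ E : Subgroup ↥(S : Subgroup ↥(Matrix.symplecticGroup (Fin n) F)), E.Normal ∧ Cfsg.IsElementaryAbelian 2 E ∧ 2 ^ (n) ≤ Nat.card ↥E) ∧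
      ∀ E : Subgroup ↥(S : Subgroup ↥(Matrix.symplecticGroup (Fin n) F)), E.Normal → Cfsg.IsElementaryAbelian 2 E → Nat.card ↥E ≤ 2 ^ (n)) := by
  classical
  haveI : Fact (Nat.Prime 2) := ⟨Nat.prime_two⟩
  set G := Matrix.symplecticGroup (Fin n) F
  have h2 : (2 : F) ≠ 0 := by
    intro h
    have h' : ringChar F = 2 := CharP.ringChar_of_prime_eq_zero Nat.prime_two (by exact_mod_cast h)
    have := FiniteField.even_card_of_char_two h'
    rw [Nat.odd_iff] at hF
    omega
  constructor
  · -- the sign group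
    let E0 : Subgroup G := (Subgroup.pi Set.univ fun _ : Fin n => Subgroup.zpowers (-1 : SL(2, F))).map phi
    have hneg : orderOf (-1 : SL(2, F)) = 2 := by
      rw [orderOf_eq_prime_iff]
      refine ⟨by rw [neg_one_sq], fun h => ?_⟩
      have := congrArg (fun A : SL(2, F) => (A : Matrix (Fin 2) (Fin 2) F) 0 0) h
      simp at this
      exact h2 (by linear_combination -this)
    have hE0card : Nat.card E0 = 2 ^ n := by
      rw [Nat.card_congr (Subgroup.equivMapOfInjective _ phi phi_injective).toEquiv.symm,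
        Nat.card_congr (show (Subgroup.pi Set.univ fun _ : Fin n => Subgroup.zpowers (-1 : SL(2, F))) ≃
          ((i : Fin n) → Subgroup.zpowers (-1 : SL(2, F))) from
          { toFun := fun f i => ⟨f.1 i, f.2 i (Set.mem_univ i)⟩
            invFun := fun f => ⟨fun i => f i, fun i _ => (f i).2⟩
            left_inv := fun f => rfl
            right_inv := fun f => rfl }),
        Nat.card_pi]
      simp only [Nat.card_zpowers, hneg, Finset.prod_const, Finset.card_univ, Fintype.card_fin]
    have hval : ∀ z ∈ Subgroup.zpowers (-1 : SL(2, F)), z = 1 ∨ z = -1 := by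
      rintro _ ⟨k, rfl⟩
      rcases Int.even_or_odd k with hk | hk
      · exact Or.inl hk.neg_one_zpow
      · exact Or.inr hk.neg_one_zpow
    have hE0el : IsMulCommutative E0 ∧ ∀ a ∈ E0, a ^ 2 = 1 := by
      have hsq : ∀ a ∈ E0, a ^ 2 = 1 := by
        rintro _ ⟨f, hf, rfl⟩
        rw [← map_pow, show f ^ 2 = 1 from funext fun i => by
          rcases hval _ (hf i (Set.mem_univ i)) with h | h <;> simp [h], map_one]
      refine ⟨⟨⟨fun a b => Subtype.ext ?_⟩⟩, hsq⟩
      obtain ⟨f, hf, hfa⟩ := a.2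
      obtain ⟨g, hg, hgb⟩ := b.2
      show (a : G) * b = b * a
      rw [← hfa, ← hgb, ← map_mul, ← map_mul]
      congr 1
      funext i
      rcases hval _ (hf i (Set.mem_univ i)) with h | h <;> simp [h]
    set N := Subgroup.normalizer (E0 : Set G)
    have hphiN : (phi (F := F) (n := n)).range ≤ N := by
      rintro _ ⟨f, rfl⟩
      refine Subgroup.mem_normalizer_fintype fun u hu => ?_
      obtain ⟨z, hz, rfl⟩ := hu
      refine ⟨z, hz, ?_⟩
      rw [← map_inv, ← map_mul, ← map_mul]
      congr 1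
      funext i
      rcases hval _ (hz i (Set.mem_univ i)) with h | h <;> simp [h]
    have hpsiN : (psi (F := F) (n := n)).range ≤ N := by
      rintro _ ⟨σ, rfl⟩
      refine Subgroup.mem_normalizer_fintype fun u hu => ?_
      obtain ⟨z, hz, rfl⟩ := hu
      exact ⟨fun i => z (σ⁻¹ i), fun i _ => hz _ (Set.mem_univ _), (psi_conj σ z).symm⟩
    set K := (phi (F := F) (n := n)).range ⊔ (psi (F := F) (n := n)).range with hK
    have hKN : K ≤ N := sup_le hphiN hpsiN
    have hKcard : Nat.card K = Nat.card SL(2, F) ^ n * n.factorial := by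
      have hnorm : (psi (F := F) (n := n)).range ≤
          Subgroup.normalizer ((phi (F := F) (n := n)).range : Set G) := by
        rintro _ ⟨σ, rfl⟩
        refine Subgroup.mem_normalizer_fintype fun u hu => ?_
        obtain ⟨z, rfl⟩ := hu
        exact ⟨_, (psi_conj σ z).symm⟩
      have hinj : Function.Injective fun y : (Fin n → SL(2, F)) × Equiv.Perm (Fin n) => phi y.1 * psi y.2 := by
        rintro ⟨f, σ⟩ ⟨g, τ⟩ h
        obtain ⟨h1, h2⟩ := phi_psi_eq_one (g⁻¹ * f) (σ * τ⁻¹) (by
          simp only [map_mul, map_inv] at *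
          rw [show (phi g)⁻¹ * phi f * (psi σ * (psi τ)⁻¹) = (phi g)⁻¹ * (phi f * psi σ) * (psi τ)⁻¹ by group, h]
          group)
        exact Prod.ext (inv_mul_eq_one.1 h1).symm (mul_inv_eq_one.1 h2)
      have hset : (K : Set G) = Set.range fun y : (Fin n → SL(2, F)) × Equiv.Perm (Fin n) => phi y.1 * psi y.2 := by
        rw [hK, Subgroup.coe_mul_of_right_le_normalizer_left _ _ hnorm]
        ext z
        simp only [Set.mem_range, Prod.exists]
        constructor
        · rintro ⟨_, ⟨f, rfl⟩, _, ⟨σ, rfl⟩, rfl⟩; exact ⟨f, σ, rfl⟩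
        · rintro ⟨f, σ, rfl⟩; exact ⟨_, ⟨f, rfl⟩, _, ⟨σ, rfl⟩, rfl⟩
      have : Nat.card K = Nat.card ((Fin n → SL(2, F)) × Equiv.Perm (Fin n)) := by
        rw [← Nat.card_range_of_injective hinj, ← hset]; rfl
      rw [this, Nat.card_prod, Nat.card_pi, Nat.card_perm, Nat.card_fin]
      simp
    -- a Sylow subgroup of `G` inside `N`
    obtain ⟨Q⟩ := (inferInstance : Nonempty (Sylow 2 N))
    have hv : (Nat.card N).factorization 2 = (Nat.card G).factorization 2 := by
      refine le_antisymm ((Nat.factorization_le_iff_dvd Nat.card_pos.ne' Nat.card_pos.ne').2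
        (Subgroup.card_subgroup_dvd_card _) 2) ?_
      rw [v2_Sp hF, ← hKcard]
      exact (Nat.factorization_le_iff_dvd Nat.card_pos.ne' Nat.card_pos.ne').2 (Subgroup.card_dvd_of_le hKN) 2
    let P : Sylow 2 G := Sylow.ofCard ((Q : Subgroup N).map N.subtype) (by
      rw [Subgroup.card_map_of_injective N.subtype_injective, Q.card_eq_multiplicity, hv])
    have hE0P : E0 ≤ (P : Subgroup G) := by
      haveI : (E0.subgroupOf N).Normal := Subgroup.normal_subgroupOf_iff Subgroup.le_normalizer |>.2
        fun h g hh hg => (Subgroup.mem_normalizer_iff.1 hg h).1 hh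
      have hp : IsPGroup 2 (E0.subgroupOf N) := by
        refine IsPGroup.of_card (n := n) ?_
        rw [Nat.card_congr (Subgroup.subgroupOfEquivOfLe Subgroup.le_normalizer).toEquiv, hE0card]
      have hle : E0.subgroupOf N ≤ (Q : Subgroup N) := by
        have := Q.3 (Q.2.to_sup_of_normal_right hp) le_sup_left
        rw [← this]; exact le_sup_right
      intro x hx
      exact ⟨⟨x, Subgroup.le_normalizer hx⟩, hle hx, rfl⟩
    obtain ⟨g, hg⟩ := MulAction.exists_smul_eq G P S
    have hSeq : (S : Subgroup G) = (P : Subgroup G).map (MulAut.conj g).toMonoidHom := by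
      rw [← hg]; rfl
    set E1 := E0.map (MulAut.conj g).toMonoidHom with hE1
    have hE1S : E1 ≤ (S : Subgroup G) := hSeq ▸ Subgroup.map_mono hE0P
    refine ⟨E1.subgroupOf S, ?_, ⟨?_, ?_⟩, ?_⟩
    · rw [Subgroup.normal_subgroupOf_iff hE1S]
      intro h s hh hs
      rw [hSeq] at hs
      obtain ⟨x, hx, rfl⟩ := hs
      obtain ⟨e, he, rfl⟩ := hh
      have hxN : x ∈ N := by
        obtain ⟨y, -, rfl⟩ := (hx : x ∈ ((Q : Subgroup N).map N.subtype))
        exact y.2
      exact ⟨x * e * x⁻¹, (Subgroup.mem_normalizer_iff.1 hxN e).1 he, by simp only [map_mul, map_inv]⟩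
    · refine ⟨⟨fun a b => ?_⟩⟩
      apply Subtype.ext; apply Subtype.ext
      obtain ⟨e, he, hea⟩ := a.2
      obtain ⟨e', he', heb⟩ := b.2
      simp only [Subgroup.coe_mul]
      rw [← show (MulAut.conj g).toMonoidHom e = ((a : (S : Subgroup G)) : G) from hea,
        ← show (MulAut.conj g).toMonoidHom e' = ((b : (S : Subgroup G)) : G) from heb, ← map_mul, ← map_mul]
      have := hE0el.1.is_comm.comm ⟨e, he⟩ ⟨e', he'⟩
      exact congrArg _ (congrArg Subtype.val this)
    · intro a ha
      obtain ⟨e, he, hea⟩ := ha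
      apply Subtype.ext
      rw [Subgroup.coe_pow, Subgroup.coe_one, ← show (MulAut.conj g).toMonoidHom e = ((a : (S : Subgroup G)) : G) from hea,
        ← map_pow, hE0el.2 e he, map_one]
    · rw [Nat.card_congr (Subgroup.subgroupOfEquivOfLe hE1S).toEquiv, hE1,
        Subgroup.card_map_of_injective (MulAut.conj g).injective, hE0card]
  · intro E _ hE
    set L : G → ((Fin n ⊕ Fin n → F) →ₗ[F] (Fin n ⊕ Fin n → F)) := fun x =>
      Matrix.mulVecLin (x : Matrix (Fin n ⊕ Fin n) (Fin n ⊕ Fin n) F) with hL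
    have hLinj : Function.Injective L := fun x y e =>
      Cfsg.Agent.Lib.Classical.sp_ext fun v => LinearMap.congr_fun e v
    haveI : Fintype E := Fintype.ofFinite E
    let Es := Finset.image (fun e : E => L ((e : (S : Subgroup G)) : G)) (Finset.univ : Finset E)
    have hcard : Es.card = Nat.card E := by
      show (Finset.image _ _).card = _
      rw [Finset.card_image_of_injective _ (fun a b h => Subtype.ext (Subtype.ext (hLinj h))),
        Finset.card_univ, Nat.card_eq_fintype_card]
    have hmul : ∀ x y : G, ∀ v, L (x * y) v = L x (L y v) := fun x y v => by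
      simp only [hL, Matrix.mulVecLin_apply, Matrix.mulVec_mulVec]; rfl
    rw [← hcard]
    refine (Cfsg.Agent.Lib.Classical.card_involutive_isometries_le h2 (2 * n) (Fin n ⊕ Fin n → F)
      (by simp [two_mul]) _ (Cfsg.Agent.Lib.Forms.stdB_isAlt n)
      (Cfsg.Agent.Lib.Forms.stdB_nondegenerate n) Es ?_ ?_ ?_).trans (by simp)
    · intro e he v
      obtain ⟨a, -, rfl⟩ := Finset.mem_image.1 he
      rw [← hmul, ← pow_two]
      have := congrArg Subtype.val (hE.2 _ a.2)
      rw [Subgroup.coe_pow, Subgroup.coe_one] at this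
      rw [this]
      exact Matrix.one_mulVec v
    · intro e he e' he' v
      obtain ⟨a, -, rfl⟩ := Finset.mem_image.1 he
      obtain ⟨b, -, rfl⟩ := Finset.mem_image.1 he'
      rw [← hmul, ← hmul]
      have := congrArg (fun z : E => ((z : (S : Subgroup G)) : G)) (hE.1.is_comm.comm a b)
      simp only [Subgroup.coe_mul] at this
      rw [this]
    · intro e he u v
      obtain ⟨a, -, rfl⟩ := Finset.mem_image.1 he
      exact Cfsg.Agent.Lib.Classical.sp_iso n _ u v

end Cfsg.Agent.S2250
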