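import Cfsg.Statements.S2271
import Cfsg.Agent.Lib.Perm.ClassProductFix

set_option autoImplicit false
open Cfsg

namespace Cfsg.Agent.S2271

/-- Let n ≥ 5 and let a, b be non-identity permutations in the symmetric group S_n. Then the number of fixed points is not constant on the set of products a′b′ with a′ conjugate to a and b′ conjugate to b under the alternating group: there are even permutations g₁, h₁, g₂, h₂ such that (g₁ a g₁⁻¹)(h₁ b h₁⁻¹) and (g₂ a g₂⁻¹)(h₂ b h₂⁻¹) have different numbers of fixed points. -/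
theorem result (n : ℕ) (hn : 5 ≤ n) (a b : Equiv.Perm (Fin n)) (ha : a ≠ 1) (hb : b ≠ 1) :
    ∃ g₁ h₁ g₂ h₂ : Equiv.Perm (Fin n), g₁ ∈ alternatingGroup (Fin n) ∧ h₁ ∈ alternatingGroup (Fin n) ∧ g₂ ∈ alternatingGroup (Fin n) ∧ h₂ ∈ alternatingGroup (Fin n) ∧
      Nat.card (Function.fixedPoints ⇑(g₁ * a * g₁⁻¹ * (h₁ * b * h₁⁻¹))) ≠
        Nat.card (Function.fixedPoints ⇑(g₂ * a * g₂⁻¹ * (h₂ * b * h₂⁻¹))) := by
  obtain ⟨g₁, g₂, h1, h2, hne⟩ := Lib.Perm.ClassProductFix.exists_two_conjugates hn a b ha hb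
  simp only [Finset.mem_filter, Finset.mem_univ, true_and] at h1 h2
  have key : ∀ g : Equiv.Perm (Fin n), Nat.card (Function.fixedPoints ⇑(1 * a * (1 : Equiv.Perm (Fin n))⁻¹ * (g * b * g⁻¹))) =
      Lib.Perm.ClassProductFix.agree a⁻¹ (g * b * g⁻¹) := fun g => by
    classical
    rw [Nat.card_eq_fintype_card, Fintype.card_subtype]
    refine congrArg Finset.card (Finset.filter_congr fun i _ => ?_)
    simp only [Function.IsFixedPt, Function.mem_fixedPoints, one_mul, inv_one, mul_one, Equiv.Perm.mul_apply, Equiv.Perm.inv_def]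
    rw [Equiv.symm_apply_eq, eq_comm]
  refine ⟨1, g₁, 1, g₂, one_mem _, h1, one_mem _, h2, ?_⟩
  rw [key, key]
  exact hne

end Cfsg.Agent.S2271
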