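import Mathlib
import Cfsg.Statements.S2276
import Cfsg.Agent.Lib.LocalChar.FreePair

set_option autoImplicit false

open scoped commutatorElement Pointwise

open Cfsg.Agent.Lib.LocalChar

namespace Cfsg.Agent.S2276

open Equiv Equiv.Perm
open Cfsg.Agent.Lib.LocalChar.FreePair

section base

variable {α : Type*} [Fintype α] [DecidableEq α] {p : ℕ} [hp : Fact p.Prime]

omit [Fintype α] [DecidableEq α] hp in
lemma good_map {X Y : Type*} [Group X] [Group Y] (E : X ≃* Y) {u v : X} (h : Good p u v) : Good p (E u) (E v) := by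
  refine ⟨?_, fun hs => h.2 ?_⟩
  · rw [← map_mul, E.orderOf_eq]; exact h.1
  · have he : (Subgroup.closure ({u, v} : Set X)).map E.toMonoidHom = Subgroup.closure ({E u, E v} : Set Y) := by
      rw [MonoidHom.map_closure, Set.image_pair]
      rfl
    rw [← he] at hs
    exact Group.isSolvable_of_isSolvable_injective
      (f := (Subgroup.equivMapOfInjective _ E.toMonoidHom E.injective).toMonoidHom) (MulEquiv.injective _)

omit [Fintype α] [DecidableEq α] hp in
lemma good_of_conj {u v : Perm α} (σ : Perm α) (h : Good p u v) : Good p (σ * u * σ⁻¹) (σ * v * σ⁻¹) :=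
  good_map (MulAut.conj σ) h

omit [Fintype α] [DecidableEq α] hp in
lemma good_symm {u v : Perm α} (h : Good p u v) : Good p v u := by
  refine ⟨?_, ?_⟩
  · have e : orderOf (v * u) = orderOf (u * v) := by
      have h1 : orderOf (v * u) = orderOf (v⁻¹ * (v * u) * v⁻¹⁻¹) := (MulEquiv.orderOf_eq (MulAut.conj v⁻¹) (v * u)).symm
      rw [h1]; congr 1; group
    rw [e]; exact h.1
  · rw [Set.pair_comm]; exact h.2

/-- Two elements `a, b` with `a ^ 2 = b ^ 3 = (a * b) ^ 5 = 1`, `a ≠ 1`, prevent solvability. -/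
lemma not_solvable_of_triangle {G : Type*} [Group G] {H : Subgroup G} {a b : G} (ha : a ∈ H) (hb : b ∈ H)
    (ha2 : a ^ 2 = 1) (hb3 : b ^ 3 = 1) (hab : (a * b) ^ 5 = 1) (hne : a ≠ 1) : ¬ Group.IsSolvable H := by
  intro hs
  set K := Subgroup.closure ({(⟨a, ha⟩ : H), ⟨b, hb⟩} : Set H)
  let a' : K := ⟨⟨a, ha⟩, Subgroup.subset_closure (by simp)⟩
  let b' : K := ⟨⟨b, hb⟩, Subgroup.subset_closure (by simp)⟩
  let q : K →* Abelianization K := Abelianization.of
  have h1 : q a' ^ 2 = 1 := by rw [← map_pow, show a' ^ 2 = 1 from Subtype.ext (Subtype.ext (by simpa [a'] using ha2)), map_one]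
  have h2 : q b' ^ 3 = 1 := by rw [← map_pow, show b' ^ 3 = 1 from Subtype.ext (Subtype.ext (by simpa [b'] using hb3)), map_one]
  have h3 : q a' ^ 5 * q b' ^ 5 = 1 := by
    rw [← mul_pow, ← map_mul, ← map_pow,
      show (a' * b') ^ 5 = 1 from Subtype.ext (Subtype.ext (by simpa [a', b'] using hab)), map_one]
  have h5 : q a' ^ 5 = q a' := by rw [show (5 : ℕ) = 2 * 2 + 1 from rfl, pow_add, pow_mul, h1, one_pow, one_mul, pow_one]
  have hb5 : q b' ^ 5 = q b' ^ 2 := by rw [show (5 : ℕ) = 3 + 2 from rfl, pow_add, h2, one_mul]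
  have ha1 : q a' = 1 := by
    have h4 : (q a' * q b' ^ 2) ^ 3 = 1 := by rw [← h5, ← hb5, h3, one_pow]
    rw [mul_pow, ← pow_mul, mul_comm 2 3, pow_mul, h2, one_pow, mul_one] at h4
    calc q a' = q a' ^ 3 := by rw [pow_succ, h1, one_mul]
      _ = 1 := h4
  have hb1 : q b' = 1 := by
    rw [h5, hb5, ha1, one_mul] at h3
    calc q b' = q b' ^ 3 * ((q b' ^ 2)⁻¹) := by rw [pow_succ' (q b') 2]; group
      _ = 1 := by rw [h2, h3]; simp
  have htop : commutator K = ⊤ := by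
    rw [← Abelianization.ker_of, eq_top_iff]
    intro x _
    suffices ∀ y : H, ∀ hy : y ∈ K, q ⟨y, hy⟩ = 1 from this x.1 x.2
    intro y hy
    induction hy using Subgroup.closure_induction with
    | mem z hz =>
      rcases hz with rfl | rfl
      · exact ha1
      · exact hb1
    | one => exact map_one q
    | mul y z hy hz ihy ihz => rw [show (⟨y * z, _⟩ : K) = ⟨y, hy⟩ * ⟨z, hz⟩ from rfl, map_mul, ihy, ihz, one_mul]
    | inv y hy ih => rw [show (⟨y⁻¹, _⟩ : K) = (⟨y, hy⟩ : K)⁻¹ from rfl, map_inv, ih, inv_one]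
  haveI : Group.IsSolvable K := inferInstance
  haveI : Nontrivial K := ⟨⟨a', 1, fun h => hne (congrArg (fun z : K => ((z : H) : G)) h)⟩⟩
  exact (Group.IsSolvable.commutator_lt_top_of_nontrivial K).ne htop

/-- A full cycle of prime power length at least seven and any nontrivial `p`-element. -/
lemma base_seven (h3 : 3 ≤ p) {b : ℕ} {u w : Perm α} (hu : u.IsCycleOn (↑(Finset.univ : Finset α)))
    (hcard : Fintype.card α = p ^ (b + 1)) (h7 : 7 ≤ Fintype.card α) {j : ℕ} (hw : w ^ p ^ j = 1) (hw1 : w ≠ 1) :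
    ∃ g ∈ alternatingGroup α, Good p u (g * w * g⁻¹) := by
  classical
  obtain ⟨a₀⟩ : Nonempty α := Fintype.card_pos_iff.1 (by omega)
  have hp2 : p ≠ 2 := by omega
  have hpp := hp.out
  set L := Fintype.card α with hL
  set pt : ℕ → α := fun i => (u ^ i) a₀ with hpt
  have pinj : ∀ i k, i < L → k < L → pt i = pt k → i = k := fun i k hi hk h => pt_inj hu hi hk h
  have piff : ∀ {i k}, i < L → k < L → (pt i = pt k ↔ i = k) := fun hi hk => ⟨pinj _ _ hi hk, fun h => h ▸ rfl⟩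
  have upt : ∀ i, u (pt i) = pt (i + 1) := fun i => by simp [pt, pow_succ', Perm.mul_apply]
  have hm3 : 1 ≤ b → 3 ≤ p ^ b ∧ 3 * p ^ b ≤ L ∧ p ∣ p ^ b := fun hb => by
    refine ⟨h3.trans (Nat.le_self_pow (by omega) p), ?_, dvd_pow_self p (by omega)⟩
    rw [hcard, pow_succ']
    exact Nat.mul_le_mul_right _ h3
  have hord : orderOf w ∣ p ^ j := orderOf_dvd_of_pow_eq_one hw
  have hnot2 : ∀ x, w x ≠ x → w (w x) ≠ x := by
    intro x hx hxx
    obtain ⟨k, -, hk⟩ := (Nat.dvd_prime_pow hp.out).1 hord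
    exact not_pow_of_swap hp2 (Ne.symm hx) rfl hxx ⟨k, hk⟩
  obtain ⟨t₁, ht₁⟩ : ∃ t, w t ≠ t := by
    by_contra! hall
    exact hw1 (Equiv.ext hall)
  -- it suffices to place the points of `w`
  suffices H : ∃ g ∈ alternatingGroup α, ∃ P Q x₁ z₁ z₂ : ℕ, P < L ∧ Q < L ∧ P ≠ Q ∧
      u ((g * w * g⁻¹) (pt P)) = pt Q ∧ u ((g * w * g⁻¹) (pt Q)) = pt P ∧
      (1 ≤ b → (g * w * g⁻¹) (pt x₁) = pt z₁ ∧ (g * w * g⁻¹) (pt (x₁ + p ^ b)) = pt z₂ ∧
        (z₁ ≤ z₂ ∧ ¬ p ∣ z₂ - z₁ ∨ z₂ ≤ z₁ ∧ ¬ p ∣ z₁ - z₂)) by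
    obtain ⟨g, hg, P, Q, x₁, z₁, z₂, hP, hQ, hPQ, h1, h2, hwit⟩ := H
    have hnp : ¬ ∃ k : ℕ, orderOf (u * (g * w * g⁻¹)) = p ^ k :=
      not_pow_of_swap hp2 (fun h => hPQ (pinj P Q hP hQ h)) h1 h2
    refine ⟨g, hg, hnp, not_solvable_of_witness hu h3 hcard (j := j) ?_ hnp hwit⟩
    rw [conj_pow, hw, mul_one, mul_inv_cancel]
  by_cases hlarge : ∃ t₂, w t₂ ≠ t₂ ∧ t₂ ≠ t₁ ∧ t₂ ≠ w t₁ ∧ w t₂ ≠ t₁
  · obtain ⟨t₂, ht₂, h21, h22, h23⟩ := hlarge
    have hh : w t₂ ≠ w t₁ := fun h => h21 (w.injective h)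
    by_cases hb : b = 0
    · obtain ⟨g, hg, hgv⟩ := exists_even_map (k := 4) (by omega) ![t₁, w t₁, t₂, w t₂] ![pt 1, pt 2, pt 3, pt 0]
        (by rw [← List.nodup_ofFn]; simp [List.ofFn_succ]; grind)
        (by rw [← List.nodup_ofFn]; simp (disch := omega) [List.ofFn_succ, piff] <;> omega)
      refine ⟨g, hg, 1, 3, 1, 0, 0, by omega, by omega, by omega, ?_, ?_, fun h => absurd h (by omega)⟩
      · rw [show (g * w * g⁻¹) (pt 1) = pt 2 from conj_apply_of g w (hgv 0) (hgv 1) rfl, upt]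
      · rw [show (g * w * g⁻¹) (pt 3) = pt 0 from conj_apply_of g w (hgv 2) (hgv 3) rfl, upt]
    obtain ⟨hm, hmL, hpm⟩ := hm3 (by omega)
    set m := p ^ b
    obtain ⟨t₃, ht₃⟩ : ∃ t, t ∉ ({t₁, w t₁, t₂, w t₂} : Finset α) := by
      by_contra! hall
      have h1 : (Finset.univ : Finset α) ⊆ {t₁, w t₁, t₂, w t₂} := fun x _ => hall x
      have h2 := (Finset.card_le_card h1).trans Finset.card_le_four
      rw [Finset.card_univ] at h2
      omega
    simp only [Finset.mem_insert, Finset.mem_singleton, not_or] at ht₃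
    obtain ⟨n1, n2, n3, n4⟩ := ht₃
    have hh1 : w t₃ ≠ w t₁ := fun h => n1 (w.injective h)
    have hh2 : w t₃ ≠ w t₂ := fun h => n3 (w.injective h)
    have hdiv : ¬ p ∣ (1 + m) - 2 := fun h => by
      have : p ∣ m - (1 + m - 2) := Nat.dvd_sub hpm h
      rw [show m - (1 + m - 2) = 1 by omega, Nat.dvd_one] at this
      exact hpp.ne_one this
    by_cases hnew : w t₃ ≠ t₁ ∧ w t₃ ≠ t₂ ∧ w t₃ ≠ t₃
    · obtain ⟨e1, e2, e3⟩ := hnew
      obtain ⟨g, hg, hgv⟩ := exists_even_map (k := 6) (by omega) ![t₁, w t₁, t₂, w t₂, t₃, w t₃]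
        ![pt 1, pt 2, pt 3, pt 0, pt (1 + m), pt (L - 2)]
        (by rw [← List.nodup_ofFn]; simp [List.ofFn_succ]; grind)
        (by rw [← List.nodup_ofFn]; simp (disch := omega) [List.ofFn_succ, piff] <;> omega)
      refine ⟨g, hg, 1, 3, 1, 2, L - 2, by omega, by omega, by omega, ?_, ?_,
        fun _ => ⟨conj_apply_of g w (hgv 0) (hgv 1) rfl, conj_apply_of g w (hgv 4) (hgv 5) rfl,
          Or.inl ⟨by omega, fun h => ?_⟩⟩⟩
      · rw [show (g * w * g⁻¹) (pt 1) = pt 2 from conj_apply_of g w (hgv 0) (hgv 1) rfl, upt]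
      · rw [show (g * w * g⁻¹) (pt 3) = pt 0 from conj_apply_of g w (hgv 2) (hgv 3) rfl, upt]
      · have hpL : p ∣ L := hcard ▸ dvd_pow_self p (by omega)
        have h4 : p ∣ 4 := by
          have := Nat.dvd_sub hpL h
          rwa [show L - (L - 2 - 2) = 4 by omega] at this
        have := Nat.le_of_dvd (by norm_num) h4
        interval_cases p <;> simp_all (config := { decide := true })
    · obtain ⟨g, hg, hgv⟩ := exists_even_map (k := 5) (by omega) ![t₁, w t₁, t₂, w t₂, t₃]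
        ![pt 1, pt 2, pt 3, pt 0, pt (1 + m)]
        (by rw [← List.nodup_ofFn]; simp [List.ofFn_succ]; grind)
        (by rw [← List.nodup_ofFn]; simp (disch := omega) [List.ofFn_succ, piff] <;> omega)
      have hP : u ((g * w * g⁻¹) (pt 1)) = pt 3 := by rw [show (g * w * g⁻¹) (pt 1) = pt 2 from conj_apply_of g w (hgv 0) (hgv 1) rfl, upt]
      have hQ : u ((g * w * g⁻¹) (pt 3)) = pt 1 := by
        rw [show (g * w * g⁻¹) (pt 3) = pt 0 from conj_apply_of g w (hgv 2) (hgv 3) rfl, upt]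
      push Not at hnew
      by_cases e1 : w t₃ = t₁
      · refine ⟨g, hg, 1, 3, 1, 2, 1, by omega, by omega, by omega, hP, hQ, fun _ => ⟨conj_apply_of g w (hgv 0) (hgv 1) rfl,
          conj_apply_of g w (hgv 4) (hgv 0) e1, Or.inr ⟨by omega, by simp [hpp.ne_one]⟩⟩⟩
      by_cases e2 : w t₃ = t₂
      · refine ⟨g, hg, 1, 3, 1, 2, 3, by omega, by omega, by omega, hP, hQ, fun _ => ⟨conj_apply_of g w (hgv 0) (hgv 1) rfl,
          conj_apply_of g w (hgv 4) (hgv 2) e2, Or.inl ⟨by omega, by simp [hpp.ne_one]⟩⟩⟩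
      · refine ⟨g, hg, 1, 3, 1, 2, 1 + m, by omega, by omega, by omega, hP, hQ, fun _ => ⟨conj_apply_of g w (hgv 0) (hgv 1) rfl,
          conj_apply_of g w (hgv 4) (hgv 4) (hnew e1 e2), Or.inl ⟨by omega, hdiv⟩⟩⟩
  · -- `w` is a three cycle
    push Not at hlarge
    set x := t₁
    set y := w x
    set z := w y
    have hy : w y ≠ y := fun h => ht₁ (w.injective h)
    have hzx : z ≠ x := hnot2 x ht₁
    have hz : w z ≠ z := fun h => hy (w.injective h)
    have hwz : w z = x := hlarge z hz hzx hy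
    have hfix : ∀ t, t ≠ x → t ≠ y → t ≠ z → w t = t := by
      intro t h1 h2 h3'
      by_contra ht
      exact h3' (w.injective ((hlarge t ht h1 h2).trans hwz.symm))
    obtain ⟨g, hg, hgv⟩ := exists_even_map (k := 3) (by omega) ![x, y, z] ![pt 2, pt 0, pt 4]
      (by rw [← List.nodup_ofFn]; simp [List.ofFn_succ]; grind)
      (by rw [← List.nodup_ofFn]; simp (disch := omega) [List.ofFn_succ, piff] <;> omega)
    have hfix' : ∀ i, i < L → i ≠ 2 → i ≠ 0 → i ≠ 4 → (g * w * g⁻¹) (pt i) = pt i := by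
      intro i hi h1 h2 h4
      have hgi : g (g⁻¹ (pt i)) = pt i := by simp
      refine conj_apply_of g w hgi hgi (hfix _ ?_ ?_ ?_) <;> intro h <;> rw [h] at hgi
      · exact h1 (pinj i 2 hi (by omega) (hgi.symm.trans (hgv 0)))
      · exact h2 (pinj i 0 hi (by omega) (hgi.symm.trans (hgv 1)))
      · exact h4 (pinj i 4 hi (by omega) (hgi.symm.trans (hgv 2)))
    refine ⟨g, hg, 1, 2, 0, 4, p ^ b, by omega, by omega, by omega, ?_, ?_, fun hb => ?_⟩
    · rw [hfix' 1 (by omega) (by omega) (by omega) (by omega), upt]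
    · rw [show (g * w * g⁻¹) (pt 2) = pt 0 from conj_apply_of g w (hgv 0) (hgv 1) rfl, upt]
    obtain ⟨hm, hmL, hpm⟩ := hm3 hb
    have hm4 : p ^ b ≠ 4 ∧ p ^ b ≠ 2 := by
      constructor <;> intro h <;> rw [h] at hpm <;> have := Nat.le_of_dvd (by norm_num) hpm
      · interval_cases p <;> simp_all (config := { decide := true })
      · omega
    refine ⟨conj_apply_of g w (hgv 1) (hgv 2) rfl, ?_, ?_⟩
    · rw [zero_add]; exact hfix' _ (by omega) hm4.2 (by omega) hm4.1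
    · have hp4 : ¬ p ∣ 4 := fun h => by
        have := Nat.le_of_dvd (by norm_num) h
        interval_cases p <;> simp_all (config := { decide := true })
      rcases le_total 4 (p ^ b) with h | h
      · exact Or.inl ⟨h, fun hd => hp4 (by have := Nat.dvd_sub hpm hd; rwa [show p ^ b - (p ^ b - 4) = 4 by omega] at this)⟩
      · refine Or.inr ⟨h, ?_⟩
        rw [show 4 - p ^ b = 1 by omega]; simp [hpp.ne_one]

/-- Invariant sets of prescribed size containing a moved point. -/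
lemma exists_invariant {f : Perm α} (hf1 : f ≠ 1) {T : ℕ} (hT2 : 2 ≤ T) (hT : T ≤ Fintype.card α)
    {k : ℕ} (hk : f ^ p ^ k = 1) (hdvd : ∀ x, Nat.card (MulAction.orbit (Subgroup.zpowers f) x : Set α) ∣ T) :
    ∃ S : Finset α, S.card = T ∧ (∀ x, f x ∈ S ↔ x ∈ S) ∧ ∃ x ∈ S, f x ≠ x := by
  classical
  set cy : α → Finset α := fun x => Finset.univ.filter fun y => f.SameCycle x y with hcy
  have hmem : ∀ x y, y ∈ cy x ↔ f.SameCycle x y := fun x y => by simp [cy]
  have hcyc : ∀ x, (cy x).card = Nat.card (MulAction.orbit (Subgroup.zpowers f) x) := by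
    intro x
    rw [← Nat.card_eq_finsetCard]
    refine Nat.card_congr (Equiv.subtypeEquivRight fun y => ?_)
    rw [hmem]
    constructor
    · rintro ⟨i, hi⟩; exact ⟨⟨f ^ i, i, rfl⟩, hi⟩
    · rintro ⟨⟨σ, i, rfl⟩, hi⟩; exact ⟨i, hi⟩
  have hpow : ∀ x, ∃ i, (cy x).card = p ^ i := by
    intro x
    rw [hcyc]
    have h1 : Nat.card (MulAction.orbit (Subgroup.zpowers f) x) ∣ Nat.card (Subgroup.zpowers f) :=
      Nat.card_congr (MulAction.orbitEquivQuotientStabilizer (Subgroup.zpowers f) x) ▸ Subgroup.card_quotient_dvd_card _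
    rw [Nat.card_zpowers] at h1
    obtain ⟨i, -, hi⟩ := (Nat.dvd_prime_pow hp.out).1 (h1.trans (orderOf_dvd_of_pow_eq_one hk))
    exact ⟨i, hi⟩
  have hself : ∀ x, x ∈ cy x := fun x => (hmem x x).2 (SameCycle.refl f x)
  have hsame : ∀ x y, y ∈ cy x → cy y = cy x := fun x y h => by
    ext z; rw [hmem, hmem]
    exact ⟨((hmem x y).1 h).trans, ((hmem x y).1 h).symm.trans⟩
  have hfix : ∀ x, f x = x ↔ (cy x).card = 1 := by
    intro x
    constructor
    · intro h
      rw [Finset.card_eq_one]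
      refine ⟨x, Finset.ext fun y => ?_⟩
      rw [hmem, Finset.mem_singleton]
      exact ⟨fun hy => (SameCycle.eq_of_left hy h).symm, fun hy => hy ▸ SameCycle.refl f x⟩
    · intro h
      exact Finset.card_le_one.1 h.le _ ((hmem x _).2 ⟨1, by simp⟩) _ (hself x)
  let Fam := (Finset.univ : Finset (Finset α)).filter fun S =>
    S.card ≤ T ∧ (∀ x ∈ S, cy x ⊆ S) ∧ ∀ x ∈ S, ∀ y ∉ S, (cy y).card ≤ (cy x).card
  obtain ⟨S, hS, hmax⟩ := Finset.exists_max_image Fam Finset.card ⟨∅, by simp [Fam]⟩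
  simp only [Fam, Finset.mem_filter, Finset.mem_univ, true_and] at hS hmax
  obtain ⟨hle, hinv, hup⟩ := hS
  have hST : S.card = T := by
    by_contra hne
    obtain ⟨y, hy, hymax⟩ := Finset.exists_max_image Sᶜ (fun y => (cy y).card) (by
      rw [← Finset.card_pos, Finset.card_compl]; omega)
    rw [Finset.mem_compl] at hy
    have hdisj : Disjoint S (cy y) := by
      rw [Finset.disjoint_left]
      intro z hz hz'
      exact hy (hinv z hz ((hmem z y).2 ((hmem y z).1 hz').symm))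
    have hq : (cy y).card ∣ S.card := by
      rw [Finset.card_eq_sum_card_fiberwise (t := S.image cy) fun x hx => Finset.mem_image_of_mem cy hx]
      refine Finset.dvd_sum fun c hc => ?_
      obtain ⟨x, hx, rfl⟩ := Finset.mem_image.1 hc
      have hfib : (S.filter fun z => cy z = cy x) = cy x := by
        ext z
        rw [Finset.mem_filter]
        exact ⟨fun h => h.2 ▸ hself z, fun h => ⟨hinv x hx h, hsame x z h⟩⟩
      rw [hfib]
      obtain ⟨i, hi⟩ := hpow y
      obtain ⟨k', hk'⟩ := hpow x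
      have := hup x hx y hy
      rw [hi, hk'] at this ⊢
      exact Nat.pow_dvd_pow p ((Nat.pow_le_pow_iff_right hp.out.one_lt).1 this)
    have hqT : (cy y).card ∣ T := hcyc y ▸ hdvd y
    have hroom : S.card + (cy y).card ≤ T := by
      have h1 := Nat.dvd_sub hqT hq
      have h2 := Nat.le_of_dvd (by omega) h1
      omega
    have hbig := hmax (S ∪ cy y) ⟨by rw [Finset.card_union_of_disjoint hdisj]; exact hroom, fun x hx => ?_, fun x hx z hz => ?_⟩
    · rw [Finset.card_union_of_disjoint hdisj] at hbig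
      have : 0 < (cy y).card := Finset.card_pos.2 ⟨y, hself y⟩
      omega
    · rcases Finset.mem_union.1 hx with hx | hx
      · exact (hinv x hx).trans Finset.subset_union_left
      · rw [hsame y x hx]; exact Finset.subset_union_right
    · rw [Finset.mem_union, not_or] at hz
      have hzy : (cy z).card ≤ (cy y).card := hymax z (Finset.mem_compl.2 hz.1)
      rcases Finset.mem_union.1 hx with hx | hx
      · exact hup x hx z hz.1
      · rw [hsame y x hx]; exact hzy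
  refine ⟨S, hST, fun x => ⟨fun h => hinv _ h ((hmem _ x).2 ⟨-1, by simp⟩), fun h => hinv x h ((hmem x _).2 ⟨1, by simp⟩)⟩, ?_⟩
  by_contra! hall
  obtain ⟨x, hx⟩ : S.Nonempty := Finset.card_pos.1 (by omega)
  apply hf1
  ext z
  rw [Perm.one_apply]
  by_cases hz : z ∈ S
  · exact hall z hz
  · have h1 := hup x hx z hz
    rw [(hfix x).1 (hall x hx)] at h1
    exact (hfix z).2 (le_antisymm h1 (Finset.card_pos.2 ⟨z, hself z⟩))

/-- Passing to an invariant block. -/
lemma good_of_block {u v : Perm α} {B : Finset α} (hu : ∀ x, u x ∈ B ↔ x ∈ B) (hv : ∀ x, v x ∈ B ↔ x ∈ B)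
    (h : Good p (u.subtypePerm hu : Perm {x // x ∈ B}) (v.subtypePerm hv)) : Good p u v := by
  classical
  let St : Subgroup (Perm α) :=
    { carrier := {σ | ∀ x, σ x ∈ B ↔ x ∈ B}
      one_mem' := fun x => by simp
      mul_mem' := fun {σ τ} hσ hτ x => by rw [Perm.mul_apply, hσ, hτ]
      inv_mem' := fun {σ} hσ x => by rw [← hσ]; simp }
  let res : St →* Perm {x // x ∈ B} :=
    { toFun := fun σ => (σ : Perm α).subtypePerm σ.2
      map_one' := Equiv.ext fun x => Subtype.ext (by simp)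
      map_mul' := fun σ τ => Equiv.ext fun x => Subtype.ext rfl }
  refine ⟨fun ⟨i, hi⟩ => h.1 ?_, fun hs => h.2 ?_⟩
  · have h1 : orderOf (res (⟨u, hu⟩ * ⟨v, hv⟩)) ∣ orderOf ((⟨u, hu⟩ : St) * ⟨v, hv⟩) := orderOf_map_dvd res _
    have h2 : orderOf ((⟨u, hu⟩ : St) * ⟨v, hv⟩) = p ^ i := (Subgroup.orderOf_coe _).symm.trans hi
    rw [map_mul] at h1
    obtain ⟨i', -, hi'⟩ := (Nat.dvd_prime_pow hp.out).1 (h1.trans h2.dvd)
    exact ⟨i', hi'⟩
  · set K := Subgroup.closure ({(⟨u, hu⟩ : St), ⟨v, hv⟩} : Set St)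
    have hK : K.map St.subtype = Subgroup.closure ({u, v} : Set (Perm α)) := by
      rw [MonoidHom.map_closure, Set.image_pair]; rfl
    rw [← hK] at hs
    haveI : Group.IsSolvable K := Group.isSolvable_of_isSolvable_injective
      (f := (Subgroup.equivMapOfInjective K St.subtype St.subtype_injective).toMonoidHom) (MulEquiv.injective _)
    have hK' : K.map res = Subgroup.closure ({u.subtypePerm hu, v.subtypePerm hv} : Set (Perm {x // x ∈ B})) := by
      rw [MonoidHom.map_closure, Set.image_pair]; rfl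
    rw [← hK']
    exact Group.isSolvable_of_surjective (f := (res.subgroupMap K)) (MonoidHom.subgroupMap_surjective _ _)

lemma sign_eq_one_of_pow (hp2 : p ≠ 2) {f : Perm α} {k : ℕ} (h : f ^ p ^ k = 1) : sign f = 1 := by
  obtain ⟨i, hi⟩ := (hp.out.odd_of_ne_two hp2).pow (n := k)
  have h1 : sign f ^ p ^ k = 1 := by rw [← map_pow, h, map_one]
  rcases Int.units_eq_one_or (sign f) with h2 | h2
  · exact h2
  · rw [h2, hi, pow_succ, pow_mul, neg_one_sq, one_pow, one_mul] at h1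
    exact h2.trans h1

lemma exists_even_to {B C : Finset α} (hBC : C.card = B.card) (hB : 2 ≤ B.card) :
    ∃ g ∈ alternatingGroup α, ∀ x, g x ∈ B ↔ x ∈ C := by
  classical
  let e : {x // x ∈ C} ≃ {x // x ∈ B} := Finset.equivOfCardEq hBC
  have hg : ∀ x, e.extendSubtype x ∈ B ↔ x ∈ C := fun x => by
    by_cases hx : x ∈ C
    · simp [hx, e.extendSubtype_mem x hx]
    · simp [hx, e.extendSubtype_not_mem x hx]
  rcases Int.units_eq_one_or (sign e.extendSubtype) with h | h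
  · exact ⟨_, mem_alternatingGroup.2 h, hg⟩
  · obtain ⟨a, ha, b, hb, hab⟩ := Finset.one_lt_card.1 hB
    refine ⟨Equiv.swap a b * e.extendSubtype, mem_alternatingGroup.2 ?_, fun x => ?_⟩
    · rw [map_mul, sign_swap hab, h]; simp
    · rw [Perm.mul_apply, ← hg]
      by_cases h1 : e.extendSubtype x = a
      · simp [h1, ha, hb]
      by_cases h2 : e.extendSubtype x = b
      · simp [h2, ha, hb]
      rw [Equiv.swap_apply_of_ne_of_ne h1 h2]

end base

section small

lemma rep_three {α : Type*} [Fintype α] [DecidableEq α] (f : Perm α) (h : orderOf f = 3) :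
    ∃ k, f.cycleType = Multiset.replicate (k + 1) 3 ∧ (k + 1) * 3 ≤ Fintype.card α := by
  haveI : Fact (Nat.Prime 3) := ⟨Nat.prime_three⟩
  obtain ⟨k, hk⟩ := cycleType_prime_order (show (orderOf f).Prime by rw [h]; exact Nat.prime_three)
  rw [h] at hk
  refine ⟨k, hk, ?_⟩
  have h1 := f.sum_cycleType
  rw [hk, Multiset.sum_replicate, smul_eq_mul] at h1
  rw [h1]; exact Finset.card_le_univ _

variable {α : Type*} [Fintype α] [DecidableEq α] {p : ℕ} [hp : Fact p.Prime]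

/-- Reduction to representatives. -/
lemma good_of_reps {u w r s t τ : Perm α} (hu : IsConj r u) (hw : IsConj s w) (hτ : Commute τ s) (hτs : sign τ = -1)
    (ht : Good p r (t * s * t⁻¹)) : ∃ g ∈ alternatingGroup α, Good p u (g * w * g⁻¹) := by
  obtain ⟨σ, rfl⟩ := isConj_iff.1 hu
  obtain ⟨ρ, rfl⟩ := isConj_iff.1 hw
  obtain ⟨ρ', hρ', he⟩ : ∃ ρ', sign (σ * t * ρ'⁻¹) = 1 ∧ ρ' * s * ρ'⁻¹ = ρ * s * ρ⁻¹ := by
    rcases Int.units_eq_one_or (sign (σ * t * ρ⁻¹)) with h | h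
    · exact ⟨ρ, h, rfl⟩
    · refine ⟨ρ * τ⁻¹, ?_, ?_⟩
      · rw [mul_inv_rev, inv_inv, map_mul, map_mul, map_mul, hτs]
        rw [map_mul, map_mul] at h
        rw [show sign σ * sign t * (-1 * sign ρ⁻¹) = -1 * (sign σ * sign t * sign ρ⁻¹) by ac_rfl, h]
        rfl
      · rw [show ρ * τ⁻¹ * s * (ρ * τ⁻¹)⁻¹ = ρ * (τ⁻¹ * s * τ) * ρ⁻¹ by group, mul_assoc τ⁻¹ s τ, ← hτ.eq,
          inv_mul_cancel_left]
  refine ⟨σ * t * ρ'⁻¹, hρ', ?_⟩
  rw [← he, show σ * t * ρ'⁻¹ * (ρ' * s * ρ'⁻¹) * (σ * t * ρ'⁻¹)⁻¹ = σ * (t * s * t⁻¹) * σ⁻¹ by group]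
  exact good_of_conj σ ht

omit hp in
lemma good_of_words [Fact (Nat.Prime 3)] {r v a b : Perm α} (ha : a ∈ Subgroup.closure ({r, v} : Set (Perm α)))
    (hb : b ∈ Subgroup.closure ({r, v} : Set (Perm α))) (h2 : a ^ 2 = 1) (h3 : b ^ 3 = 1) (h5 : (a * b) ^ 5 = 1)
    (hne : a ≠ 1) {n : ℕ} (hn : (r * v) ^ n = 1) (hn3 : ¬ 3 ∣ n) (h1 : r * v ≠ 1) : Good 3 r v := by
  refine ⟨fun ⟨k, hk⟩ => ?_, not_solvable_of_triangle ha hb h2 h3 h5 hne⟩
  rcases k with _ | k
  · exact h1 (orderOf_eq_one_iff.1 (by simpa using hk))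
  · exact hn3 ((dvd_pow_self 3 (Nat.succ_ne_zero k)).trans (hk ▸ orderOf_dvd_of_pow_eq_one hn))

end small

lemma word_mem {G : Type*} [Group G] (r v : G) : r ∈ Subgroup.closure ({r, v} : Set G) ∧ v ∈ Subgroup.closure ({r, v} : Set G) :=
  ⟨Subgroup.subset_closure (by simp), Subgroup.subset_closure (by simp)⟩

set_option maxRecDepth 100000 in
lemma five_three (u w : Perm (Fin 5)) (hu : orderOf u = 3) (hw : orderOf w = 3) :
    ∃ g ∈ alternatingGroup (Fin 5), Good 3 u (g * w * g⁻¹) := by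
  haveI : Fact (Nat.Prime 3) := ⟨Nat.prime_three⟩
  set c : Perm (Fin 5) := Equiv.swap 0 1 * Equiv.swap 1 2 with hc
  set t : Perm (Fin 5) := Equiv.swap 1 3 * Equiv.swap 2 4 with ht
  have hct : c.cycleType = Multiset.replicate 1 3 := by decide
  have hk : ∀ f : Perm (Fin 5), orderOf f = 3 → IsConj c f := by
    intro f hf
    obtain ⟨k, hk, hle⟩ := rep_three f hf
    simp only [Fintype.card_fin] at hle
    obtain rfl : k = 0 := by omega
    exact isConj_iff_cycleType_eq.2 (hct.trans hk.symm)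
  obtain ⟨mr, mv⟩ := word_mem c (t * c * t⁻¹)
  refine good_of_reps (t := t) (τ := Equiv.swap 3 4) (hk u hu) (hk w hw) (show _ = _ by decide) (by decide) ?_
  exact good_of_words (a := c * c * (t * c * t⁻¹) * c * (t * c * t⁻¹)) (b := c)
    (mul_mem (mul_mem (mul_mem (mul_mem mr mr) mv) mr) mv) mr (by decide) (by decide) (by decide) (by decide)
    (n := 5) (by decide) (by norm_num) (by decide)

set_option maxRecDepth 100000 in
lemma six_three (u w : Perm (Fin 6)) (hu : orderOf u = 3) (hw : orderOf w = 3) :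
    ∃ g ∈ alternatingGroup (Fin 6), Good 3 u (g * w * g⁻¹) := by
  haveI : Fact (Nat.Prime 3) := ⟨Nat.prime_three⟩
  set c : Perm (Fin 6) := Equiv.swap 0 1 * Equiv.swap 1 2 with hc
  set d : Perm (Fin 6) := Equiv.swap 0 1 * Equiv.swap 1 2 * (Equiv.swap 3 4 * Equiv.swap 4 5) with hd
  set t : Perm (Fin 6) := Equiv.swap 1 3 * Equiv.swap 2 4 with ht
  set t' : Perm (Fin 6) := Equiv.swap 2 3 * Equiv.swap 4 5 with ht'
  have hct : c.cycleType = Multiset.replicate 1 3 := by decide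
  have hdt : d.cycleType = Multiset.replicate 2 3 := by decide
  have hk : ∀ f : Perm (Fin 6), orderOf f = 3 → IsConj c f ∨ IsConj d f := by
    intro f hf
    obtain ⟨k, hk, hle⟩ := rep_three f hf
    simp only [Fintype.card_fin] at hle
    rcases (show k = 0 ∨ k = 1 by omega) with rfl | rfl
    · exact Or.inl (isConj_iff_cycleType_eq.2 (hct.trans hk.symm))
    · exact Or.inr (isConj_iff_cycleType_eq.2 (hdt.trans hk.symm))
  set τd : Perm (Fin 6) := Equiv.swap 0 3 * Equiv.swap 1 4 * Equiv.swap 2 5 with hτd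
  rcases hk u hu with hu' | hu' <;> rcases hk w hw with hw' | hw'
  · obtain ⟨mr, mv⟩ := word_mem c (t * c * t⁻¹)
    refine good_of_reps (t := t) (τ := Equiv.swap 3 4) hu' hw' (show _ = _ by decide) (by decide) ?_
    exact good_of_words (a := c * c * (t * c * t⁻¹) * c * (t * c * t⁻¹)) (b := c)
      (mul_mem (mul_mem (mul_mem (mul_mem mr mr) mv) mr) mv) mr (by decide) (by decide) (by decide) (by decide)
      (n := 5) (by decide) (by norm_num) (by decide)
  · obtain ⟨mr, mv⟩ := word_mem c (t' * d * t'⁻¹)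
    refine good_of_reps (t := t') (τ := τd) hu' hw' (show _ = _ by decide) (by decide) ?_
    exact good_of_words (a := c * (t' * d * t'⁻¹) * c * (t' * d * t'⁻¹)) (b := c)
      (mul_mem (mul_mem (mul_mem mr mv) mr) mv) mr (by decide) (by decide) (by decide) (by decide)
      (n := 4) (by decide) (by norm_num) (by decide)
  · obtain ⟨mr, mv⟩ := word_mem d (t' * c * t'⁻¹)
    refine good_of_reps (t := t') (τ := Equiv.swap 3 4) hu' hw' (show _ = _ by decide) (by decide) ?_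
    exact good_of_words (a := d * (t' * c * t'⁻¹) * d * (t' * c * t'⁻¹)) (b := d)
      (mul_mem (mul_mem (mul_mem mr mv) mr) mv) mr (by decide) (by decide) (by decide) (by decide)
      (n := 4) (by decide) (by norm_num) (by decide)
  · obtain ⟨mr, mv⟩ := word_mem d (t' * d * t'⁻¹)
    refine good_of_reps (t := t') (τ := τd) hu' hw' (show _ = _ by decide) (by decide) ?_
    exact good_of_words (a := d * d * (t' * d * t'⁻¹) * d * (t' * d * t'⁻¹)) (b := d)
      (mul_mem (mul_mem (mul_mem (mul_mem mr mr) mv) mr) mv) mr (by decide) (by decide) (by decide) (by decide)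
      (n := 5) (by decide) (by norm_num) (by decide)

set_option maxRecDepth 100000 in
lemma five_five (u w : Perm (Fin 5)) (hu : orderOf u = 5) (hw : orderOf w = 5) :
    ∃ g ∈ alternatingGroup (Fin 5), Good 5 u (g * w * g⁻¹) := by
  haveI : Fact (Nat.Prime 5) := ⟨Nat.prime_five⟩
  set c : Perm (Fin 5) := finRotate 5 with hc
  have hct : c.cycleType = Multiset.replicate 1 5 := by decide
  have hk : ∀ f : Perm (Fin 5), orderOf f = 5 → IsConj c f := by
    intro f hf
    obtain ⟨k, hk⟩ := cycleType_prime_order (show (orderOf f).Prime by rw [hf]; exact Nat.prime_five)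
    rw [hf] at hk
    have h1 := f.sum_cycleType
    rw [hk, Multiset.sum_replicate, smul_eq_mul] at h1
    have h2 : f.support.card ≤ 5 := (Finset.card_le_univ _).trans (by simp)
    obtain rfl : k = 0 := by omega
    exact isConj_iff_cycleType_eq.2 (hct.trans hk.symm)
  obtain ⟨σ, rfl⟩ := isConj_iff.1 (hk u hu)
  obtain ⟨ρ, rfl⟩ := isConj_iff.1 (hk w hw)
  have key : ∀ t : Perm (Fin 5), orderOf (c * (t * c * t⁻¹)) ≠ 1 → ¬ 5 ∣ orderOf (c * (t * c * t⁻¹)) →
      Good 5 c (t * c * t⁻¹) := by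
    intro t h1 h5
    have hnp : ¬ ∃ k : ℕ, orderOf (c * (t * c * t⁻¹)) = 5 ^ k := by
      rintro ⟨k, hk'⟩
      rcases k with _ | k
      · exact h1 (by simpa using hk')
      · exact h5 (hk' ▸ dvd_pow_self 5 (Nat.succ_ne_zero k))
    refine ⟨hnp, not_solvable_of_witness (p := 5) (b := 0) (u := c) (a₀ := 0) (x₁ := 0) (z₁ := 0) (z₂ := 0) ?_
      (by norm_num) (by simp) (j := 1) ?_ hnp (fun h => absurd h (by norm_num))⟩
    · rw [Finset.coe_univ]
      have hcy : IsCycle c := isCycle_finRotate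
      convert hcy.isCycleOn
      exact (Set.eq_univ_iff_forall.2 (by decide : ∀ x, c x ≠ x)).symm
    · rw [pow_one, conj_pow, show c ^ 5 = 1 by decide, mul_one, mul_inv_cancel]
  rcases Int.units_eq_one_or (sign (σ * ρ⁻¹)) with h | h
  · set t : Perm (Fin 5) := Equiv.swap 1 2 * Equiv.swap 3 4 with ht
    refine ⟨σ * t * ρ⁻¹, mem_alternatingGroup.2 ?_, ?_⟩
    · rw [map_mul] at h; rw [map_mul, map_mul, show sign t = 1 by decide, mul_one, h]
    · rw [show σ * t * ρ⁻¹ * (ρ * c * ρ⁻¹) * (σ * t * ρ⁻¹)⁻¹ = σ * (t * c * t⁻¹) * σ⁻¹ by group]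
      have ho : orderOf (c * (t * c * t⁻¹)) = 3 := orderOf_eq_prime (p := 3) (by decide) (by decide)
      exact good_of_conj σ (key t (by rw [ho]; norm_num) (by rw [ho]; norm_num))
  · set t : Perm (Fin 5) := Equiv.swap 3 4 with ht
    refine ⟨σ * t * ρ⁻¹, mem_alternatingGroup.2 ?_, ?_⟩
    · rw [map_mul] at h; rw [map_mul, map_mul, show sign t = -1 by decide, mul_neg_one, neg_mul, h, neg_neg]
    · rw [show σ * t * ρ⁻¹ * (ρ * c * ρ⁻¹) * (σ * t * ρ⁻¹)⁻¹ = σ * (t * c * t⁻¹) * σ⁻¹ by group]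
      have ho : orderOf (c * (t * c * t⁻¹)) = 2 := orderOf_eq_prime (p := 2) (by decide) (by decide)
      exact good_of_conj σ (key t (by rw [ho]; norm_num) (by rw [ho]; norm_num))


section main

variable {α : Type*} [Fintype α] [DecidableEq α] {p : ℕ} [hp : Fact p.Prime]

lemma subtypePerm_pow_eq_one {B : Finset α} {f : Perm α} (h : ∀ x, f x ∈ B ↔ x ∈ B) {m : ℕ} (hf : f ^ m = 1) :
    (f.subtypePerm h : Perm {x // x ∈ B}) ^ m = 1 := by
  rw [subtypePerm_pow]; ext x; simp [hf]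

lemma good_transport {β γ : Type*} [Fintype β] [DecidableEq β] [Fintype γ] [DecidableEq γ] (e : β ≃ γ) {u w : Perm β}
    (h : ∃ g ∈ alternatingGroup γ, Good p (e.permCongrHom u) (g * e.permCongrHom w * g⁻¹)) :
    ∃ g ∈ alternatingGroup β, Good p u (g * w * g⁻¹) := by
  obtain ⟨g, hg, hgood⟩ := h
  refine ⟨e.symm.permCongr g, mem_alternatingGroup.2 (by rw [sign_permCongr]; exact mem_alternatingGroup.1 hg), ?_⟩
  have := good_map e.permCongrHom.symm hgood
  rw [map_mul, map_mul, map_inv, MulEquiv.symm_apply_apply, MulEquiv.symm_apply_apply] at this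
  exact this

/-- Reduction to an invariant set of each of the two permutations. -/
lemma lift {u w : Perm α} {B C : Finset α} (hB : 2 ≤ B.card) (hBC : C.card = B.card) (hu : ∀ x, u x ∈ B ↔ x ∈ B)
    (hwC : ∀ x, w x ∈ C ↔ x ∈ C) (hwne : ∃ x ∈ C, w x ≠ x) {L : ℕ} (hw : w ^ L = 1)
    (H : ∀ w₀ : Perm {x // x ∈ B}, w₀ ^ L = 1 → w₀ ≠ 1 →
      ∃ h ∈ alternatingGroup {x // x ∈ B}, Good p (u.subtypePerm hu) (h * w₀ * h⁻¹)) :
    ∃ g ∈ alternatingGroup α, Good p u (g * w * g⁻¹) := by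
  obtain ⟨g₀, hg₀, hmap⟩ := exists_even_to hBC hB
  set w' := g₀ * w * g₀⁻¹ with hw'def
  have hinv : ∀ x, g₀⁻¹ x ∈ C ↔ x ∈ B := fun x => by
    rw [← hmap]; simp
  have hw' : ∀ x, w' x ∈ B ↔ x ∈ B := fun x => by
    simp only [w', Perm.mul_apply]
    rw [hmap, hwC, hinv]
  obtain ⟨h, hh, hgood⟩ := H (w'.subtypePerm hw') (subtypePerm_pow_eq_one hw' (by rw [conj_pow, hw, mul_one, mul_inv_cancel])) (by
    obtain ⟨x, hx, hxne⟩ := hwne
    intro h1
    have h2 : w' (g₀ x) = g₀ x :=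
      congrArg Subtype.val (DFunLike.congr_fun h1 (⟨g₀ x, (hmap x).2 hx⟩ : {x // x ∈ B}))
    simp [w'] at h2
    exact hxne h2)
  set H' := ofSubtype h with hH'
  have hH : ∀ x, H' x ∈ B ↔ x ∈ B := fun x => by
    by_cases hx : x ∈ B
    · rw [show H' x = _ from ofSubtype_apply_coe h ⟨x, hx⟩]
      simp [hx]
    · rw [show H' x = x from ofSubtype_apply_of_not_mem h hx]
  have hHi : ∀ x, H'⁻¹ x ∈ B ↔ x ∈ B := fun x => by rw [← hH]; simp
  have hv : ∀ x, (H' * w' * H'⁻¹) x ∈ B ↔ x ∈ B := fun x => by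
    rw [Perm.mul_apply, Perm.mul_apply, hH, hw', hHi]
  refine ⟨H' * g₀, mem_alternatingGroup.2 ?_, ?_⟩
  · rw [map_mul, hH', sign_ofSubtype, mem_alternatingGroup.1 hh, mem_alternatingGroup.1 hg₀, one_mul]
  rw [show H' * g₀ * w * (H' * g₀)⁻¹ = H' * w' * H'⁻¹ by simp [w', mul_assoc]]
  refine good_of_block hu hv ?_
  convert hgood using 1
  ext ⟨x, hx⟩
  simp only [subtypePerm_apply, Perm.mul_apply]
  rw [hH', ← map_inv]
  rw [show ofSubtype h⁻¹ x = _ from ofSubtype_apply_coe h⁻¹ ⟨x, hx⟩, ← ofSubtype_apply_coe h]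

lemma exists_invariant' {f : Perm α} (hf1 : f ≠ 1) {T : ℕ} (hT2 : 2 ≤ T) (hT : T ≤ Fintype.card α)
    {k : ℕ} (hk : f ^ p ^ k = 1) (hdvd : p ^ k ∣ T) :
    ∃ S : Finset α, S.card = T ∧ (∀ x, f x ∈ S ↔ x ∈ S) ∧ ∃ x ∈ S, f x ≠ x := by
  refine exists_invariant hf1 hT2 hT hk fun x => dvd_trans ?_ ((orderOf_dvd_of_pow_eq_one hk).trans hdvd)
  rw [← Nat.card_zpowers]
  exact Nat.card_congr (MulAction.orbitEquivQuotientStabilizer (Subgroup.zpowers f) x) ▸ Subgroup.card_quotient_dvd_card _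

lemma main_aux (h3 : 3 ≤ p) (h5 : 5 ≤ Fintype.card α) {u w : Perm α} (hu1 : u ≠ 1) (hw1 : w ≠ 1) {a : ℕ}
    (hu : orderOf u = p ^ a) (hw : w ^ p ^ a = 1) : ∃ g ∈ alternatingGroup α, Good p u (g * w * g⁻¹) := by
  have hpp := hp.out
  have hpow : u ^ p ^ a = 1 := hu ▸ pow_orderOf_eq_one u
  obtain ⟨b, rfl⟩ : ∃ b, a = b + 1 :=
    Nat.exists_eq_succ_of_ne_zero fun h => hu1 (by simpa [h] using hu)
  obtain ⟨x₀, hx₀⟩ : ∃ x, (u ^ p ^ b) x ≠ x := by
    by_contra! hall
    have h1 : p ^ (b + 1) ∣ p ^ b := hu ▸ orderOf_dvd_of_pow_eq_one (Equiv.ext hall)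
    exact absurd ((Nat.pow_dvd_pow_iff_le_right hpp.one_lt).1 h1) (by omega)
  have hmv : u x₀ ≠ x₀ := fun h => hx₀ (pow_apply_eq_self_of_apply_eq_self h _)
  set B := (u.cycleOf x₀).support with hBdef
  have hcyc := isCycle_cycleOf u hmv
  have hcard : B.card = p ^ (b + 1) := by
    rw [hBdef, ← hcyc.orderOf]
    refine orderOf_eq_prime_pow (fun h => hx₀ ?_) (hcyc.pow_eq_one_iff.2 ⟨x₀, ?_, ?_⟩)
    · rw [← cycleOf_pow_apply_self, h]; rfl
    · rwa [cycleOf_apply_self]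
    · rw [cycleOf_pow_apply_self, hpow]; rfl
  have huB : ∀ x, u x ∈ B ↔ x ∈ B := fun x => by
    rw [mem_support_cycleOf_iff' hmv, mem_support_cycleOf_iff' hmv, sameCycle_apply_right]
  have hcB : Fintype.card {x // x ∈ B} = p ^ (b + 1) := by rw [Fintype.card_coe, hcard]
  have hle : p ^ (b + 1) ≤ Fintype.card α := hcard ▸ Finset.card_le_univ B
  have hge : p ≤ p ^ (b + 1) := Nat.le_self_pow (Nat.succ_ne_zero b) p
  have hon : (u.subtypePerm huB : Perm {x // x ∈ B}).IsCycleOn (↑(Finset.univ : Finset {x // x ∈ B})) := by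
    rw [Finset.coe_univ]
    exact (isCycleOn_support_cycleOf u x₀).subtypePerm
  have hu0 : (u.subtypePerm huB : Perm {x // x ∈ B}) ≠ 1 := fun h =>
    hmv (congrArg Subtype.val (DFunLike.congr_fun h (⟨x₀, (mem_support_cycleOf_iff' hmv).2 (SameCycle.refl u x₀)⟩ : {x // x ∈ B})))
  have hu0' := subtypePerm_pow_eq_one huB hpow
  by_cases h7 : 7 ≤ p ^ (b + 1)
  · obtain ⟨C, hC, hwC, hwne⟩ := exists_invariant' hw1 (T := p ^ (b + 1)) (by omega) hle hw dvd_rfl
    refine lift (by omega) (hC.trans hcard.symm) huB hwC hwne hw fun w₀ hw₀ hne => ?_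
    exact base_seven h3 hon hcB (hcB ▸ h7) hw₀ hne
  obtain rfl : b = 0 := by
    by_contra hb
    have h9 : p ^ 2 ≤ p ^ (b + 1) := Nat.pow_le_pow_right hpp.pos (by omega)
    nlinarith
  simp only [zero_add, pow_one] at hcard hcB hpow hw hu hle hu0' h7
  have hcases : p = 3 ∨ p = 5 := by
    interval_cases p <;> simp_all (config := { decide := true })
  rcases hcases with rfl | rfl
  · -- all cycles have length three
    obtain ⟨B', hB', hu', hu'ne, C, hC, hwC, hwne, hB6⟩ : ∃ B' : Finset α, 2 ≤ B'.card ∧ (∀ x, u x ∈ B' ↔ x ∈ B') ∧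
        (∃ x ∈ B', u x ≠ x) ∧ ∃ C : Finset α, C.card = B'.card ∧ (∀ x, w x ∈ C ↔ x ∈ C) ∧ (∃ x ∈ C, w x ≠ x) ∧
        (B'.card = 5 ∨ B'.card = 6) := by
      by_cases h6 : 6 ≤ Fintype.card α
      · obtain ⟨B', h1, h2, h3'⟩ := exists_invariant' (k := 1) hu1 (T := 6) (by omega) h6 (by simpa using hpow) (by norm_num)
        obtain ⟨C, h4, h5', h6'⟩ := exists_invariant' (k := 1) hw1 (T := 6) (by omega) h6 (by simpa using hw) (by norm_num)
        exact ⟨B', by omega, h2, h3', C, by omega, h5', h6', Or.inr h1⟩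
      · refine ⟨Finset.univ, by simp; omega, by simp, ?_, Finset.univ, rfl, by simp, ?_, Or.inl (by simp; omega)⟩
        · exact ⟨x₀, Finset.mem_univ _, hmv⟩
        · by_contra! hall
          exact hw1 (Equiv.ext fun x => hall x (Finset.mem_univ x))
    refine lift hB' hC hu' hwC hwne hw fun w₀ hw₀ hne => ?_
    obtain ⟨x, hx, hxne⟩ := hu'ne
    have o1 : orderOf (u.subtypePerm hu' : Perm {x // x ∈ B'}) = 3 :=
      orderOf_eq_prime (subtypePerm_pow_eq_one hu' hpow)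
        fun h => hxne (congrArg Subtype.val (DFunLike.congr_fun h (⟨x, hx⟩ : {x // x ∈ B'})))
    have o2 : orderOf w₀ = 3 := orderOf_eq_prime hw₀ hne
    rcases hB6 with h | h
    · exact good_transport (Fintype.equivFinOfCardEq (by rw [Fintype.card_coe, h]))
        (five_three _ _ (by rw [MulEquiv.orderOf_eq, o1]) (by rw [MulEquiv.orderOf_eq, o2]))
    · exact good_transport (Fintype.equivFinOfCardEq (by rw [Fintype.card_coe, h]))
        (six_three _ _ (by rw [MulEquiv.orderOf_eq, o1]) (by rw [MulEquiv.orderOf_eq, o2]))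
  · obtain ⟨C, hC, hwC, hwne⟩ := exists_invariant' (k := 1) hw1 (T := 5) (by omega) hle (by simpa using hw) (by norm_num)
    refine lift (by omega) (hC.trans hcard.symm) huB hwC hwne hw fun w₀ hw₀ hne => ?_
    exact good_transport (Fintype.equivFinOfCardEq hcB)
      (five_five _ _ (by rw [MulEquiv.orderOf_eq, orderOf_eq_prime hu0' hu0])
        (by rw [MulEquiv.orderOf_eq, orderOf_eq_prime hw₀ hne]))

lemma main (h3 : 3 ≤ p) (h5 : 5 ≤ Fintype.card α) {u w : Perm α} (hu1 : u ≠ 1) (hw1 : w ≠ 1)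
    {a c : ℕ} (hu : orderOf u = p ^ a) (hw : orderOf w = p ^ c) :
    ∃ g ∈ alternatingGroup α, Good p u (g * w * g⁻¹) := by
  have key : ∀ {f : Perm α} {i k : ℕ}, orderOf f = p ^ i → i ≤ k → f ^ p ^ k = 1 := fun hf hik =>
    orderOf_dvd_iff_pow_eq_one.1 (hf ▸ Nat.pow_dvd_pow p hik)
  rcases le_total c a with h | h
  · exact main_aux h3 h5 hu1 hw1 hu (key hw h)
  · obtain ⟨g, hg, hgood⟩ := main_aux h3 h5 hw1 hu1 hw (key hu h)
    refine ⟨g⁻¹, inv_mem hg, ?_⟩
    have := good_symm (good_of_conj g⁻¹ hgood)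
    rwa [show g⁻¹ * (g * u * g⁻¹) * g⁻¹⁻¹ = u by group] at this

end main


/-- Let n ≥ 5, p ≥ 3 a prime, and u, w non-identity elements of p-power order in the alternating group A_n. Then there is g ∈ A_n such that u·(g w g⁻¹) does not have p-power order and ⟨u, g w g⁻¹⟩ is not solvable. -/
theorem result (n : ℕ) (hn : 5 ≤ n) (p : ℕ) (hp : p.Prime) (hp3 : 3 ≤ p) (u w : alternatingGroup (Fin n)) (hu : u ≠ 1) (hw : w ≠ 1)
    (hu' : ∃ k : ℕ, orderOf u = p ^ k) (hw' : ∃ k : ℕ, orderOf w = p ^ k) :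
    ∃ g : alternatingGroup (Fin n), (¬ ∃ k : ℕ, orderOf (u * (g * w * g⁻¹)) = p ^ k) ∧
      ¬ Group.IsSolvable ↥(Subgroup.closure ({u, g * w * g⁻¹} : Set (alternatingGroup (Fin n)))) := by
  haveI := Fact.mk hp
  obtain ⟨a, ha⟩ := hu'
  obtain ⟨c, hc⟩ := hw'
  obtain ⟨g, hg, h1, h2⟩ := main (p := p) hp3 (by simpa using hn) (u := (u : Perm (Fin n))) (w := (w : Perm (Fin n)))
    (fun h => hu (Subtype.ext h)) (fun h => hw (Subtype.ext h)) (a := a) (c := c)
    (by rw [Subgroup.orderOf_coe]; exact ha) (by rw [Subgroup.orderOf_coe]; exact hc)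
  refine ⟨⟨g, hg⟩, fun ⟨k, hk⟩ => h1 ⟨k, ?_⟩, fun hs => h2 ?_⟩
  · rw [← hk, ← Subgroup.orderOf_coe]; rfl
  · have he : (Subgroup.closure ({u, (⟨g, hg⟩ : alternatingGroup (Fin n)) * w * (⟨g, hg⟩)⁻¹} : Set (alternatingGroup (Fin n)))).map
        (alternatingGroup (Fin n)).subtype = Subgroup.closure ({↑u, g * ↑w * g⁻¹} : Set (Perm (Fin n))) := by
      rw [MonoidHom.map_closure, Set.image_pair]; rfl
    rw [← he]
    exact Group.isSolvable_of_surjective (f := MonoidHom.subgroupMap _ _) (MonoidHom.subgroupMap_surjective _ _)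

end Cfsg.Agent.S2276
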