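import Mathlib
import Cfsg.Statements.S2277
import Cfsg.Agent.Lib.Coprime.Action
import Cfsg.Agent.Lib.PGroupFrattini
import Cfsg.Agent.Lib.Thompson.Cyclic
import Mathlib.GroupTheory.Frattini

set_option autoImplicit false

open scoped commutatorElement Pointwise

namespace Cfsg.Agent.S2277

open Subgroup
open scoped Pointwise commutatorElement

section Irreducible

variable {p : ℕ} {B V : Type*} [Group B] [CommGroup V]

/-- The product of the translates of `v` under the powers of `a`. -/
def lineMap (p : ℕ) (φ : B →* MulAut V) (a : B) : V →* V where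
  toFun v := ∏ t ∈ Finset.range p, φ (a ^ t) v
  map_one' := by simp
  map_mul' u v := by simp [Finset.prod_mul_distrib]

lemma lineMap_apply (φ : B →* MulAut V) (a : B) (v : V) :
    lineMap p φ a v = ∏ t ∈ Finset.range p, φ (a ^ t) v := rfl

lemma apply_lineMap (φ : B →* MulAut V) {a : B} (ha : a ^ p = 1) (v : V) :
    φ a (lineMap p φ a v) = lineMap p φ a v := by
  rw [lineMap_apply, map_prod]
  have h2 : ∀ t, φ a (φ (a ^ t) v) = φ (a ^ (t + 1)) v := fun t => by rw [pow_succ', map_mul]; rfl
  simp only [h2]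
  have h0 : φ (a ^ p) v = φ (a ^ 0) v := by rw [ha, pow_zero]
  have h3 := (Finset.prod_range_succ' (fun t => φ (a ^ t) v) p).symm.trans
    (Finset.prod_range_succ (fun t => φ (a ^ t) v) p)
  rw [h0] at h3
  exact mul_right_cancel h3

lemma lineMap_of_fixed (φ : B →* MulAut V) {a : B} {v : V} (hv : φ a v = v) :
    lineMap p φ a v = v ^ p := by
  have : ∀ t : ℕ, φ (a ^ t) v = v := fun t => by
    induction t with
    | zero => simp
    | succ t ih => rw [pow_succ, map_mul, MulAut.mul_apply, hv, ih]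
  rw [lineMap_apply, Finset.prod_congr rfl fun t _ => this t]
  simp

variable [hp : Fact p.Prime] (φ : B →* MulAut V)

lemma lineMap_eq_one {z : B} (hz : z ^ p = 1) (hfix : ∀ v, φ z v = v → v = 1) (v : V) :
    lineMap p φ z v = 1 := hfix _ (apply_lineMap φ hz v)

lemma prod_lineMap {e w : B} (hew : Commute e w) (hw : w ^ p = 1)
    (hfix : ∀ t : ℕ, ¬ p ∣ t → ∀ v, φ (w ^ t) v = v → v = 1) (v : V) :
    ∏ k ∈ Finset.range p, lineMap p φ (e * w ^ k) v = v ^ p := by
  simp only [lineMap_apply]
  rw [Finset.prod_comm, Finset.prod_eq_single 0]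
  · simp
  · intro t ht ht0
    have hnd : ¬ p ∣ t := fun h => ht0 (Nat.eq_zero_of_dvd_of_lt h (Finset.mem_range.1 ht))
    have hterm : ∀ k, φ ((e * w ^ k) ^ t) v = φ (e ^ t) (φ ((w ^ t) ^ k) v) := fun k => by
      rw [(hew.pow_right k).mul_pow, ← pow_mul, ← pow_mul, mul_comm k t, map_mul]; rfl
    simp only [hterm, ← map_prod]
    have hwt : (w ^ t) ^ p = 1 := by rw [← pow_mul, mul_comm, pow_mul, hw, one_pow]
    rw [← lineMap_apply, lineMap_eq_one φ hwt (hfix t hnd), map_one]
  · intro h
    exact absurd (Finset.mem_range.2 hp.out.pos) h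

/-- The fixed points of an element, as a subgroup. -/
def fixed (a : B) : Subgroup V := (φ a).toMonoidHom.eqLocus (MonoidHom.id V)

omit hp in
@[simp] lemma mem_fixed {a : B} {v : V} : v ∈ fixed φ a ↔ φ a v = v := Iff.rfl

omit hp in
lemma fixed_invariant {a : B} (ha : a ∈ center B) (b : B) (v : V) (hv : v ∈ fixed φ a) :
    φ b v ∈ fixed φ a := by
  have h2 : φ a v = v := hv
  show φ a (φ b v) = φ b v
  rw [← MulAut.mul_apply, ← map_mul, ← mem_center_iff.1 ha b, map_mul, MulAut.mul_apply, h2]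

lemma card_fixed_pow_le [Finite V] (hV : (Nat.card V).Coprime p) {e w c : B} (hw : w ∈ center B)
    (hwp : w ^ p = 1) (hwfix : ∀ t : ℕ, ¬ p ∣ t → ∀ v, φ (w ^ t) v = v → v = 1)
    (he : e ^ p = 1) (hc : c * e * c⁻¹ = e * w) :
    Nat.card (fixed φ c) ≤ Nat.card (fixed φ e) ∧
      Nat.card (fixed φ e) ^ p ≤ Nat.card V := by
  have hpinj : ∀ v : V, v ^ p = 1 → v = 1 := fun v hv =>
    orderOf_eq_one_iff.1 (Nat.eq_one_of_dvd_coprimes hV (orderOf_dvd_natCard v)
      (orderOf_dvd_of_pow_eq_one hv))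
  have hew : Commute e w := mem_center_iff.1 hw e
  have hck : ∀ k : ℕ, c ^ k * e * (c ^ k)⁻¹ = e * w ^ k := by
    intro k
    induction k with
    | zero => simp
    | succ k ih =>
      rw [show c ^ (k + 1) * e * (c ^ (k + 1))⁻¹ = c * (c ^ k * e * (c ^ k)⁻¹) * c⁻¹ by
        rw [pow_succ']; group, ih,
        show c * (e * w ^ k) * c⁻¹ = (c * e * c⁻¹) * (c * w ^ k * c⁻¹) by group, hc,
        show c * w ^ k * c⁻¹ = w ^ k by
          rw [mem_center_iff.1 (pow_mem hw k) c, mul_inv_cancel_right], pow_succ', mul_assoc]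
  have hconj : ∀ k v, φ (e * w ^ k) (φ (c ^ k) v) = φ (c ^ k) (φ e v) := fun k v => by
    rw [← MulAut.mul_apply, ← map_mul, ← hck, inv_mul_cancel_right, map_mul, MulAut.mul_apply]
  constructor
  · refine Nat.card_le_card_of_injective
      (fun v : fixed φ c => (⟨lineMap p φ e (v : V), apply_lineMap φ he _⟩ : fixed φ e)) ?_
    intro u v huv
    have h0 : lineMap p φ e ((u : V) / (v : V)) = 1 := by
      rw [map_div, div_eq_one]; exact congrArg Subtype.val huv
    have hx : φ c ((u : V) / (v : V)) = (u : V) / (v : V) := (fixed φ c).div_mem u.2 v.2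
    generalize hxdef : (u : V) / (v : V) = x at h0 hx
    have hck' : ∀ k : ℕ, φ (c ^ k) x = x := fun k => by
      induction k with
      | zero => simp
      | succ k ih => rw [pow_succ, map_mul, MulAut.mul_apply, hx, ih]
    have h1 : ∀ k : ℕ, lineMap p φ (e * w ^ k) x = 1 := fun k => by
      have h2 : ∀ t, φ ((e * w ^ k) ^ t) x = φ (c ^ k) (φ (e ^ t) x) := fun t => by
        rw [← hck, conj_pow, map_mul, map_mul, MulAut.mul_apply, MulAut.mul_apply, map_inv,
          show (φ (c ^ k))⁻¹ x = x by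
            rw [MulAut.inv_apply, MulEquiv.symm_apply_eq, hck' k]]
      simp only [lineMap_apply, h2, ← map_prod]
      rw [← lineMap_apply, h0, map_one]
    have h3 := prod_lineMap φ hew hwp hwfix x
    rw [Finset.prod_eq_one fun k _ => h1 k] at h3
    have := hpinj x h3.symm
    rw [← hxdef, div_eq_one] at this
    exact Subtype.ext this
  · have hf := Nat.card_le_card_of_injective
      (fun f : Fin p → fixed φ e => ∏ k : Fin p, φ (c ^ (k : ℕ)) (f k : V)) ?_
    · rwa [Nat.card_fun, Nat.card_fin] at hf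
    intro f g hfg
    funext j
    have key : ∀ f : Fin p → fixed φ e,
        lineMap p φ (e * w ^ (j : ℕ)) (∏ k : Fin p, φ (c ^ (k : ℕ)) (f k : V)) =
          (φ (c ^ (j : ℕ)) (f j : V)) ^ p := by
      intro f
      rw [map_prod, Finset.prod_eq_single j]
      · exact lineMap_of_fixed φ (by rw [hconj, (show φ e (f j : V) = f j from (f j).2)])
      · intro k _ hkj
        refine Eq.trans ?_ (lineMap_eq_one (p := p) φ (z := w ^ ((j : ℕ) + (p - k))) ?_ (hfix := ?_) (φ (c ^ (k : ℕ)) (f k : V)))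
        · simp only [lineMap_apply]
          refine Finset.prod_congr rfl fun t _ => ?_
          have hfx : φ (e * w ^ (k : ℕ)) (φ (c ^ (k : ℕ)) (f k : V)) = φ (c ^ (k : ℕ)) (f k : V) := by
            rw [hconj, (show φ e (f k : V) = f k from (f k).2)]
          have hfxt : ∀ t : ℕ, φ ((e * w ^ (k : ℕ)) ^ t) (φ (c ^ (k : ℕ)) (f k : V)) =
              φ (c ^ (k : ℕ)) (f k : V) := fun t => by
            induction t with
            | zero => simp
            | succ t ih => rw [pow_succ, map_mul, MulAut.mul_apply, hfx, ih]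
          have heq : e * w ^ (j : ℕ) = w ^ ((j : ℕ) + (p - k)) * (e * w ^ (k : ℕ)) := by
            rw [← mul_assoc, ((hew.pow_right ((j : ℕ) + (p - k))).symm).eq, mul_assoc, ← pow_add,
              show (j : ℕ) + (p - k) + k = j + p by have := k.2; omega, pow_add, hwp, mul_one]
          rw [heq, (((hew.pow_right ((j : ℕ) + (p - k))).symm).mul_right
            (Commute.pow_pow_self w _ _)).mul_pow, map_mul, MulAut.mul_apply, hfxt]
        · rw [← pow_mul, mul_comm, pow_mul, hwp, one_pow]
        · refine hwfix _ fun h => hkj ?_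
          obtain ⟨d, hd⟩ := h
          have hj := j.2
          have hk := k.2
          have : d = 1 := by
            rcases d with _ | _ | d
            · omega
            · rfl
            · have : p * 2 ≤ p * (d + 1 + 1) := Nat.mul_le_mul_left _ (by omega)
              omega
          subst this
          exact Fin.ext (by omega)
      · simp
    have h := congrArg (lineMap p φ (e * w ^ (j : ℕ))) hfg
    rw [key, key, ← div_eq_one, ← div_pow] at h
    exact Subtype.ext ((φ (c ^ (j : ℕ))).injective (div_eq_one.1 (hpinj _ h)))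

lemma exists_generator_mem [Finite B] (hB : IsPGroup p B) (hcyc : IsCyclic B) {C : Set B}
    (hC : closure C = ⊤) (hne : C.Nonempty) : ∃ c ∈ C, zpowers c = ⊤ := by
  classical
  obtain ⟨c, hc, hmax⟩ := Set.exists_max_image C orderOf (Set.toFinite C) hne
  refine ⟨c, hc, ?_⟩
  letI : CommGroup B := hcyc.commGroup
  have hle : closure C ≤ (powMonoidHom (orderOf c) : B →* B).ker := by
    rw [closure_le]
    intro x hx
    obtain ⟨i, hi⟩ := IsPGroup.iff_orderOf.1 hB x
    obtain ⟨k, hk⟩ := IsPGroup.iff_orderOf.1 hB c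
    show x ^ orderOf c = 1
    rw [← orderOf_dvd_iff_pow_eq_one, hi, hk]
    have := hmax x hx
    rw [hi, hk] at this
    exact pow_dvd_pow p ((Nat.pow_le_pow_iff_right hp.out.one_lt).1 this)
  rw [hC] at hle
  have hall : ∀ x : B, x ^ orderOf c = 1 := fun x => hle (mem_top x)
  have hexp : Monoid.exponent B ≤ orderOf c :=
    Nat.le_of_dvd (orderOf_pos c) (Monoid.exponent_dvd_of_forall_pow_eq_one hall)
  refine eq_top_of_le_card _ ?_
  rw [Nat.card_zpowers, ← IsCyclic.exponent_eq_card]
  exact hexp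

theorem irreducible_trivial [Finite B] [Finite V] [Nontrivial V] (hp3 : 3 ≤ p) (hB : IsPGroup p B)
    (hV : (Nat.card V).Coprime p) (hinj : Function.Injective φ)
    (hirr : ∀ W : Subgroup V, (∀ b, ∀ v ∈ W, φ b v ∈ W) → W = ⊥ ∨ W = ⊤)
    (C D : Set B) (hC : closure C = ⊤) (hD : closure D = ⊤)
    (hF : ∀ v : V, ∀ c ∈ C, ∀ d ∈ D, ∃ n u, φ d n = n ∧ φ c u = u ∧ v = n * u) :
    ∀ b : B, b = 1 := by
  by_contra hne
  push Not at hne
  obtain ⟨b₀, hb₀⟩ := hne
  haveI : Nontrivial B := ⟨b₀, 1, hb₀⟩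
  have hCne : C.Nonempty := by
    by_contra h
    rw [Set.not_nonempty_iff_eq_empty.1 h, Subgroup.closure_empty] at hC
    exact bot_ne_top hC
  have hDne : D.Nonempty := by
    by_contra h
    rw [Set.not_nonempty_iff_eq_empty.1 h, Subgroup.closure_empty] at hD
    exact bot_ne_top hD
  have hfix_central : ∀ z ∈ center B, z ≠ 1 → ∀ v, φ z v = v → v = 1 := fun z hz hz1 v hv => by
    rcases hirr (fixed φ z) (fixed_invariant φ hz) with h | h
    · have : v ∈ fixed φ z := hv
      rwa [h, mem_bot] at this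
    · refine absurd (hinj ?_) hz1
      rw [map_one]
      refine MulEquiv.ext fun u => ?_
      exact (h ▸ mem_top u : u ∈ fixed φ z)
  obtain ⟨v₀, hv₀⟩ := exists_ne (1 : V)
  by_cases hcyc : IsCyclic B
  · obtain ⟨c, hc, hcgen⟩ := exists_generator_mem hB hcyc hC hCne
    obtain ⟨d, hd, hdgen⟩ := exists_generator_mem hB hcyc hD hDne
    have hgen : ∀ g : B, zpowers g = ⊤ → ∀ v, φ g v = v → v = 1 := fun g hg => by
      letI : CommGroup B := hcyc.commGroup
      refine hfix_central g (mem_center_iff.2 fun x => mul_comm x g) fun h1 => ?_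
      rw [h1, zpowers_one_eq_bot] at hg
      exact bot_ne_top hg
    obtain ⟨n, u, hn, hu, hv⟩ := hF v₀ c hc d hd
    rw [hgen d hdgen n hn, hgen c hcgen u hu, mul_one] at hv
    exact hv₀ hv
  obtain ⟨E, -, hEn, ⟨hEc, hEp⟩, hE2⟩ := Cfsg.Agent.Lib.Thompson.exists_elemAbelian_normal
    (p := p) (by omega) hB (⊤ : Subgroup B) (fun h => hcyc (Subgroup.topEquiv.isCyclic.mp h))
  haveI := hEn
  obtain ⟨z, hzE, hzc, hzo⟩ := Cfsg.Agent.Lib.Thompson.exists_central_order_p hB (N := E)
    (fun h => by rw [h, card_bot] at hE2; exact (Nat.one_lt_pow (by norm_num) hp.out.one_lt).ne hE2)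
  obtain ⟨e, heE, hez⟩ : ∃ e ∈ E, e ∉ zpowers z := by
    by_contra! h
    have := card_le_of_le (show E ≤ zpowers z from h)
    rw [hE2, Nat.card_zpowers, hzo] at this
    nlinarith [hp.out.two_le]
  have hzp : z ^ p = 1 := by rw [← hzo]; exact pow_orderOf_eq_one z
  have hezcomm : Commute e z := mem_center_iff.1 hzc e
  have hzt : ∀ t : ℕ, ¬ p ∣ t → z ^ t ≠ 1 := fun t ht h => ht (hzo ▸ orderOf_dvd_of_pow_eq_one h)
  have hzfix : ∀ t : ℕ, ¬ p ∣ t → ∀ v, φ (z ^ t) v = v → v = 1 := fun t ht =>
    hfix_central _ (pow_mem hzc t) (hzt t ht)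
  have hpinj : ∀ v : V, v ^ p = 1 → v = 1 := fun v hv =>
    orderOf_eq_one_iff.1 (Nat.eq_one_of_dvd_coprimes hV (orderOf_dvd_natCard v)
      (orderOf_dvd_of_pow_eq_one hv))
  -- an element of `E` off the centre with a non-trivial fixed point
  obtain ⟨k, hk⟩ : ∃ k : ℕ, lineMap p φ (e * z ^ k) v₀ ≠ 1 := by
    by_contra! h
    have h3 := prod_lineMap φ hezcomm hzp hzfix v₀
    rw [Finset.prod_eq_one fun k _ => h k] at h3
    exact hv₀ (hpinj _ h3.symm)
  set f := e * z ^ k with hf
  have hfE : f ∈ E := mul_mem heE (pow_mem hzE k)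
  have hfp : f ^ p = 1 := hEp f hfE
  have hffix : φ f (lineMap p φ f v₀) = lineMap p φ f v₀ := apply_lineMap φ hfp v₀
  have hfz : f ∉ zpowers z := fun h => hez (by
    simpa [hf] using mul_mem h (inv_mem (pow_mem (mem_zpowers z) k)))
  have hf1 : f ≠ 1 := fun h => hfz (h ▸ one_mem _)
  have hfc : f ∉ center B := fun h => hk (hfix_central f h hf1 _ hffix)
  -- commutators of `f` lie in the central line
  haveI hZn : (zpowers z).Normal := Cfsg.Agent.Lib.Thompson.normal_of_le_center (zpowers_le.2 hzc)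
  have hcomm : ∀ g : B, g * f * g⁻¹ * f⁻¹ ∈ zpowers z := by
    intro g
    let π := QuotientGroup.mk' (zpowers z)
    haveI : (E.map π).Normal := hEn.map π (QuotientGroup.mk'_surjective _)
    have hne' : E.map π ≠ ⊥ := fun h => hfz (by
      have := mem_map_of_mem π hfE
      rw [h, mem_bot] at this
      exact (QuotientGroup.eq_one_iff f).1 this)
    have hcard : Nat.card (E.map π) ≤ p := by
      have h := Cfsg.Agent.Lib.Coprime.card_map_mk' (zpowers z) E
      have hker : E ⊓ zpowers z = zpowers z := inf_eq_right.2 (zpowers_le.2 hzE)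
      rw [hker, Nat.card_zpowers, hzo, hE2, sq] at h
      exact (Nat.eq_of_mul_eq_mul_right hp.out.pos h).le
    obtain ⟨z', hz'E, hz'c, hz'o⟩ :=
      Cfsg.Agent.Lib.Thompson.exists_central_order_p (hB.to_quotient _) hne'
    have heq : zpowers z' = E.map π :=
      eq_of_le_of_card_ge (zpowers_le.2 hz'E) (by rw [Nat.card_zpowers, hz'o]; exact hcard)
    have hfc' : π f ∈ center (B ⧸ zpowers z) := by
      have : π f ∈ zpowers z' := heq ▸ mem_map_of_mem π hfE
      exact zpowers_le.2 hz'c this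
    rw [← QuotientGroup.eq_one_iff]
    show π (g * f * g⁻¹ * f⁻¹) = 1
    rw [map_mul, map_mul, map_mul, map_inv, map_inv, mem_center_iff.1 hfc' (π g)]
    group
  have hbound : ∀ (S : Set B), closure S = ⊤ → ∃ c ∈ S,
      Nat.card (fixed φ c) ≤ Nat.card (fixed φ f) ∧ Nat.card (fixed φ f) ^ p ≤ Nat.card V := by
    intro S hS
    obtain ⟨c, hcS, hc⟩ : ∃ c ∈ S, c * f * c⁻¹ * f⁻¹ ≠ 1 := by
      by_contra! h
      refine hfc (mem_center_iff.2 fun x => ?_)
      have hle : closure S ≤ centralizer {f} := (closure_le _).2 fun c hc => by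
        rw [SetLike.mem_coe, mem_centralizer_singleton_iff, ← mul_inv_eq_iff_eq_mul]
        exact mul_inv_eq_one.1 (h c hc)
      exact mem_centralizer_singleton_iff.1 (hle (hS ▸ mem_top x))
    obtain ⟨i, hi⟩ := mem_powers_iff_mem_zpowers.2 (hcomm c)
    have hi' : ¬ p ∣ i := fun ⟨d, hd⟩ => hc (by
      rw [← show z ^ i = c * f * c⁻¹ * f⁻¹ from hi, hd, pow_mul, hzp, one_pow])
    refine ⟨c, hcS, card_fixed_pow_le φ hV (w := z ^ i) (pow_mem hzc i) ?_ ?_ hfp ?_⟩
    · rw [← pow_mul, mul_comm, pow_mul, hzp, one_pow]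
    · intro t ht
      rw [← pow_mul]
      exact hzfix _ (hp.out.not_dvd_mul hi' ht)
    · rw [show z ^ i = c * f * c⁻¹ * f⁻¹ from hi, mem_center_iff.1 (show c * f * c⁻¹ * f⁻¹ ∈ center B from
        hi ▸ pow_mem hzc i) f, inv_mul_cancel_right]
  obtain ⟨c, hc, hcle, hle⟩ := hbound C hC
  obtain ⟨d, hd, hdle, -⟩ := hbound D hD
  have htot : Nat.card V ≤ Nat.card (fixed φ d) * Nat.card (fixed φ c) := by
    rw [← Nat.card_prod]
    refine Nat.card_le_card_of_surjective
      (fun x : fixed φ d × fixed φ c => (x.1 : V) * (x.2 : V)) fun v => ?_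
    obtain ⟨n, u, hn, hu, hv⟩ := hF v c hc d hd
    exact ⟨(⟨n, hn⟩, ⟨u, hu⟩), hv.symm⟩
  have htwo : 1 < Nat.card (fixed φ f) := by
    refine one_lt_card_iff_ne_bot _ |>.2 fun h => hk ?_
    have : lineMap p φ f v₀ ∈ fixed φ f := hffix
    rwa [h, mem_bot] at this
  have h1 : Nat.card (fixed φ f) ^ 2 < Nat.card (fixed φ f) ^ p := Nat.pow_lt_pow_right htwo hp3
  have h2 := Nat.mul_le_mul hdle hcle
  rw [sq] at h1
  omega

end Irreducible

section General

variable {p : ℕ} [hp : Fact p.Prime]

theorem trivial_action (hp3 : 3 ≤ p) {A : Type*} [Group A] [Finite A] (hA : IsPGroup p A) (C D : Set A)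
    (hC : closure C = ⊤) (hD : closure D = ⊤) : ∀ (V : Type*) [CommGroup V] [Finite V],
    (Nat.card V).Coprime p → ∀ φ : A →* MulAut V,
    (∀ v : V, ∀ c ∈ C, ∀ d ∈ D, ∃ n u, φ d n = n ∧ φ c u = u ∧ v = n * u) →
    ∀ a v, φ a v = v := by
  intro V
  induction hn : Nat.card V using Nat.strong_induction_on generalizing V with
  | _ m ih =>
  subst hn
  intro _ _ hV φ hF
  classical
  rcases subsingleton_or_nontrivial V with hs | hnt
  · exact fun a v => Subsingleton.elim _ _
  by_cases hirr : ∀ W : Subgroup V, (∀ b, ∀ v ∈ W, φ b v ∈ W) → W = ⊥ ∨ W = ⊤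
  · intro a v
    have hsurj := φ.rangeRestrict_surjective
    have key := irreducible_trivial (B := φ.range) φ.range.subtype hp3
      (hA.of_surjective _ hsurj) hV φ.range.subtype_injective
      (fun W hW => hirr W fun b v hv => hW (φ.rangeRestrict b) v hv)
      (φ.rangeRestrict '' C) (φ.rangeRestrict '' D)
      (by rw [← MonoidHom.map_closure, hC, map_top_of_surjective _ hsurj])
      (by rw [← MonoidHom.map_closure, hD, map_top_of_surjective _ hsurj]) (by
        rintro v _ ⟨c, hc, rfl⟩ _ ⟨d, hd, rfl⟩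
        exact hF v c hc d hd) (φ.rangeRestrict a)
    have := congrArg (fun x : φ.range => (x : MulAut V) v) key
    simpa using this
  push Not at hirr
  obtain ⟨W, hW, hWb, hWt⟩ := hirr
  -- the quotient
  have hmap : ∀ a, W.map (φ a).toMonoidHom = W := fun a => by
    refine le_antisymm (map_le_iff_le_comap.2 fun v hv => hW a v hv) fun v hv =>
      ⟨φ a⁻¹ v, hW _ v hv, ?_⟩
    show φ a (φ a⁻¹ v) = v
    rw [← MulAut.mul_apply, ← map_mul, mul_inv_cancel, map_one]; rfl
  let ψ : A →* MulAut (V ⧸ W) :=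
    { toFun := fun a => QuotientGroup.congr W W (φ a) (hmap a)
      map_one' := by
        refine MulEquiv.ext fun x => ?_
        obtain ⟨v, rfl⟩ := QuotientGroup.mk'_surjective W x
        show QuotientGroup.mk' W (φ 1 v) = _
        rw [map_one]; rfl
      map_mul' := fun a b => by
        refine MulEquiv.ext fun x => ?_
        obtain ⟨v, rfl⟩ := QuotientGroup.mk'_surjective W x
        show QuotientGroup.mk' W (φ (a * b) v) = QuotientGroup.mk' W (φ a (φ b v))
        rw [map_mul]; rfl }
  have hψ : ∀ a v, ψ a (QuotientGroup.mk' W v) = QuotientGroup.mk' W (φ a v) := fun a v => rfl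
  have hlt : Nat.card (V ⧸ W) < Nat.card V := by
    rw [W.card_eq_card_quotient_mul_card_subgroup]
    exact lt_mul_of_one_lt_right Nat.card_pos (W.one_lt_card_iff_ne_bot.2 hWb)
  have hq := ih (Nat.card (V ⧸ W)) hlt (V ⧸ W) rfl (hV.coprime_dvd_left W.card_quotient_dvd_card) ψ (by
    intro x c hc d hd
    obtain ⟨v, rfl⟩ := QuotientGroup.mk'_surjective W x
    obtain ⟨n, u, hn, hu, hv⟩ := hF v c hc d hd
    exact ⟨QuotientGroup.mk' W n, QuotientGroup.mk' W u, by rw [hψ, hn], by rw [hψ, hu],
      by rw [hv, map_mul]⟩)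
  have hmodW : ∀ a v, φ a v / v ∈ W := fun a v => by
    have := hq a (QuotientGroup.mk' W v)
    rw [hψ] at this
    exact QuotientGroup.eq_iff_div_mem.1 this
  -- fixed points cover the quotient
  letI := Fintype.ofFinite A
  have hcop : (Fintype.card A).Coprime (Nat.card V) := by
    obtain ⟨i, hi⟩ := IsPGroup.iff_card.1 hA
    rw [← Nat.card_eq_fintype_card, hi]
    exact (hV.symm).pow_left i
  obtain ⟨s, hs⟩ := Nat.exists_mul_mod_eq_one_of_coprime hcop (Finite.one_lt_card (α := V))
  have hcover : ∀ v, ∃ f, (∀ a, φ a f = f) ∧ f / v ∈ W := fun v => by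
    refine ⟨(∏ a, φ a v) ^ s, fun b => ?_, ?_⟩
    · rw [map_pow, map_prod]
      congr 1
      exact Fintype.prod_equiv (Equiv.mulLeft b) _ _ fun a => by simp [map_mul]
    · have hprod : (∏ a, φ a v / v) ∈ W := prod_mem fun a _ => hmodW a v
      have h2 : (∏ a, φ a v / v) ^ s = (∏ a, φ a v) ^ s / v := by
        rw [Finset.prod_div_distrib, Finset.prod_const, Finset.card_univ, div_pow, ← pow_mul,
          ← pow_mod_natCard v, hs.2, pow_one]
      exact h2 ▸ pow_mem hprod s
  -- the subgroup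
  let χ : A →* MulAut W :=
    { toFun := fun a =>
        { toFun := fun v => ⟨φ a v, hW a v v.2⟩
          invFun := fun v => ⟨φ a⁻¹ v, hW _ v v.2⟩
          left_inv := fun v => Subtype.ext (by
            show φ a⁻¹ (φ a (v : V)) = v
            rw [← MulAut.mul_apply, ← map_mul, inv_mul_cancel, map_one]; rfl)
          right_inv := fun v => Subtype.ext (by
            show φ a (φ a⁻¹ (v : V)) = v
            rw [← MulAut.mul_apply, ← map_mul, mul_inv_cancel, map_one]; rfl)
          map_mul' := fun u v => Subtype.ext (map_mul (φ a) _ _) }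
      map_one' := MulEquiv.ext fun v => Subtype.ext (by show φ 1 (v : V) = v; rw [map_one]; rfl)
      map_mul' := fun a b => MulEquiv.ext fun v => Subtype.ext (by
        show φ (a * b) (v : V) = φ a (φ b v); rw [map_mul]; rfl) }
  have hWlt : Nat.card W < Nat.card V := lt_of_le_of_ne (Nat.card_le_card_of_injective _ W.subtype_injective)
    fun h => hWt (eq_top_of_card_eq W h)
  have hw := ih (Nat.card W) hWlt W rfl (hV.coprime_dvd_left W.card_subgroup_dvd_card) χ (by
    intro x c hc d hd
    obtain ⟨n, u, hn, hu, hv⟩ := hF x c hc d hd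
    obtain ⟨g, hg, hgn⟩ := hcover n
    have hn' : n / g ∈ W := by simpa [inv_div] using inv_mem hgn
    have hu' : g * u ∈ W := by
      have h := W.div_mem x.2 hn'
      rw [hv] at h
      simpa [div_eq_mul_inv, mul_comm, mul_left_comm] using h
    refine ⟨⟨n / g, hn'⟩, ⟨g * u, hu'⟩, Subtype.ext ?_, Subtype.ext ?_, Subtype.ext ?_⟩
    · show φ d (n / g) = n / g
      rw [map_div, hn, hg]
    · show φ c (g * u) = g * u
      rw [map_mul, hu, hg]
    · show (x : V) = n / g * (g * u)
      rw [hv, ← mul_assoc, div_mul_cancel])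
  intro a v
  obtain ⟨g, hg, hgv⟩ := hcover v
  have h1 : φ a (g / v) = g / v := congrArg Subtype.val (hw a ⟨_, hgv⟩)
  rw [map_div, hg] at h1
  simpa using h1

end General

/-- Let p ≥ 3 be prime and G a finite group with a Sylow p-subgroup P and a normal p-complement N (N normal, of order prime to p, with NP = G). Suppose P is generated by a subset C and also by a subset D, and that ⟨x c x⁻¹, d⟩ is a p-group for all x ∈ N, c ∈ C, d ∈ D. Then P centralizes N, so that G = N × P. -/
theorem result {G : Type*} [Group G] [Finite G] (p : ℕ) [Fact p.Prime] (hp3 : 3 ≤ p) (P : Sylow p G)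
    (N : Subgroup G) [N.Normal] (hN : (Nat.card N).Coprime p) (hNP : N ⊔ (P : Subgroup G) = ⊤)
    (C D : Set G) (hC : Subgroup.closure C = (P : Subgroup G)) (hD : Subgroup.closure D = (P : Subgroup G))
    (h : ∀ x ∈ N, ∀ c ∈ C, ∀ d ∈ D, IsPGroup p ↥(Subgroup.closure ({x * c * x⁻¹, d} : Set G))) :
    ⁅(P : Subgroup G), N⁆ = ⊥ := by
  classical
  haveI : Fact p.Prime := inferInstance
  have hPN : (P : Subgroup G) ≤ normalizer (N : Set G) :=
    le_top.trans (by rw [normalizer_eq_top])
  have hPp : IsPGroup p (P : Subgroup G) := P.2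
  obtain ⟨a₀, ha₀⟩ := IsPGroup.iff_card.1 hPp
  have hcopP : (Nat.card (P : Subgroup G)).Coprime (Nat.card N) := by
    rw [ha₀]; exact hN.symm.pow_left a₀
  -- factorisations in every invariant subgroup
  have hfac : ∀ M : Subgroup G, M ≤ N → (P : Subgroup G) ≤ normalizer (M : Set G) →
      ∀ x ∈ M, ∀ c ∈ C, ∀ d ∈ D, ∃ n ∈ M, ∃ u ∈ M, Commute d n ∧ Commute c u ∧ x = n * u := by
    intro M hMN hPM x hx c hc d hd
    have hcP : c ∈ (P : Subgroup G) := hC ▸ subset_closure hc
    have hdP : d ∈ (P : Subgroup G) := hD ▸ subset_closure hd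
    have hdisj : (P : Subgroup G) ⊓ N = ⊥ := Cfsg.Agent.Lib.Coprime.inf_eq_bot_of_coprime hcopP
    let H := closure ({x * c * x⁻¹, d} : Set G)
    let L : Subgroup G := (P : Subgroup G) ⊔ M
    have hHL : H ≤ L := (closure_le _).2 (by
      rintro y (rfl | rfl)
      · exact mul_mem (mul_mem (mem_sup_right hx) (mem_sup_left hcP)) (inv_mem (mem_sup_right hx))
      · exact mem_sup_left hdP)
    have hHp : IsPGroup p (H.subgroupOf L) :=
      (h x (hMN hx) c hc d hd).of_equiv (subgroupOfEquivOfLe hHL).symm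
    obtain ⟨S, hS⟩ := hHp.exists_le_sylow
    obtain ⟨g, hg⟩ := MulAction.exists_smul_eq L (P.subtype (le_sup_left : (P : Subgroup G) ≤ L)) S
    obtain ⟨π, hπ, m, hm, hgm⟩ :=
      (Cfsg.Agent.Lib.Coprime.mem_sup_of_le_normalizer hPM).1 g.2
    have hn : π * m * π⁻¹ ∈ M := (mem_normalizer_iff.1 (hPM hπ) m).1 hm
    set n := π * m * π⁻¹ with hndef
    have key : ∀ y ∈ H, n⁻¹ * y * n ∈ (P : Subgroup G) := by
      intro y hy
      have hy' : (⟨y, hHL hy⟩ : L) ∈ (S : Subgroup L) := hS (mem_subgroupOf.2 hy)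
      rw [← hg] at hy'
      have hy2 : (g⁻¹ * ⟨y, hHL hy⟩ * g : L) ∈ ((P : Subgroup G).subgroupOf L) := by
        have := Cfsg.Agent.Lib.Coprime.mem_conj_smul.1 hy'
        exact this
      rw [mem_subgroupOf] at hy2
      simp only [Subgroup.coe_mul, Subgroup.coe_inv, ← hgm] at hy2
      have := mul_mem (mul_mem hπ hy2) (inv_mem hπ)
      convert this using 1
      rw [hndef]; group
    have hd2 := key d (subset_closure (by simp))
    have hc2 := key (x * c * x⁻¹) (subset_closure (by simp))
    have hnN := hMN hn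
    refine ⟨n, hn, n⁻¹ * x, mul_mem (inv_mem hn) hx, ?_, ?_, by group⟩
    · have h1 : n⁻¹ * d * n * d⁻¹ ∈ (P : Subgroup G) ⊓ N :=
        ⟨(P : Subgroup G).mul_mem hd2 ((P : Subgroup G).inv_mem hdP), by
          have := mul_mem (inv_mem hnN) (Subgroup.Normal.conj_mem inferInstance n hnN d)
          simpa [mul_assoc] using this⟩
      rw [hdisj, mem_bot, mul_inv_eq_one, mul_assoc, inv_mul_eq_iff_eq_mul] at h1
      exact h1
    · have huN : n⁻¹ * x ∈ N := mul_mem (inv_mem hnN) (hMN hx)
      have h1 : (n⁻¹ * x) * c * (n⁻¹ * x)⁻¹ * c⁻¹ ∈ (P : Subgroup G) ⊓ N :=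
        ⟨(P : Subgroup G).mul_mem (by simpa [mul_assoc] using hc2) ((P : Subgroup G).inv_mem hcP), by
          have := mul_mem huN (Subgroup.Normal.conj_mem inferInstance _ (inv_mem huN) c)
          simpa [mul_assoc] using this⟩
      rw [hdisj, mem_bot, mul_inv_eq_one, mul_inv_eq_iff_eq_mul] at h1
      exact h1.symm
  -- every invariant Sylow subgroup of `N` is centralised
  have hall : ∀ q : ℕ, q.Prime → q ^ (Nat.card N).factorization q ∣
      Nat.card ↥(centralizer ((P : Subgroup G) : Set G) ⊓ N : Subgroup G) := by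
    intro q hq
    haveI : Fact q.Prime := ⟨hq⟩
    obtain ⟨Q, hQ⟩ := Cfsg.Agent.Lib.Coprime.exists_invariant_sylow hPN hcopP
      (Or.inl (by haveI := hPp.isNilpotent; infer_instance)) q
    let M : Subgroup G := (Q : Subgroup N).map N.subtype
    have hMN : M ≤ N := map_subtype_le _
    have hcardM : Nat.card M = q ^ (Nat.card N).factorization q := by
      rw [← Q.card_eq_multiplicity]
      exact (Nat.card_congr (equivMapOfInjective _ _ N.subtype_injective).toEquiv).symm
    rw [← hcardM]
    refine card_dvd_of_le (le_inf ?_ hMN)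
    suffices hPc : (P : Subgroup G) ≤ centralizer (M : Set G) from le_centralizer_iff.1 hPc
    have hMq : IsPGroup q M := IsPGroup.of_card hcardM
    have hcopM : (Nat.card M).Coprime p := hN.coprime_dvd_left (card_dvd_of_le hMN)
    refine Cfsg.Agent.Lib.Coprime.le_centralizer_of_frattini hQ
      ((hcopP.coprime_dvd_right (card_dvd_of_le hMN)).coprime_dvd_right (frattini ↥M).card_subgroup_dvd_card) ?_
    let ac : ↥(P : Subgroup G) →* MulAut M :=
      { toFun := fun a =>
          { toFun := fun v => ⟨(a : G) * v * (a : G)⁻¹, (mem_normalizer_iff.1 (hQ a.2) _).1 v.2⟩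
            invFun := fun v => ⟨(a : G)⁻¹ * v * (a : G), by
              have := (mem_normalizer_iff.1 (hQ (inv_mem a.2)) _).1 v.2
              rwa [inv_inv] at this⟩
            left_inv := fun v => Subtype.ext (by simp [mul_assoc])
            right_inv := fun v => Subtype.ext (by simp [mul_assoc])
            map_mul' := fun u v => Subtype.ext (by simp [mul_assoc]) }
        map_one' := MulEquiv.ext fun v => Subtype.ext (by simp)
        map_mul' := fun a b => MulEquiv.ext fun v => Subtype.ext (by simp [mul_assoc]) }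
    letI : CommGroup (↥M ⧸ frattini ↥M) :=
      { (inferInstance : Group (↥M ⧸ frattini ↥M)) with
        mul_comm := fun a b => by
          obtain ⟨u, rfl⟩ := QuotientGroup.mk'_surjective _ a
          obtain ⟨v, rfl⟩ := QuotientGroup.mk'_surjective _ b
          rw [← map_mul, ← map_mul]
          refine QuotientGroup.eq.2 ?_
          rw [show (u * v)⁻¹ * (v * u) = ⁅v⁻¹, u⁻¹⁆ by rw [commutatorElement_def]; group]
          exact Cfsg.Agent.Lib.PGroupFrattini.commutator_le_frattini hMq
            (commutator_mem_commutator (mem_top _) (mem_top _)) }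
    let ψ : ↥(P : Subgroup G) →* MulAut (↥M ⧸ frattini ↥M) :=
      { toFun := fun a => QuotientGroup.congr _ _ (ac a)
          (characteristic_iff_map_eq.1 inferInstance (ac a))
        map_one' := by
          refine MulEquiv.ext fun x => ?_
          obtain ⟨v, rfl⟩ := QuotientGroup.mk'_surjective _ x
          show QuotientGroup.mk' _ (ac 1 v) = _
          rw [map_one]; rfl
        map_mul' := fun a b => by
          refine MulEquiv.ext fun x => ?_
          obtain ⟨v, rfl⟩ := QuotientGroup.mk'_surjective _ x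
          show QuotientGroup.mk' _ (ac (a * b) v) = QuotientGroup.mk' _ (ac a (ac b v))
          rw [map_mul]; rfl }
    have htriv := trivial_action hp3 hPp
      (((↑) : ↥(P : Subgroup G) → G) ⁻¹' C) (((↑) : ↥(P : Subgroup G) → G) ⁻¹' D)
      (eq_top_iff.2 fun x _ => ?_) (eq_top_iff.2 fun x _ => ?_) (↥M ⧸ frattini ↥M)
      (hcopM.coprime_dvd_left (frattini ↥M).card_quotient_dvd_card) ψ (by
        intro v c hc d hd
        obtain ⟨x, rfl⟩ := QuotientGroup.mk'_surjective _ v
        obtain ⟨n, hn, u, hu, hdn, hcu, hx⟩ := hfac M hMN hQ x x.2 c hc d hd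
        refine ⟨QuotientGroup.mk' _ ⟨n, hn⟩, QuotientGroup.mk' _ ⟨u, hu⟩, ?_, ?_, ?_⟩
        · show QuotientGroup.mk' _ (ac d ⟨n, hn⟩) = _
          congr 1
          exact Subtype.ext (by show (d : G) * n * (d : G)⁻¹ = n; rw [hdn.eq, mul_inv_cancel_right])
        · show QuotientGroup.mk' _ (ac c ⟨u, hu⟩) = _
          congr 1
          exact Subtype.ext (by show (c : G) * u * (c : G)⁻¹ = u; rw [hcu.eq, mul_inv_cancel_right])
        · rw [← map_mul]; exact congrArg _ (Subtype.ext hx))
    · intro a ha k hk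
      have h1 := htriv ⟨a, ha⟩ (QuotientGroup.mk' _ ⟨k, hk⟩)
      have h2 : ac ⟨a, ha⟩ ⟨k, hk⟩ / ⟨k, hk⟩ ∈ frattini ↥M := QuotientGroup.eq_iff_div_mem.1 h1
      exact ⟨_, h2, by simp [ac, div_eq_mul_inv]⟩
    all_goals
      have hgen : ∀ S : Set G, closure S = (P : Subgroup G) → x ∈ closure (((↑) : ↥(P : Subgroup G) → G) ⁻¹' S) := by
        intro S hS
        have hx : (x : G) ∈ (closure (((↑) : ↥(P : Subgroup G) → G) ⁻¹' S)).map (P : Subgroup G).subtype := by
          rw [MonoidHom.map_closure, Subgroup.coe_subtype, Set.image_preimage_eq_of_subset (by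
            rw [Subtype.range_coe_subtype]; exact hS ▸ subset_closure), hS]
          exact x.2
        obtain ⟨y, hy, hyx⟩ := hx
        rwa [Subtype.ext hyx] at hy
      first | exact hgen C hC | exact hgen D hD
  have hle : N ≤ centralizer ((P : Subgroup G) : Set G) := by
    have hc : Nat.card N ∣ Nat.card ↥(centralizer ((P : Subgroup G) : Set G) ⊓ N : Subgroup G) := by
      rw [Nat.dvd_iff_prime_pow_dvd_dvd]
      intro q k hq hk
      exact (pow_dvd_pow q ((hq.pow_dvd_iff_le_factorization Nat.card_pos.ne').1 hk)).trans (hall q hq)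
    have := eq_of_le_of_card_ge (inf_le_right : centralizer ((P : Subgroup G) : Set G) ⊓ N ≤ N)
      (Nat.le_of_dvd Nat.card_pos hc)
    exact inf_eq_right.1 this
  rw [commutator_eq_bot_iff_le_centralizer]
  exact le_centralizer_iff.1 hle

end Cfsg.Agent.S2277
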