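import Cfsg.Statements.S2518

import Cfsg.Agent.Lib.Chev.G2OddInvol
import Cfsg.Agent.S1055
import Cfsg.Agent.S1059
import Cfsg.Agent.S2371
import Cfsg.Agent.S2475
import Cfsg.Agent.Lib.Classical.Order
set_option autoImplicit false
open Cfsg

namespace Cfsg.Agent.S2518


open Cfsg.Lie Cfsg.Agent.Lib.Chev

noncomputable section

/-- coordinates spanning the short-root ideal in characteristic three -/
def inJ : chevG2.Idx → Bool
  | .inl i => i.val == 0
  | .inr s => s.val == 2 || s.val == 3 || s.val == 4 || s.val == 7 || s.val == 8 || s.val == 9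

theorem int_cart : ∀ r : Fin 12, inJ (Sum.inr r) = false →
    (3 : ℤ) ∣ (chevG2.cartanSR.getD 0 #[]).getD r.val 0 := by decide +kernel

theorem int_coro : ∀ r : Fin 12, inJ (Sum.inr r) = true →
    (3 : ℤ) ∣ (chevG2.coroot.getD r.val #[]).getD 1 0 := by decide +kernel

theorem int_neg : ∀ r s : Fin 12, inJ (Sum.inr s) = true → s.val = chevG2.negIdx.getD r.val 0 →
    inJ (Sum.inr r) = true := by decide +kernel

theorem int_chain : ∀ r s u : Fin 12, inJ (Sum.inr s) = true → inJ (Sum.inr u) = false →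
    ∀ km ∈ chevG2.chainCoeff r.val s.val u.val, (3 : ℤ) ∣ km.2 := by decide +kernel

variable {F : Type*} [Field F]

theorem three_zero [CharP F 3] {n : ℤ} (h : (3 : ℤ) ∣ n) : (n : F) = 0 :=
  (CharP.intCast_eq_zero_iff F 3 n).2 (by simpa using h)

/-- the matrix leaves the coordinate subspace invariant -/
def Pres (M : Matrix chevG2.Idx chevG2.Idx F) : Prop := ∀ i j, inJ i = false → inJ j = true → M i j = 0

theorem pres_xMat [CharP F 3] (r : Fin chevG2.nroots) (t : F) : Pres (chevG2.xMat F r t) := by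
  intro i j hi hj
  rcases j with a | s
  · have ha : a.val = 0 := by simpa [inJ] using hj
    rcases i with a' | u
    · have : a' ≠ a := by
        intro h; rw [h, hj] at hi; exact Bool.noConfusion hi
      simp [ChevalleyDatum.xMat, this]
    · by_cases hu : u = r
      · subst hu
        have h3 := three_zero (F := F) (int_cart u hi)
        simp [ChevalleyDatum.xMat, ha, h3, -Array.getD_eq_getD_getElem?]
      · simp [ChevalleyDatum.xMat, hu]
  · by_cases hs : s = r
    · subst hs
      rcases i with a' | u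
      · simp [ChevalleyDatum.xMat]
      · have : u ≠ s := by intro h; rw [h, hj] at hi; exact Bool.noConfusion hi
        simp [ChevalleyDatum.xMat, this]
    · by_cases hn : s.val = chevG2.negIdx.getD r.val 0
      · have hr := int_neg r s hj hn
        rcases i with a' | u
        · have ha : a'.val = 1 := by
            have h2 : a'.val < 2 := a'.isLt
            have h0 : a'.val ≠ 0 := by simpa [inJ] using hi
            omega
          have h3 := three_zero (F := F) (int_coro r hr)
          simp [ChevalleyDatum.xMat, hs, hn, ha, h3, -Array.getD_eq_getD_getElem?]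
        · have h1 : u ≠ s := by intro h; rw [h, hj] at hi; exact Bool.noConfusion hi
          have h2 : u ≠ r := by intro h; rw [h, hr] at hi; exact Bool.noConfusion hi
          simp [ChevalleyDatum.xMat, hs, hn, h1, h2, -Array.getD_eq_getD_getElem?]
      · rcases i with a' | u
        · simp [ChevalleyDatum.xMat, hs, hn, -Array.getD_eq_getD_getElem?]
        · have h1 : u ≠ s := by intro h; rw [h, hj] at hi; exact Bool.noConfusion hi
          have h4 : ((chevG2.chainCoeff r.val s.val u.val).map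
              fun km => ((km.2 : ℤ) : F) * t ^ km.1).sum = 0 := by
            refine List.sum_eq_zero fun x hx => ?_
            obtain ⟨km, hkm, rfl⟩ := List.mem_map.1 hx
            rw [three_zero (int_chain r s u hj hi km hkm), zero_mul]
          simp [ChevalleyDatum.xMat, hs, hn, h1, h4, -Array.getD_eq_getD_getElem?]

theorem pres_mul {M N : Matrix chevG2.Idx chevG2.Idx F} (hM : Pres M) (hN : Pres N) : Pres (M * N) := by
  intro i j hi hj
  rw [Matrix.mul_apply]
  refine Finset.sum_eq_zero fun k _ => ?_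
  cases hk : inJ k with
  | false => rw [hN k j hk hj, mul_zero]
  | true => rw [hM i k hi hk, zero_mul]

theorem pres_pow {M : Matrix chevG2.Idx chevG2.Idx F} (hM : Pres M) : ∀ n : ℕ, Pres (M ^ n)
  | 0 => fun i j hi hj => by
      rw [pow_zero, Matrix.one_apply_ne]
      intro h; rw [h, hj] at hi; exact Bool.noConfusion hi
  | n + 1 => by rw [pow_succ]; exact pres_mul (pres_pow hM n) hM

theorem pres_group [CharP F 3] [Fintype F] (g : ↥(chevG2.group F)) :
    Pres ((g.1 : GL chevG2.Idx F) : Matrix chevG2.Idx chevG2.Idx F) := by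
  obtain ⟨g, hg⟩ := g
  unfold ChevalleyDatum.group at hg
  induction hg using Subgroup.closure_induction with
  | mem x hx =>
    obtain ⟨r, t, h⟩ := hx
    change Pres ((x : GL chevG2.Idx F) : Matrix chevG2.Idx chevG2.Idx F)
    rw [h]; exact pres_xMat r t
  | one =>
    intro i j hi hj
    change (1 : Matrix chevG2.Idx chevG2.Idx F) i j = 0
    rw [Matrix.one_apply_ne]
    intro h; rw [h, hj] at hi; exact Bool.noConfusion hi
  | mul x y _ _ hx hy => exact pres_mul hx hy
  | inv x _ hx =>
    obtain ⟨n, hn⟩ : ∃ n : ℕ, x ^ n = x⁻¹ := ⟨orderOf x - 1, by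
      rw [eq_inv_iff_mul_eq_one, ← pow_succ, Nat.sub_add_cancel (orderOf_pos x), pow_orderOf_eq_one]⟩
    have h := pres_pow hx n
    intro i j hi hj
    change ((x⁻¹ : GL chevG2.Idx F) : Matrix chevG2.Idx chevG2.Idx F) i j = 0
    rw [← hn, Units.val_pow_eq_pow_val]
    exact h i j hi hj

abbrev J := {i : chevG2.Idx // inJ i = true}

theorem card_J : Fintype.card J = 7 := by decide +kernel

/-- the action on the short-root ideal -/
def rep [CharP F 3] [Fintype F] : ↥(chevG2.group F) →* Matrix J J F where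
  toFun g := Matrix.of fun i j => (g.1 : GL chevG2.Idx F).1 i.1 j.1
  map_one' := by
    ext i j
    simp [Matrix.one_apply, Subtype.ext_iff]
  map_mul' g h := by
    ext i j
    rw [Matrix.of_apply, Matrix.mul_apply]
    change ((g.1 : GL chevG2.Idx F).1 * (h.1 : GL chevG2.Idx F).1) i.1 j.1 = _
    rw [Matrix.mul_apply, ← Fintype.sum_subtype_add_sum_subtype (fun k => inJ k = true)]
    refine Eq.trans (congrArg₂ (· + ·) rfl (Finset.sum_eq_zero (fun k _ => ?_))) (add_zero _) |>.trans ?_
    · rw [pres_group h k.1 j.1 (by simpa using k.2) j.2, mul_zero]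
    · exact Finset.sum_congr (by ext; simp) fun _ _ => rfl

theorem rep_inj [CharP F 3] [Fintype F] {g : ↥(chevG2.group F)} (hF : ∃ a : F, a ≠ 0 ∧ a ≠ 1)
    (hg : rep g = 1) : g = 1 := by
  have := (Cfsg.Agent.S1055.result hF).1
  rcases (MonoidHom.normal_ker (rep (F := F))).eq_bot_or_eq_top with h | h
  · exact Subgroup.mem_bot.1 (h ▸ MonoidHom.mem_ker.2 hg)
  · exfalso
    have hx : G2Odd.C.xg (F := F) 7 1 ∈ chevG2.group F :=
      Subgroup.subset_closure ⟨⟨7, by decide⟩, 1, by
        rw [G2Odd.C.val_xg]; simp [ChevalleyDatum.x, chevG2]⟩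
    have h1 : rep (⟨_, hx⟩ : ↥(chevG2.group F)) = 1 := MonoidHom.mem_ker.1 (h ▸ Subgroup.mem_top _)
    have h2 := congrFun (congrFun h1 ⟨Sum.inr ⟨7, by decide⟩, by decide⟩)
      ⟨Sum.inl ⟨0, by decide⟩, by decide⟩
    change (chevG2.x F 7 1) (Sum.inr ⟨7, by decide⟩) (Sum.inl ⟨0, by decide⟩) = _ at h2
    simp [ChevalleyDatum.x, ChevalleyDatum.xMat, chevG2, chevG2CartanSR, Matrix.one_apply, Matrix.of_apply] at h2
    erw [Matrix.of_apply] at h2
    simp at h2
    have h6 : ((2 : ℕ) : F) = 0 := by simpa using h2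
    rw [CharP.cast_eq_zero_iff F 3] at h6
    omega

/-- In dimension seven over three elements, an element of order three commuting with one of order
seven is trivial. -/
theorem key_linear {V : Type*} [AddCommGroup V] [Module F V] [Fintype F] (hF : Fintype.card F = 3)
    [FiniteDimensional F V] (hV : Module.finrank F V = 7) (a b : V →ₗ[F] V)
    (hab : a * b = b * a) (ha : a ^ 3 = 1) (hb : b ^ 7 = 1) (hb1 : b ≠ 1) : a = 1 := by
  have : Fact (Nat.Prime 7) := ⟨by norm_num⟩
  have : CharP F 3 := by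
    have : Fact (Nat.Prime 3) := ⟨by norm_num⟩
    exact charP_of_card_eq_prime hF
  have hfin : Finite V := Module.finite_of_finite F
  let Fix : Submodule F V := LinearMap.ker (b - 1)
  have memFix : ∀ v, v ∈ Fix ↔ b v = v := fun v => by
    simp [Fix, sub_eq_zero]
  have cong : ∀ W : Submodule F V, (∀ v ∈ W, b v ∈ W) →
      3 ^ Module.finrank F W % 7 = 3 ^ Module.finrank F (W ⊓ Fix : Submodule F V) % 7 := by
    intro W hW
    have hp : ∀ v : V, (b^[7]) v = v := fun v => by
      rw [← Module.End.pow_apply, hb]; rfl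
    have hWn : ∀ n : ℕ, ∀ v ∈ W, (b^[n]) v ∈ W := fun n => by
      induction n with
      | zero => exact fun v hv => hv
      | succ n ih => exact fun v hv => by rw [Function.iterate_succ_apply']; exact hW _ (ih v hv)
    let σ : Equiv.Perm W :=
      { toFun := fun v => ⟨b v.1, hW _ v.2⟩
        invFun := fun v => ⟨(b^[6]) v.1, hWn 6 _ v.2⟩
        left_inv := fun v => Subtype.ext (hp v.1)
        right_inv := fun v => Subtype.ext (by
          change b ((b^[6]) v.1) = v.1
          rw [← Function.iterate_succ_apply' (f := b)]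
          exact hp v.1) }
    have hσ : σ ^ 7 = 1 := by
      refine Equiv.ext fun v => Subtype.ext ?_
      change (σ (σ (σ (σ (σ (σ (σ v))))))).1 = v.1
      exact hp v.1
    have hP : IsPGroup 7 (Subgroup.zpowers σ) := by
      obtain ⟨k, -, hk⟩ := (Nat.dvd_prime_pow (by norm_num : Nat.Prime 7)).1
        (show orderOf σ ∣ 7 ^ 1 by rw [pow_one]; exact orderOf_dvd_of_pow_eq_one hσ)
      exact IsPGroup.of_card (n := k) (by rw [Nat.card_zpowers, hk])
    have h := hP.card_modEq_card_fixedPoints W
    let e : MulAction.fixedPoints (Subgroup.zpowers σ) W ≃ ↥(W ⊓ Fix) :=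
      { toFun := fun v => ⟨v.1.1, v.1.2, (memFix _).2 (congrArg Subtype.val
          (v.2 ⟨σ, Subgroup.mem_zpowers σ⟩))⟩
        invFun := fun v => ⟨⟨v.1, v.2.1⟩, fun g => by
          obtain ⟨g, k, rfl⟩ := g
          have hf : Function.IsFixedPt σ (⟨v.1, v.2.1⟩ : W) := Subtype.ext ((memFix v.1).1 v.2.2)
          exact hf.perm_zpow k⟩
        left_inv := fun v => rfl
        right_inv := fun v => rfl }
    rw [Nat.card_congr e, Module.natCard_eq_pow_finrank (K := F),
      Module.natCard_eq_pow_finrank (K := F) (V := ↥(W ⊓ Fix)),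
      Nat.card_eq_fintype_card (α := F), hF] at h
    exact h
  have fix1 : Module.finrank F Fix = 1 := by
    have h := cong ⊤ (fun v _ => trivial)
    rw [finrank_top, hV, top_inf_eq] at h
    have hle : Module.finrank F Fix ≤ 7 := hV ▸ Submodule.finrank_le _
    have hne : Module.finrank F Fix ≠ 7 := fun he => hb1 (LinearMap.ext fun v => (memFix v).1 (by
      rw [Submodule.eq_top_of_finrank_eq (he.trans hV.symm)]; trivial))
    interval_cases (Module.finrank F Fix) <;> omega
  have hFixa : ∀ v ∈ Fix, a v = v := by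
    intro v hv
    rcases eq_or_ne v 0 with rfl | hv0
    · exact map_zero a
    have hav : a v ∈ Fix := (memFix _).2 (by
      rw [← Module.End.mul_apply, ← hab, Module.End.mul_apply, (memFix v).1 hv])
    obtain ⟨c, hc⟩ := (finrank_eq_one_iff_of_nonzero' (⟨v, hv⟩ : Fix) (by simpa using hv0)).1 fix1
      ⟨a v, hav⟩
    have hc' : c • v = a v := congrArg Subtype.val hc
    have h3 : (a ^ 3) v = v := by rw [ha]; rfl
    have h33 : c ^ 3 • v = v := by
      have h4 : (a ^ 3) v = a (a (a v)) := rfl
      rw [h4, ← hc', map_smul, ← hc', map_smul, map_smul, ← hc', smul_smul, smul_smul] at h3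
      rw [pow_three, ← mul_assoc]; exact h3
    have hcc : c ^ 3 = 1 := by
      by_contra hne
      have : (c ^ 3 - 1) • v = 0 := by rw [sub_smul, h33, one_smul, sub_self]
      rcases smul_eq_zero.1 this with h | h
      · exact hne (sub_eq_zero.1 h)
      · exact hv0 h
    have : c = 1 := by rw [← hcc, ← hF, FiniteField.pow_card]
    rw [← hc', this, one_smul]
  let N : V →ₗ[F] V := a - 1
  have hN3 : N ^ 3 = 0 := by
    have h3 : ((3 : ℕ) : V →ₗ[F] V) = 0 := by
      refine LinearMap.ext fun v => ?_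
      rw [Module.End.natCast_apply, ← Nat.cast_smul_eq_nsmul F, CharP.cast_eq_zero, zero_smul]
      rfl
    have : N ^ 3 = a ^ 3 - 1 - (3 : ℕ) * (a ^ 2 - a) := by
      simp only [N]; push_cast; noncomm_ring
    rw [this, h3, zero_mul, sub_zero, ha, sub_self]
  have hNb : ∀ v, N (b v) = b (N v) := fun v => by
    have := congrArg (fun f : V →ₗ[F] V => f v) hab
    simp only [Module.End.mul_apply] at this
    simp [N, this, map_sub]
  let K : Submodule F V := LinearMap.ker N
  have hKd : K = ⊤ ∨ ∀ v ∈ K, b v = v := by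
    have hFK : Fix ≤ K := fun v hv => by
      simp [K, N, hFixa v hv]
    have h := cong K (fun v hv => by
      rw [LinearMap.mem_ker] at hv ⊢
      rw [hNb, hv, map_zero])
    rw [inf_eq_right.2 hFK, fix1] at h
    have hle : Module.finrank F K ≤ 7 := hV ▸ Submodule.finrank_le _
    have h1 : Module.finrank F K = 1 ∨ Module.finrank F K = 7 := by
      interval_cases (Module.finrank F K) <;> omega
    rcases h1 with h1 | h1
    · right
      have hK : Fix = K := Submodule.eq_of_le_of_finrank_eq hFK (by rw [fix1, h1])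
      exact fun v hv => (memFix v).1 (hK ▸ hv)
    · left; exact Submodule.eq_top_of_finrank_eq (h1.trans hV.symm)
  rcases hKd with h | h
  · refine sub_eq_zero.1 (LinearMap.ker_eq_top.1 h)
  · exfalso
    have hb7 : ∀ v : V, (b ^ 7) v = v := fun v => by rw [hb]; rfl
    have s1 : ∀ v, N (N v) = 0 → N v = 0 := by
      intro v hv
      have h1 : b (N v) = N v := h _ (by simp [K, hv])
      have hd : N (b v - v) = 0 := by rw [map_sub, hNb, h1, sub_self]
      have hd1 : b (b v - v) = b v - v := h _ (LinearMap.mem_ker.2 hd)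
      have hn : ∀ n : ℕ, (b ^ n) v = v + n • (b v - v) := by
        intro n
        induction n with
        | zero => simp
        | succ n ih =>
          rw [pow_succ', Module.End.mul_apply, ih, map_add, map_nsmul, hd1, succ_nsmul]
          abel
      have h7 : ((7 : ℕ) : F) • (b v - v) = 0 := by
        rw [Nat.cast_smul_eq_nsmul]
        have := hn 7
        rw [hb7] at this
        exact left_eq_add.1 this
      have h70 : ((7 : ℕ) : F) ≠ 0 := by
        rw [Ne, CharP.cast_eq_zero_iff F 3]; norm_num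
      have hv' : b v = v := sub_eq_zero.1 ((smul_eq_zero.1 h7).resolve_left h70)
      have := hFixa v ((memFix v).2 hv')
      simp [N, this]
    refine hb1 (LinearMap.ext fun v => ?_)
    have h3 : (N ^ 3) v = 0 := by rw [hN3]; rfl
    exact h v (LinearMap.mem_ker.2 (s1 _ (s1 _ h3)))

/-- No element of order 21 in G₂(3). -/
theorem no21 [Fintype F] (hF : Fintype.card F = 3) (x : ↥(chevG2.group F)) : orderOf x ≠ 21 := by
  intro hx
  have : CharP F 3 := by
    have : Fact (Nat.Prime 3) := ⟨by norm_num⟩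
    exact charP_of_card_eq_prime hF
  have he : ∃ a : F, a ≠ 0 ∧ a ≠ 1 := ⟨-1, by simp, fun h => by
    have h2 : ((2 : ℕ) : F) = 0 := by push_cast; linear_combination -h
    rw [CharP.cast_eq_zero_iff F 3] at h2; omega⟩
  let A : Matrix J J F := rep (x ^ 7)
  let B : Matrix J J F := rep (x ^ 3)
  have h := key_linear (F := F) hF (V := J → F) (by rw [Module.finrank_pi, card_J])
    (Matrix.toLinAlgEquiv' A) (Matrix.toLinAlgEquiv' B)
    (by rw [← map_mul, ← map_mul]; congr 1; simp only [A, B, ← map_mul, ← pow_add])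
    (by rw [← map_pow]; simp only [A, ← map_pow, ← pow_mul]
        rw [show (7 : ℕ) * 3 = orderOf x from hx.symm, pow_orderOf_eq_one, map_one, map_one])
    (by rw [← map_pow]; simp only [B, ← map_pow, ← pow_mul]
        rw [show (3 : ℕ) * 7 = orderOf x from hx.symm, pow_orderOf_eq_one, map_one, map_one])
    (fun h => by
      have h1 : x ^ 3 = 1 := rep_inj he (Matrix.toLinAlgEquiv'.injective (h.trans (map_one _).symm))
      have := orderOf_dvd_of_pow_eq_one h1
      rw [hx] at this; norm_num at this)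
  have h1 : x ^ 7 = 1 := rep_inj he (Matrix.toLinAlgEquiv'.injective (h.trans (map_one _).symm))
  have := orderOf_dvd_of_pow_eq_one h1
  rw [hx] at this; norm_num at this

/-- An element of order divisible by 13 has order 13. -/
theorem thirteen [Fintype F] (hF : Fintype.card F = 3) (x : ↥(chevG2.group F))
    (hx : 13 ∣ orderOf x) : orderOf x = 13 := by
  have : Fact (Nat.Prime 13) := ⟨by norm_num⟩
  obtain ⟨H, -, hH, hc⟩ := Cfsg.Agent.S2371.result (F := F) 3 hF le_rfl
  have hG : Nat.card ↥(chevG2.group F) = 3 ^ 6 * (3 ^ 2 - 1) * (3 ^ 6 - 1) := Cfsg.Agent.S1059.result hF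
  have hH13 : Nat.card H = 13 ^ (Nat.card ↥(chevG2.group F)).factorization 13 := by
    rw [hG, hH]
    rw [show 3 ^ 6 * (3 ^ 2 - 1) * (3 ^ 6 - 1) = 13 ^ 1 * 326592 by norm_num,
      Nat.factorization_mul (by norm_num) (by norm_num), Finsupp.add_apply,
      Nat.Prime.factorization_pow (by norm_num), Finsupp.single_eq_same,
      Nat.factorization_eq_zero_of_not_dvd (by norm_num)]
    norm_num
  obtain ⟨m, hm⟩ := hx
  have hxm : orderOf (x ^ m) = 13 := by
    rw [orderOf_pow, hm, Nat.gcd_eq_right (dvd_mul_left _ _),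
      Nat.mul_div_cancel _ (Nat.pos_of_ne_zero fun h => (orderOf_pos x).ne' (by rw [hm, h, mul_zero]))]
  obtain ⟨P, hP⟩ := (IsPGroup.of_card (n := 1) (by rw [Nat.card_zpowers, hxm, pow_one]) :
    IsPGroup 13 (Subgroup.zpowers (x ^ m))).exists_le_sylow
  obtain ⟨g, hg⟩ := MulAction.exists_smul_eq (↥(chevG2.group F)) P (Sylow.ofCard H hH13)
  have hy : g * x ^ m * g⁻¹ ∈ H := by
    have : g * x ^ m * g⁻¹ ∈ ((g • P : Sylow 13 _) : Subgroup _) :=
      ⟨x ^ m, hP (Subgroup.mem_zpowers _), rfl⟩
    rw [hg] at this; exact this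
  have hgen : Subgroup.zpowers (g * x ^ m * g⁻¹) = H := by
    refine Subgroup.eq_of_le_of_card_ge (Subgroup.zpowers_le.2 hy) ?_
    rw [Nat.card_zpowers, ← MulAut.conj_apply, MulEquiv.orderOf_eq, hxm, hH]; norm_num
  have hxH : g * x * g⁻¹ ∈ H := by
    rw [← hc, Subgroup.mem_centralizer_iff]
    intro z hz
    rw [SetLike.mem_coe, ← hgen] at hz
    obtain ⟨k, rfl⟩ := hz
    have : Commute (g * x * g⁻¹) (g * x ^ m * g⁻¹) := by
      rw [← MulAut.conj_apply, ← MulAut.conj_apply, map_pow]
      exact (Commute.refl _).pow_right m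
    exact (this.zpow_right k).eq.symm
  have h := Subgroup.orderOf_dvd_natCard H hxH
  rw [← MulAut.conj_apply, MulEquiv.orderOf_eq, hH, hm] at h
  have : m ∣ 1 := Nat.dvd_of_mul_dvd_mul_left (by norm_num : 0 < 13) (by simpa using h)
  rw [hm, Nat.dvd_one.1 this]

/-- An element of even order has order dividing the centralizer order of an involution. -/
theorem even_dvd [Fintype F] (hF : Fintype.card F = 3) (x : ↥(chevG2.group F))
    (hx : 2 ∣ orderOf x) : orderOf x ∣ 576 := by
  have ho : Odd (Fintype.card F) := by rw [hF]; decide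
  have h2 := G2Odd.two_ne_zero_of_odd ho
  obtain ⟨m, hm⟩ := hx
  have hxm : orderOf (x ^ m) = 2 := by
    rw [orderOf_pow, hm, Nat.gcd_eq_right (dvd_mul_left _ _),
      Nat.mul_div_cancel _ (Nat.pos_of_ne_zero fun h => (orderOf_pos x).ne' (by rw [hm, h, mul_zero]))]
  obtain ⟨g, hg⟩ := isConj_iff.1 (G2Odd.isConj_inv0 ho _ hxm)
  have hmem : g * x * g⁻¹ ∈ Subgroup.centralizer ({G2Odd.inv0 F} : Set ↥(chevG2.group F)) := by
    rw [Subgroup.mem_centralizer_singleton_iff, ← hg, ← MulAut.conj_apply, ← MulAut.conj_apply,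
      map_pow]
    exact ((Commute.refl _).pow_right m).eq
  have h := Subgroup.orderOf_dvd_natCard _ hmem
  rw [← MulAut.conj_apply, MulEquiv.orderOf_eq, G2Odd.card_cent h2, hF] at h
  exact h

theorem exists_six [Fintype F] (hF : Fintype.card F = 3) : ∃ x : ↥(chevG2.group F), orderOf x = 6 := by
  have ho : Odd (Fintype.card F) := by rw [hF]; decide
  have h2 := G2Odd.two_ne_zero_of_odd ho
  have : Fact (Nat.Prime 3) := ⟨by norm_num⟩
  have hc : 3 ∣ Nat.card (Subgroup.centralizer ({G2Odd.inv0 F} : Set ↥(chevG2.group F))) := by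
    rw [G2Odd.card_cent h2, hF]; norm_num
  obtain ⟨⟨y, hy⟩, hy3⟩ := exists_prime_orderOf_dvd_card' 3 hc
  rw [Subgroup.orderOf_mk] at hy3
  rw [Subgroup.mem_centralizer_singleton_iff] at hy
  refine ⟨G2Odd.inv0 F * y, ?_⟩
  have hi : orderOf (G2Odd.inv0 F) = 2 := by
    have : Fact (Nat.Prime 2) := ⟨Nat.prime_two⟩
    obtain ⟨z, hz⟩ := exists_prime_orderOf_dvd_card' (G := ↥(chevG2.group F)) 2
      (by rw [Cfsg.Agent.S1059.result hF]; norm_num)
    obtain ⟨c, hc⟩ := isConj_iff.1 (G2Odd.isConj_inv0 ho z hz)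
    rw [← hc, ← MulAut.conj_apply, MulEquiv.orderOf_eq, hz]
  have hcom : Commute (G2Odd.inv0 F) y := hy.symm
  rw [hcom.orderOf_mul_eq_mul_orderOf_of_coprime (by rw [hi, hy3]; decide), hi, hy3]

end


/-- Let F₃ be the field with 3 elements and F₁₃ the field with 13 elements. The Chevalley group G₂(F₃) and PSL(2, F₁₃) have the same prime graph: the same prime divisors of their orders, and for distinct primes r, s an element of order rs in one iff in the other. -/
theorem result {F : Type*} [Field F] [Fintype F] (hF : Fintype.card F = 3) {E : Type*} [Field E] [Fintype E] (hE : Fintype.card E = 13) :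
    ((∀ r : ℕ, r.Prime → (r ∣ Nat.card ↥(Cfsg.Lie.chevG2.group F) ↔ r ∣ Nat.card (Matrix.ProjectiveSpecialLinearGroup (Fin 2) E))) ∧
      (∀ r s : ℕ, r.Prime → s.Prime → r ≠ s → ((∃ x : ↥(Cfsg.Lie.chevG2.group F), orderOf x = r * s) ↔ (∃ y : (Matrix.ProjectiveSpecialLinearGroup (Fin 2) E), orderOf y = r * s)))) := by
  have hG : Nat.card ↥(chevG2.group F) = 3 ^ 6 * (3 ^ 2 - 1) * (3 ^ 6 - 1) := Cfsg.Agent.S1059.result hF
  have hE2 := Cfsg.Agent.Lib.Classical.two_mul_card_PSL_two_of_odd (F := E) (by rw [hE]; decide)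
  rw [hE] at hE2
  have hP : Nat.card (Matrix.ProjectiveSpecialLinearGroup (Fin 2) E) = 1092 := by omega
  have hG' : Nat.card ↥(chevG2.group F) = 4245696 := by rw [hG]; norm_num
  have hprime : ∀ r : ℕ, r.Prime →
      (r ∣ 4245696 ↔ r = 2 ∨ r = 3 ∨ r = 7 ∨ r = 13) := by
    intro r hr
    refine ⟨fun h => ?_, by rintro (rfl | rfl | rfl | rfl) <;> norm_num⟩
    rw [show (4245696 : ℕ) = 2 ^ 6 * 3 ^ 6 * 7 * 13 by norm_num] at h
    rcases hr.dvd_mul.1 h with h | h
    · rcases hr.dvd_mul.1 h with h | h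
      · rcases hr.dvd_mul.1 h with h | h
        · exact Or.inl ((Nat.prime_dvd_prime_iff_eq hr Nat.prime_two).1 (hr.dvd_of_dvd_pow h))
        · exact Or.inr (Or.inl ((Nat.prime_dvd_prime_iff_eq hr Nat.prime_three).1 (hr.dvd_of_dvd_pow h)))
      · exact Or.inr (Or.inr (Or.inl ((Nat.prime_dvd_prime_iff_eq hr (by norm_num)).1 h)))
    · exact Or.inr (Or.inr (Or.inr ((Nat.prime_dvd_prime_iff_eq hr (by norm_num)).1 h)))
  have hprime' : ∀ r : ℕ, r.Prime →
      (r ∣ 1092 ↔ r = 2 ∨ r = 3 ∨ r = 7 ∨ r = 13) := by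
    intro r hr
    refine ⟨fun h => ?_, by rintro (rfl | rfl | rfl | rfl) <;> norm_num⟩
    exact (hprime r hr).1 (h.trans (by norm_num) |>.trans (dvd_refl _))
  refine ⟨fun r hr => by rw [hG', hP, hprime r hr, hprime' r hr], fun r s hr hs hne => ?_⟩
  have key1 : ∀ x : ↥(chevG2.group F), orderOf x = r * s → r * s = 6 := by
    intro x hx
    have hdr : r ∣ 4245696 := hG' ▸ (hx ▸ dvd_mul_right r s : r ∣ orderOf x).trans (orderOf_dvd_natCard x)
    have hds : s ∣ 4245696 := hG' ▸ (hx ▸ dvd_mul_left s r : s ∣ orderOf x).trans (orderOf_dvd_natCard x)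
    have h21 := no21 hF x
    have h13 : 13 ∣ r * s → r * s = 13 := fun h => hx ▸ thirteen hF x (hx ▸ h)
    have h2 : 2 ∣ r * s → r * s ∣ 576 := fun h => hx ▸ even_dvd hF x (hx ▸ h)
    rw [hx] at h21
    rcases (hprime r hr).1 hdr with rfl | rfl | rfl | rfl <;>
      rcases (hprime s hs).1 hds with rfl | rfl | rfl | rfl <;> norm_num at *
  have hq : CharP E 13 := by
    have : Fact (Nat.Prime 13) := ⟨by norm_num⟩
    exact charP_of_card_eq_prime hE
  have : Fact (Nat.Prime 13) := ⟨by norm_num⟩
  have hspec := Cfsg.Agent.S2475.result (F := E) 13 (by rw [hE]; norm_num)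
  rw [hE, show (13 - 1) / Nat.gcd 2 (13 - 1) = 6 by decide,
    show (13 + 1) / Nat.gcd 2 (13 - 1) = 7 by decide] at hspec
  have key2 : (∃ y : Matrix.ProjectiveSpecialLinearGroup (Fin 2) E, orderOf y = r * s) ↔ r * s = 6 := by
    have hr' := hr.two_le
    have hs' := hs.two_le
    constructor
    · rintro ⟨y, hy⟩
      have hy' : r * s ∈ Set.range (orderOf : Matrix.ProjectiveSpecialLinearGroup (Fin 2) E → ℕ) := ⟨y, hy⟩
      rw [hspec] at hy'
      have hnp : ¬ Nat.Prime (r * s) := Nat.not_prime_mul (by omega) (by omega)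
      have h4 : 4 ≤ r * s := Nat.mul_le_mul hr' hs'
      rcases hy' with h | h | h
      · rcases (Nat.dvd_prime (by norm_num)).1 h with h | h
        · omega
        · exact absurd (h ▸ (by norm_num : Nat.Prime 13)) hnp
      · have := Nat.le_of_dvd (by norm_num) h
        interval_cases h9 : r * s <;> omega
      · rcases (Nat.dvd_prime (by norm_num)).1 h with h | h
        · omega
        · exact absurd (h ▸ (by norm_num : Nat.Prime 7)) hnp
    · intro h
      have h6 : (6 : ℕ) ∈ Set.range (orderOf : Matrix.ProjectiveSpecialLinearGroup (Fin 2) E → ℕ) := by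
        rw [hspec]; exact Or.inr (Or.inl dvd_rfl)
      obtain ⟨y, hy⟩ := h6
      exact ⟨y, hy.trans h.symm⟩
  rw [key2]
  refine ⟨fun ⟨x, hx⟩ => key1 x hx, fun h => ?_⟩
  obtain ⟨x, hx⟩ := exists_six hF
  exact ⟨x, hx.trans h.symm⟩

end Cfsg.Agent.S2518
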