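import Cfsg.Statements.S2569

set_option autoImplicit false
open Cfsg

namespace Cfsg.Agent.S2569

open Polynomial

theorem exists_det_eq {F V : Type*} [Field F] [Finite F] [AddCommGroup V] [Module F V] [FiniteDimensional F V]
    [Nontrivial V] (T : Module.End F V) (o : ℕ) (ho : (o : F) ≠ 0) (hT : T ^ o = 1) (lam : F) :
    ∃ C : Module.End F V, Commute C T ∧ LinearMap.det C = lam := by
  classical
  have hss : T.IsSemisimple := by
    refine Module.End.isSemisimple_of_squarefree_aeval_eq_zero (p := X ^ o - 1) ?_ (by simp [hT])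
    exact (Polynomial.separable_X_pow_sub_C (1 : F) ho one_ne_zero |> fun h => (by simpa using h : (X ^ o - 1 : F[X]).Separable)).squarefree
  obtain ⟨f, hfm, hf, hfd⟩ := exists_monic_irreducible_factor (minpoly F T) (minpoly.not_isUnit F T)
  obtain ⟨v, hv0, hv⟩ : ∃ v : V, v ≠ 0 ∧ aeval T f v = 0 := by
    obtain ⟨r, hr⟩ := hfd
    have hr0 : r ≠ 0 := fun h => minpoly.ne_zero (Algebra.IsIntegral.isIntegral T) (by rw [hr, h, mul_zero])
    have hne : aeval T r ≠ 0 := fun h => by
      have := natDegree_le_of_dvd (minpoly.dvd F T h) hr0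
      rw [hr, natDegree_mul hf.ne_zero hr0] at this
      have := hf.natDegree_pos
      omega
    obtain ⟨w, hw⟩ : ∃ w, aeval T r w ≠ 0 := by
      by_contra h
      push Not at h
      exact hne (LinearMap.ext h)
    refine ⟨_, hw, ?_⟩
    rw [← Module.End.mul_apply, ← map_mul, ← hr, minpoly.aeval, LinearMap.zero_apply]
  haveI : Fact (Irreducible f) := ⟨hf⟩
  haveI : Module.Finite F (AdjoinRoot f) := (AdjoinRoot.powerBasis hf.ne_zero).finite
  let ev : F[X] →ₗ[F] V := (LinearMap.applyₗ v).comp (aeval T).toLinearMap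
  have hev : ∀ p, f ∣ p → ev p = 0 := by
    rintro _ ⟨c, rfl⟩
    show aeval T (f * c) v = 0
    rw [mul_comm, map_mul, Module.End.mul_apply, hv, map_zero]
  let ι0 : AdjoinRoot f →ₗ[F] V :=
    { toFun := Quotient.lift (fun p => ev p) (fun p p' hp => by
        rw [← sub_eq_zero, ← map_sub]
        exact hev _ (Ideal.mem_span_singleton.1 ((Submodule.quotientRel_def _).1 hp)))
      map_add' := fun a b => by
        induction a using AdjoinRoot.induction_on with | _ p =>
        induction b using AdjoinRoot.induction_on with | _ q =>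
        exact map_add ev p q
      map_smul' := fun c a => by
        induction a using AdjoinRoot.induction_on with | _ p =>
        show ev (c • p) = c • ev p
        exact map_smul ev c p }
  have hι : ∀ p, ι0 (AdjoinRoot.mk f p) = aeval T p v := fun p => rfl
  have hroot : ∀ a, ι0 (AdjoinRoot.root f * a) = T (ι0 a) := by
    intro a
    induction a using AdjoinRoot.induction_on with | _ p =>
    rw [← AdjoinRoot.mk_X, ← map_mul, hι, hι, map_mul, aeval_X, Module.End.mul_apply]
  have hinj : Function.Injective ι0 := by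
    rw [← LinearMap.ker_eq_bot, eq_bot_iff]
    intro a ha
    induction a using AdjoinRoot.induction_on with | _ p =>
    rw [LinearMap.mem_ker, hι] at ha
    rw [Submodule.mem_bot, AdjoinRoot.mk_eq_zero]
    by_contra hnd
    obtain ⟨u, w, huw⟩ := (hf.coprime_iff_not_dvd.2 hnd)
    have := congrArg (fun q => aeval T q v) huw
    simp [map_add, map_mul, Module.End.mul_apply, ha, hv] at this
    exact hv0 this.symm
  let W := LinearMap.range ι0
  have hWinv : W ∈ T.invtSubmodule := by
    rintro _ ⟨a, rfl⟩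
    exact ⟨AdjoinRoot.root f * a, hroot a⟩
  obtain ⟨U, hUinv, hU⟩ := Module.End.isSemisimple_iff.1 hss W hWinv
  let Φ : (AdjoinRoot f × U) ≃ₗ[F] V :=
    ((LinearEquiv.ofInjective ι0 hinj).prodCongr (LinearEquiv.refl F U)).trans
      (Submodule.prodEquivOfIsCompl W U hU)
  haveI : Finite (AdjoinRoot f) := Module.finite_of_finite F
  obtain ⟨e, he⟩ := FiniteField.norm_surjective (K := F) (K' := AdjoinRoot f) lam
  let C0 : Module.End F (AdjoinRoot f × U) := LinearMap.prodMap (Algebra.lmul F (AdjoinRoot f) e) LinearMap.id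
  refine ⟨Φ.conj C0, ?_, ?_⟩
  · have hΦ : ∀ (a : AdjoinRoot f) (u : U), T (Φ (a, u)) = Φ (AdjoinRoot.root f * a, ⟨T u, hUinv u.2⟩) := by
      intro a u
      show T (Submodule.prodEquivOfIsCompl W U hU (LinearEquiv.ofInjective ι0 hinj a, u))
        = Submodule.prodEquivOfIsCompl W U hU (LinearEquiv.ofInjective ι0 hinj (AdjoinRoot.root f * a), _)
      simp [Submodule.coe_prodEquivOfIsCompl', hroot]
    refine LinearMap.ext fun x => ?_
    obtain ⟨⟨a, u⟩, rfl⟩ := Φ.surjective x
    rw [Module.End.mul_apply, Module.End.mul_apply, hΦ, LinearEquiv.conj_apply_apply, LinearEquiv.conj_apply_apply,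
      Φ.symm_apply_apply, Φ.symm_apply_apply]
    show Φ (e * (AdjoinRoot.root f * a), _) = T (Φ (e * a, u))
    rw [hΦ, mul_left_comm]
    rfl
  · rw [LinearEquiv.conj_apply, LinearMap.comp_assoc, LinearMap.det_conj, LinearMap.det_prodMap, LinearMap.det_id, mul_one]
    exact (Algebra.norm_apply F e).symm.trans he


/-- In GL_n over a finite field of characteristic p, the conjugacy class of a semisimple element (an element of order prime to p) under the special linear group is its whole GL-conjugacy class: for every such x and every invertible g there is h of determinant one with h x h⁻¹ = g x g⁻¹. -/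
theorem result {F : Type*} [Field F] [Fintype F] {p : ℕ} [Fact p.Prime] [CharP F p] {n : ℕ} (x g : GL (Fin n) F) (hx : (orderOf x).Coprime p) : ∃ h : GL (Fin n) F, (h : Matrix (Fin n) (Fin n) F).det = 1 ∧ h * x * h⁻¹ = g * x * g⁻¹ := by
  classical
  rcases Nat.eq_zero_or_pos n with rfl | hn
  · exact ⟨g, Matrix.det_fin_zero, rfl⟩
  haveI : Nonempty (Fin n) := ⟨⟨0, hn⟩⟩
  have ho : ((orderOf x : ℕ) : F) ≠ 0 := by
    rw [Ne, CharP.cast_eq_zero_iff F p]
    exact fun h => (Fact.out : p.Prime).not_dvd_one (hx.gcd_eq_one ▸ Nat.dvd_gcd h dvd_rfl)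
  have hTpow : (Matrix.toLinAlgEquiv' (x : Matrix (Fin n) (Fin n) F)) ^ orderOf x = 1 := by
    rw [← map_pow, ← Units.val_pow_eq_pow_val, pow_orderOf_eq_one, Units.val_one, map_one]
  obtain ⟨C, hC, hdet⟩ := exists_det_eq (Matrix.toLinAlgEquiv' (x : Matrix (Fin n) (Fin n) F)) (orderOf x) ho hTpow
    (g : Matrix (Fin n) (Fin n) F).det⁻¹
  set c : Matrix (Fin n) (Fin n) F := Matrix.toLinAlgEquiv'.symm C with hc
  have hcd : c.det = (g : Matrix (Fin n) (Fin n) F).det⁻¹ := by
    rw [← LinearMap.det_toLin', ← hdet]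
    congr 1
    exact Matrix.toLinAlgEquiv'.apply_symm_apply C
  have hcx : Commute c (x : Matrix (Fin n) (Fin n) F) := by
    have := hC.map (Matrix.toLinAlgEquiv'.symm : _ ≃ₐ[F] Matrix (Fin n) (Fin n) F)
    rwa [AlgEquiv.symm_apply_apply] at this
  have hg0 : (g : Matrix (Fin n) (Fin n) F).det ≠ 0 := by
    rw [← Matrix.GeneralLinearGroup.val_det_apply]; exact Units.ne_zero _
  have hcu : IsUnit c := (Matrix.isUnit_iff_isUnit_det c).2 (by rw [hcd]; exact (inv_ne_zero hg0).isUnit)
  refine ⟨g * hcu.unit, ?_, ?_⟩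
  · show ((g : Matrix (Fin n) (Fin n) F) * c).det = 1
    rw [Matrix.det_mul, hcd, mul_inv_cancel₀ hg0]
  · have : Commute hcu.unit x := Units.ext hcx.eq
    rw [mul_inv_rev, mul_assoc g, this.eq]
    group

end Cfsg.Agent.S2569
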