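import Cfsg.Statements.S2648
import Cfsg.Agent.S2250
import Cfsg.Agent.Lib.Classical.SLTwoSylow
import Cfsg.Agent.Lib.GS.PPermDerived

set_option autoImplicit false
open Cfsg

namespace Cfsg.Agent.S2648

open Matrix
open scoped MatrixGroups commutatorElement

theorem derived_add {G : Type*} [Group G] (L : ℕ) : ∀ i : ℕ,
    derivedSeries G (L + i) = (derivedSeries ↥(derivedSeries G L) i).map (derivedSeries G L).subtype
  | 0 => by rw [derivedSeries_zero, ← MonoidHom.range_eq_map, Subgroup.range_subtype, add_zero]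
  | i + 1 => by
    rw [← add_assoc, derivedSeries_succ, derivedSeries_succ, derived_add L i, Subgroup.map_commutator]

theorem derived_bot_of_injective {G H : Type*} [Group G] [Group H] {f : G →* H} (hf : Function.Injective f)
    {i : ℕ} (h : derivedSeries H i = ⊥) : derivedSeries G i = ⊥ := by
  rw [← Subgroup.map_eq_bot_iff_of_injective (derivedSeries G i) hf, eq_bot_iff, ← h]
  exact map_derivedSeries_le_derivedSeries f i

theorem quat_derived (N : ℕ) : derivedSeries (QuaternionGroup N) 2 = ⊥ := by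
  let f : QuaternionGroup N →* Multiplicative (ZMod 2) :=
    { toFun := fun g => match g with
        | QuaternionGroup.a _ => 1
        | QuaternionGroup.xa _ => Multiplicative.ofAdd 1
      map_one' := rfl
      map_mul' := fun g h => by rcases g with i | i <;> rcases h with j | j <;> simp <;> decide }
  have h1 : derivedSeries (QuaternionGroup N) 1 ≤ f.ker := by
    rw [derivedSeries_one, commutator_def, Subgroup.commutator_le]
    intro g _ h _
    rw [MonoidHom.mem_ker, map_commutatorElement, commutatorElement_eq_one_iff_mul_comm, mul_comm]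
  rw [derivedSeries_succ, eq_bot_iff]
  refine (Subgroup.commutator_mono h1 h1).trans (Subgroup.commutator_le.2 fun g hg h hh => ?_)
  rw [Subgroup.mem_bot, commutatorElement_eq_one_iff_mul_comm]
  rw [MonoidHom.mem_ker] at hg hh
  rcases g with i | i
  · rcases h with j | j
    · simp [add_comm]
    · exact absurd (congrArg Multiplicative.toAdd hh : (1 : ZMod 2) = 0) one_ne_zero
  · exact absurd (congrArg Multiplicative.toAdd hg : (1 : ZMod 2) = 0) one_ne_zero

variable {F : Type*} [Field F] [Fintype F]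

theorem sl_two_group_derived (hF : Odd (Fintype.card F)) (H : Subgroup SL(2, F)) (hH : IsPGroup 2 H) :
    derivedSeries H 2 = ⊥ := by
  haveI : Fact (Nat.Prime 2) := ⟨Nat.prime_two⟩
  obtain ⟨P, hP⟩ := hH.exists_le_sylow
  obtain ⟨k, -, ⟨e⟩⟩ := Lib.Classical.sl_two_sylow_quaternion hF P
  exact derived_bot_of_injective (f := e.toMonoidHom.comp (Subgroup.inclusion hP))
    (e.injective.comp (Subgroup.inclusion_injective hP)) (quat_derived _)

theorem exists_sl_two (hF : Odd (Fintype.card F)) :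
    ∃ H : Subgroup SL(2, F), IsPGroup 2 H ∧ derivedSeries H 1 ≠ ⊥ := by
  haveI : Fact (Nat.Prime 2) := ⟨Nat.prime_two⟩
  obtain ⟨P⟩ := (inferInstance : Nonempty (Sylow 2 SL(2, F)))
  obtain ⟨k, hk, ⟨e⟩⟩ := Lib.Classical.sl_two_sylow_quaternion hF P
  refine ⟨P, P.isPGroup', fun h => ?_⟩
  have h' : derivedSeries (QuaternionGroup (2 ^ k)) 1 = ⊥ :=
    derived_bot_of_injective (f := e.symm.toMonoidHom) e.symm.injective h
  rw [derivedSeries_one, commutator_def, Subgroup.commutator_eq_bot_iff_le_centralizer] at h'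
  have h2 := Subgroup.mem_centralizer_iff.1 (h' (Subgroup.mem_top (QuaternionGroup.a (1 : ZMod (2 * 2 ^ k)))))
    (QuaternionGroup.xa 0) (Subgroup.mem_top _)
  rw [QuaternionGroup.xa_mul_a, QuaternionGroup.a_mul_xa] at h2
  injection h2 with h3
  have h4 : ((2 : ℕ) : ZMod (2 * 2 ^ k)) = 0 := by push_cast; linear_combination h3
  rw [ZMod.natCast_eq_zero_iff] at h4
  have := Nat.le_of_dvd two_pos h4
  have : 2 ^ 1 ≤ 2 ^ k := Nat.pow_le_pow_right two_pos hk
  omega

section Blocks

variable (F) (α β : Type) [Fintype α] [DecidableEq α] [Fintype β] [DecidableEq β]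

theorem J_reindex :
    Matrix.J (α ⊕ β) F = Matrix.reindex (Equiv.sumSumSumComm α α β β) (Equiv.sumSumSumComm α α β β)
      (Matrix.fromBlocks (Matrix.J α F) 0 0 (Matrix.J β F)) := by
  ext ((i | i) | (i | i)) ((j | j) | (j | j)) <;>
    simp [Matrix.J, Matrix.one_apply, Equiv.sumSumSumComm]

theorem mem_re (X : Matrix ((α ⊕ α) ⊕ (β ⊕ β)) ((α ⊕ α) ⊕ (β ⊕ β)) F)
    (h : X * Matrix.fromBlocks (Matrix.J α F) 0 0 (Matrix.J β F) * Xᵀ =
      Matrix.fromBlocks (Matrix.J α F) 0 0 (Matrix.J β F)) :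
    Matrix.reindex (Equiv.sumSumSumComm α α β β) (Equiv.sumSumSumComm α α β β) X ∈
      Matrix.symplecticGroup (α ⊕ β) F := by
  rw [SymplecticGroup.mem_iff, J_reindex, Matrix.transpose_reindex, ← Matrix.reindexAlgEquiv_apply F F,
    ← Matrix.reindexAlgEquiv_apply F F, ← Matrix.reindexAlgEquiv_apply F F, ← map_mul, ← map_mul, h]

def delta : Matrix.symplecticGroup α F × Matrix.symplecticGroup β F →* Matrix.symplecticGroup (α ⊕ β) F where
  toFun g := ⟨Matrix.reindex (Equiv.sumSumSumComm α α β β) (Equiv.sumSumSumComm α α β β)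
      (Matrix.fromBlocks (g.1 : Matrix (α ⊕ α) (α ⊕ α) F) 0 0 (g.2 : Matrix (β ⊕ β) (β ⊕ β) F)), mem_re F α β _ (by
    have h1 := SymplecticGroup.mem_iff.1 g.1.2
    have h2 := SymplecticGroup.mem_iff.1 g.2.2
    simp [Matrix.fromBlocks_transpose, Matrix.fromBlocks_multiply, h1, h2])⟩
  map_one' := Subtype.ext (by
    show Matrix.reindex _ _ (Matrix.fromBlocks (1 : Matrix (α ⊕ α) (α ⊕ α) F) 0 0 1) = 1
    rw [Matrix.fromBlocks_one, ← Matrix.reindexAlgEquiv_apply F F, map_one])
  map_mul' g h := Subtype.ext (by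
    show Matrix.reindex _ _ _ = Matrix.reindex _ _ _ * Matrix.reindex _ _ _
    rw [← Matrix.reindexAlgEquiv_apply F F, ← Matrix.reindexAlgEquiv_apply F F, ← Matrix.reindexAlgEquiv_apply F F,
      ← map_mul, Matrix.fromBlocks_multiply]
    simp)

theorem delta_injective : Function.Injective (delta F α β) := by
  intro g h e
  have e' := congrArg Subtype.val e
  simp only [delta, MonoidHom.coe_mk, OneHom.coe_mk] at e'
  have := (Matrix.reindex _ _).injective e'
  rw [Matrix.fromBlocks_inj] at this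
  exact Prod.ext (Subtype.ext this.1) (Subtype.ext this.2.2.2)

theorem swap_mem :
    Matrix.reindex (Equiv.sumSumSumComm α α α α) (Equiv.sumSumSumComm α α α α)
      (Matrix.fromBlocks (0 : Matrix (α ⊕ α) (α ⊕ α) F) 1 1 0) ∈ Matrix.symplecticGroup (α ⊕ α) F :=
  mem_re F α α _ (by simp [Matrix.fromBlocks_transpose, Matrix.fromBlocks_multiply])

def swap : Matrix.symplecticGroup (α ⊕ α) F := ⟨_, swap_mem F α⟩

theorem swap_sq : swap F α * swap F α = 1 := Subtype.ext (by
  show Matrix.reindex _ _ _ * Matrix.reindex _ _ _ = 1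
  rw [← Matrix.reindexAlgEquiv_apply F F, ← map_mul, Matrix.fromBlocks_multiply]
  simp [Matrix.fromBlocks_one])

theorem swap_conj (g h : Matrix.symplecticGroup α F) :
    swap F α * delta F α α (g, h) * (swap F α)⁻¹ = delta F α α (h, g) := by
  rw [inv_eq_of_mul_eq_one_right (swap_sq F α)]
  apply Subtype.ext
  show Matrix.reindex _ _ _ * Matrix.reindex _ _ _ * Matrix.reindex _ _ _ = Matrix.reindex _ _ _
  rw [← Matrix.reindexAlgEquiv_apply F F, ← Matrix.reindexAlgEquiv_apply F F, ← Matrix.reindexAlgEquiv_apply F F,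
    ← map_mul, ← map_mul, Matrix.fromBlocks_multiply, Matrix.fromBlocks_multiply]
  simp

def congrIndex (e : α ≃ β) : Matrix.symplecticGroup α F →* Matrix.symplecticGroup β F where
  toFun g := ⟨Matrix.reindex (e.sumCongr e) (e.sumCongr e) (g : Matrix (α ⊕ α) (α ⊕ α) F), by
    have hJ : Matrix.J β F = Matrix.reindex (e.sumCongr e) (e.sumCongr e) (Matrix.J α F) := by
      ext (i | i) (j | j) <;> simp [Matrix.J, Matrix.one_apply]
    rw [SymplecticGroup.mem_iff, hJ, Matrix.transpose_reindex, ← Matrix.reindexAlgEquiv_apply F F,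
      ← Matrix.reindexAlgEquiv_apply F F, ← Matrix.reindexAlgEquiv_apply F F, ← map_mul, ← map_mul,
      SymplecticGroup.mem_iff.1 g.2]⟩
  map_one' := Subtype.ext (by
    show Matrix.reindex _ _ (1 : Matrix (α ⊕ α) (α ⊕ α) F) = 1
    rw [← Matrix.reindexAlgEquiv_apply F F, map_one])
  map_mul' g h := Subtype.ext (by
    show Matrix.reindex _ _ ((g : Matrix (α ⊕ α) (α ⊕ α) F) * (h : Matrix (α ⊕ α) (α ⊕ α) F)) =
      Matrix.reindex _ _ _ * Matrix.reindex _ _ _
    rw [← Matrix.reindexAlgEquiv_apply F F, map_mul]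
    rfl)

theorem congrIndex_injective (e : α ≃ β) : Function.Injective (congrIndex F α β e) := fun g h hgh =>
  Subtype.ext ((Matrix.reindex _ _).injective (congrArg Subtype.val hgh))

end Blocks

theorem lower (hF : Odd (Fintype.card F)) : ∀ j : ℕ, ∃ (α : Type) (_ : Fintype α) (_ : DecidableEq α),
    Fintype.card α = 2 ^ j ∧
      ∃ H : Subgroup (Matrix.symplecticGroup α F), IsPGroup 2 H ∧ derivedSeries H (j + 1) ≠ ⊥
  | 0 => by
    haveI : Fact (Nat.Prime 2) := ⟨Nat.prime_two⟩
    obtain ⟨H, hH, hne⟩ := exists_sl_two hF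
    let f : SL(2, F) →* Matrix.symplecticGroup (Fin 1) F :=
      (S2250.phi (F := F) (n := 1)).comp (Pi.monoidHom fun _ => MonoidHom.id _)
    have hf : Function.Injective f := fun a b h => congrFun (S2250.phi_injective h) 0
    refine ⟨Fin 1, inferInstance, inferInstance, by simp, H.map f, hH.map f, fun h => hne ?_⟩
    exact derived_bot_of_injective (f := (H.equivMapOfInjective f hf).toMonoidHom)
      (H.equivMapOfInjective f hf).injective h
  | j + 1 => by
    haveI : Fact (Nat.Prime 2) := ⟨Nat.prime_two⟩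
    obtain ⟨α, fα, dα, hcard, H, hH, hne⟩ := lower hF j
    refine ⟨α ⊕ α, inferInstance, inferInstance, by simp [hcard, pow_succ, mul_two], ?_⟩
    let B := (H.prod H).map (delta F α α)
    let s := swap F α
    have hB : IsPGroup 2 B := by
      refine IsPGroup.map (IsPGroup.of_equiv ?_ (Subgroup.prodEquiv H H).symm) _
      intro x
      obtain ⟨a, ha⟩ := hH x.1
      obtain ⟨b, hb⟩ := hH x.2
      refine ⟨a + b, Prod.ext ?_ ?_⟩
      · rw [Prod.pow_fst, pow_add, pow_mul, ha, one_pow]; rfl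
      · rw [Prod.pow_snd, pow_add, mul_comm, pow_mul, hb, one_pow]; rfl
    have hs : IsPGroup 2 (Subgroup.zpowers s) := by
      have hs2 : s ^ 2 = 1 := by rw [pow_two]; exact swap_sq F α
      obtain ⟨i, -, hi⟩ := (Nat.dvd_prime_pow Nat.prime_two).1
        (show orderOf s ∣ 2 ^ 1 by rw [pow_one]; exact orderOf_dvd_of_pow_eq_one hs2)
      exact IsPGroup.of_card (n := i) ((Nat.card_zpowers s).trans hi)
    have hnorm : Subgroup.zpowers s ≤ Subgroup.normalizer (B : Set (Matrix.symplecticGroup (α ⊕ α) F)) := by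
      rw [Subgroup.zpowers_le]
      refine Subgroup.mem_normalizer_fintype fun u hu => ?_
      obtain ⟨⟨g, h⟩, hgh, rfl⟩ := hu
      exact ⟨(h, g), ⟨hgh.2, hgh.1⟩, (swap_conj F α g h).symm⟩
    set H' := B ⊔ Subgroup.zpowers s with hH'
    refine ⟨H', IsPGroup.to_sup_of_normal_left' hB hs hnorm, fun hbot => hne ?_⟩
    let Θ : H.prod H →* H' := ((delta F α α).comp (H.prod H).subtype).codRestrict H' fun x =>
      Subgroup.mem_sup_left (Subgroup.mem_map_of_mem _ x.2)
    have hΘ : Function.Injective Θ := fun x y e =>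
      Subtype.ext (delta_injective F α α (congrArg Subtype.val e))
    let L0 : Subgroup (H.prod H) := (derivedSeries H' 1).comap Θ
    let π : L0 →* H :=
      ((MonoidHom.fst H H).comp (Subgroup.prodEquiv H H).toMonoidHom).comp L0.subtype
    have hπ : Function.Surjective π := by
      intro h
      refine ⟨⟨⟨((h : Matrix.symplecticGroup α F), ((h : Matrix.symplecticGroup α F))⁻¹), ⟨h.2, H.inv_mem h.2⟩⟩, ?_⟩, rfl⟩
      let u : H' := Θ ⟨((h : Matrix.symplecticGroup α F), 1), ⟨h.2, one_mem H⟩⟩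
      let v : H' := ⟨s, Subgroup.mem_sup_right (Subgroup.mem_zpowers s)⟩
      have hm : ⁅u, v⁆ ∈ derivedSeries H' 1 := by
        rw [derivedSeries_one, commutator_def]
        exact Subgroup.commutator_mem_commutator (Subgroup.mem_top u) (Subgroup.mem_top v)
      suffices he : Θ ⟨((h : Matrix.symplecticGroup α F), ((h : Matrix.symplecticGroup α F))⁻¹),
          ⟨h.2, H.inv_mem h.2⟩⟩ = ⁅u, v⁆ by rw [Subgroup.mem_comap, he]; exact hm
      apply Subtype.ext
      show delta F α α ((h : Matrix.symplecticGroup α F), ((h : Matrix.symplecticGroup α F))⁻¹) =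
        delta F α α ((h : Matrix.symplecticGroup α F), 1) * s *
          (delta F α α ((h : Matrix.symplecticGroup α F), 1))⁻¹ * s⁻¹
      have h1 := swap_conj F α ((h : Matrix.symplecticGroup α F))⁻¹ 1
      rw [← map_inv, mul_assoc, mul_assoc, ← mul_assoc s, Prod.inv_mk, inv_one, h1, ← map_mul, Prod.mk_mul_mk,
        mul_one, one_mul]
    let Ψ : L0 →* ↥(derivedSeries H' 1) := (Θ.comp L0.subtype).codRestrict _ fun x => x.2
    have hΨ : Function.Injective Ψ := fun x y e => Subtype.ext (hΘ (congrArg Subtype.val e))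
    have hD : derivedSeries ↥(derivedSeries H' 1) (j + 1) = ⊥ := by
      rw [show j + 1 + 1 = 1 + (j + 1) by ring, derived_add,
        Subgroup.map_eq_bot_iff_of_injective _ (Subgroup.subtype_injective _)] at hbot
      exact hbot
    rw [← map_derivedSeries_eq hπ, derived_bot_of_injective hΨ hD, Subgroup.map_bot]

theorem upper (hF : Odd (Fintype.card F)) (n : ℕ) (R : Sylow 2 ↥(Matrix.symplecticGroup (Fin n) F)) :
    derivedSeries ↥(R : Subgroup ↥(Matrix.symplecticGroup (Fin n) F)) (Nat.log 2 n + 2) = ⊥ := by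
  classical
  haveI : Fact (Nat.Prime 2) := ⟨Nat.prime_two⟩
  let G := Matrix.symplecticGroup (Fin n) F
  let phi := S2250.phi (F := F) (n := n)
  let psi := S2250.psi (F := F) (n := n)
  let K : Subgroup G := phi.range ⊔ psi.range
  have hnorm : psi.range ≤ Subgroup.normalizer (phi.range : Set G) := by
    rintro _ ⟨σ, rfl⟩
    refine Subgroup.mem_normalizer_fintype fun u hu => ?_
    obtain ⟨z, rfl⟩ := hu
    exact ⟨_, (S2250.psi_conj σ z).symm⟩
  have hKel : ∀ x : G, x ∈ K ↔ ∃ f σ, phi f * psi σ = x := by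
    intro x
    rw [← SetLike.mem_coe, Subgroup.coe_mul_of_right_le_normalizer_left _ _ hnorm]
    constructor
    · rintro ⟨_, ⟨f, rfl⟩, _, ⟨σ, rfl⟩, rfl⟩; exact ⟨f, σ, rfl⟩
    · rintro ⟨f, σ, rfl⟩; exact ⟨_, ⟨f, rfl⟩, _, ⟨σ, rfl⟩, rfl⟩
  have hKcard : Nat.card K = Nat.card SL(2, F) ^ n * n.factorial := by
    have hinj : Function.Injective fun y : (Fin n → SL(2, F)) × Equiv.Perm (Fin n) => phi y.1 * psi y.2 := by
      rintro ⟨f, σ⟩ ⟨g, τ⟩ h
      obtain ⟨h1, h2⟩ := S2250.phi_psi_eq_one (g⁻¹ * f) (σ * τ⁻¹) (by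
        simp only [map_mul, map_inv] at *
        rw [show (phi g)⁻¹ * phi f * (psi σ * (psi τ)⁻¹) = (phi g)⁻¹ * (phi f * psi σ) * (psi τ)⁻¹ by group, h]
        group)
      exact Prod.ext (inv_mul_eq_one.1 h1).symm (mul_inv_eq_one.1 h2)
    have : (K : Set G) = Set.range fun y : (Fin n → SL(2, F)) × Equiv.Perm (Fin n) => phi y.1 * psi y.2 := by
      ext x; simp only [SetLike.mem_coe, hKel, Set.mem_range, Prod.exists]
    rw [← SetLike.coe_sort_coe, this, Nat.card_range_of_injective hinj, Nat.card_prod, Nat.card_fun, Nat.card_perm,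
      Nat.card_fin]
  obtain ⟨Q⟩ := (inferInstance : Nonempty (Sylow 2 K))
  let P : Sylow 2 G := Sylow.ofCard ((Q : Subgroup K).map K.subtype) (by
    rw [Subgroup.card_map_of_injective K.subtype_injective, Q.card_eq_multiplicity, hKcard, S2250.v2_Sp hF])
  suffices h : derivedSeries ↥(P : Subgroup G) (Nat.log 2 n + 2) = ⊥ from
    derived_bot_of_injective (f := (R.equiv P).toMonoidHom) (R.equiv P).injective h
  have hPK : (P : Subgroup G) ≤ K := by
    show (Q : Subgroup K).map K.subtype ≤ K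
    exact Subgroup.map_subtype_le _
  let z : Fin n → G := fun i => phi (Pi.mulSingle i (-1))
  have h2 := Lib.Classical.two_ne_zero_of_odd_card hF
  have hne := Lib.Classical.sl_two_neg_one_ne_one h2
  have hz : Function.Injective z := fun i j h => by
    by_contra hij
    have := congrFun (S2250.phi_injective h) i
    rw [Pi.mulSingle_eq_same, Pi.mulSingle_eq_of_ne hij] at this
    exact hne this
  have hact : ∀ f σ i, phi f * psi σ * z i * (phi f * psi σ)⁻¹ = z (σ i) := by
    intro f σ i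
    have : phi f * psi σ * z i * (phi f * psi σ)⁻¹ = phi f * (psi σ * z i * (psi σ)⁻¹) * (phi f)⁻¹ := by group
    rw [this, S2250.psi_conj, ← map_inv, ← map_mul, ← map_mul]
    show phi _ = phi _
    congr 1
    funext k
    by_cases hk : k = σ i
    · subst hk; simp
    · rw [Pi.mulSingle_eq_of_ne hk, Pi.mul_apply, Pi.mul_apply, Pi.inv_apply, Pi.mulSingle_eq_of_ne
        (fun h => hk (by rw [← h]; simp)), mul_one, mul_inv_cancel]
  have hperm : ∀ x : (P : Subgroup G), ∃ σ : Equiv.Perm (Fin n),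
      (∀ i, (x : G) * z i * (x : G)⁻¹ = z (σ i)) ∧ ∃ f, phi f * psi σ = (x : G) := by
    intro x
    obtain ⟨f, σ, h⟩ := (hKel x).1 (hPK x.2)
    exact ⟨σ, fun i => by rw [← h]; exact hact f σ i, f, h⟩
  choose σ hσ hσ' using hperm
  let ρ : (P : Subgroup G) →* Equiv.Perm (Fin n) := MonoidHom.mk' σ fun x y => by
    ext i : 1
    apply hz
    rw [← hσ, Equiv.Perm.mul_apply, ← hσ, ← hσ, Subgroup.coe_mul]
    simp only [_root_.mul_inv_rev, mul_assoc]
  have hker := Lib.GS.PPermDerived.derived_le_ker P.isPGroup' ρ (Nat.log 2 n)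
    (by rw [Nat.card_fin]; exact Nat.lt_pow_succ_log_self one_lt_two n)
  rw [derived_add, Subgroup.map_eq_bot_iff_of_injective _ (Subgroup.subtype_injective _)]
  set D := derivedSeries ↥(P : Subgroup G) (Nat.log 2 n)
  have hin : ∀ x : D, ((x : (P : Subgroup G)) : G) ∈ phi.range := fun x => by
    obtain ⟨f, hf⟩ := hσ' x.1
    refine ⟨f, ?_⟩
    have h1 : σ x.1 = 1 := hker x.2
    rw [← hf, h1, map_one, mul_one]
  let ι : D →* (Fin n → SL(2, F)) := (MonoidHom.ofInjective (S2250.phi_injective (F := F) (n := n))).symm.toMonoidHom.comp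
    (((P : Subgroup G).subtype.comp D.subtype).codRestrict phi.range hin)
  have hι : Function.Injective ι := by
    intro x y e
    have e' := (MonoidHom.ofInjective (S2250.phi_injective (F := F) (n := n))).symm.injective e
    exact Subtype.ext (Subtype.ext (congrArg Subtype.val e' : _))
  refine eq_bot_iff.2 fun x hx => ?_
  rw [Subgroup.mem_bot]
  apply hι
  rw [map_one]
  funext i
  let πi : D →* SL(2, F) := (Pi.evalMonoidHom (fun _ : Fin n => SL(2, F)) i).comp ι
  have hp : IsPGroup 2 πi.range := IsPGroup.of_surjective (P.isPGroup'.to_subgroup D) _ πi.rangeRestrict_surjective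
  have := map_derivedSeries_le_derivedSeries πi.rangeRestrict 2 (Subgroup.mem_map_of_mem _ hx)
  rw [sl_two_group_derived hF _ hp, Subgroup.mem_bot] at this
  exact congrArg Subtype.val this

/-- Let q be odd, F a field with q elements and n ≥ 1. A Sylow 2-subgroup R of the symplectic group Sp_{2n}(F) has derived length exactly k + 1, where 2^k ≤ 2n < 2^{k+1}: the (k+1)-st term of its derived series is trivial and the k-th is not. -/
theorem result {F : Type*} [Field F] [Fintype F] [DecidableEq F] (q : ℕ) (hF : Fintype.card F = q) (hq : Odd q) (n : ℕ) (hn : 1 ≤ n) (R : Sylow 2 ↥(Matrix.symplecticGroup (Fin n) F)) : derivedSeries ↥(R : Subgroup ↥(Matrix.symplecticGroup (Fin n) F)) (Nat.log 2 (2 * n) + 1) = ⊥ ∧ derivedSeries ↥(R : Subgroup ↥(Matrix.symplecticGroup (Fin n) F)) (Nat.log 2 (2 * n)) ≠ ⊥ := by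
  haveI : Fact (Nat.Prime 2) := ⟨Nat.prime_two⟩
  subst hF
  have hlog : Nat.log 2 (2 * n) = Nat.log 2 n + 1 := by
    rw [mul_comm]; exact Nat.log_mul_base one_lt_two (by omega)
  rw [hlog]
  refine ⟨upper hq n R, fun hbot => ?_⟩
  obtain ⟨α, fα, dα, hcard, H, hH, hne⟩ := lower hq (Nat.log 2 n)
  have hle : 2 ^ Nat.log 2 n ≤ n := Nat.pow_log_le_self 2 (by omega)
  let e : α ⊕ Fin (n - 2 ^ Nat.log 2 n) ≃ Fin n :=
    Fintype.equivOfCardEq (by simp [hcard]; omega)
  let f : Matrix.symplecticGroup α F →* Matrix.symplecticGroup (Fin n) F :=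
    ((congrIndex F _ _ e).comp (delta F α (Fin (n - 2 ^ Nat.log 2 n)))).comp (MonoidHom.inl _ _)
  have hf : Function.Injective f := fun a b h =>
    (Prod.ext_iff.1 (delta_injective F _ _ (congrIndex_injective F _ _ e h))).1
  obtain ⟨S, hS⟩ := (hH.map f).exists_le_sylow
  have h1 : derivedSeries ↥(S : Subgroup ↥(Matrix.symplecticGroup (Fin n) F)) (Nat.log 2 n + 1) = ⊥ :=
    derived_bot_of_injective (f := (S.equiv R).toMonoidHom) (S.equiv R).injective hbot
  refine hne (derived_bot_of_injective (f := ((Subgroup.inclusion hS).comp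
    (H.equivMapOfInjective f hf).toMonoidHom)) ?_ h1)
  exact (Subgroup.inclusion_injective hS).comp (H.equivMapOfInjective f hf).injective

end Cfsg.Agent.S2648
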