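import Cfsg.Statements.S2652
import Cfsg.Agent.Lib.SporPres.FiTwentyThree.NormalElem

set_option autoImplicit false
open Cfsg

namespace Cfsg.Agent.S2652

open Cfsg.Agent.Lib.SporPres.FiTwentyThree Cfsg.Agent.Lib.SporPres.FiTwentyThree.NormalElem

/-- Let T be a Sylow 2-subgroup of the Fischer group Fi₂₃ (the finitely presented group `Spor.Fi23`; T has order 2¹⁸). Then every elementary abelian subgroup of Fi₂₃ contained in T and normal in T has order at most 2¹¹, and there is exactly one such subgroup of order 2¹¹. -/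
theorem result
    (T : Sylow 2 Cfsg.Spor.Fi23) :
    (∀ A : Subgroup Cfsg.Spor.Fi23, A ≤ T → (A.subgroupOf T).Normal → Cfsg.IsElementaryAbelian 2 A →
        Nat.card A ≤ 2 ^ 11) ∧
    ∃! A : Subgroup Cfsg.Spor.Fi23, A ≤ T ∧ (A.subgroupOf T).Normal ∧ Cfsg.IsElementaryAbelian 2 A ∧
        Nat.card A = 2 ^ 11 := by
  have : Finite Cfsg.Spor.Fi23 := group_le.1
  have : Fact (Nat.Prime 2) := ⟨Nat.prime_two⟩
  obtain ⟨P, hP⟩ := exists_sylow_eq
  obtain ⟨g, rfl⟩ := MulAction.exists_smul_eq Cfsg.Spor.Fi23 P T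
  have hmem : ∀ x, x ∈ ((g • P : Sylow 2 Cfsg.Spor.Fi23) : Subgroup Cfsg.Spor.Fi23) ↔
      g⁻¹ * x * g ∈ sylTwo := fun x => by
    rw [← hP, Sylow.coe_subgroup_smul, Subgroup.mem_pointwise_smul_iff_inv_smul_mem]
    simp [← map_inv, MulAut.smul_def]
  set c : Cfsg.Spor.Fi23 →* Cfsg.Spor.Fi23 := (MulAut.conj g).toMonoidHom
  have hinj : Function.Injective c := (MulAut.conj g).injective
  have huniq : ∀ A : Subgroup Cfsg.Spor.Fi23, A ≤ ↑(g • P) → Cfsg.IsElementaryAbelian 2 A →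
      2 ^ 11 ≤ Nat.card A → A = elEleven.map c := by
    intro A hA hel hcard
    have hmap : (A.comap c).map c = A :=
      Subgroup.map_comap_eq_self_of_surjective (MulAut.conj g).surjective A
    rw [← hmap]
    refine congrArg (Subgroup.map c) (eq_elEleven (fun x hx => ?_) (fun x hx y hy => hinj ?_)
      (fun x hx => hinj ?_) ?_)
    · have := (hmem _).1 (hA hx)
      simpa [c, mul_assoc] using this
    · have := congrArg Subtype.val (hel.1.is_comm.comm (⟨c x, hx⟩ : A) ⟨c y, hy⟩)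
      rw [map_mul, map_mul]
      exact this
    · rw [map_mul, map_one, ← pow_two]
      exact hel.2 _ hx
    · rwa [← Subgroup.card_map_of_injective hinj, hmap]
  have hcard : Nat.card (elEleven.map c) = 2 ^ 11 := by
    rw [Subgroup.card_map_of_injective hinj, card_elEleven]
  refine ⟨fun A hA _ hel => ?_, elEleven.map c, ⟨?_, ?_, ⟨⟨⟨?_⟩⟩, ?_⟩, hcard⟩, ?_⟩
  · by_contra h
    have := huniq A hA hel (Nat.le_of_lt (Nat.lt_of_not_le h))
    rw [this, hcard] at h
    exact h le_rfl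
  · rintro _ ⟨e, he, rfl⟩
    refine (hmem _).2 ?_
    simpa [c, mul_assoc] using elEleven_le he
  · refine ⟨fun n hn y => ?_⟩
    rw [Subgroup.mem_subgroupOf] at hn ⊢
    obtain ⟨e, he, heq⟩ := hn
    refine ⟨_, elEleven_normal _ ((hmem _).1 y.2) e he, ?_⟩
    rw [Subgroup.coe_mul, Subgroup.coe_mul, Subgroup.coe_inv, ← heq]
    simp [c, mul_assoc]
  · rintro ⟨_, x, ⟨v, -, rfl⟩, rfl⟩ ⟨_, y, ⟨w, -, rfl⟩, rfl⟩
    exact Subtype.ext (by simp only [Subgroup.coe_mul, ← map_mul, eE_comm v w])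
  · rintro _ ⟨x, ⟨v, -, rfl⟩, rfl⟩
    rw [← map_pow, pow_two, eE_self, map_one]
  · rintro A ⟨hA, -, hel, hc⟩
    exact huniq A hA hel hc.ge

end Cfsg.Agent.S2652
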