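import Cfsg.Statements.S2756
import Cfsg.Agent.Lib.InvZJ.Main
import Cfsg.Agent.Lib.Involution.BaerSuzuki

set_option autoImplicit false
open Cfsg

namespace Cfsg.Agent.S2756

open Subgroup Cfsg.Agent.Lib

universe u

variable {G : Type u} [Group G] [Finite G]

/-- A subgroup of a group with a normal Sylow 2-subgroup has one. -/
lemma normal_of_normal (hN : ∀ P : Sylow 2 G, (P : Subgroup G).Normal) (H : Subgroup G) (S : Sylow 2 ↥H) :
    (S : Subgroup ↥H).Normal := by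
  haveI : Fact (Nat.Prime 2) := ⟨Nat.prime_two⟩
  obtain ⟨T, hT⟩ := (S.isPGroup'.map H.subtype).exists_le_sylow
  haveI := hN T
  have h1 : (T : Subgroup G).subgroupOf H = (S : Subgroup ↥H) :=
    S.is_maximal' T.isPGroup'.comap_subtype fun x hx => mem_subgroupOf.2 (hT (mem_map_of_mem H.subtype hx))
  exact h1 ▸ inferInstance

/-- Without inversions, the Sylow 2-subgroup is normal. -/
lemma normal_of_no_inv (hno : ∀ (q : ℕ) [Fact q.Prime], q ≠ 2 → ¬ InvZJ.HasInv q (⊤ : Subgroup G))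
    (P : Sylow 2 G) : (P : Subgroup G).Normal := by
  classical
  haveI : Fact (Nat.Prime 2) := ⟨Nat.prime_two⟩
  set Q := Cfsg.pCore 2 G with hQ
  have hQp : IsPGroup 2 ↥Q := Components.pCore_isPGroup 2
  by_cases hev : Even (Nat.card (G ⧸ Q))
  swap
  · suffices h : (P : Subgroup G) = Q by rw [h]; infer_instance
    refine le_antisymm ?_ (Hall.pCore_le_sylow P)
    intro x hx
    obtain ⟨n, hn⟩ := P.isPGroup' ⟨x, hx⟩
    have hd : orderOf ((x : G ⧸ Q)) ∣ Nat.gcd (2 ^ n) (Nat.card (G ⧸ Q)) := by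
      refine Nat.dvd_gcd (orderOf_dvd_of_pow_eq_one ?_) (orderOf_dvd_natCard _)
      rw [← QuotientGroup.mk_pow, show x ^ 2 ^ n = 1 by simpa using congrArg Subtype.val hn]; rfl
    rw [Nat.Coprime.pow_left n (Nat.prime_two.coprime_iff_not_dvd.2 fun h => hev (even_iff_two_dvd.2 h)),
      Nat.dvd_one, orderOf_eq_one_iff] at hd
    exact (QuotientGroup.eq_one_iff x).1 hd
  exfalso
  obtain ⟨t, ht⟩ := Involution.exists_involution_of_even hev
  have hnot : ¬ ∀ g : G ⧸ Q, IsPGroup 2 ↥(zpowers t ⊔ (zpowers t).map (MulAut.conj g).toMonoidHom) := by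
    intro h
    obtain ⟨N, hNn, hN, hle⟩ := Involution.baerSuzuki (zpowers t) h
    have hc : IsPGroup 2 ↥(N.comap (QuotientGroup.mk' Q)) :=
      hN.comap_of_ker_isPGroup _ (by rw [QuotientGroup.ker_mk']; exact hQp)
    obtain ⟨g, hg⟩ := QuotientGroup.mk'_surjective Q t
    have h1 : g ∈ Q := Components.le_pCore hc (show QuotientGroup.mk' Q g ∈ N from hg ▸ hle (mem_zpowers t))
    have : t = 1 := hg ▸ (QuotientGroup.eq_one_iff g).2 h1
    rw [this, orderOf_one] at ht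
    omega
  push Not at hnot
  obtain ⟨g, hg⟩ := hnot
  set s := g * t * g⁻¹ with hs
  have hso : orderOf s = 2 := by
    rw [hs, show g * t * g⁻¹ = MulAut.conj g t from rfl]
    exact (orderOf_injective (MulAut.conj g).toMonoidHom (MulAut.conj g).injective t).trans ht
  obtain ⟨q, hq, hq2, hdvd⟩ : ∃ q, q.Prime ∧ q ≠ 2 ∧ q ∣ orderOf (t * s) := by
    by_contra hno'
    push Not at hno'
    refine hg ?_
    have ha : orderOf (t * s) = 2 ^ (orderOf (t * s)).primeFactorsList.length :=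
      Nat.eq_prime_pow_of_unique_prime_dvd (orderOf_pos _).ne' fun {d} hd hdd => by
        by_contra hd2
        exact hno' d hd hd2 hdd
    refine (Involution.isPGroup_two_closure_pair ht hso ha).to_le ?_
    refine sup_le (zpowers_le.2 (subset_closure (Or.inl rfl))) ?_
    rw [MonoidHom.map_zpowers, zpowers_le]
    exact subset_closure (Or.inr rfl)
  haveI := Fact.mk hq
  set m := orderOf (t * s) / q
  have hy : orderOf ((t * s) ^ m) = q := orderOf_pow_orderOf_div (orderOf_pos _).ne' hdvd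
  have htt : t * t = 1 := by have h2 := pow_orderOf_eq_one t; rwa [ht, pow_two] at h2
  have hss : s * s = 1 := by have h2 := pow_orderOf_eq_one s; rwa [hso, pow_two] at h2
  have hinv : t * (t * s) * t⁻¹ = (t * s)⁻¹ := by
    rw [mul_inv_rev, inv_eq_of_mul_eq_one_right htt, inv_eq_of_mul_eq_one_right hss, ← mul_assoc, htt, one_mul]
  refine hno q hq2 (InvZJ.hasInv_top_of_surjective hq2 (QuotientGroup.mk' Q) (QuotientGroup.mk'_surjective Q)
    (InvZJ.hasInv_of_inverted hq2 (mem_top _) (mem_top t) (x := (t * s) ^ m) ?_ (n := 1) ?_ ?_))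
  · intro h
    rw [h, orderOf_one] at hy
    exact hq.one_lt.ne hy
  · rw [pow_one]; nth_rewrite 1 [← hy]; exact pow_orderOf_eq_one _
  · rw [← conj_pow, hinv, inv_pow]

theorem result {G : Type*} [Group G] [Finite G] : ((∀ P : Sylow 2 G, (P : Subgroup G).Normal) ↔ ∀ (q : ℕ) [Fact q.Prime], q ≠ 2 → q ∣ Nat.card G → ∀ T : Sylow q G, ∀ P : Sylow 2 ↥(Subgroup.normalizer (Cfsg.centerThompsonAOf (T : Subgroup G) : Set G)), (P : Subgroup ↥(Subgroup.normalizer (Cfsg.centerThompsonAOf (T : Subgroup G) : Set G))).Normal) ∧ ((∀ P : Sylow 2 G, (P : Subgroup G).Normal) ↔ ∀ (q : ℕ) [Fact q.Prime], q ≠ 2 → ∀ T : Sylow q G, ∀ x ∈ (T : Subgroup G), x ≠ 1 → ∀ g ∈ Subgroup.normalizer (Cfsg.centerThompsonAOf (T : Subgroup G) : Set G), g * x * g⁻¹ ≠ x⁻¹) := by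
  have ab : (∀ P : Sylow 2 G, (P : Subgroup G).Normal) → ∀ (q : ℕ) [Fact q.Prime], q ≠ 2 → q ∣ Nat.card G → ∀ T : Sylow q G, ∀ P : Sylow 2 ↥(Subgroup.normalizer (Cfsg.centerThompsonAOf (T : Subgroup G) : Set G)), (P : Subgroup ↥(Subgroup.normalizer (Cfsg.centerThompsonAOf (T : Subgroup G) : Set G))).Normal :=
    fun h q _ _ _ T P => normal_of_normal h _ P
  have bc : (∀ (q : ℕ) [Fact q.Prime], q ≠ 2 → q ∣ Nat.card G → ∀ T : Sylow q G, ∀ P : Sylow 2 ↥(Subgroup.normalizer (Cfsg.centerThompsonAOf (T : Subgroup G) : Set G)), (P : Subgroup ↥(Subgroup.normalizer (Cfsg.centerThompsonAOf (T : Subgroup G) : Set G))).Normal) →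
      ∀ (q : ℕ) [Fact q.Prime], q ≠ 2 → ∀ T : Sylow q G, ∀ x ∈ (T : Subgroup G), x ≠ 1 → ∀ g ∈ Subgroup.normalizer (Cfsg.centerThompsonAOf (T : Subgroup G) : Set G), g * x * g⁻¹ ≠ x⁻¹ := by
    intro h q hq hq2 T x hx hx1 g hg hgx
    obtain ⟨n, hn⟩ := T.isPGroup' ⟨x, hx⟩
    have hn' : x ^ q ^ n = 1 := by simpa using congrArg Subtype.val hn
    have hdvd : q ∣ Nat.card G := by
      obtain ⟨j, -, hj⟩ := (Nat.dvd_prime_pow hq.out).1 (orderOf_dvd_of_pow_eq_one hn')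
      rcases Nat.eq_zero_or_pos j with rfl | hj0
      · exact absurd (orderOf_eq_one_iff.1 (by simpa using hj)) hx1
      · exact (dvd_pow_self q hj0.ne').trans (hj ▸ orderOf_dvd_natCard x)
    set N := Subgroup.normalizer (Cfsg.centerThompsonAOf (T : Subgroup G) : Set G)
    have hxN : x ∈ N := InvZJ.normalizer_le_normalizer_zj _ (le_normalizer hx)
    obtain ⟨P⟩ : Nonempty (Sylow 2 ↥N) := inferInstance
    exact InvZJ.not_hasInv_of_normal_sylow hq2 P (h q hq2 hdvd T P) ⊤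
      (InvZJ.hasInv_top_of_hasInv (InvZJ.hasInv_of_inverted hq2 hxN hg hx1 hn' hgx))
  have ca : (∀ (q : ℕ) [Fact q.Prime], q ≠ 2 → ∀ T : Sylow q G, ∀ x ∈ (T : Subgroup G), x ≠ 1 → ∀ g ∈ Subgroup.normalizer (Cfsg.centerThompsonAOf (T : Subgroup G) : Set G), g * x * g⁻¹ ≠ x⁻¹) →
      ∀ P : Sylow 2 G, (P : Subgroup G).Normal := by
    intro h
    refine normal_of_no_inv fun q hq hq2 hinv => ?_
    obtain ⟨T⟩ : Nonempty (Sylow q G) := inferInstance
    obtain ⟨x, g, hxN, hgN, hx1, ⟨n, hn⟩, hgx⟩ :=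
      (InvZJ.hasInv_normalizer_zj hq2 (Nat.card G) G rfl hinv T).exists_inverted
    set N := Subgroup.normalizer (Cfsg.centerThompsonAOf (T : Subgroup G) : Set G)
    have hTN : (T : Subgroup G) ≤ N := fun t ht => InvZJ.normalizer_le_normalizer_zj _ (le_normalizer ht)
    have hxp : IsPGroup q ↥(zpowers x) := by
      obtain ⟨j, -, hj⟩ := (Nat.dvd_prime_pow hq.out).1 (orderOf_dvd_of_pow_eq_one hn)
      exact IsPGroup.of_card (by rw [Nat.card_zpowers, hj])
    obtain ⟨S, hS⟩ := (hxp.comap_subtype (K := N)).exists_le_sylow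
    obtain ⟨⟨c, hc⟩, hcS⟩ := MulAction.exists_smul_eq ↥N S (T.subtype hTN)
    have hmem : c * x * c⁻¹ ∈ (T : Subgroup G) := by
      have h1 : MulAut.conj (⟨c, hc⟩ : ↥N) ⟨x, hxN⟩ ∈ ((T.subtype hTN : Sylow q ↥N) : Subgroup ↥N) := by
        rw [← hcS, Sylow.coe_subgroup_smul]
        exact smul_mem_pointwise_smul (⟨x, hxN⟩ : ↥N) (MulAut.conj (⟨c, hc⟩ : ↥N)) (S : Subgroup ↥N)
          (hS (mem_subgroupOf.2 (mem_zpowers x)))
      rw [Sylow.coe_subtype, mem_subgroupOf] at h1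
      exact h1
    refine h q hq2 T (c * x * c⁻¹) hmem (fun e => hx1 (by simpa using e)) (c * g * c⁻¹)
      (mul_mem (mul_mem hc hgN) (inv_mem hc)) ?_
    calc c * g * c⁻¹ * (c * x * c⁻¹) * (c * g * c⁻¹)⁻¹ = c * (g * x * g⁻¹) * c⁻¹ := by group
      _ = (c * x * c⁻¹)⁻¹ := by rw [hgx]; group
  exact ⟨⟨ab, fun h => ca (bc h)⟩, ⟨fun h => bc (ab h), ca⟩⟩

end Cfsg.Agent.S2756
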