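import Cfsg.Statements.S2794
import Mathlib
import Cfsg.Agent.Lib.LocalP2.ZJFunctor
import Cfsg.Agent.Lib.KInf.QdStable
import Cfsg.Agent.Lib.QdFree
import Cfsg.Agent.Lib.PStab.QdSection
import Cfsg.Agent.S3074
-- import your own Cfsg.Agent.* helpers here

set_option autoImplicit false
open Cfsg Cfsg.Agent
universe u

namespace Cfsg.Agent.S2794

open scoped commutatorElement

/-- In a section isomorphic to `Qd(p)` strong fusion is not controlled. -/
lemma not_csf {Q : Type u} [Group Q] [Finite Q] {p : ℕ} [Fact p.Prime] (hp : p ≠ 2) (e : Q ≃* ↥(Cfsg.qd p))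
    (h : ∀ T : Sylow p Q, Cfsg.ControlsStrongFusion p (Cfsg.centerThompsonAOf (T : Subgroup Q))) :
    False := by
  classical
  let I : Lib.Fusion.Lin p := 1
  let up : Lib.Fusion.Lin p := ⟨!![1, 1; 0, 1], by simp [Matrix.det_fin_two]⟩
  let rot : Lib.Fusion.Lin p := ⟨!![0, -1; 1, 0], by simp [Matrix.det_fin_two]⟩
  let t1 := Lib.Fusion.aff I (![1, 0] : Lib.Fusion.Plane p)
  let t2 := Lib.Fusion.aff I (![0, 1] : Lib.Fusion.Plane p)
  let u := Lib.Fusion.aff up (0 : Lib.Fusion.Plane p)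
  -- the unitriangular matrices form a `p`-subgroup
  let ρ : ↥(Cfsg.qd p) →* Matrix (Fin 3) (Fin 3) (ZMod p) :=
    { toFun := fun x => ((x : Matrix.SpecialLinearGroup (Fin 3) (ZMod p)) : Matrix (Fin 3) (Fin 3) (ZMod p))
      map_one' := rfl
      map_mul' := fun _ _ => rfl }
  have hρ : Function.Injective ρ := fun a b hab => Subtype.ext (Subtype.ext hab)
  let M0 : Submonoid ↥(Cfsg.qd p) :=
    { carrier := {x | ρ x 0 0 = 1 ∧ ρ x 1 1 = 1 ∧ ρ x 1 0 = 0}
      one_mem' := by simp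
      mul_mem' := by
        intro x y ⟨a0, a1, a2⟩ ⟨b0, b1, b2⟩
        obtain ⟨c0, c1, c2⟩ : ρ y 2 0 = 0 ∧ ρ y 2 1 = 0 ∧ ρ y 2 2 = 1 := Lib.Fusion.qd_rows y.2
        refine ⟨?_, ?_, ?_⟩ <;>
          simp [map_mul, Matrix.mul_apply, Fin.sum_univ_three, a0, a1, a2, b0, b1, b2, c0, c1] }
  let T0 : Subgroup ↥(Cfsg.qd p) :=
    { M0 with
      inv_mem' := fun {x} hx => by
        have hx' : x⁻¹ = x ^ (orderOf x - 1) := by
          refine inv_eq_of_mul_eq_one_right ?_
          rw [← pow_succ', Nat.sub_add_cancel (orderOf_pos x), pow_orderOf_eq_one]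
        rw [hx']
        exact M0.pow_mem hx _ }
  have hT0 : IsPGroup p ↥T0 := by
    rintro ⟨x, a0, a1, a2⟩
    obtain ⟨c0, c1, c2⟩ : ρ x 2 0 = 0 ∧ ρ x 2 1 = 0 ∧ ρ x 2 2 = 1 := Lib.Fusion.qd_rows x.2
    obtain ⟨k, hk⟩ := Lib.QdFree.pElem_of_nilpotent (p := p) ρ hρ (g := x) (j := 3) (by
      ext i j
      fin_cases i <;> fin_cases j <;>
        simp [pow_succ, Matrix.mul_apply, Fin.sum_univ_three, Matrix.one_apply, a0, a1, a2, c0, c1, c2])
    exact ⟨k, Subtype.ext hk⟩
  obtain ⟨S, hS⟩ := (hT0.map e.symm.toMonoidHom).exists_le_sylow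
  have hs : Function.Surjective e.toMonoidHom := e.surjective
  obtain ⟨hex, -, -⟩ := Cfsg.Agent.S3074.result p hp (S.mapSurjective hs)
  have h2 : ∀ a b c : ↥(S : Subgroup Q), Commute ⁅a, b⁆ c := by
    intro a b c
    have hmap : ∀ z : ↥(S : Subgroup Q), e z ∈ ((S.mapSurjective hs : Sylow p _) : Subgroup ↥(Cfsg.qd p)) :=
      fun z => Subgroup.mem_map_of_mem _ z.2
    let T' : Subgroup ↥(Cfsg.qd p) := ((S.mapSurjective hs : Sylow p ↥(Cfsg.qd p)) : Subgroup ↥(Cfsg.qd p))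
    have h1 : ⁅(⟨e a, hmap a⟩ : ↥T'), (⟨e b, hmap b⟩ : ↥T')⁆ ∈
        Subgroup.center ↥T' := by
      exact (le_of_eq hex.1.2.2) (Subgroup.commutator_mem_commutator (Subgroup.mem_top _) (Subgroup.mem_top _))
    have h3 : Commute ⁅e a, e b⁆ (e c) := by
      have := (Subgroup.mem_center_iff.1 h1 ⟨e c, hmap c⟩)
      have h4 := Commute.map (show Commute _ _ from this) T'.subtype
      rw [map_commutatorElement] at h4
      exact h4.symm
    refine Subtype.ext (e.injective ?_)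
    rw [Subgroup.coe_mul, Subgroup.coe_mul, map_mul, map_mul]
    have h5 : e ((⁅a, b⁆ : ↥(S : Subgroup Q)) : Q) = ⁅e a, e b⁆ := by
      rw [show ((⁅a, b⁆ : ↥(S : Subgroup Q)) : Q) = ⁅(a : Q), (b : Q)⁆ from map_commutatorElement (S : Subgroup Q).subtype a b,
        map_commutatorElement]
    rw [h5]
    exact h3.eq
  obtain ⟨T, hUT, hA⟩ := h S
  have m1 : e.symm t1 ∈ (S : Subgroup Q) := hS (Subgroup.mem_map_of_mem _ ⟨by simp [t1, t2, ρ, I, Lib.Fusion.aff, Lib.Fusion.affMatrix], by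
    simp [t1, t2, ρ, I, Lib.Fusion.aff, Lib.Fusion.affMatrix], by simp [t1, t2, ρ, I, Lib.Fusion.aff, Lib.Fusion.affMatrix]⟩)
  have m2 : e.symm t2 ∈ (S : Subgroup Q) := hS (Subgroup.mem_map_of_mem _ ⟨by simp [t1, t2, ρ, I, Lib.Fusion.aff, Lib.Fusion.affMatrix], by
    simp [t1, t2, ρ, I, Lib.Fusion.aff, Lib.Fusion.affMatrix], by simp [t1, t2, ρ, I, Lib.Fusion.aff, Lib.Fusion.affMatrix]⟩)
  have mu : e.symm u ∈ (S : Subgroup Q) := hS (Subgroup.mem_map_of_mem _ ⟨by simp [u, ρ, up, Lib.Fusion.aff, Lib.Fusion.affMatrix], by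
    simp [u, ρ, up, Lib.Fusion.aff, Lib.Fusion.affMatrix], by simp [u, ρ, up, Lib.Fusion.aff, Lib.Fusion.affMatrix]⟩)
  have hcomm : u * t2 * u⁻¹ * t2⁻¹ = t1 := by
    rw [mul_inv_eq_iff_eq_mul, mul_inv_eq_iff_eq_mul, Lib.Fusion.aff_mul, Lib.Fusion.aff_mul, Lib.Fusion.aff_mul]
    congr 1
    · simp [I]
    · funext i; fin_cases i <;> simp [I, up, Matrix.mulVec, dotProduct, Fin.sum_univ_two, Matrix.one_apply]
  have ht1 : ∀ c ∈ (S : Subgroup Q), e.symm t1 * c = c * e.symm t1 := by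
    intro c hc
    have h3 := congrArg Subtype.val (h2 ⟨_, mu⟩ ⟨_, m2⟩ ⟨c, hc⟩).eq
    rw [← hcomm]
    simpa [commutatorElement_def] using h3
  let w := Lib.Fusion.aff rot (0 : Lib.Fusion.Plane p)
  have hw : w * t1 * w⁻¹ = t2 := by
    rw [mul_inv_eq_iff_eq_mul, Lib.Fusion.aff_mul, Lib.Fusion.aff_mul]
    congr 1
    · simp [I]
    · funext i; fin_cases i <;> simp [I, rot, Matrix.mulVec, dotProduct, Fin.sum_univ_two, Matrix.one_apply]
  have hw' : e.symm w * e.symm t1 * (e.symm w)⁻¹ = e.symm t2 := by rw [← hw]; simp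
  have := Fintype.ofFinite Q
  have hSfin : Finite (S : Subgroup Q) := inferInstance
  obtain ⟨-, hcard, -⟩ := Cfsg.Agent.S3074.result p hp (S.mapSurjective hs)
  have hcardS : Nat.card (S : Subgroup Q) = p ^ 3 := by
    rw [← hcard]
    exact (Subgroup.card_map_of_injective (f := e.toMonoidHom) e.injective).symm
  have hnc : e.symm t2 * e.symm u ≠ e.symm u * e.symm t2 := fun hc2 => by
    rw [← map_mul, ← map_mul] at hc2
    have hc3 : t2 * u = u * t2 := e.symm.injective hc2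
    rw [Lib.Fusion.aff_mul, Lib.Fusion.aff_mul] at hc3
    have h6 := congrFun (Lib.Fusion.aff_inj hc3).2 0
    simp [I, up, Matrix.mulVec, dotProduct, Fin.sum_univ_two, Matrix.one_apply] at h6
  have hzJ : e.symm t1 ∈ Cfsg.thompsonSubgroupAOf (S : Subgroup Q) :=
    Lib.LocalP2.mem_thompson_of_central (S := (S : Subgroup Q))
      ⟨m1, Subgroup.mem_centralizer_iff.2 fun c hc => (ht1 c hc).symm⟩ le_rfl m1
  have ht1ne : e.symm t1 ≠ 1 := fun h0 => by
    have h7 : t1 = 1 := e.symm.injective (h0.trans (map_one e.symm).symm)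
    have h8 := congrArg (fun z : ↥(Cfsg.qd p) => ρ z 0 2) h7
    simp [ρ, t1, I, Lib.Fusion.aff, Lib.Fusion.affMatrix] at h8
  -- `J(S) = S`
  have hJ : e.symm u ∈ Cfsg.thompsonSubgroupAOf (S : Subgroup Q) := by
    set A := Subgroup.closure ({e.symm t1, e.symm u} : Set Q) with hAdef
    have hAc : IsMulCommutative A := by
      refine Subgroup.isMulCommutative_closure ?_
      rintro a (rfl | ha) b (rfl | hb)
      · rfl
      · rw [Set.mem_singleton_iff.1 hb]; exact ht1 _ mu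
      · rw [Set.mem_singleton_iff.1 ha]; exact (ht1 _ mu).symm
      · rw [Set.mem_singleton_iff.1 ha, Set.mem_singleton_iff.1 hb]
    have hAS : A ≤ (S : Subgroup Q) := (Subgroup.closure_le _).2 (by
      rintro a (rfl | ha)
      · exact m1
      · rw [Set.mem_singleton_iff.1 ha]; exact mu)
    have hprime : p.Prime := Fact.out
    refine Lib.LocalP2.maxAb_le_thompson ⟨hAS, hAc, fun B hB hBc => ?_⟩ (Subgroup.subset_closure (Or.inr rfl))
    obtain ⟨b, hb, hBb⟩ := (Nat.dvd_prime_pow hprime).1 (hcardS ▸ Subgroup.card_dvd_of_le hB)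
    obtain ⟨a, ha, hAa⟩ := (Nat.dvd_prime_pow hprime).1 (hcardS ▸ Subgroup.card_dvd_of_le hAS)
    have hb2 : b ≤ 2 := by
      by_contra hb3
      have hBS : B = (S : Subgroup Q) := Subgroup.eq_of_le_of_card_ge hB (by
        rw [hcardS, hBb]; exact Nat.pow_le_pow_right hprime.pos (by omega))
      subst hBS
      exact hnc (congrArg Subtype.val (hBc.is_comm.comm ⟨_, m2⟩ ⟨_, mu⟩))
    have ha2 : 2 ≤ a := by
      have hlt : Subgroup.zpowers (e.symm t1) < A := by
        refine lt_of_le_of_ne (Subgroup.zpowers_le.2 (Subgroup.subset_closure (Or.inl rfl))) fun heq => ?_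
        have hu : e.symm u ∈ Subgroup.zpowers (e.symm t1) := heq ▸ Subgroup.subset_closure (Or.inr rfl)
        obtain ⟨i, hi⟩ := Subgroup.mem_zpowers_iff.1 hu
        refine hnc ?_
        rw [← hi]
        exact ((Commute.zpow_left (ht1 _ m2) i).eq).symm
      have hzne : Subgroup.zpowers (e.symm t1) ≠ ⊥ := by simpa [Subgroup.zpowers_eq_bot] using ht1ne
      have h9 : 1 < Nat.card (Subgroup.zpowers (e.symm t1)) := Subgroup.one_lt_card_iff_ne_bot _ |>.2 hzne
      obtain ⟨c, hc, hcc⟩ := (Nat.dvd_prime_pow hprime).1 (hcardS ▸ Subgroup.card_dvd_of_le (hlt.le.trans hAS))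
      have h10 : Nat.card (Subgroup.zpowers (e.symm t1)) < Nat.card A :=
        lt_of_le_of_ne (Subgroup.card_le_of_le hlt.le) fun hh =>
          hlt.ne (Subgroup.eq_of_le_of_card_ge hlt.le hh.ge)
      rw [hcc, hAa, Nat.pow_lt_pow_iff_right hprime.one_lt] at h10
      rw [hcc] at h9
      rcases Nat.eq_zero_or_pos c with rfl | hc0
      · simp at h9
      · omega
    rw [hBb, hAa]
    exact Nat.pow_le_pow_right hprime.pos (hb2.trans ha2)
  -- `t1` is central in `S`, `t2` is not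
  have ht1Z : e.symm t1 ∈ Cfsg.centerThompsonAOf (S : Subgroup Q) :=
    ⟨hzJ, Subgroup.mem_centralizer_iff.2 fun c hc => (ht1 c (Lib.LocalP2.thompson_le _ hc)).symm⟩
  have ht1T : e.symm t1 ∈ (T : Subgroup Q) := hUT ht1Z
  have hsig : e.symm t2 ∈ (T : Subgroup Q) → False := fun m2T => by
    obtain ⟨x, hx, he⟩ := (hA {e.symm t1} (Set.singleton_subset_iff.2 ht1T)).2 (e.symm w) (by
      rw [Set.image_singleton, Set.singleton_subset_iff, hw']; exact m2T)
    have h4 := he _ rfl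
    rw [hw'] at h4
    have h5 : e.symm t2 ∈ Cfsg.centerThompsonAOf (S : Subgroup Q) :=
      h4 ▸ (Subgroup.mem_normalizer_iff.1 hx _).1 ht1Z
    exact hnc ((Subgroup.mem_centralizer_iff.1 h5.2 _ hJ).symm)
  -- the Sylow subgroup `T` is `S` up to a move fixing `Z(J(S))`
  have heq2 : Lib.PStab.qdMk (p := p) (![0, 1] : Fin 2 → ZMod p) 1 = t2 := hρ (by
    ext i j
    fin_cases i <;> fin_cases j <;>
      simp [ρ, t2, I, Lib.PStab.qdMk, Lib.PStab.coe_aff, Lib.Fusion.aff, Lib.Fusion.affMatrix, Matrix.one_apply])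
  have hV : e.symm t2 ∈ ((Lib.PStab.linPart (p := p)).ker).comap e.toMonoidHom := by
    show e (e.symm t2) ∈ (Lib.PStab.linPart (p := p)).ker
    rw [MulEquiv.apply_symm_apply, ← heq2, MonoidHom.mem_ker, Lib.PStab.linPart_qdMk]
  have hVp : IsPGroup p ↥(((Lib.PStab.linPart (p := p)).ker).comap e.toMonoidHom) := by
    refine (Lib.PStab.isPGroup_ker_linPart (p := p)).of_injective
      ((e.toMonoidHom.comp (Subgroup.subtype _)).codRestrict (Lib.PStab.linPart (p := p)).ker fun x => x.2) ?_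
    exact fun a b h => Subtype.ext (e.injective (congrArg Subtype.val h))
  exact hsig (hVp.le_sylow_of_normal T hV)


/-- For an odd prime p and a finite group G, the group Qd(p) is not involved in G if and only if in every section K/R of G, for every Sylow p-subgroup S* of K/R, the centre of J(S*) (J generated by the abelian subgroups of largest order) controls strong fusion in K/R. -/
theorem result {G : Type*} [Group G] [Finite G] {p : ℕ} [Fact p.Prime] (hp : p ≠ 2) : ¬ Cfsg.Involves ↥(Cfsg.qd p) G ↔ ∀ (K R : Subgroup G) [hR : (R.subgroupOf K).Normal], ∀ T : Sylow p (K ⧸ R.subgroupOf K), Cfsg.ControlsStrongFusion p (Cfsg.centerThompsonAOf (T : Subgroup (K ⧸ R.subgroupOf K))) := by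
  open Cfsg.Agent.Lib.KInf in
  constructor
  · intro hq K R _ T
    have h1 := csf_of_sf (Lib.LocalP2.sf_zj hp (fun K' R' _ => ?_) _ IsSec.refl) T
    · rwa [Lib.LocalP2.inducedFunctor_zjW] at h1
    · by_contra hst
      obtain ⟨H, f, hf⟩ := Lib.Fusion.exists_surjective_of_involves (involves_qd_of_not_stable hp hst)
      obtain ⟨H', f', hf'⟩ := ((((isSec_quot K R).subgroup K').quot (R'.subgroupOf K')).subgroup H)
      exact hq (Lib.Fusion.involves_of_surjective (f.comp f') (hf.comp hf'))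
  · intro h hinv
    obtain ⟨K, R, hR, ⟨e⟩⟩ := hinv
    exact not_csf hp e (h K R)

end Cfsg.Agent.S2794
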