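import Cfsg.Statements.S2799
import Mathlib
import Cfsg.Agent.Lib.LocalP2.FusionCenterGroup
-- import your own Cfsg.Agent.* helpers here

set_option autoImplicit false
open Cfsg Cfsg.Agent

namespace Cfsg.Agent.S2799

/-- Let S be a Sylow p-subgroup of the finite group G, J(S) the subgroup generated by the abelian subgroups of S of largest order, and x an element of S lying in the centre of N_G(J(S)). Assume that p is odd, or that x is a p-th power of an element of Z(S), or that the symmetric group of degree 4 is not involved in G. Then x is weakly closed in S with respect to G: every G-conjugate of x that lies in S equals x. -/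
theorem result {G : Type*} [Group G] [Finite G] {p : ℕ} [Fact p.Prime] (S : Sylow p G) (x : G) (hxS : x ∈ (S : Subgroup G)) (hxZ : x ∈ (Subgroup.center ↥(Subgroup.normalizer ((Cfsg.thompsonSubgroupAOf (S : Subgroup G)) : Set G))).map (Subgroup.normalizer ((Cfsg.thompsonSubgroupAOf (S : Subgroup G)) : Set G)).subtype) (h : p ≠ 2 ∨ (∃ z ∈ (S : Subgroup G) ⊓ Subgroup.centralizer ((S : Subgroup G) : Set G), z ^ p = x) ∨ ¬ Cfsg.Involves (Equiv.Perm (Fin 4)) G) : ∀ g : G, g * x * g⁻¹ ∈ (S : Subgroup G) → g * x * g⁻¹ = x := by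
  classical
  obtain ⟨⟨n, hn⟩, hnc, rfl⟩ := hxZ
  have hfix : ∀ g ∈ Subgroup.normalizer ((Cfsg.thompsonSubgroupAOf (S : Subgroup G)) : Set G), g * n * g⁻¹ = n := by
    intro g hg
    have h1 := congrArg Subtype.val ((Subgroup.mem_center_iff.1 hnc) ⟨g, hg⟩)
    simp only [Subgroup.coe_mul] at h1
    rw [h1, mul_inv_cancel_right]
  have hSN : (S : Subgroup G) ≤ Subgroup.normalizer ((Cfsg.thompsonSubgroupAOf (S : Subgroup G)) : Set G) := fun g hg =>
    Lib.Fusion.mem_normalizer_of_conj_mem fun x hx => by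
      have := Lib.LocalP2.thompson_map_iso (Lib.Fusion.conjAut (S : Subgroup G) (Subgroup.le_normalizer hg))
        (x := ⟨x, Lib.LocalP2.thompson_le _ hx⟩) hx
      simpa using this
  have hxc : n ∈ (S : Subgroup G) ⊓ Subgroup.centralizer ((S : Subgroup G) : Set G) := by
    refine ⟨hxS, Subgroup.mem_centralizer_iff.2 fun s hs => ?_⟩
    exact mul_inv_eq_iff_eq_mul.1 (hfix s (hSN hs))
  have hF := Lib.LocalP2.fixed_group S hxc hfix h
  intro g hg
  refine hF (Subgroup.zpowers n) ((MulAut.conj g).toMonoidHom.comp (Subgroup.zpowers n).subtype)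
    ⟨Subgroup.zpowers_le.2 hxS, ?_, g, fun _ => rfl⟩ (Subgroup.mem_zpowers n)
  rintro ⟨_, k, rfl⟩
  show g * n ^ k * g⁻¹ ∈ (S : Subgroup G)
  rw [← conj_zpow]
  exact Subgroup.zpow_mem _ hg k

end Cfsg.Agent.S2799
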