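import Mathlib
import Cfsg.Statements.S2803
import Cfsg.Agent.Lib.LocalChar.YFactor

set_option autoImplicit false

open scoped commutatorElement Pointwise

open Cfsg.Agent.Lib.LocalChar

namespace Cfsg.Agent.S2803

/-- Let L be a finite group and p a prime with C_L(O_p(L)) ≤ O_p(L), T a Sylow p-subgroup, and Y the largest p-reduced normal subgroup of L. Put T_L = C_T(Y) and L_T = N_L(T_L). Then L = L_T · C_L(Y) (elementwise), T_L = O_p(L_T), and Y = Ω₁(Z(T_L)). -/
theorem result {L : Type*} [Group L] [Finite L] {p : ℕ} [Fact p.Prime] (hchar : Subgroup.centralizer (Cfsg.pCore p L : Set L) ≤ Cfsg.pCore p L) (T : Sylow p L) (Y : Subgroup L) (hY : (Cfsg.IsPReducedNormal p Y ∧ ∀ V : Subgroup L, Cfsg.IsPReducedNormal p V → V ≤ Y)) (TL : Subgroup L) (hTL : TL = (T : Subgroup L) ⊓ Subgroup.centralizer (Y : Set L)) : (∀ g : L, ∃ a ∈ Subgroup.normalizer (TL : Set L), ∃ c ∈ Subgroup.centralizer (Y : Set L), g = a * c) ∧ (Cfsg.pCore p ↥(Subgroup.normalizer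 (TL : Set L))).map (Subgroup.normalizer (TL : Set L)).subtype = TL ∧ Y = Cfsg.omegaOne p (TL ⊓ Subgroup.centralizer (TL : Set L)) := by
  obtain rfl : Y = YL p (⊤ : Subgroup L) := le_antisymm (isPReducedNormal_iff.1 hY.1).le_YL
    (hY.2 _ (isPReducedNormal_iff.2 (isPRedOf_YL ⊤)))
  subst hTL
  have hT := IsSylowIn.of_le T (le_top : (T : Subgroup L) ≤ ⊤)
  refine ⟨fun g => ?_, ?_, YL_eq_omZ_TL hT (isCharPOf_top.2 hchar)⟩
  · obtain ⟨a, ha, c, hc, e⟩ :=
      (mem_sup_iff_of_nz (inf_le_left.trans (le_nz_centralizer (isPRedOf_YL ⊤).nz))).1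
        (le_factor_TL hT (Subgroup.mem_top g))
    exact ⟨a, ha.2, c, hc, e⟩
  · have h := pCoreOf_nz_TL hT
    rwa [top_inf_eq] at h

end Cfsg.Agent.S2803
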