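import Mathlib
import Cfsg.Statements.S2804
import Cfsg.Agent.Lib.LocalChar.YFactor

set_option autoImplicit false

open scoped commutatorElement Pointwise

open Cfsg.Agent.Lib.LocalChar

namespace Cfsg.Agent.S2804

/-- Let L be a finite group and p a prime with C_L(O_p(L)) ≤ O_p(L), V a p-reduced normal subgroup of L and K a subnormal subgroup of L. Then [V, O^p(K)] is contained in K and is a p-reduced normal subgroup of K, where O^p(K) is the subgroup of K generated by its elements of order prime to p. -/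
theorem result {L : Type*} [Group L] [Finite L] {p : ℕ} [Fact p.Prime] (hchar : Subgroup.centralizer (Cfsg.pCore p L : Set L) ≤ Cfsg.pCore p L) (V : Subgroup L) (hV : Cfsg.IsPReducedNormal p V) (K : Subgroup L) (hK : K.IsSubnormal) : ⁅V, (Cfsg.pResidual p ↥K).map K.subtype⁆ ≤ K ∧ Cfsg.IsPReducedNormal p ((⁅V, (Cfsg.pResidual p ↥K).map K.subtype⁆).subgroupOf K) := by
  set K' := resOf p K with hK'
  set W := ⁅V, K'⁆
  set P := Cfsg.pCore p L
  obtain ⟨hVn, hVe, hCn, hq⟩ := hV
  have hVP : V ≤ P := le_pCore hVn (isPGroup_of_isEA hVe)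
  have hVK' : V ≤ Subgroup.normalizer (K' : Set L) := hVP.trans (pCore_le_nz_resOf hK)
  have hWK : W ≤ K' := commutator_le_right_of_nz hVK'
  have hWV : W ≤ V := commutator_le_left_of_nz Subgroup.le_normalizer_of_normal
  have hnW : K ≤ Subgroup.normalizer (W : Set L) :=
    le_nz_commutator Subgroup.le_normalizer_of_normal (le_nz_resOf K)
  refine ⟨hWK.trans (resOf_le K), (IsPRedOf.iff (hWK.trans (resOf_le K))).2
    ⟨hWK.trans (resOf_le K), hnW, isEA_of_le hVe hWV, fun D hD hn hpow => ?_⟩⟩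
  have hcop : ∀ x ∈ K, (orderOf x).Coprime p → x ∈ Subgroup.centralizer (W : Set L) →
      x ∈ Subgroup.centralizer (V : Set L) := by
    intro x hx ho hxc
    refine Subgroup.mem_centralizer_iff.2 fun v hv => (commute_of_chain (A := V) (B := W)
      (isPGroup_of_isEA hVe) (fun a ha => hVn.conj_mem a ha x) ho
      (fun b hb => (Subgroup.mem_centralizer_iff.1 hxc b hb).symm) (fun a ha => ?_) v hv).eq.symm
    have : a⁻¹ * (x * a * x⁻¹) = ⁅a⁻¹, x⁆ := by simp [commutatorElement_def, mul_assoc]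
    rw [this]
    exact Subgroup.commutator_mem_commutator (V.inv_mem ha) (mem_resOf hx ho)
  have hDC : ∀ x ∈ D, (orderOf x).Coprime p → x ∈ Subgroup.centralizer (V : Set L) := fun x hx ho =>
    hcop x (hD hx) ho (mem_of_coprime_of_pow ho (hpow x hx))
  have hDs : D.IsSubnormal := by
    refine Subgroup.IsSubnormal.trans hD (Subgroup.Normal.isSubnormal (normal_subgroupOf hn)) hK
  have hDV : ∀ x ∈ D, ∃ k : ℕ, x ^ p ^ k ∈ Subgroup.centralizer (V : Set L) := fun x hx => by
    obtain ⟨k, hk⟩ := pow_mem_resOf (p := p) hx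
    exact ⟨k, resOf_le_iff.2 hDC hk⟩
  refine le_trans ?_ (Subgroup.centralizer_le hWV)
  have hsub : (D.map (QuotientGroup.mk' (Subgroup.centralizer (V : Set L)))).IsSubnormal :=
    hDs.map (QuotientGroup.mk'_surjective _)
  have hle := le_pCore_of_subnormal hsub (p := p) (by
    rintro ⟨_, x, hx, rfl⟩
    obtain ⟨k, hk⟩ := hDV x hx
    refine ⟨k, Subtype.ext ?_⟩
    show (QuotientGroup.mk' _ x) ^ p ^ k = 1
    rw [← map_pow]; exact (QuotientGroup.eq_one_iff _).2 hk)
  rw [hq, le_bot_iff, Subgroup.map_eq_bot_iff, QuotientGroup.ker_mk'] at hle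
  exact hle

end Cfsg.Agent.S2804
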