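import Mathlib
import Cfsg.Statements.S2806
import Cfsg.Agent.Lib.LocalChar.CharPLocal
import Cfsg.Agent.Lib.LocalChar.PMinimal
import Cfsg.Agent.Lib.LocalP2.SubnormalJoin

set_option autoImplicit false

open scoped commutatorElement Pointwise

open Cfsg.Agent.Lib.LocalChar

namespace Cfsg.Agent.S2806

open Subgroup Cfsg.Agent.Lib.LocalChar Cfsg.Agent.Lib
open scoped IsMulCommutative

section
variable {H : Type*} [Group H] [Finite H] {p : ℕ} [hp : Fact p.Prime]

/-- Conjugation by an element of the normaliser, on `V`. -/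
def cjV (V : Subgroup H) (g : ↥(normalizer (V : Set H))) (x : ↥V) : ↥V :=
  ⟨(g : H) * x * (g : H)⁻¹, conj_mem_of_nz g.2 x.2⟩

/-- The transfer-like product over the cosets of `R` in `C`. -/
noncomputable def tr (V C R : Subgroup H) [IsMulCommutative ↥V] (hCV : C ≤ normalizer (V : Set H)) (x : ↥V) : ↥V :=
  letI := Fintype.ofFinite (↥C ⧸ R.subgroupOf C)
  ∏ q : ↥C ⧸ R.subgroupOf C, cjV V ⟨(q.out : H), hCV q.out.2⟩ x

variable {V C R : Subgroup H} [IsMulCommutative ↥V] {hCV : C ≤ normalizer (V : Set H)}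

theorem cjV_congr {x : ↥V} (hx : ∀ r ∈ R, r * (x : H) * r⁻¹ = x) {a b : ↥C}
    (h : (a : ↥C ⧸ R.subgroupOf C) = b) : (a : H) * x * (a : H)⁻¹ = (b : H) * x * (b : H)⁻¹ := by
  have h1 := hx _ (mem_subgroupOf.1 (QuotientGroup.eq.1 h))
  simp only [Subgroup.coe_mul, InvMemClass.coe_inv] at h1
  calc (a : H) * x * (a : H)⁻¹ = a * (((a : H)⁻¹ * b) * x * ((a : H)⁻¹ * b)⁻¹) * (a : H)⁻¹ := by rw [h1]
    _ = _ := by group

theorem tr_mul (x y : ↥V) : tr V C R hCV (x * y) = tr V C R hCV x * tr V C R hCV y := by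
  simp only [tr, ← Finset.prod_mul_distrib]
  refine Finset.prod_congr rfl fun q _ => Subtype.ext ?_
  simp only [cjV, Subgroup.coe_mul]
  group

theorem tr_const {x : ↥V} (h : ∀ c ∈ C, c * (x : H) * c⁻¹ = x) : tr V C R hCV x = x ^ R.relIndex C := by
  letI := Fintype.ofFinite (↥C ⧸ R.subgroupOf C)
  simp only [tr]
  rw [Finset.prod_congr rfl (fun q _ => (Subtype.ext (h _ q.out.2) : cjV V ⟨(q.out : H), hCV q.out.2⟩ x = x)),
    Finset.prod_const, Finset.card_univ, ← Nat.card_eq_fintype_card, Subgroup.relIndex, Subgroup.index]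

theorem tr_pow {x : ↥V} (h : x ^ p = 1) : tr V C R hCV x ^ p = 1 := by
  simp only [tr, ← Finset.prod_pow]
  refine Finset.prod_eq_one fun q _ => Subtype.ext ?_
  simp only [cjV, SubgroupClass.coe_pow, conj_pow, OneMemClass.coe_one]
  rw [← SubgroupClass.coe_pow, h, OneMemClass.coe_one, mul_one, mul_inv_cancel]

theorem tr_fixed {x : ↥V} (hx : ∀ r ∈ R, r * (x : H) * r⁻¹ = x) {c : H} (hc : c ∈ C) :
    c * (tr V C R hCV x : H) * c⁻¹ = tr V C R hCV x := by
  letI := Fintype.ofFinite (↥C ⧸ R.subgroupOf C)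
  let g : ↥(normalizer (V : Set H)) := ⟨c, hCV hc⟩
  let f : ↥V →* ↥V := MonoidHom.mk' (cjV V g) fun a b => Subtype.ext (by simp only [cjV, Subgroup.coe_mul]; group)
  suffices f (tr V C R hCV x) = tr V C R hCV x from congrArg Subtype.val this
  simp only [tr, map_prod]
  refine Fintype.prod_equiv (MulAction.toPerm (⟨c, hc⟩ : ↥C)) _ _ fun q => Subtype.ext ?_
  have h1 : ((⟨c, hc⟩ * q.out : ↥C) : ↥C ⧸ R.subgroupOf C) = ((((⟨c, hc⟩ : ↥C) • q).out : ↥C) : ↥C ⧸ R.subgroupOf C) := by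
    rw [QuotientGroup.out_eq', ← smul_eq_mul, ← MulAction.Quotient.smul_coe, QuotientGroup.out_eq']
  have h2 := cjV_congr hx h1
  simp only [Subgroup.coe_mul] at h2
  rw [show f (cjV V ⟨(q.out : H), hCV q.out.2⟩ x) = cjV V g (cjV V ⟨(q.out : H), hCV q.out.2⟩ x) from rfl]
  simp only [cjV, g, MulAction.toPerm_apply]
  rw [← h2]
  group

theorem tr_div_mem {K : Subgroup H} {x : ↥V} (h : ∀ c ∈ C, c * (x : H) * c⁻¹ * (x : H)⁻¹ ∈ K) :
    ((tr V C R hCV x * (x ^ R.relIndex C)⁻¹ : ↥V) : H) ∈ K := by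
  letI := Fintype.ofFinite (↥C ⧸ R.subgroupOf C)
  have : tr V C R hCV x * (x ^ R.relIndex C)⁻¹ =
      ∏ q : ↥C ⧸ R.subgroupOf C, cjV V ⟨(q.out : H), hCV q.out.2⟩ x * x⁻¹ := by
    rw [Finset.prod_mul_distrib, Finset.prod_const, Finset.card_univ, ← Nat.card_eq_fintype_card, inv_pow]
    rfl
  rw [this]
  exact (K.subgroupOf V).prod_mem fun q _ => mem_subgroupOf.2 (h _ q.out.2)

theorem tr_equiv {x y : ↥V} (hy : ∀ r ∈ R, r * (y : H) * r⁻¹ = y) {s : H} (hsV : s ∈ normalizer (V : Set H))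
    (hsC : s ∈ normalizer (C : Set H)) (hsR : s ∈ normalizer (R : Set H)) (hxy : (y : H) = s * x * s⁻¹) :
    (tr V C R hCV y : H) = s * (tr V C R hCV x : H) * s⁻¹ := by
  letI := Fintype.ofFinite (↥C ⧸ R.subgroupOf C)
  let f : ↥V →* ↥V := MonoidHom.mk' (cjV V ⟨s, hsV⟩) fun a b => Subtype.ext (by simp only [cjV, Subgroup.coe_mul]; group)
  suffices f (tr V C R hCV x) = tr V C R hCV y from (congrArg Subtype.val this).symm
  let φ : ↥C → ↥C := fun c => ⟨s * c * s⁻¹, conj_mem_of_nz hsC c.2⟩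
  let e : ↥C ≃ ↥C := ⟨φ, fun c => ⟨s⁻¹ * c * s⁻¹⁻¹, conj_mem_of_nz (inv_mem hsC) c.2⟩,
    fun c => Subtype.ext (by simp only [φ]; group), fun c => Subtype.ext (by simp only [φ]; group)⟩
  let E : (↥C ⧸ R.subgroupOf C) ≃ (↥C ⧸ R.subgroupOf C) := Quotient.congr e fun a b => by
    change (QuotientGroup.leftRel _).r a b ↔ (QuotientGroup.leftRel _).r (e a) (e b)
    rw [QuotientGroup.leftRel_apply, QuotientGroup.leftRel_apply, mem_subgroupOf, mem_subgroupOf,
      mem_nz.1 hsR ((a⁻¹ * b : ↥C) : H)]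
    simp only [e, φ, Equiv.coe_fn_mk, Subgroup.coe_mul, InvMemClass.coe_inv]
    group
  simp only [tr, map_prod]
  refine Fintype.prod_equiv E _ _ fun q => Subtype.ext ?_
  have h1 : ((e q.out : ↥C) : ↥C ⧸ R.subgroupOf C) = (((E q).out : ↥C) : ↥C ⧸ R.subgroupOf C) := by
    rw [QuotientGroup.out_eq']
    conv_rhs => rw [← QuotientGroup.out_eq' q]
    rfl
  rw [show f (cjV V ⟨(q.out : H), hCV q.out.2⟩ x) = cjV V ⟨s, hsV⟩ (cjV V ⟨(q.out : H), hCV q.out.2⟩ x) from rfl]
  simp only [cjV]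
  rw [← cjV_congr hy h1]
  simp only [e, φ, Equiv.coe_fn_mk, hxy]
  group

omit [IsMulCommutative ↥V]

/-- `Ω₁(Z(T))`. -/
abbrev zen (p : ℕ) (T : Subgroup H) : Subgroup H := Cfsg.omegaOne p (T ⊓ centralizer (T : Set H))

theorem zen_le (T : Subgroup H) : zen p T ≤ T ⊓ centralizer (T : Set H) := (closure_le _).2 fun _ hx => hx.1

theorem mem_zen {T : Subgroup H} {x : H} : x ∈ zen p T ↔ x ∈ T ⊓ centralizer (T : Set H) ∧ x ^ p = 1 := by
  refine ⟨fun h => ?_, fun h => subset_closure ⟨h.1, h.2⟩⟩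
  refine ⟨zen_le T h, closure_induction (fun y hy => hy.2) (one_pow p) (fun a b ha hb iha ihb => ?_)
    (fun a _ iha => by rw [inv_pow, iha, inv_one]) h⟩
  rw [Commute.mul_pow (mem_centralizer_iff.1 (zen_le T hb).2 a (zen_le T ha).1), iha, ihb, mul_one]

theorem zen_ne_bot {T : Subgroup H} (hT : IsPGroup p T) (h : T ≠ ⊥) : zen p T ≠ ⊥ := by
  obtain ⟨z, hz, hzo, hzc⟩ := exists_orderP_fixed hT hT le_normalizer h
  intro e
  have : z ∈ zen p T := mem_zen.2 ⟨⟨hz, hzc⟩, orderOf_dvd_iff_pow_eq_one.1 hzo.dvd⟩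
  rw [e, mem_bot] at this
  rw [this, orderOf_one] at hzo
  exact hp.out.one_lt.ne hzo

theorem charP_local (hH : Cfsg.IsOfLocalCharacteristic p H) {T X : Subgroup H} (hT : IsPGroup p T) (hne : T ≠ ⊥)
    (hX : X.IsSubnormal) : IsCharPOf p (X ⊓ normalizer (T : Set H)) := by
  have h1 : Char2.CharP p ↥(normalizer (T : Set H)) := Char2.charP_iff.2 (hH.2 T hT hne)
  have h2 := Char2.charP_subnormal h1 (N := X.subgroupOf (normalizer (T : Set H))) hX.subgroupOf
  rw [show X.subgroupOf (normalizer (T : Set H)) = (X ⊓ normalizer (T : Set H)).subgroupOf (normalizer (T : Set H))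
    from (inf_subgroupOf_right _ _).symm] at h2
  exact Cfsg.Agent.Lib.LocalChar.charP_iff.1 (Char2.charP_iff.1 (Char2.charP_of_equiv (Subgroup.subgroupOfEquivOfLe inf_le_right) h2))

/-- One normal step. -/
theorem step (hH : Cfsg.IsOfLocalCharacteristic p H) {L K S : Subgroup H} (hS : IsSylowIn p S L)
    (hKL : K ≤ L) (hn : L ≤ normalizer (K : Set H)) (hL : L.IsSubnormal) (hR : S ⊓ K ≠ ⊥) :
    K ⊓ centralizer (zen p (S ⊓ K) : Set H) = K ⊓ centralizer (zen p S : Set H) := by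
  set R := S ⊓ K with hRdef
  have hKs : K.IsSubnormal := Subgroup.IsSubnormal.step K L hKL hL (normal_subgroupOf hn)
  have hRK : IsSylowIn p R K := hS.inf hKL hn
  have hRp : IsPGroup p R := hRK.2.1
  have hSp : IsPGroup p S := hS.2.1
  set U := zen p R with hU
  set Z := zen p S with hZ
  have hUp : IsPGroup p U := hRp.to_le ((zen_le R).trans inf_le_left)
  have hZp : IsPGroup p Z := hSp.to_le ((zen_le S).trans inf_le_left)
  have hSne : S ≠ ⊥ := fun e => hR (by rw [hRdef, e, bot_inf_eq])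
  have hSR : S ≤ normalizer (R : Set H) := le_nz_inf le_normalizer (hS.1.trans hn)
  have hSU : S ≤ normalizer (U : Set H) := le_nz_omegaOne (le_nz_inf hSR (le_nz_centralizer hSR))
  have hcoprime : ∀ {X : Subgroup H}, R ≤ X → X ≤ K → (R.relIndex X).Coprime p := fun hRX hXK =>
    coprime_of_not_dvd fun hd => hRK.2.2 (hd.trans (Dvd.intro _ (relIndex_mul_relIndex _ _ _ hRX hXK)))
  refine le_antisymm (le_inf inf_le_left ?_) (le_inf inf_le_left ?_)
  · set C := K ⊓ centralizer (U : Set H) with hC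
    set M := L ⊓ normalizer (U : Set H) with hM
    set O := Cfsg.pCoreOf p M with hO
    have hRC : R ≤ C := le_inf inf_le_right fun r hr => mem_centralizer_iff.2 fun u hu =>
      (mem_centralizer_iff.1 (zen_le R hu).2 r hr).symm
    have hCM : C ≤ M := le_inf (inf_le_left.trans hKL) (inf_le_right.trans (centralizer_le_normalizer _))
    have hSM : S ≤ M := le_inf hS.1 hSU
    have hSylM : IsSylowIn p S M := ⟨hSM, hSp, fun hd => hS.2.2 (hd.trans
      (Dvd.intro _ (relIndex_mul_relIndex _ _ _ hSM inf_le_left)))⟩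
    have hOS : O ≤ S := pCoreOf_le_sylowIn hSylM
    set V := O ⊓ centralizer (O : Set H) with hV
    haveI : IsMulCommutative ↥V := ⟨⟨fun a b => Subtype.ext (mem_centralizer_iff.1 b.2.2 a a.2.1)⟩⟩
    have hCV : C ≤ normalizer (V : Set H) :=
      hCM.trans (le_nz_inf (le_nz_pCoreOf M) (le_nz_centralizer (le_nz_pCoreOf M)))
    have hZV : Z ≤ V := by
      intro z hz
      have h1 : z ∈ centralizer (O : Set H) := centralizer_le (SetLike.coe_subset_coe.2 hOS) (zen_le S hz).2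
      exact ⟨charP_local hH hUp (zen_ne_bot hRp hR) hL ⟨hSM (zen_le S hz).1, h1⟩, h1⟩
    intro c hc
    refine mem_centralizer_iff.2 fun z hz => ?_
    have hfix : ∀ r ∈ R, r * z * r⁻¹ = z := fun r hr => by
      rw [mem_centralizer_iff.1 (zen_le S hz).2 r hr.1, mul_inv_cancel_right]
    set zV : ↥V := ⟨z, hZV hz⟩
    set n := R.relIndex C
    have hd := tr_div_mem (K := K) (R := R) (hCV := hCV) (x := zV) fun c hc => by
      rw [show c * (zV : H) * c⁻¹ * (zV : H)⁻¹ = c * (z * c⁻¹ * z⁻¹) by simp only [zV]; group]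
      exact mul_mem hc.1 (conj_mem_of_nz (hn (hS.1 (zen_le S hz).1)) (inv_mem hc.1))
    have hdU : ((tr V C R hCV zV * (zV ^ n)⁻¹ : ↥V) : H) ∈ U := by
      have hzp : zV ^ p = 1 := Subtype.ext (mem_zen.1 hz).2
      refine mem_zen.2 ⟨⟨⟨hOS (tr V C R hCV zV * (zV ^ n)⁻¹).2.1, hd⟩, mem_centralizer_iff.2 fun r hr => ?_⟩, ?_⟩
      · have h2 : Commute r (tr V C R hCV zV : H) :=
          mul_inv_eq_iff_eq_mul.1 (tr_fixed (x := zV) (hCV := hCV) hfix (hRC hr))
        have h3 : Commute r (z ^ n)⁻¹ := (Commute.pow_right (mul_inv_eq_iff_eq_mul.1 (hfix r hr)) n).inv_right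
        exact (h2.mul_right h3).eq
      · rw [← SubgroupClass.coe_pow, mul_pow, tr_pow hzp, inv_pow, ← pow_mul, mul_comm n p, pow_mul, hzp]
        simp
    have h4 : Commute c (z ^ n)⁻¹ := by
      have h5 : Commute c (tr V C R hCV zV : H) := mul_inv_eq_iff_eq_mul.1 (tr_fixed (x := zV) (hCV := hCV) hfix hc)
      have h6 : Commute c ((tr V C R hCV zV * (zV ^ n)⁻¹ : ↥V) : H) := (mem_centralizer_iff.1 hc.2 _ hdU).symm
      have := h5.inv_right.mul_right h6
      simpa [zV] using this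
    have h7 : z ∈ centralizer ({c} : Set H) := mem_of_pow_coprime (n := n) (hcoprime hRC inf_le_left)
      ⟨1, by rw [pow_one, (mem_zen.1 hz).2]; exact one_mem _⟩
      (mem_centralizer_singleton_iff.2 (by simpa using h4.inv_right.eq.symm))
    exact mem_centralizer_singleton_iff.1 h7
  · set C := K ⊓ centralizer (Z : Set H) with hC
    set N := K ⊓ normalizer (Z : Set H) with hN
    set O := Cfsg.pCoreOf p N with hO
    have hSZ : S ≤ centralizer (Z : Set H) := fun s hs => mem_centralizer_iff.2 fun z hz =>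
      (mem_centralizer_iff.1 (zen_le S hz).2 s hs).symm
    have hRC : R ≤ C := le_inf inf_le_right (inf_le_left.trans hSZ)
    have hCN : C ≤ N := inf_le_inf le_rfl (centralizer_le_normalizer _)
    have hSylN : IsSylowIn p R N := ⟨hRC.trans hCN, hRp, fun hd => hRK.2.2 (hd.trans
      (Dvd.intro _ (relIndex_mul_relIndex _ _ _ (hRC.trans hCN) inf_le_left)))⟩
    set V := O ⊓ centralizer (O : Set H) with hV
    haveI : IsMulCommutative ↥V := ⟨⟨fun a b => Subtype.ext (mem_centralizer_iff.1 b.2.2 a a.2.1)⟩⟩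
    have hNV : normalizer (N : Set H) ≤ normalizer (V : Set H) :=
      le_nz_inf (nz_le_nz_pCoreOf N) (le_nz_centralizer (nz_le_nz_pCoreOf N))
    have hCV : C ≤ normalizer (V : Set H) := (hCN.trans le_normalizer).trans hNV
    have hSC : S ≤ normalizer (C : Set H) :=
      le_nz_inf (hS.1.trans hn) (le_nz_centralizer (hSZ.trans (centralizer_le_normalizer _)))
    have hSN : S ≤ normalizer (V : Set H) :=
      (le_nz_inf (hS.1.trans hn) ((hSZ.trans (centralizer_le_normalizer _)).trans le_normalizer)).trans hNV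
    have hUV : U ≤ V := by
      intro u hu
      have h1 : u ∈ centralizer (O : Set H) :=
        centralizer_le (SetLike.coe_subset_coe.2 (pCoreOf_le_sylowIn hSylN)) (zen_le R hu).2
      exact ⟨charP_local hH hZp (zen_ne_bot hSp hSne) hKs ⟨hCN (hRC (zen_le R hu).1), h1⟩, h1⟩
    haveI : Group.IsNilpotent ↥S := hSp.isNilpotent
    obtain ⟨m, hm⟩ := Group.IsNilpotent.nilpotent (G := ↥S)
    have key : ∀ (i : ℕ) (u : ↥S), u ∈ Subgroup.upperCentralSeries ↥S i → (u : H) ∈ U →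
        ∀ c ∈ C, Commute c (u : H) := by
      intro i
      induction i with
      | zero =>
        intro u hu _ c _
        rw [Subgroup.upperCentralSeries_zero, mem_bot] at hu
        rw [hu]; exact Commute.one_right c
      | succ i ih =>
        intro u hu huU c hc
        set uV : ↥V := ⟨u, hUV huU⟩
        set a := tr V C R hCV uV with ha
        set n := R.relIndex C
        have hfix : ∀ w ∈ U, ∀ r ∈ R, r * w * r⁻¹ = w := fun w hw r hr => by
          rw [mem_centralizer_iff.1 (zen_le R hw).2 r hr, mul_inv_cancel_right]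
        have hv : ((uV ^ n * a⁻¹ : ↥V) : H) ∈ Z := by
          have hvp : (uV ^ n * a⁻¹) ^ p = 1 := by
            have hp1 : uV ^ p = 1 := Subtype.ext (mem_zen.1 huU).2
            rw [mul_pow, inv_pow, tr_pow hp1, ← pow_mul, mul_comm n p, pow_mul, hp1]; simp
          have hvS : ((uV ^ n * a⁻¹ : ↥V) : H) ∈ S :=
            (pCoreOf_le_sylowIn hSylN (uV ^ n * a⁻¹).2.1).1
          refine mem_zen.2 ⟨⟨hvS, mem_centralizer_iff.2 fun s hs => ?_⟩, by
            rw [← SubgroupClass.coe_pow, hvp, OneMemClass.coe_one]⟩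
          have hdU : s * u * s⁻¹ * (u : H)⁻¹ ∈ U :=
            mul_mem (conj_mem_of_nz (hSU hs) huU) (inv_mem huU)
          have hdi : (⟨s, hs⟩ * u * ⟨s, hs⟩⁻¹ * u⁻¹ : ↥S) ∈ Subgroup.upperCentralSeries ↥S i := by
            have := Subgroup.inv_mem _ ((Subgroup.mem_upperCentralSeries_succ_iff).1 hu ⟨s, hs⟩)
            simpa [commutatorElement_def, mul_inv_rev, mul_assoc] using this
          set dV : ↥V := ⟨_, hUV hdU⟩
          have hdc : ∀ c ∈ C, c * (dV : H) * c⁻¹ = dV := fun c hc =>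
            mul_inv_eq_iff_eq_mul.2 (ih _ hdi hdU c hc).eq
          have e1 : ((uV * dV : ↥V) : H) = s * (uV : H) * s⁻¹ := by
            rw [mul_comm uV dV]; simp only [Subgroup.coe_mul, dV, uV]; group
          have e2 := tr_equiv (hCV := hCV) (R := R) (x := uV) (y := uV * dV)
            (hfix _ (mul_mem huU hdU)) (hSN hs) (hSC hs) (hSR hs) e1
          rw [tr_mul, tr_const hdc] at e2
          have e3 : s * ((uV ^ n * a⁻¹ : ↥V) : H) * s⁻¹ = ((uV ^ n * a⁻¹ : ↥V) : H) := by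
            have e4 : (s * (uV : H) * s⁻¹) ^ n = ((uV * dV : ↥V) : H) ^ n := by rw [e1]
            calc s * ((uV ^ n * a⁻¹ : ↥V) : H) * s⁻¹ = (s * (uV : H) * s⁻¹) ^ n * (s * (a : H) * s⁻¹)⁻¹ := by
                  rw [conj_pow]; simp only [Subgroup.coe_mul, SubgroupClass.coe_pow, InvMemClass.coe_inv]; group
              _ = (((uV * dV) ^ n * (a * dV ^ n)⁻¹ : ↥V) : H) := by
                  rw [e4, ← e2]; simp [n, ha]
              _ = _ := by
                  congr 1
                  rw [mul_pow, mul_inv, mul_mul_mul_comm, mul_inv_cancel, mul_one]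
          exact mul_inv_eq_iff_eq_mul.1 e3
        have h1 : Commute c (((uV ^ n * a⁻¹ : ↥V) : H)) := (mem_centralizer_iff.1 hc.2 _ hv).symm
        have h2 : Commute c (a : H) := mul_inv_eq_iff_eq_mul.1 (tr_fixed (x := uV) (hCV := hCV) (hfix _ huU) hc)
        have h3 : Commute c ((u : H) ^ n) := by
          have := h1.mul_right h2
          simpa [uV] using this
        have h7 : (u : H) ∈ centralizer ({c} : Set H) := mem_of_pow_coprime (n := n) (hcoprime hRC inf_le_left)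
          ⟨1, by rw [pow_one, (mem_zen.1 huU).2]; exact one_mem _⟩ (mem_centralizer_singleton_iff.2 h3.eq.symm)
        exact (mem_centralizer_singleton_iff.1 h7).symm
    intro c hc
    refine mem_centralizer_iff.2 fun u hu => ?_
    exact (key m ⟨u, (zen_le R hu).1.1⟩ (hm ▸ mem_top _) hu c hc).eq.symm

theorem cen_eq (hH : Cfsg.IsOfLocalCharacteristic p H) (T : Sylow p H) {K : Subgroup H} (hK : K.IsSubnormal) :
    (T : Subgroup H) ⊓ K ≠ ⊥ →
      K ⊓ centralizer (zen p ((T : Subgroup H) ⊓ K) : Set H) = K ⊓ centralizer (zen p (T : Subgroup H) : Set H) := by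
  induction hK with
  | top => intro; simp only [inf_top_eq]
  | step A B hle hB hn ih =>
    intro hne
    have h1 := step hH (IsSylowIn.inf_subnormal T hB) hle (le_nz_pointwise hle hn) hB
      (by rwa [inf_assoc, inf_eq_right.2 hle])
    rw [inf_assoc, inf_eq_right.2 hle] at h1
    have h2 := ih (fun e => hne (le_bot_iff.1 ((inf_le_inf le_rfl hle).trans e.le)))
    rw [h1]
    calc A ⊓ centralizer (zen p ((T : Subgroup H) ⊓ B) : Set H)
        = A ⊓ (B ⊓ centralizer (zen p ((T : Subgroup H) ⊓ B) : Set H)) := by rw [← inf_assoc, inf_eq_left.2 hle]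
      _ = _ := by rw [h2, ← inf_assoc, inf_eq_left.2 hle]

/-- The subgroup generated by the `p`-elements. -/
def pgen (p : ℕ) (X : Subgroup H) : Subgroup H := closure {x : H | x ∈ X ∧ ∃ k : ℕ, orderOf x = p ^ k}

theorem pgen_le (X : Subgroup H) : pgen p X ≤ X := (closure_le _).2 fun _ h => h.1

theorem le_nz_pgen (X : Subgroup H) : X ≤ normalizer (pgen p X : Set H) :=
  le_nz_closure fun n hn s hs => subset_closure
    ⟨mul_mem (mul_mem hn hs.1) (inv_mem hn), by rw [orderOf_conj']; exact hs.2⟩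

theorem pointStab_eq (hH : Cfsg.IsOfLocalCharacteristic p H) (T : Sylow p H) {X : Subgroup H} (hX : X.IsSubnormal) :
    Cfsg.pointStabilizer p X ((T : Subgroup H) ⊓ X) = pgen p (X ⊓ centralizer (zen p (T : Subgroup H) : Set H)) := by
  by_cases hne : (T : Subgroup H) ⊓ X = ⊥
  · have h1 : ∀ x ∈ X, (∃ k : ℕ, orderOf x = p ^ k) → x = 1 := by
      intro x hx ⟨k, hk⟩
      have hp' : IsPGroup p (zpowers x) := IsPGroup.of_card (n := k) (by rw [Nat.card_zpowers, hk])
      obtain ⟨y, hy, hle⟩ := (IsSylowIn.inf_subnormal T hX).conj_le hp' (zpowers_le.2 hx)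
      have h3 := hle (conj_mem_cj (g := y) (mem_zpowers x))
      rw [hne, mem_bot] at h3
      simpa using h3
    have h2 : ∀ Y, Y ≤ X → closure {x : H | x ∈ Y ∧ ∃ k : ℕ, orderOf x = p ^ k} = ⊥ := fun Y hY =>
      le_bot_iff.1 ((closure_le _).2 fun x hx => h1 x (hY hx.1) hx.2)
    rw [pgen, h2 _ inf_le_left]
    exact h2 _ inf_le_left
  · rw [Cfsg.pointStabilizer, pgen, ← cen_eq hH T hX hne]

theorem subnormal_contains {G : Type*} [Group G] [Finite G] {P Q : Subgroup G} (R : Sylow p G)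
    (hQ : Q.IsSubnormal) (hPQ : P ≤ Q) (hP : IsSylowIn p P ⊤) : (R : Subgroup G) ≤ Q := by
  have hPQ' : IsSylowIn p P Q := ⟨hPQ, hP.2.1, fun hd => hP.2.2 (hd.trans
    (Dvd.intro _ (relIndex_mul_relIndex _ _ _ hPQ le_top)))⟩
  have h1 := (IsSylowIn.inf_subnormal R hQ).card_eq hPQ'
  have h2 := (IsSylowIn.of_le R (le_top : (R : Subgroup G) ≤ ⊤)).card_eq hP
  exact inf_eq_left.1 (eq_of_le_of_card_ge inf_le_left (by rw [h1, h2]))

end


/-- Let H be a finite group of local characteristic p, T a Sylow p-subgroup, and L₁, L₂ subnormal subgroups of H generating the subgroup L. Then the point stabilizer of L with respect to T ∩ L is generated by the point stabilizers of L₁ and L₂ with respect to T ∩ L₁ and T ∩ L₂ (point stabilizer of X w.r.t. R: the subgroup generated by the p-elements of X centralizing Ω₁(Z(R))). -/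
theorem result {H : Type*} [Group H] [Finite H] {p : ℕ} [Fact p.Prime] (hH : Cfsg.IsOfLocalCharacteristic p H) (T : Sylow p H) (L₁ L₂ : Subgroup H) (h₁ : L₁.IsSubnormal) (h₂ : L₂.IsSubnormal) : Cfsg.pointStabilizer p (L₁ ⊔ L₂) ((T : Subgroup H) ⊓ (L₁ ⊔ L₂)) = Cfsg.pointStabilizer p L₁ ((T : Subgroup H) ⊓ L₁) ⊔ Cfsg.pointStabilizer p L₂ ((T : Subgroup H) ⊓ L₂) := by
  set C := centralizer (zen p (T : Subgroup H) : Set H)
  have hL : (L₁ ⊔ L₂).IsSubnormal := GS.isSubnormal_sup h₁ h₂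
  rw [pointStab_eq hH T hL, pointStab_eq hH T h₁, pointStab_eq hH T h₂]
  refine le_antisymm ?_ (sup_le (closure_mono fun x hx => ⟨⟨le_sup_left (α := Subgroup H) hx.1.1, hx.1.2⟩, hx.2⟩)
    (closure_mono fun x hx => ⟨⟨le_sup_right (α := Subgroup H) hx.1.1, hx.1.2⟩, hx.2⟩))
  set M := (L₁ ⊔ L₂) ⊓ C with hM
  set Q := pgen p (L₁ ⊓ C) ⊔ pgen p (L₂ ⊓ C) with hQ
  have hsub : ∀ X, X ≤ L₁ ⊔ L₂ → X.IsSubnormal → ((pgen p (X ⊓ C)).subgroupOf M).IsSubnormal := by
    intro X hXL hX
    have h1 : ((X ⊓ C).subgroupOf M).IsSubnormal := by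
      have : (X ⊓ C).subgroupOf M = X.subgroupOf M := by
        rw [← inf_subgroupOf_right, ← inf_subgroupOf_right X]
        congr 1
        rw [hM, inf_assoc, inf_comm C, inf_assoc, inf_idem]
      rw [this]; exact hX.subgroupOf
    refine Subgroup.IsSubnormal.step _ _ (comap_mono (pgen_le _)) h1 (normal_subgroupOf ?_)
    intro x hx
    have := le_nz_pgen (p := p) (X ⊓ C) hx
    refine mem_nz.2 fun y => ?_
    exact mem_nz.1 this (y : H)
  have hQM : Q ≤ M := sup_le ((pgen_le _).trans (inf_le_inf le_sup_left le_rfl))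
    ((pgen_le _).trans (inf_le_inf le_sup_right le_rfl))
  have hQs : (Q.subgroupOf M).IsSubnormal := by
    rw [subgroupOf_sup (le_sup_left.trans hQM) (le_sup_right.trans hQM)]
    exact GS.isSubnormal_sup (hsub _ le_sup_left h₁) (hsub _ le_sup_right h₂)
  have hTC : (T : Subgroup H) ≤ C := fun t ht => mem_centralizer_iff.2 fun z hz =>
    (mem_centralizer_iff.1 (zen_le _ hz).2 t ht).symm
  have hJ := LocalP2.sylow_join_subnormal (Nat.card H) H rfl p T L₁ L₂ h₁ h₂
  set P := (L₁ ⊓ (T : Subgroup H)) ⊔ (L₂ ⊓ (T : Subgroup H))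
  have hPQ : P ≤ Q := by
    refine sup_le_sup ?_ ?_ <;> intro x hx <;>
      exact subset_closure ⟨⟨hx.1, hTC hx.2⟩, (IsPGroup.iff_orderOf.1 T.isPGroup') ⟨x, hx.2⟩ |>.imp fun k hk => by
        rwa [← orderOf_coe] at hk⟩
  have hP : IsSylowIn p (P.subgroupOf M) ⊤ := by
    refine ⟨le_top, isPGroup_subgroupOf hJ.2.1, ?_⟩
    rw [relIndex_top_right]
    exact fun hd => hJ.2.2 (hd.trans (Dvd.intro _ (relIndex_mul_relIndex _ _ _ (hPQ.trans hQM) inf_le_left)))
  refine (closure_le _).2 fun x ⟨hx, k, hk⟩ => ?_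
  have hxp : IsPGroup p (zpowers (⟨x, hx⟩ : ↥M)) := by
    refine IsPGroup.of_card (n := k) ?_
    rw [Nat.card_zpowers, ← hk, ← orderOf_coe]
  obtain ⟨R, hR⟩ := hxp.exists_le_sylow
  exact mem_subgroupOf.1 (subnormal_contains R hQs (comap_mono hPQ) hP
    (hR (mem_zpowers _)))

end Cfsg.Agent.S2806
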