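import Mathlib
import Cfsg.Statements.S2810
import Cfsg.Agent.Lib.LocalChar.YL
import Cfsg.Agent.Lib.LocalChar.Subnormal

set_option autoImplicit false

open scoped commutatorElement Pointwise

open Cfsg.Agent.Lib.LocalChar

namespace Cfsg.Agent.S2810

/-- Let H be a finite group of characteristic p and L a subgroup of H centralizing every factor of some H-invariant chain 1 = A₀ ≤ A₁ ≤ … ≤ Aₙ = O_p(H) of normal subgroups (that is, [A_{i+1}, L] ≤ Aᵢ for each i). Then L ≤ O_p(H). -/
theorem result {H : Type*} [Group H] [Finite H] {p : ℕ} [Fact p.Prime] (hchar : Subgroup.centralizer (Cfsg.pCore p H : Set H) ≤ Cfsg.pCore p H) (L : Subgroup H) (n : ℕ) (A : Fin (n + 1) → Subgroup H) (h0 : A 0 = ⊥) (hn : A (Fin.last n) = Cfsg.pCore p H) (hmono : Monotone A) (hnorm : ∀ i, (A i).Normal) (hcent : ∀ i : Fin n, ⁅A i.succ, L⁆ ≤ A i.castSucc) : L ≤ Cfsg.pCore p H := by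
  classical
  let D : Subgroup H :=
    { carrier := {x | ∀ i : Fin n, ∀ a ∈ A i.succ, ⁅a, x⁆ ∈ A i.castSucc}
      one_mem' := fun i a _ => by simp
      mul_mem' := fun {x y} hx hy i a ha => by
        have : ⁅a, x * y⁆ = ⁅a, x⁆ * (x * ⁅a, y⁆ * x⁻¹) := by simp [commutatorElement_def, mul_assoc]
        rw [this]
        exact mul_mem (hx i a ha) ((hnorm _).conj_mem _ (hy i a ha) x)
      inv_mem' := fun {x} hx i a ha => by
        rw [commutatorElement_inv_right, ← commutatorElement_inv]
        simpa using (hnorm _).conj_mem _ (inv_mem (hx i a ha)) x⁻¹ }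
  have hDn : D.Normal := ⟨fun x hx g i a ha => by
    have h2 := (hnorm _).conj_mem _ (hx i (g⁻¹ * a * g) (by simpa using (hnorm _).conj_mem a ha g⁻¹)) g
    have : ⁅a, g * x * g⁻¹⁆ = g * ⁅g⁻¹ * a * g, x⁆ * g⁻¹ := by
      simp [commutatorElement_def, mul_assoc]
    rw [this]; exact h2⟩
  have hDp : IsPGroup p D := by
    rw [isPGroup_iff_forall_coprime]
    intro x hx ho
    have key : ∀ i : Fin (n + 1), ∀ a ∈ A i, Commute x a := by
      intro i
      induction i using Fin.induction with
      | zero => intro a ha; rw [h0, Subgroup.mem_bot] at ha; subst ha; exact Commute.one_right x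
      | succ i ih =>
        refine commute_of_chain (pCore_isPGroup.to_le (hn ▸ hmono (Fin.le_last _)))
          (fun a ha => (hnorm _).conj_mem a ha x) ho ih fun a ha => ?_
        have : a⁻¹ * (x * a * x⁻¹) = ⁅a⁻¹, x⁆ := by simp [commutatorElement_def, mul_assoc]
        rw [this]; exact hx i _ (inv_mem ha)
    refine eq_one_of_isPGroup_of_coprime pCore_isPGroup (hchar ?_) ho
    refine Subgroup.mem_centralizer_iff.2 fun a ha => ?_
    exact (key (Fin.last n) a (by rw [hn]; exact ha)).eq.symm
  exact fun x hx => le_pCore hDn hDp fun i a ha => hcent i (Subgroup.commutator_mem_commutator ha hx)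

end Cfsg.Agent.S2810
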