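import Mathlib
import Cfsg.Statements.S2812
import Cfsg.Agent.Lib.LocalChar.FStar

set_option autoImplicit false

open scoped commutatorElement Pointwise

open Cfsg.Agent.Lib.LocalChar

namespace Cfsg.Agent.S2812

open Subgroup Cfsg.Agent.Lib.Components Cfsg.Agent.Lib.LocalChar

/-- Let H be a subgroup of the finite group G with O_p(H) = 1, Y a p-subgroup of G normalizing H, and L a subgroup of the generalized Fitting subgroup F*(H) that is subnormal in H and normalized by Y. Then L = [L, Y]·C_L(Y) and [L, Y] = [L, Y, Y]. -/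
theorem result {G : Type*} [Group G] [Finite G] {p : ℕ} [Fact p.Prime] (H : Subgroup G) (hO : Cfsg.pCore p ↥H = ⊥) (Y : Subgroup G) (hY : IsPGroup p ↥Y) (hYH : Y ≤ Subgroup.normalizer (H : Set G)) (L : Subgroup G) (hLF : L ≤ (Cfsg.generalizedFittingSubgroup ↥H).map H.subtype) (hLsn : (L.subgroupOf H).IsSubnormal) (hYL : Y ≤ Subgroup.normalizer (L : Set G)) : ⁅L, Y⁆ ⊔ (L ⊓ Subgroup.centralizer (Y : Set G)) = L ∧ ⁅L, Y⁆ = ⁅⁅L, Y⁆, Y⁆ := by
  haveI := fittingSubgroup_nilpotent (G := ↥H)
  set N := normalizer (H : Set G) with hN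
  have hHN : H ≤ N := le_normalizer
  haveI hHn : (H.subgroupOf N).Normal := normal_in_normalizer
  have hLH : L ≤ H := hLF.trans (map_subtype_le _)
  have hLN : L ≤ N := hLH.trans hHN
  set H' := H.subgroupOf N with hH'
  let e : ↥H' ≃* ↥H := subgroupOfEquivOfLe hHN
  have hcomp : (N.subtype.comp H'.subtype).comp e.symm.toMonoidHom = H.subtype := by
    ext x
    rfl
  have hmapH : ∀ K : Subgroup ↥H, (K.map e.symm.toMonoidHom).map H'.subtype = (K.map H.subtype).subgroupOf N := by
    intro K
    apply map_injective N.subtype_injective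
    rw [map_subgroupOf_eq_of_le ((map_subtype_le _).trans hHN), map_map, map_map, hcomp]
  set L' := L.subgroupOf N with hL'
  have hH'sn : H'.IsSubnormal := hHn.isSubnormal
  have hsub : L'.IsSubnormal := by
    have h1 : ((L.subgroupOf H).map e.symm.toMonoidHom).IsSubnormal := hLsn.map e.symm.surjective
    have h2 := h1.trans' hH'sn
    rwa [hmapH, map_subgroupOf_eq_of_le hLH] at h2
  have hF' : L' ≤ Cfsg.generalizedFittingSubgroup ↥N := by
    refine le_trans ?_ (gfs_le_of_subnormal hH'sn)
    refine le_trans ?_ (map_mono (gfs_map_le e.symm.toMonoidHom e.symm.surjective))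
    rw [hmapH]
    exact fun x hx => hLF hx
  have hp' : ¬ p ∣ Nat.card ↥(Cfsg.fittingSubgroup ↥N ⊓ L') := by
    intro hd
    have hle : Cfsg.fittingSubgroup ↥N ⊓ L' ≤ ((Cfsg.fittingSubgroup ↥H).map H.subtype).subgroupOf N := by
      refine le_trans (inf_le_inf_left _ (comap_mono hLH : L' ≤ H')) ?_
      refine le_trans (fitting_inf_le_of_subgroup H') ?_
      refine le_trans (map_mono ?_) (hmapH _).le
      intro x hx
      refine ⟨e x, fittingSubgroup_map_le e.toMonoidHom e.surjective (mem_map_of_mem _ hx), e.symm_apply_apply x⟩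
    have hd1 := hd.trans (card_dvd_of_le hle)
    rw [Nat.card_congr (subgroupOfEquivOfLe ((map_subtype_le _).trans hHN)).toEquiv,
      card_map_of_injective H.subtype_injective] at hd1
    obtain ⟨P⟩ : Nonempty (Sylow p ↥(Cfsg.fittingSubgroup ↥H)) := inferInstance
    have hPn : (P : Subgroup ↥(Cfsg.fittingSubgroup ↥H)).Normal :=
      Sylow.normal_of_normalizerCondition Group.normalizerCondition_of_isNilpotent P
    haveI := P.characteristic_of_normal hPn
    haveI : (Cfsg.fittingSubgroup ↥H).Normal := fittingSubgroup_normal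
    have hle2 := le_pCore (p := p) (N := (P : Subgroup ↥(Cfsg.fittingSubgroup ↥H)).map (Cfsg.fittingSubgroup ↥H).subtype)
      inferInstance (P.isPGroup'.map _)
    rw [hO, le_bot_iff, map_eq_bot_iff_of_injective _ (Subgroup.subtype_injective _)] at hle2
    have := P.dvd_card_of_dvd_card hd1
    rw [hle2, card_bot] at this
    exact (Fact.out : p.Prime).ne_one (Nat.dvd_one.1 this)
  set Y' := Y.subgroupOf N with hY'
  have hnz : Y' ≤ normalizer (L' : Set ↥N) := le_nz_iff.2 fun y hy l hl => (hYL hy (l : G)).1 hl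
  obtain ⟨h1, h2⟩ := fstar_split (p := p) (Y := Y') hsub hF' hp' (hY.comap_of_injective _ Subtype.coe_injective) hnz
  have hcm : (⁅L', Y'⁆).map N.subtype = ⁅L, Y⁆ := by
    rw [map_commutator, map_subgroupOf_eq_of_le hLN, map_subgroupOf_eq_of_le hYH]
  constructor
  · have h1' := congrArg (Subgroup.map N.subtype) h1
    rw [Subgroup.map_sup, hcm, map_subgroupOf_eq_of_le hLN] at h1'
    have hc : (L' ⊓ centralizer (Y' : Set ↥N)).map N.subtype = L ⊓ centralizer (Y : Set G) := by
      ext x
      constructor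
      · rintro ⟨z, ⟨hz, hzc⟩, rfl⟩
        exact ⟨hz, fun y hy => congrArg Subtype.val (hzc ⟨y, hYH hy⟩ hy)⟩
      · rintro ⟨hx, hxc⟩
        exact ⟨⟨x, hLN hx⟩, ⟨hx, fun y hy => Subtype.ext (hxc y hy)⟩, rfl⟩
    rwa [hc] at h1'
  · have h2' := congrArg (Subgroup.map N.subtype) h2
    rw [map_commutator, hcm, map_subgroupOf_eq_of_le hYH] at h2'
    exact h2'.symm

end Cfsg.Agent.S2812
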