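import Mathlib
import Cfsg.Statements.S2813


set_option autoImplicit false

open scoped commutatorElement

namespace Cfsg.Agent.S2813

/-- Let K be a subgroup of the finite group H with O_p(K) = 1 and Y a p-subgroup of N_H(K) with [K, Y, Y] = 1. Then [K, Y] = 1. -/
theorem result {H : Type*} [Group H] [Finite H] {p : ℕ} [Fact p.Prime] (K : Subgroup H) (hO : Cfsg.pCore p ↥K = ⊥) (Y : Subgroup H) (hY : IsPGroup p ↥Y) (hYK : Y ≤ Subgroup.normalizer (K : Set H)) (hq : ⁅⁅K, Y⁆, Y⁆ = ⊥) : ⁅K, Y⁆ = ⊥ := by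
  classical
  set D := ⁅K, Y⁆ with hD
  have hDY : ⁅D, Y⁆ = ⊥ := hq
  have hnY : ∀ y ∈ Y, ∀ k ∈ K, y * k * y⁻¹ ∈ K := fun y hy k hk =>
    (Subgroup.mem_normalizer_iff.mp (hYK hy) k).mp hk
  have hDK : D ≤ K := Subgroup.commutator_le.mpr fun k hk y hy => by
    have : k * y * k⁻¹ * y⁻¹ = k * (y * k⁻¹ * y⁻¹) := by group
    rw [commutatorElement_def, this]
    exact K.mul_mem hk (hnY y hy _ (K.inv_mem hk))
  have hKn : ∀ k ∈ K, ∀ d ∈ D, k * d * k⁻¹ ∈ D := by
    intro k hk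
    suffices D ≤ D.comap (MulAut.conj k).toMonoidHom from fun d hd => this hd
    refine Subgroup.commutator_le.mpr fun a ha y hy => ?_
    have e : k * ⁅a, y⁆ * k⁻¹ = ⁅k * a, y⁆ * ⁅k, y⁆⁻¹ := by
      simp only [commutatorElement_def]; group
    change k * ⁅a, y⁆ * k⁻¹ ∈ D
    rw [e]
    exact D.mul_mem (Subgroup.commutator_mem_commutator (K.mul_mem hk ha) hy)
      (D.inv_mem (Subgroup.commutator_mem_commutator hk hy))
  have hDcomm : ⁅D, D⁆ = ⊥ := by
    refine Subgroup.commutator_commutator_eq_bot_of_rotate (H₁ := K) (H₂ := Y) (H₃ := D) ?_ ?_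
    · rw [Subgroup.commutator_comm Y D, hDY, Subgroup.commutator_bot_left]
    · refine le_bot_iff.mp (le_trans (Subgroup.commutator_mono ?_ le_rfl) hDY.le)
      refine Subgroup.commutator_le.mpr fun d hd k hk => ?_
      have : ⁅d, k⁆ = d * (k * d⁻¹ * k⁻¹) := by simp [commutatorElement_def, mul_assoc]
      rw [this]; exact D.mul_mem hd (hKn k hk _ (D.inv_mem hd))
  have hDp' : ∀ d ∈ D, ∀ m : ℕ, d ^ p ^ m = 1 → d = 1 := by
    intro d hd m hm
    let D' : Subgroup ↥K := D.subgroupOf K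
    haveI hn : D'.Normal := ⟨fun x hx k => hKn k.1 k.2 x.1 hx⟩
    haveI hc : IsMulCommutative ↥D := Subgroup.commutator_self_eq_bot_iff.mp hDcomm
    let T : Subgroup ↥K :=
      { carrier := {x | x ∈ D' ∧ ∃ j, x ^ p ^ j = 1}
        one_mem' := ⟨D'.one_mem, 0, by simp⟩
        mul_mem' := by
          rintro a b ⟨ha, i, hi⟩ ⟨hb, j, hj⟩
          refine ⟨D'.mul_mem ha hb, i + j, ?_⟩
          have hab : Commute a b := by
            apply Subtype.ext
            exact congrArg (fun z : ↥D => (z : H)) (mul_comm' (⟨a.1, ha⟩ : ↥D) ⟨b.1, hb⟩)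
          rw [hab.mul_pow, pow_add, pow_mul, hi, one_pow, one_mul, mul_comm, pow_mul, hj, one_pow]
        inv_mem' := by
          rintro a ⟨ha, i, hi⟩
          exact ⟨D'.inv_mem ha, i, by rw [inv_pow, hi, inv_one]⟩ }
    have hTn : T.Normal := ⟨fun x hx k => ⟨hn.conj_mem x hx.1 k, hx.2.choose, by
      rw [conj_pow, hx.2.choose_spec, mul_one, mul_inv_cancel]⟩⟩
    have hTp : IsPGroup p ↥T := fun x => ⟨x.2.2.choose, Subtype.ext x.2.2.choose_spec⟩
    have hle : T ≤ Cfsg.pCore p ↥K := le_sSup ⟨hTn, hTp⟩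
    have hmem : (⟨d, hDK hd⟩ : ↥K) ∈ T := ⟨hd, m, Subtype.ext hm⟩
    have := hle hmem
    rw [hO] at this
    exact congrArg Subtype.val (Subgroup.mem_bot.mp this)
  rw [eq_bot_iff]
  refine Subgroup.commutator_le.mpr fun k hk y hy => ?_
  rw [Subgroup.mem_bot]
  set d := ⁅k, y⁆ with hd
  have hdD : d ∈ D := Subgroup.commutator_mem_commutator hk hy
  have hdy : Commute y d := by
    have := Subgroup.commutator_eq_bot_iff_le_centralizer.mp hDY hdD
    exact (Subgroup.mem_centralizer_iff.mp this y hy)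
  obtain ⟨m, hm⟩ := hY ⟨y, hy⟩
  have hm' : y ^ p ^ m = 1 := by simpa using congrArg Subtype.val hm
  have key : k * y * k⁻¹ = d * y := by simp [hd, commutatorElement_def, mul_assoc]
  have h2 := congrArg (· ^ p ^ m) key
  simp only [conj_pow, hdy.symm.mul_pow, hm', mul_one, mul_inv_cancel] at h2
  exact hDp' d hdD m h2.symm

end Cfsg.Agent.S2813
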