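import Mathlib
import Cfsg.Statements.S2814
import Cfsg.Agent.Lib.LocalChar.YFactor

set_option autoImplicit false

open scoped commutatorElement Pointwise

open Cfsg.Agent.Lib.LocalChar

namespace Cfsg.Agent.S2814

/-- Let A be a subgroup of the finite group H and K the subnormal closure of A (intersection of the subnormal subgroups containing A). Then K is the normal closure of A inside K and N_H(A) ≤ N_H(K); K = A·O^p(K), O^p(K) being generated by the elements of K of order prime to p; and if A is a p-group, O^p(K) = [O^p(K), A]. -/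
theorem result {H : Type*} [Group H] [Finite H] {p : ℕ} [Fact p.Prime] (A : Subgroup H) (K : Subgroup H) (hK : K = Cfsg.subnormalClosure A) : (Subgroup.normalClosure ((A.subgroupOf K : Subgroup ↥K) : Set ↥K)).map K.subtype = K ∧ Subgroup.normalizer (A : Set H) ≤ Subgroup.normalizer (K : Set H) ∧ A ⊔ (Cfsg.pResidual p ↥K).map K.subtype = K ∧ (IsPGroup p ↥A → ⁅(Cfsg.pResidual p ↥K).map K.subtype, A⁆ = (Cfsg.pResidual p ↥K).map K.subtype) := by
  classical
  subst hK
  set K := Cfsg.subnormalClosure A
  have hsn : K.IsSubnormal := by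
    have key : ∀ S : Set (Subgroup H), S.Finite → (∀ X ∈ S, X.IsSubnormal) → (sInf S).IsSubnormal := by
      intro S hS
      induction S, hS using Set.Finite.induction_on with
      | empty => intro _; rw [sInf_empty]; exact Subgroup.IsSubnormal.top
      | insert _ _ ih =>
        intro h
        rw [sInf_insert]
        exact Subgroup.IsSubnormal.inf (h _ (Set.mem_insert _ _))
          (ih fun X hX => h X (Set.mem_insert_of_mem _ hX))
    exact key _ (Set.toFinite _) fun X hX => hX.2
  have hAK : A ≤ K := le_sInf fun X hX => hX.1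
  have hleast : ∀ X : Subgroup H, A ≤ X → X.IsSubnormal → K ≤ X := fun X h1 h2 => sInf_le ⟨h1, h2⟩
  have hcc : conjClosure K A = K := by
    refine le_antisymm (conjClosure_le hAK Subgroup.le_normalizer) (hleast _ (le_conjClosure K A) ?_)
    exact Subgroup.IsSubnormal.trans (conjClosure_le hAK Subgroup.le_normalizer)
      (normal_subgroupOf (le_nz_conjClosure K A)).isSubnormal hsn
  have hsup : A ⊔ resOf p K = K := by
    refine le_antisymm (sup_le hAK (resOf_le K)) (hleast _ le_sup_left ?_)
    refine Subgroup.IsSubnormal.trans (sup_le hAK (resOf_le K))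
      (isSubnormal_of_pResidual_le (p := p) ?_) hsn
    rw [← resOf_subgroupOf]
    exact Subgroup.comap_mono le_sup_right
  refine ⟨by rw [conjClosure_map_subtype K A hAK, hcc], ?_, hsup, fun hA => ?_⟩
  · refine nz_le_nz_of_forall fun g hg => ?_
    refine (Subgroup.eq_of_le_of_card_ge (hleast _ ?_ (isSubnormal_cj hsn g)) (card_cj g K).le).symm
    exact le_of_eq_of_le hg.symm (cj_mono hAK)
  · show ⁅resOf p K, A⁆ = resOf p K
    set R := resOf p K
    set D := ⁅R, A⁆
    have hDR : D ≤ R := commutator_le_left_of_nz (hAK.trans (le_nz_resOf K))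
    have hAD : A ≤ Subgroup.normalizer (D : Set H) := right_le_nz_commutator R A
    have hRX : R ≤ Subgroup.normalizer ((A ⊔ D : Subgroup H) : Set H) := by
      refine le_nz_iff.2 fun r hr x hx => ?_
      obtain ⟨a, ha, d, hd, rfl⟩ := (mem_sup_iff_of_nz hAD).1 hx
      have : r * (a * d) * r⁻¹ = ⁅r, a⁆ * a * (r * d * r⁻¹) := by
        simp [commutatorElement_def, mul_assoc]
      rw [this]
      exact mul_mem (mul_mem (Subgroup.mem_sup_right (Subgroup.commutator_mem_commutator hr ha))
        (Subgroup.mem_sup_left ha))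
        (Subgroup.mem_sup_right (conj_mem_of_nz (left_le_nz_commutator R A hr) hd))
    have hKX : K = A ⊔ D := by
      refine le_antisymm ?_ (sup_le hAK (hDR.trans (resOf_le K)))
      refine hcc.ge.trans (conjClosure_le le_sup_left ?_)
      exact hsup.ge.trans (sup_le (le_sup_left.trans Subgroup.le_normalizer) hRX)
    refine le_antisymm hDR (resOf_le_iff.2 fun x hx ho => ?_)
    rw [hKX] at hx
    obtain ⟨a, ha, d, hd, rfl⟩ := (mem_sup_iff_of_nz hAD).1 hx
    exact mem_of_mul_coprime (hAD ha) (exists_pow_eq_one hA ha) hd ho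

end Cfsg.Agent.S2814
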