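import Mathlib
import Cfsg.Statements.S2815
import Cfsg.Agent.Lib.LocalChar.FStar
import Cfsg.Agent.Lib.LocalChar.PIrred

set_option autoImplicit false

open scoped commutatorElement Pointwise

open Cfsg.Agent.Lib.LocalChar

namespace Cfsg.Agent.S2815

open Subgroup Cfsg.Agent.Lib.Components Cfsg.Agent.Lib.LocalChar
open scoped commutatorElement

theorem qs_not_perfect_nilpotent {G : Type*} [Group G] (A : Subgroup G) [Group.IsNilpotent ↥A] [Nontrivial ↥A]
    (h : ⁅A, A⁆ = A) : False := by
  have h2 : commutator ↥A = ⊤ := by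
    apply map_injective A.subtype_injective
    rw [commutator_def, map_commutator, ← MonoidHom.range_eq_map, range_subtype, h]
  exact Group.IsSolvable.commutator_lt_top_of_nontrivial ↥A |>.ne h2

/-- Let H be a finite group and p a prime dividing its order with O_p(H) = 1, and suppose K = O^p(H) (generated by the elements of order prime to p) is quasisimple. Then K = F*(H); for every nontrivial p-subgroup Y of H, K = [K, Y] and K lies in the subgroup generated by the K-conjugates of Y; every normal subgroup of H not containing K has order prime to p; and H is p-irreducible. -/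
theorem result {H : Type*} [Group H] [Finite H] {p : ℕ} [Fact p.Prime] (hp : p ∣ Nat.card H) (hO : Cfsg.pCore p H = ⊥) (hq : Cfsg.IsQuasisimple ↥(Cfsg.pResidual p H)) : Cfsg.pResidual p H = Cfsg.generalizedFittingSubgroup H ∧ (∀ Y : Subgroup H, IsPGroup p ↥Y → Y ≠ ⊥ → ⁅Cfsg.pResidual p H, Y⁆ = Cfsg.pResidual p H ∧ Cfsg.pResidual p H ≤ ⨆ k : ↥(Cfsg.pResidual p H), Y.map (MulAut.conj (k : H)).toMonoidHom) ∧ (∀ C : Subgroup H, C.Normal → ¬ Cfsg.pResidual p H ≤ C → (Nat.card ↥C).Coprime p) ∧ Cfsg.IsPIrreducible p H := by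
  set K := Cfsg.pResidual p H with hK
  haveI hKn : K.Normal := pResidual_normal
  have hcomp : Cfsg.IsComponent K := ⟨hKn.isSubnormal, hq⟩
  have hperf : ⁅K, K⁆ = K := comp_perfect hcomp
  have hsq : ∀ g : H, ∃ k, g ^ p ^ k ∈ K := by
    intro g
    obtain ⟨k, hk⟩ := pow_mem_resOf (p := p) (mem_top g)
    rw [resOf_top] at hk
    exact ⟨k, hk⟩
  have hcoprime_le : ∀ A : Subgroup H, ¬ p ∣ Nat.card ↥A → A ≤ K := fun A hA x hx => Subgroup.subset_closure
    ((coprime_of_not_dvd fun h => hA (h.trans (A.orderOf_dvd_natCard hx))))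
  have hFK : Cfsg.fittingSubgroup H ≤ K := hcoprime_le _ (fitting_p' hO)
  have hperf_le : ∀ A : Subgroup H, ⁅A, A⁆ = A → A ≤ K := by
    intro A hA
    by_contra h
    -- the image of `A` in the `p`-group `H ⧸ K` is perfect, hence trivial
    have hQp : IsPGroup p (H ⧸ K) := by
      intro q
      obtain ⟨g, rfl⟩ := QuotientGroup.mk_surjective q
      obtain ⟨k, hk⟩ := hsq g
      exact ⟨k, by rw [← QuotientGroup.mk_pow, QuotientGroup.eq_one_iff]; exact hk⟩
    haveI : Group.IsNilpotent ↥(A.map (QuotientGroup.mk' K)) := (hQp.to_subgroup _).isNilpotent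
    have hne : A.map (QuotientGroup.mk' K) ≠ ⊥ := fun e => h (by
      rwa [Subgroup.map_eq_bot_iff, QuotientGroup.ker_mk'] at e)
    haveI := (nontrivial_iff_ne_bot _).2 hne
    exact qs_not_perfect_nilpotent (A.map (QuotientGroup.mk' K)) (by rw [← map_commutator, hA])
  have hgfs : K = Cfsg.generalizedFittingSubgroup H := by
    refine le_antisymm (comp_le_gfs hcomp) (sup_le (layer_le_iff.2 fun J hJ => hperf_le J (comp_perfect hJ)) hFK)
  have hdich : ∀ N : Subgroup H, K ≤ normalizer (N : Set H) → N ≤ K → K ≤ N ∨ ⁅K, N⁆ = ⊥ := by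
    intro N hN hle
    haveI : (N.subgroupOf K).Normal := normal_subgroupOf hN
    rcases comp_normal_dichotomy (isComponent_subgroupOf hcomp le_rfl) (M := N.subgroupOf K) with h | h
    · exact Or.inl fun x hx => h (show (⟨x, hx⟩ : ↥K) ∈ K.subgroupOf K from hx)
    · right
      have := congrArg (Subgroup.map K.subtype) h
      rwa [map_commutator, Subgroup.map_bot, map_subgroupOf_eq_of_le le_rfl,
        map_subgroupOf_eq_of_le hle] at this
  have hY1 : ∀ Y : Subgroup H, IsPGroup p ↥Y → Y ≠ ⊥ → ⁅K, Y⁆ = K := by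
    intro Y hY hne
    have hle : ⁅K, Y⁆ ≤ K := commutator_le_left K Y
    refine le_antisymm hle ((hdich _ (left_le_nz_commutator K Y) hle).resolve_right fun h => hne ?_)
    have h2 : ⁅K, Y⁆ = ⊥ := commutator_eq_bot_of_perfect hperf (by rwa [commutator_comm Y K, commutator_comm])
    exact eq_bot_of_centralizes_gfs hO hY (hgfs ▸ h2)
  refine ⟨hgfs, fun Y hY hne => ⟨hY1 Y hY hne, ?_⟩, ?_, ?_, ?_⟩
  · conv_lhs => rw [← hY1 Y hY hne]
    rw [commutator_le]
    intro k hk y hy
    have h1 : k * y * k⁻¹ ∈ ⨆ k : ↥K, Y.map (MulAut.conj (k : H)).toMonoidHom :=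
      mem_iSup_of_mem ⟨k, hk⟩ ⟨y, hy, by simp⟩
    have h2 : y⁻¹ ∈ ⨆ k : ↥K, Y.map (MulAut.conj (k : H)).toMonoidHom :=
      mem_iSup_of_mem 1 ⟨y⁻¹, inv_mem hy, by simp⟩
    rw [commutatorElement_def]
    exact mul_mem h1 h2
  · intro C hC hKC
    haveI := hC
    have h : ⁅C, K⁆ = ⊥ := by
      rw [commutator_comm]
      exact (comp_normal_dichotomy hcomp).resolve_left hKC
    have hle : C ≤ Cfsg.fittingSubgroup H :=
      le_trans (hgfs ▸ commutator_eq_bot_iff_le_centralizer.1 h) centralizer_gfs_le_fitting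
    exact coprime_of_not_dvd fun hd => fitting_p' hO (hd.trans (card_dvd_of_le hle))
  · intro hcl
    obtain ⟨P⟩ : Nonempty (Sylow p H) := inferInstance
    have h := le_pCore (hcl P) P.isPGroup'
    rw [hO, le_bot_iff] at h
    have h2 := P.dvd_card_of_dvd_card hp
    rw [h, card_bot] at h2
    exact (Fact.out : p.Prime).ne_one (Nat.dvd_one.1 h2)
  · intro N hN hNc
    by_contra hKN
    refine hNc fun P => ?_
    haveI := hN
    have h : ⁅N, K⁆ = ⊥ := by
      rw [commutator_comm]
      exact (comp_normal_dichotomy hcomp).resolve_left hKN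
    have hle : N ≤ Cfsg.fittingSubgroup H :=
      le_trans (hgfs ▸ commutator_eq_bot_iff_le_centralizer.1 h) centralizer_gfs_le_fitting
    have hP : (P : Subgroup ↥N) = ⊥ := by
      by_contra hne
      obtain ⟨n, hn⟩ := IsPGroup.iff_card.1 P.isPGroup'
      rcases n with _ | n
      · exact hne (card_eq_one.1 (by simpa using hn))
      · exact fitting_p' hO (((hn ▸ dvd_pow_self p n.succ_ne_zero).trans
          (P : Subgroup ↥N).card_subgroup_dvd_card).trans (card_dvd_of_le hle))
    rw [hP]; infer_instance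

end Cfsg.Agent.S2815
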