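import Mathlib
import Cfsg.Statements.S2816
import Cfsg.Agent.Lib.LocalChar.FStar

set_option autoImplicit false

open scoped commutatorElement Pointwise

open Cfsg.Agent.Lib.LocalChar

namespace Cfsg.Agent.S2816

open Subgroup Cfsg.Agent.Lib.Components Cfsg.Agent.Lib.LocalChar
open scoped commutatorElement

/-- An iterated commutator with a subgroup of a subnormal subgroup lands in it. -/
theorem commutator_le_subnormal {G : Type*} [Group G] {K : Subgroup G} (hK : K.IsSubnormal) {A Y : Subgroup G}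
    (hY : Y ≤ K) (hA : ⁅⁅A, Y⁆, Y⁆ = ⁅A, Y⁆) : ⁅A, Y⁆ ≤ K := by
  induction hK with
  | top => exact le_top
  | step K K' hle _ hn ih =>
    rw [← hA]
    refine (commutator_mono (ih (hY.trans hle)) hY).trans ?_
    exact commutator_le_right_of_nz (le_nz_pointwise hle hn)

/-- Let H be a finite group and p a prime with O_p(H) = 1, and Y a p-subgroup of H. Then for every subnormal subgroup K of H containing Y, [F*(H), Y] = [F*(K), Y] = [F*(K), Y, Y]; and if Y₀ ≤ Y with [F*(H), Y, Y₀] = 1 then Y₀ = 1 (in particular [F*(H), Y] = 1 forces Y = 1). -/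
theorem result {H : Type*} [Group H] [Finite H] {p : ℕ} [Fact p.Prime] (hO : Cfsg.pCore p H = ⊥) (Y : Subgroup H) (hY : IsPGroup p ↥Y) : (∀ K : Subgroup H, K.IsSubnormal → Y ≤ K → ⁅Cfsg.generalizedFittingSubgroup H, Y⁆ = ⁅(Cfsg.generalizedFittingSubgroup ↥K).map K.subtype, Y⁆ ∧ ⁅(Cfsg.generalizedFittingSubgroup ↥K).map K.subtype, Y⁆ = ⁅⁅(Cfsg.generalizedFittingSubgroup ↥K).map K.subtype, Y⁆, Y⁆) ∧ (∀ Y₀ : Subgroup H, Y₀ ≤ Y → ⁅⁅Cfsg.generalizedFittingSubgroup H, Y⁆, Y₀⁆ = ⊥ → Y₀ = ⊥) := by
  have hFn : (Cfsg.generalizedFittingSubgroup H).IsSubnormal := (gfs_normal).isSubnormal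
  have hF2 := (gfs_split hO hFn le_rfl hY (le_nz_gfs Y)).2
  constructor
  · intro K hK hYK
    set L := (Cfsg.generalizedFittingSubgroup ↥K).map K.subtype with hL
    have hLsn : L.IsSubnormal := (gfs_normal (G := ↥K)).isSubnormal.trans' hK
    have hYL : Y ≤ normalizer (L : Set H) := by
      refine hYK.trans ?_
      have h1 := Subgroup.le_normalizer_map (H := Cfsg.generalizedFittingSubgroup ↥K) K.subtype
      rwa [normalizer_eq_top, ← MonoidHom.range_eq_map, range_subtype] at h1
    have hLle : L ≤ Cfsg.generalizedFittingSubgroup H := gfs_le_of_subnormal hK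
    have hL2 := (gfs_split hO hLsn hLle hY hYL).2
    refine ⟨le_antisymm ?_ (commutator_mono hLle le_rfl), hL2.symm⟩
    have hleK : ⁅Cfsg.generalizedFittingSubgroup H, Y⁆ ≤ Cfsg.generalizedFittingSubgroup H ⊓ K :=
      le_inf (commutator_le_left _ _) (commutator_le_subnormal hK hYK hF2)
    set S := Cfsg.generalizedFittingSubgroup H ⊓ K with hS
    have hSK : (S.subgroupOf K).Normal := by
      rw [hS, inf_subgroupOf_right]; infer_instance
    have hSsn : S.IsSubnormal := by
      have h := hSK.isSubnormal.trans' hK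
      rwa [map_subgroupOf_eq_of_le (inf_le_right : S ≤ K)] at h
    have hSL : S ≤ L := by
      refine (subnormal_le_gfs_decomp hSsn inf_le_left).trans (sup_le ?_ ?_)
      · rw [Subgroup.map_le_iff_le_comap, layer_le_iff]
        intro J hJ
        rw [← Subgroup.map_le_iff_le_comap]
        refine le_trans (comp_le_layer_subtype ((isComponent_map_subtype_iff hSsn).2 hJ)
          ((map_subtype_le J).trans inf_le_right)) (map_mono layer_le_gfs)
      · refine le_trans (inf_le_inf_left _ (inf_le_right : S ≤ K)) ?_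
        exact (fitting_inf_le_of_subgroup K).trans (map_mono fitting_le_gfs)
    conv_lhs => rw [← hF2]
    exact commutator_mono (hleK.trans hSL) le_rfl
  · intro Y₀ h0 hbot
    refine eq_bot_of_centralizes_gfs hO (hY.to_le h0) ?_
    rw [← (gfs_split hO hFn le_rfl (hY.to_le h0) (le_nz_gfs Y₀)).2, eq_bot_iff, ← hbot]
    exact commutator_mono (commutator_mono le_rfl h0) le_rfl

end Cfsg.Agent.S2816
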