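import Mathlib
import Cfsg.Statements.S2817
import Cfsg.Agent.Lib.LocalChar.FStar
import Cfsg.Agent.Lib.LocalChar.Norm

set_option autoImplicit false

open scoped commutatorElement Pointwise

open Cfsg.Agent.Lib.LocalChar

namespace Cfsg.Agent.S2817

open Subgroup Cfsg.Agent.Lib.Components Cfsg.Agent.Lib.LocalChar
open scoped commutatorElement

/-- An element of `L` fixed by a `p`-group `Q` with `[L, Q] = L` lies in `L'`, if `L` is covered by
`L'` and a `p'`-subgroup. -/
theorem mem_commutator_of_fixed {G : Type*} [Group G] [Finite G] {p : ℕ} [Fact p.Prime] {L Q Fl : Subgroup G}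
    (hQL : Q ≤ normalizer (L : Set G)) (hQ : IsPGroup p Q) (hLQ : ⁅L, Q⁆ = L) (hFl : Fl ≤ L)
    (hdec : ⁅L, L⁆ ⊔ Fl = L) (hp : ¬ p ∣ Nat.card ↥Fl)
    {z : ↥L} (hz : ∀ y ∈ Q, y * (z : G) = z * y) : z ∈ commutator ↥L := by
  classical
  haveI := Fintype.ofFinite ↥Q
  let φ : ↥Q → (↥L →* ↥L) := fun y => (L.normalizerMonoidHom ⟨y, hQL y.2⟩).toMonoidHom
  have hφ : ∀ (x y : ↥Q) (l : ↥L), φ (x * y) l = φ x (φ y l) := fun x y l => Subtype.ext (by
    show ((x : G) * y) * l * ((x : G) * y)⁻¹ = x * (y * l * (y : G)⁻¹) * (x : G)⁻¹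
    group)
  let N : ↥L →* Abelianization ↥L :=
    { toFun := fun l => ∏ y : ↥Q, Abelianization.of (φ y l)
      map_one' := Finset.prod_eq_one fun y _ => by rw [map_one, map_one]
      map_mul' := fun a b => by simp only [map_mul, Finset.prod_mul_distrib] }
  have hker : ⁅L, Q⁆ ≤ N.ker.map L.subtype := by
    rw [commutator_le]
    intro l hl y hy
    have hm : ⁅l, y⁆ ∈ L := commutator_le_left_of_nz hQL (commutator_mem_commutator hl hy)
    refine ⟨⟨_, hm⟩, ?_, rfl⟩
    have he : (⟨_, hm⟩ : ↥L) = (⟨l, hl⟩ : ↥L) * (φ ⟨y, hy⟩ ⟨l, hl⟩)⁻¹ := Subtype.ext (by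
      show ⁅l, y⁆ = l * (y * l * y⁻¹)⁻¹
      rw [commutatorElement_def]; group)
    show N _ = 1
    rw [he, map_mul, map_inv, mul_inv_eq_one]
    show (∏ x : ↥Q, Abelianization.of (φ x ⟨l, hl⟩)) = ∏ x : ↥Q, Abelianization.of (φ x (φ ⟨y, hy⟩ ⟨l, hl⟩))
    simp_rw [← hφ]
    exact (Equiv.prod_comp (Equiv.mulRight (⟨y, hy⟩ : ↥Q)) fun x => Abelianization.of (φ x ⟨l, hl⟩)).symm
  have h1 : N z = 1 := by
    obtain ⟨w, hw, hwe⟩ := hker (hLQ.symm ▸ z.2 : (z : G) ∈ ⁅L, Q⁆)
    rwa [Subtype.ext hwe] at hw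
  have h2 : N z = Abelianization.of z ^ Nat.card ↥Q := by
    show ∏ y : ↥Q, Abelianization.of (φ y z) = _
    rw [Finset.prod_congr rfl (fun y _ => congrArg Abelianization.of (show φ y z = z from Subtype.ext (by
      show (y : G) * z * (y : G)⁻¹ = z
      rw [hz y y.2, mul_inv_cancel_right]))), Finset.prod_const, Finset.card_univ, Nat.card_eq_fintype_card]
  have h3 : Abelianization.of z ^ Nat.card ↥Fl = 1 := by
    have htop : commutator ↥L ⊔ Fl.subgroupOf L = ⊤ := by
      apply map_injective L.subtype_injective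
      rw [Subgroup.map_sup, commutator_def, map_commutator, ← MonoidHom.range_eq_map, range_subtype,
        map_subgroupOf_eq_of_le hFl, hdec]
    obtain ⟨c, hc, f, hf, rfl⟩ := mem_sup_of_normal_left.1 (htop ▸ mem_top z)
    have hc1 : Abelianization.of c = 1 := by
      rw [← MonoidHom.mem_ker, Abelianization.ker_of]; exact hc
    rw [map_mul, hc1, one_mul, ← map_pow]
    have : f ^ Nat.card ↥Fl = 1 := by
      have := congrArg Subtype.val (pow_card_eq_one' (x := (⟨(f : G), hf⟩ : ↥Fl)))
      exact Subtype.ext (by rw [Subgroup.coe_pow]; exact this)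
    rw [this, map_one]
  obtain ⟨n, hn⟩ := IsPGroup.iff_card.1 hQ
  rw [h1, hn] at h2
  have : Abelianization.of z = 1 := orderOf_eq_one_iff.1 (Nat.eq_one_of_dvd_coprimes
    ((coprime_of_not_dvd hp).symm.pow_left n) (orderOf_dvd_of_pow_eq_one h2.symm) (orderOf_dvd_of_pow_eq_one h3))
  rwa [← MonoidHom.mem_ker, Abelianization.ker_of] at this

/-- Let H be a finite group and p a prime with O_p(H) = 1, Q a p-subgroup of H, L = [F*(H), Q], and F the largest normal subgroup of F*(H) centralized by Q (a normal subgroup of F*(H) centralized by Q and containing every such). Then F = C_{F*(H)}(LQ); L = [L, Q]; L ∩ F ≤ Φ(L); every p-subgroup B of N_H(Q) with [L, B] ≤ F satisfies [L, B] = 1; and C_H(FL) has order prime to p. -/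
theorem result {H : Type*} [Group H] [Finite H] {p : ℕ} [Fact p.Prime] (hO : Cfsg.pCore p H = ⊥) (Q : Subgroup H) (hQ : IsPGroup p ↥Q) (L : Subgroup H) (hL : L = ⁅Cfsg.generalizedFittingSubgroup H, Q⁆) (F : Subgroup H) (hF : F ≤ Cfsg.generalizedFittingSubgroup H ∧ Cfsg.generalizedFittingSubgroup H ≤ Subgroup.normalizer (F : Set H) ∧ Q ≤ Subgroup.centralizer (F : Set H) ∧ ∀ N : Subgroup H, N ≤ Cfsg.generalizedFittingSubgroup H → Cfsg.generalizedFittingSubgroup H ≤ Subgroup.normalizer (N : Set H) → Q ≤ Subgroup.centralizer (N : Set H) → N ≤ F) : F = Cfsg.generalizedFittingSubgroup H ⊓ Subgroup.centralizer ((L ⊔ Q : Subgroup H) : Set H) ∧ ⁅L, Q⁆ = L ∧ L ⊓ F ≤ (frattini ↥L).map L.subtype ∧ (∀ B : Subgroup H, IsPGroup p ↥B → B ≤ Subgroup.normalizer (Q : Set H) → ⁅L, B⁆ ≤ F → ⁅L, B⁆ = ⊥) ∧ (Nat.card ↥(Subgroup.centralizer ((F ⊔ L : Subgroup H) : Set H))).Coprime p := by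
  classical
  set X := Cfsg.generalizedFittingSubgroup H with hXdef
  obtain ⟨hFX, hXF, hQF, hmax⟩ := hF
  have hXsn : X.IsSubnormal := (gfs_normal).isSubnormal
  obtain ⟨hs1, hs2⟩ := gfs_split hO hXsn le_rfl hQ (le_nz_gfs Q)
  rw [← hL] at hs1 hs2
  have hLX : L ≤ X := hL ▸ commutator_le_left X Q
  have hXL : X ≤ normalizer (L : Set H) := hL ▸ left_le_nz_commutator X Q
  have hQL : Q ≤ normalizer (L : Set H) := hL ▸ right_le_nz_commutator X Q
  have hLsn : L.IsSubnormal := by
    have h := (normal_subgroupOf hXL).isSubnormal.trans' hXsn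
    rwa [map_subgroupOf_eq_of_le hLX] at h
  set C := X ⊓ centralizer (Q : Set H) with hC
  have hXLQ : C ≤ normalizer ((L ⊔ Q : Subgroup H) : Set H) :=
    le_nz_sup (inf_le_left.trans hXL) (inf_le_right.trans (Cfsg.Agent.Lib.Components.centralizer_le_normalizer Q))
  have hFeq : F = X ⊓ centralizer ((L ⊔ Q : Subgroup H) : Set H) := by
    refine le_antisymm (le_inf hFX ?_) (hmax _ inf_le_left ?_ ?_)
    · have hFL : ⁅L, F⁆ = ⊥ := by
        rw [hL]
        refine commutator_commutator_eq_bot_of_rotate ?_ ?_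
        · rw [commutator_eq_bot_iff_le_centralizer.2 hQF, commutator_bot_left]
        · rw [eq_bot_iff]
          refine (commutator_mono (commutator_le_left_of_nz hXF) le_rfl).trans ?_
          rw [commutator_comm, commutator_eq_bot_iff_le_centralizer.2 hQF]
      rw [le_centralizer_iff]
      exact sup_le (commutator_eq_bot_iff_le_centralizer.1 hFL) hQF
    · conv_lhs => rw [← hs1]
      refine sup_le ?_ (le_nz_inf (le_nz_gfs C) (le_nz_centralizer hXLQ))
      refine le_trans ?_ (Cfsg.Agent.Lib.Components.centralizer_le_normalizer _)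
      rw [le_centralizer_iff]
      exact inf_le_right.trans (centralizer_le (SetLike.coe_subset_coe.2 le_sup_left))
    · rw [le_centralizer_iff]
      exact inf_le_right.trans (centralizer_le (SetLike.coe_subset_coe.2 le_sup_right))
  have hFc : F ≤ centralizer ((L ⊔ Q : Subgroup H) : Set H) := hFeq ▸ inf_le_right
  have hΦ : L ⊓ F ≤ (frattini ↥L).map L.subtype := by
    rintro z ⟨hzL, hzF⟩
    refine ⟨⟨z, hzL⟩, mem_iInf.2 fun M => mem_iInf.2 fun hM => ?_, rfl⟩
    have hdec : ⁅L, L⁆ ⊔ (Cfsg.fittingSubgroup H ⊓ L) = L := by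
      refine le_antisymm (sup_le (commutator_le_self L) inf_le_right) ?_
      refine (subnormal_le_gfs_decomp hLsn hLX).trans (sup_le_sup_right ?_ _)
      conv_lhs => rw [← layer_perfect, map_commutator]
      exact commutator_mono (map_subtype_le _) (map_subtype_le _)
    have hzc : (⟨z, hzL⟩ : ↥L) ∈ center ↥L := mem_center_iff.2 fun l => Subtype.ext
      (mem_centralizer_iff.1 (hFc hzF) l (mem_sup_left l.2))
    have hz' : (⟨z, hzL⟩ : ↥L) ∈ commutator ↥L := mem_commutator_of_fixed hQL hQ hs2 inf_le_right hdec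
      (fitting_inf_p' hO L) fun y hy => mem_centralizer_iff.1 (hFc hzF) y (mem_sup_right hy)
    by_contra hzM
    have hMZ : M ⊔ center ↥L = ⊤ := hM.2 _ (left_lt_sup.2 fun h => hzM (h hzc))
    refine hzM ((commutator_le.2 fun a _ b _ => ?_ : commutator ↥L ≤ M) hz')
    obtain ⟨m, hm, u, hu, rfl⟩ := mem_sup_of_normal_right.1 (hMZ ▸ mem_top a)
    obtain ⟨m', hm', u', hu', rfl⟩ := mem_sup_of_normal_right.1 (hMZ ▸ mem_top b)
    rw [mem_center_iff.1 hu m, mem_center_iff.1 hu' m', commutatorElement_center_mul hu hu' m m']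
    exact mul_mem (mul_mem (mul_mem hm hm') (inv_mem hm)) (inv_mem hm')
  refine ⟨hFeq, hs2, hΦ, fun B hB hBQ hLB => ?_, ?_⟩
  · have hBL : B ≤ normalizer (L : Set H) := hL ▸ le_nz_commutator (le_nz_gfs B) hBQ
    obtain ⟨n, hn⟩ := IsPGroup.iff_card.1 hB
    have hfr : ¬ p ∣ Nat.card ↥(frattini ↥L) := by
      intro hd
      refine fitting_p' hO (dvd_trans ?_ (card_dvd_of_le (H := (frattini ↥L).map L.subtype) ?_))
      · rwa [card_map_of_injective L.subtype_injective]
      · haveI := frattini_nilpotent (G := ↥L)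
        haveI hfn : (frattini ↥L).Normal := by
          haveI : (frattini ↥L).Characteristic :=
            characteristic_iff_le_comap.2 fun e => frattini_le_comap_frattini_of_surjective e.surjective
          infer_instance
        exact le_fittingSubgroup_of_subnormal (hfn.isSubnormal.trans' hLsn)
          (Group.nilpotent_of_surjective (L.subtype.subgroupMap _) (L.subtype.subgroupMap_surjective _))
    rw [commutator_eq_bot_iff_le_centralizer, le_centralizer_iff]
    refine Cfsg.Agent.Lib.Coprime.le_centralizer_of_frattini hBL (hn ▸ (coprime_of_not_dvd hfr).symm.pow_left n) ?_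
    intro b hb k hk
    refine hΦ ?_
    have hm : ⁅b, k⁆ ∈ ⁅L, B⁆ := commutator_comm B L ▸ commutator_mem_commutator hb hk
    rw [← commutatorElement_def]
    exact ⟨commutator_le_left_of_nz hBL hm, hLB hm⟩
  · set C₀ := centralizer ((F ⊔ L : Subgroup H) : Set H) with hC0
    refine coprime_of_not_dvd fun hd => ?_
    have hQC : Q ≤ normalizer (C₀ : Set H) :=
      le_nz_centralizer (le_nz_sup (hQF.trans (Cfsg.Agent.Lib.Components.centralizer_le_normalizer F)) hQL)
    obtain ⟨R, hR, hQR⟩ := exists_isSylowIn_ge (p := p) hQ (le_sup_right : Q ≤ C₀ ⊔ Q)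
    have hP := hR.inf le_sup_left (sup_le le_normalizer hQC)
    set P := R ⊓ C₀ with hPdef
    have hPne : P ≠ ⊥ := by
      intro h
      have h2 := hP.2.2
      rw [h, relIndex_bot_left] at h2
      exact h2 hd
    have hRP : R ≤ normalizer (P : Set H) := le_nz_inf le_normalizer (hR.1.trans (sup_le le_normalizer hQC))
    obtain ⟨u, hu, hu1, hfix⟩ := exists_fixed hP.2.1 hR.2.1 hRP hPne
    have hu0 : IsPGroup p ↥(zpowers u) := hP.2.1.to_le (zpowers_le.2 hu)
    have huC : zpowers u ≤ centralizer ((L ⊔ Q : Subgroup H) : Set H) := by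
      rw [zpowers_le]
      have hLu : L ≤ centralizer ({u} : Set H) := fun l hl =>
        mem_centralizer_singleton_iff.2 (mem_centralizer_iff.1 hu.2 l (mem_sup_right hl))
      have hQu : Q ≤ centralizer ({u} : Set H) := fun q hq =>
        mem_centralizer_singleton_iff.2 (hfix q (hQR hq)).eq
      exact mem_centralizer_iff.2 fun g hg => mem_centralizer_singleton_iff.1 (sup_le hLu hQu hg)
    have huF : zpowers u ≤ centralizer (F : Set H) :=
      zpowers_le.2 (centralizer_le (SetLike.coe_subset_coe.2 le_sup_left) hu.2)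
    have hXu : ⁅X, zpowers u⁆ ≤ F := by
      conv_lhs => rw [← hs1]
      refine commutator_le_of_generators ?_ ?_ (by rw [hs1]; exact hXF)
      · rw [commutator_eq_bot_iff_le_centralizer.2 (le_centralizer_iff.1
          (huC.trans (centralizer_le (SetLike.coe_subset_coe.2 le_sup_left))))]
        exact bot_le
      · rw [hFeq]
        refine le_inf ((commutator_mono inf_le_left le_rfl).trans (commutator_le_left X _)) ?_
        exact (commutator_mono le_rfl huC).trans (commutator_le_right_of_nz (le_nz_centralizer hXLQ))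
    have hbot : ⁅X, zpowers u⁆ = ⊥ := by
      rw [← (gfs_split hO hXsn le_rfl hu0 (le_nz_gfs _)).2, eq_bot_iff]
      refine (commutator_mono hXu le_rfl).trans ?_
      rw [commutator_eq_bot_iff_le_centralizer.2 (le_centralizer_iff.1 huF)]
    exact hu1 (zpowers_eq_bot.1 (eq_bot_of_centralizes_gfs hO hu0 hbot))

end Cfsg.Agent.S2817
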