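import Mathlib
import Cfsg.Statements.S2818
import Cfsg.Agent.Lib.LocalChar.YL
import Cfsg.Agent.Lib.LocalChar.Subnormal
import Cfsg.Agent.Lib.LocalChar.Frattini

set_option autoImplicit false

open scoped commutatorElement Pointwise

open Cfsg.Agent.Lib.LocalChar

namespace Cfsg.Agent.S2818

/-- Let P be a finite p-subgroup of a group G and H a subgroup of N_G(P) with [P, H] ≤ Ω₁(Z(P)) (the elements of order dividing p in the centre of P). Then H centralizes the Frattini subgroup of P. -/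
theorem result {G : Type*} [Group G] [Finite G] {p : ℕ} [Fact p.Prime] (P : Subgroup G) (hP : IsPGroup p ↥P) (H : Subgroup G) (hH : H ≤ Subgroup.normalizer (P : Set G)) (h : ⁅P, H⁆ ≤ Cfsg.omegaOne p (P ⊓ Subgroup.centralizer (P : Set G))) : ⁅(frattini ↥P).map P.subtype, H⁆ = ⊥ := by
  set Z := Cfsg.omegaOne p (P ⊓ Subgroup.centralizer (P : Set G))
  have hcm : ∀ a ∈ P, ∀ x ∈ H, ∃ z ∈ Z, x * a * x⁻¹ = a * z := fun a ha x hx =>
    ⟨⁅a⁻¹, x⁆, h (Subgroup.commutator_mem_commutator (P.inv_mem ha) hx), by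
      simp [commutatorElement_def, mul_assoc]⟩
  let F : Subgroup P := (Subgroup.centralizer (H : Set G)).subgroupOf P
  suffices frattini P ≤ F by
    rw [Subgroup.commutator_eq_bot_iff_le_centralizer]
    rintro _ ⟨a, ha, rfl⟩
    exact this ha
  have hpow : ∀ a : P, a ^ p ∈ F := fun a => Subgroup.mem_centralizer_iff.2 fun x hx => by
    obtain ⟨z, hz, e⟩ := hcm a a.2 x hx
    have h2 := congrArg (· ^ p) e
    simp only [conj_pow, ((mem_omegaCenter_iff.1 hz).2.1 a a.2).mul_pow,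
      (mem_omegaCenter_iff.1 hz).2.2, mul_one, mul_inv_eq_iff_eq_mul] at h2
    simpa using h2
  have hcom : commutator P ≤ F := by
    rw [commutator_def, Subgroup.commutator_le]
    intro a _ b _
    refine Subgroup.mem_centralizer_iff.2 fun x hx => ?_
    obtain ⟨z, hz, e⟩ := hcm a a.2 x hx
    obtain ⟨w, hw, e'⟩ := hcm b b.2 x hx
    show x * ⁅(a : G), (b : G)⁆ = ⁅(a : G), (b : G)⁆ * x
    rw [← mul_inv_eq_iff_eq_mul, conjugate_commutatorElement, e, e']
    have hza := (mem_omegaCenter_iff.1 hz).2.1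
    have hwa := (mem_omegaCenter_iff.1 hw).2.1
    simp only [commutatorElement_def, mul_inv_rev]
    calc (a : G) * z * (b * w) * (z⁻¹ * (a : G)⁻¹) * (w⁻¹ * (b : G)⁻¹)
        = (a : G) * (z * (b * w) * z⁻¹) * (a : G)⁻¹ * (w⁻¹ * (b : G)⁻¹) := by group
      _ = (a : G) * (b * w) * (a : G)⁻¹ * (w⁻¹ * (b : G)⁻¹) := by
          rw [← (hza _ (P.mul_mem b.2 (mem_omegaCenter_iff.1 hw).1)).eq]; group
      _ = (a : G) * b * (w * (a : G)⁻¹ * w⁻¹) * (b : G)⁻¹ := by group
      _ = _ := by rw [← (hwa _ (P.inv_mem a.2)).eq]; group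
  exact frattini_le_of_pow_commutator hpow hcom

end Cfsg.Agent.S2818
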