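import Mathlib
import Cfsg.Statements.S2819
import Cfsg.Agent.Lib.LocalChar.YL
import Cfsg.Agent.Lib.LocalChar.Frattini
import Cfsg.Agent.Lib.LocalChar.Subnormal

set_option autoImplicit false

open scoped commutatorElement Pointwise

open Cfsg.Agent.Lib.LocalChar

namespace Cfsg.Agent.S2819

/-- Let P be a finite p-subgroup of a group G, H a subgroup of N_G(P), and Y a subgroup of H centralizing the derived subgroup P' such that [P, Y] is elementary abelian. Then O^p(⟨Y^H⟩), the subgroup of the normal closure of Y in H generated by its elements of order prime to p, centralizes the Frattini subgroup of P. -/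
theorem result {G : Type*} [Group G] [Finite G] {p : ℕ} [Fact p.Prime] (P : Subgroup G) (hP : IsPGroup p ↥P) (H : Subgroup G) (hH : H ≤ Subgroup.normalizer (P : Set G)) (Y : Subgroup G) (hYH : Y ≤ H) (hYc : Y ≤ Subgroup.centralizer ((⁅P, P⁆ : Subgroup G) : Set G)) (hel : Cfsg.IsElementaryAbelian p ⁅P, Y⁆) (NY : Subgroup G) (hNY : NY = (Subgroup.normalClosure ((Y.subgroupOf H : Subgroup ↥H) : Set ↥H)).map H.subtype) : (Cfsg.pResidual p ↥NY).map NY.subtype ≤ Subgroup.centralizer (((frattini ↥P).map P.subtype : Subgroup G) : Set G) := by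
  subst hNY
  rw [conjClosure_map_subtype H Y hYH]
  set N := conjClosure H Y
  set D := ⁅P, P⁆ with hD
  have hN : N ≤ H := conjClosure_le hYH Subgroup.le_normalizer
  have hDP : D ≤ P := Subgroup.commutator_le_self P
  have hPD : P ≤ Subgroup.normalizer (D : Set G) := left_le_nz_commutator P P
  have hHD : H ≤ Subgroup.normalizer (D : Set G) := le_nz_commutator hH hH
  have hNc : N ≤ Subgroup.centralizer (D : Set G) := conjClosure_le hYc (le_nz_centralizer hHD)
  have hDn : (D.subgroupOf P).Normal := normal_subgroupOf hPD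
  -- elements acting trivially on p-th powers modulo D
  let F0 : Subgroup G :=
    { carrier := {x | x ∈ H ∧ ∀ a ∈ P, (a ^ p)⁻¹ * (x * a ^ p * x⁻¹) ∈ D}
      one_mem' := ⟨H.one_mem, fun a _ => by simp⟩
      mul_mem' := fun {x y} hx hy => ⟨H.mul_mem hx.1 hy.1, fun a ha => by
        have h1 := hy.2 a ha
        have h2 := hx.2 a ha
        have : (a ^ p)⁻¹ * (x * y * a ^ p * (x * y)⁻¹) = ((a ^ p)⁻¹ * (x * a ^ p * x⁻¹)) *
            (x * ((a ^ p)⁻¹ * (y * a ^ p * y⁻¹)) * x⁻¹) := by group
        rw [this]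
        exact D.mul_mem h2 (conj_mem_of_nz (hHD hx.1) h1)⟩
      inv_mem' := fun {x} hx => ⟨H.inv_mem hx.1, fun a ha => by
        have h2 := conj_mem_of_nz (hHD (H.inv_mem hx.1)) (D.inv_mem (hx.2 a ha))
        simpa [mul_assoc] using h2⟩ }
  have hNF : N ≤ F0 := by
    refine conjClosure_le (fun y hy => ⟨hYH hy, fun a ha => ?_⟩) (le_nz_iff.2 fun k hk x hx => ?_)
    · set c := a⁻¹ * (y * a * y⁻¹) with hc
      have hcP : c ∈ P := P.mul_mem (P.inv_mem ha) (conj_mem_of_nz (hH (hYH hy)) ha)
      have hcp : c ^ p = 1 := by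
        have h2 := hel.2 ⁅a⁻¹, y⁆ (Subgroup.commutator_mem_commutator (P.inv_mem ha) hy)
        rw [show c = ⁅a⁻¹, y⁆ by rw [hc]; simp [commutatorElement_def, mul_assoc]]
        exact h2
      have e : y * a * y⁻¹ = a * c := by rw [hc]; group
      haveI := hDn
      set π := QuotientGroup.mk' (D.subgroupOf P)
      have hcomm : Commute (π ⟨a, ha⟩) (π ⟨c, hcP⟩) := by
        rw [← commutatorElement_eq_one_iff_commute, ← map_commutatorElement]
        exact (QuotientGroup.eq_one_iff _).2 (Subgroup.commutator_mem_commutator ha hcP)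
      have h3 : π (⟨a, ha⟩ * ⟨c, hcP⟩) ^ p = π ⟨a, ha⟩ ^ p := by
        rw [map_mul, hcomm.mul_pow, ← map_pow π ⟨c, hcP⟩,
          show (⟨c, hcP⟩ : P) ^ p = 1 from Subtype.ext hcp, map_one, mul_one]
      rw [← map_pow, ← map_pow, QuotientGroup.mk'_eq_mk'] at h3
      obtain ⟨z, hz, he⟩ := h3
      have hz' : (z : G) ∈ D := hz
      have he' : (a * c) ^ p * (z : G) = a ^ p := congrArg Subtype.val he
      show (a ^ p)⁻¹ * (y * a ^ p * y⁻¹) ∈ D
      rw [← conj_pow, e, ← he']
      simpa [mul_assoc] using D.inv_mem hz'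
    · refine ⟨H.mul_mem (H.mul_mem hk hx.1) (H.inv_mem hk), fun a ha => ?_⟩
      have h1 := hx.2 (k⁻¹ * a * k) (by simpa using conj_mem_of_nz (hH (H.inv_mem hk)) ha)
      have h2 := conj_mem_of_nz (hHD hk) h1
      rw [conj_pow'] at h2
      simpa [mul_assoc] using h2
  refine resOf_le_iff.2 fun x hx ho => Subgroup.mem_centralizer_iff.2 fun v hv => ?_
  obtain ⟨v, hv', rfl⟩ := hv
  have hdc : ∀ b ∈ D, Commute x b := fun b hb => (Subgroup.mem_centralizer_iff.1 (hNc hx) b hb).symm
  have hpow : ∀ a ∈ P, Commute x (a ^ p) := fun a ha => commute_of_two_step ho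
    (hdc _ ((hNF hx).2 a ha)) (exists_pow_eq_one (hP.to_le hDP) ((hNF hx).2 a ha))
  have hle : frattini P ≤ (Subgroup.centralizer ({x} : Set G)).subgroupOf P := by
    refine frattini_le_of_pow_commutator (fun a => Subgroup.mem_centralizer_singleton_iff.2
      (by simpa using (hpow a a.2).eq.symm)) ?_
    intro d hd
    refine Subgroup.mem_centralizer_singleton_iff.2 (hdc d ?_).eq.symm
    have h4 : (commutator P).map P.subtype ≤ D := by
      rw [commutator_def, Subgroup.map_commutator, ← MonoidHom.range_eq_map, Subgroup.range_subtype]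
    exact h4 ⟨d, hd, rfl⟩
  exact (Subgroup.mem_centralizer_singleton_iff.1 (hle hv'))

end Cfsg.Agent.S2819
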