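import Mathlib
import Cfsg.Statements.S2821
import Cfsg.Agent.Lib.LocalChar.YFactor

set_option autoImplicit false

open scoped commutatorElement Pointwise

open Cfsg.Agent.Lib.LocalChar

namespace Cfsg.Agent.S2821

/-- Let H be a finite group, p a prime, T a Sylow p-subgroup and L a subgroup of characteristic p containing T; let Y_L be the largest p-reduced normal subgroup of L (the join of the normal elementary abelian p-subgroups V of L with O_p(L/C_L(V)) = 1). Then T₀ := C_T(Y_L) is a Sylow p-subgroup of C_H(Y_L); moreover O_p(L) ≤ T₀ ≤ C_L(Y_L) and Ω₁(Z(T)) ≤ Z_L ≤ Y_L ≤ Ω₁(Z(O_p(L))), where Z_L is generated by the Ω₁(Z(S)) over the Sylow p-subgroups S of L. -/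
theorem result {H : Type*} [Group H] [Finite H] {p : ℕ} [Fact p.Prime] (T : Sylow p H) (L : Subgroup H) (hTL : (T : Subgroup H) ≤ L) (hL : Subgroup.centralizer (Cfsg.pCore p ↥L : Set ↥L) ≤ Cfsg.pCore p ↥L) (T₀ : Subgroup H) (hT₀ : T₀ = (T : Subgroup H) ⊓ Subgroup.centralizer (((Cfsg.largestPReducedOf p L) : Subgroup H) : Set H)) : (∃ P : Sylow p ↥(Subgroup.centralizer (((Cfsg.largestPReducedOf p L) : Subgroup H) : Set H)), (P : Subgroup ↥(Subgroup.centralizer (((Cfsg.largestPReducedOf p L) : Subgroup H) : Set H))) = T₀.subgroupOf (Subgroup.centralizer (((Cfsg.largestPReducedOf p L) : Subgroup H) : Set H))) ∧ (Cfsg.pCoreOf p L) ≤ T₀ ∧ T₀ ≤ L ⊓ Subgroup.centralizer (((Cfsg.largestPReducedOf p L) : Subgroup H) : Set H) ∧ (Cfsg.omegaOne p ((T : Subgroup H) ⊓ Subgroup.centralizer (((T : Subgroup H) : Subgroup H) : Set H))) ≤ Cfsg.sylowCenterClosure p L ∧ Cfsg.sylowCenterClosure p L ≤ (Cfsg.largestPReducedOf p L) ∧ (Cfsg.largestPReducedOf p L) ≤ (Cfsg.omegaOne p ((Cfsg.pCoreOf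 p L) ⊓ Subgroup.centralizer (((Cfsg.pCoreOf p L) : Subgroup H) : Set H))) := by
  subst hT₀
  have hT := IsSylowIn.of_le T hTL
  have hL' := charP_iff.1 hL
  have hS := isSylowIn_centralizer_YL hT
  have hle : (T : Subgroup H) ⊓ Subgroup.centralizer (YL p L : Set H) ≤
      Subgroup.centralizer (YL p L : Set H) := inf_le_right
  have hSC : IsSylowIn p ((T : Subgroup H) ⊓ Subgroup.centralizer (YL p L : Set H))
      (Subgroup.centralizer (YL p L : Set H)) := by
    have hn : (T : Subgroup H) ≤ Subgroup.normalizer (Subgroup.centralizer (YL p L : Set H) : Set H) :=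
      hTL.trans (le_nz_centralizer (isPRedOf_YL L).nz)
    have h1 := (IsSylowIn.of_le T (le_sup_left : (T : Subgroup H) ≤
      (T : Subgroup H) ⊔ Subgroup.centralizer (YL p L : Set H))).inf le_sup_right
      (sup_le hn Subgroup.le_normalizer)
    exact h1
  refine ⟨⟨hSC.sylow, rfl⟩, pCoreOf_le_TL hT, inf_le_inf_right _ hTL, ?_,
    (sylowCenterClosure_isPRedOf hT hL').le_YL, (isPRedOf_YL L).le_omega⟩
  rw [sylowCenterClosure_eq hT]
  exact le_conjClosure L _

end Cfsg.Agent.S2821
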