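import Mathlib
import Cfsg.Statements.S2823
import Cfsg.Agent.Lib.LocalChar.YFactor

set_option autoImplicit false

open scoped commutatorElement Pointwise

open Cfsg.Agent.Lib.LocalChar

namespace Cfsg.Agent.S2823

/-- Let H be a finite group, p a prime, T a Sylow p-subgroup and L a subgroup of characteristic p containing T; let Z_L be the subgroup generated by the Ω₁(Z(S)) over the Sylow p-subgroups S of L and O^p(L) the subgroup generated by the elements of L of order prime to p. Then Z_L = Ω₁(Z(L))·[Z_L, O^p(L)] and [Z_L, L] = [Z_L, O^p(L)]. -/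
theorem result {H : Type*} [Group H] [Finite H] {p : ℕ} [Fact p.Prime] (T : Sylow p H) (L : Subgroup H) (hTL : (T : Subgroup H) ≤ L) (hL : Subgroup.centralizer (Cfsg.pCore p ↥L : Set ↥L) ≤ Cfsg.pCore p ↥L) : Cfsg.sylowCenterClosure p L = (Cfsg.omegaOne p (L ⊓ Subgroup.centralizer ((L : Subgroup H) : Set H))) ⊔ ⁅Cfsg.sylowCenterClosure p L, (Cfsg.pResidual p ↥L).map L.subtype⁆ ∧ ⁅Cfsg.sylowCenterClosure p L, L⁆ = ⁅Cfsg.sylowCenterClosure p L, (Cfsg.pResidual p ↥L).map L.subtype⁆ := by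
  have hT := IsSylowIn.of_le T hTL
  have hL' := charP_iff.1 hL
  set M := Cfsg.sylowCenterClosure p L
  have hM := sylowCenterClosure_isPRedOf hT hL'
  have hMe : M = conjClosure L (omZ p (T : Subgroup H)) := sylowCenterClosure_eq hT
  have hMa := hM.ea.1
  set W := ⁅M, resOf p L⁆
  have hWn : L ≤ Subgroup.normalizer (W : Set H) := le_nz_commutator hM.nz (le_nz_resOf L)
  have hWM : W ≤ M := commutator_le_left_of_nz ((resOf_le L).trans hM.nz)
  let M' : Subgroup H :=
    { carrier := {m | m ∈ M ∧ ∀ l ∈ L, ⁅m, l⁆ ∈ W}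
      one_mem' := ⟨M.one_mem, fun l _ => by simp⟩
      mul_mem' := fun {a b} ha hb => ⟨M.mul_mem ha.1 hb.1, fun l hl => by
        rw [commutatorElement_mul_left_eq_conj_mul]
        have : a * ⁅b, l⁆ * a⁻¹ = ⁅b, l⁆ := by
          rw [(comm_of_isMulCommutative hMa ha.1 (hWM (hb.2 l hl))).eq]; group
        rw [this]; exact W.mul_mem (hb.2 l hl) (ha.2 l hl)⟩
      inv_mem' := fun {a} ha => ⟨M.inv_mem ha.1, fun l hl => by
        have h1 : ⁅a, l⁆ ∈ M := hWM (ha.2 l hl)
        have : ⁅a⁻¹, l⁆ = ⁅a, l⁆⁻¹ := by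
          rw [commutatorElement_inv_left, ← commutatorElement_inv]
          have h2 := (comm_of_isMulCommutative hMa ha.1 (M.inv_mem h1)).eq
          calc a⁻¹ * ⁅a, l⁆⁻¹ * a = a⁻¹ * (a * ⁅a, l⁆⁻¹) := by rw [h2]; group
            _ = _ := by group
        rw [this]; exact W.inv_mem (ha.2 l hl)⟩ }
  have hM' : M ≤ M' := by
    conv_lhs => rw [hMe]
    refine conjClosure_le (fun z hz => ⟨hMe ▸ le_conjClosure L _ hz, fun l hl => ?_⟩) ?_
    · rw [← hT.resOf_sup, sup_comm] at hl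
      obtain ⟨t, ht, r, hr, rfl⟩ := (mem_sup_iff_of_nz (hTL.trans (le_nz_resOf L))).1 hl
      rw [commutatorElement_mul_right_eq_mul_conj]
      have : ⁅z, t⁆ = 1 := ((mem_omegaCenter_iff.1 hz).2.1 t ht).symm.commutator_eq
      rw [this, one_mul]
      exact conj_mem_of_nz (hWn (hTL ht))
        (Subgroup.commutator_mem_commutator (hMe ▸ le_conjClosure L _ hz) hr)
    · refine le_nz_iff.2 fun k hk m hm => ⟨conj_mem_of_nz (hM.nz hk) hm.1, fun l hl => ?_⟩
      have : ⁅k * m * k⁻¹, l⁆ = k * ⁅m, k⁻¹ * l * k⁆ * k⁻¹ := by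
        simp [commutatorElement_def, mul_assoc]
      rw [this]
      exact conj_mem_of_nz (hWn hk) (hm.2 _ (L.mul_mem (L.mul_mem (L.inv_mem hk) hl) hk))
  have h2 : ⁅M, L⁆ = W := le_antisymm (Subgroup.commutator_le.2 fun m hm l hl => (hM' hm).2 l hl)
    (Subgroup.commutator_mono le_rfl (resOf_le L))
  refine ⟨le_antisymm ?_ (sup_le (fun x hx => ?_) hWM), h2⟩
  · show M ≤ omZ p L ⊔ W
    conv_lhs => rw [hMe]
    refine conjClosure_le ?_ (le_nz_sup (Subgroup.le_normalizer.trans (nz_le_nz_omZ L)) hWn)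
    have h := fixed_le_centralizer_sup_commutator (M := M) (C := L) (S := (T : Subgroup H)) hMa
      (isPGroup_of_isEA hM.ea) hM.nz hT.2.2
    refine (le_inf (hMe ▸ le_conjClosure L _) ?_).trans (h.trans (sup_le_sup ?_ h2.le))
    · exact fun z hz => Subgroup.mem_centralizer_iff.2 fun t ht => ((mem_omegaCenter_iff.1 hz).2.1 t ht).eq
    · exact fun x hx => mem_omegaCenter_iff.2 ⟨hM.le hx.1,
        fun l hl => Subgroup.mem_centralizer_iff.1 hx.2 l hl, hM.ea.2 x hx.1⟩
  · obtain ⟨hxL, hxc, hxp⟩ := (mem_omegaCenter_iff (H := L)).1 hx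
    rw [hMe]
    refine le_conjClosure L _ (mem_omegaCenter_iff.2 ⟨?_, fun t ht => hxc t (hTL ht), hxp⟩)
    refine pCoreOf_le_sylowIn hT (hL' ⟨hxL, Subgroup.mem_centralizer_iff.2 fun a ha => ?_⟩)
    exact (hxc a (pCoreOf_le L ha)).eq

end Cfsg.Agent.S2823
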