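import Mathlib
import Cfsg.Statements.S2824
import Cfsg.Agent.Lib.LocalChar.YFactor

set_option autoImplicit false

open scoped commutatorElement Pointwise

open Cfsg.Agent.Lib.LocalChar

namespace Cfsg.Agent.S2824

/-- Let H be a finite group, p a prime, T a Sylow p-subgroup, L and M subgroups of characteristic p containing T, Y_L the largest p-reduced normal subgroup of L and T₀ = C_T(Y_L). If M·C_H(Y_L) = L·C_H(Y_L), then L* := N_M(T₀) has Y_{L*} = Y_L and L·C_H(Y_L) = L*·C_H(Y_L). -/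
theorem result {H : Type*} [Group H] [Finite H] {p : ℕ} [Fact p.Prime] (T : Sylow p H) (L M : Subgroup H) (hTL : (T : Subgroup H) ≤ L) (hTM : (T : Subgroup H) ≤ M) (hL : Subgroup.centralizer (Cfsg.pCore p ↥L : Set ↥L) ≤ Cfsg.pCore p ↥L) (hM : Subgroup.centralizer (Cfsg.pCore p ↥M : Set ↥M) ≤ Cfsg.pCore p ↥M) (T₀ : Subgroup H) (hT₀ : T₀ = (T : Subgroup H) ⊓ Subgroup.centralizer (((Cfsg.largestPReducedOf p L) : Subgroup H) : Set H)) (hfac : M ⊔ Subgroup.centralizer (((Cfsg.largestPReducedOf p L) : Subgroup H) : Set H) = L ⊔ Subgroup.centralizer (((Cfsg.largestPReducedOf p L) : Subgroup H) : Set H)) (Ls : Subgroup H) (hLs : Ls = M ⊓ Subgroup.normalizer ((T₀ : Subgroup H) : Set H)) : (Cfsg.largestPReducedOf p Ls) = (Cfsg.largestPReducedOf p L) ∧ L ⊔ Subgroup.centralizer (((Cfsg.largestPReducedOf p L) : Subgroup H) : Set H) = Ls ⊔ Subgroup.centralizer (((Cfsg.largestPReducedOf p L) : Subgroup H) : Set H) := by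
  subst hT₀ hLs
  set Y := YL p L
  set C := Subgroup.centralizer (Y : Set H)
  set T0 := (T : Subgroup H) ⊓ C
  have hTl := IsSylowIn.of_le T hTL
  have hTm := IsSylowIn.of_le T hTM
  have hM' := charP_iff.1 hM
  have hY := isPRedOf_YL (p := p) L
  have hYM : IsPRedOf p Y M :=
    hY.transfer ((hY.le_pCore.trans (pCoreOf_le_sylowIn hTl)).trans hTM) hfac
  have hMC : M ≤ Subgroup.normalizer (C : Set H) := le_nz_centralizer hYM.nz
  set Ls := M ⊓ Subgroup.normalizer (T0 : Set H) with hLsd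
  have hTLs : (T : Subgroup H) ≤ Ls := le_inf hTM (le_nz_TL hTl)
  have hS : IsSylowIn p T0 (M ⊓ C) := by
    have h := hTm.inf (N := M ⊓ C) inf_le_left (le_nz_inf Subgroup.le_normalizer hMC)
    rwa [← inf_assoc, inf_eq_left.2 hTM] at h
  have hM2 : M = (M ⊓ C) ⊔ Ls :=
    (hS.frattini' inf_le_left (le_nz_inf Subgroup.le_normalizer hMC)).symm
  have hfac2 : L ⊔ C = Ls ⊔ C := by
    refine hfac.symm.trans (le_antisymm (sup_le ?_ le_sup_right) (sup_le_sup_right inf_le_left C))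
    exact hM2.le.trans (sup_le (inf_le_right.trans le_sup_right) le_sup_left)
  refine ⟨le_antisymm ?_ ?_, hfac2⟩
  · have hcore : T0 ≤ Cfsg.pCoreOf p Ls :=
      le_pCoreOf (inf_le_left.trans hTLs) inf_le_right (T.2.to_le inf_le_left)
    have h1 := (isPRedOf_YL (p := p) Ls).pCore_centralizes
    have h2 : Cfsg.pCoreOf p Ls ≤ T := pCoreOf_le_sylowIn (IsSylowIn.of_le T hTLs)
    intro x hx
    rw [show (Cfsg.largestPReducedOf p L) = omZ p T0 from YL_eq_omZ_TL hTl (charP_iff.1 hL)]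
    have hxT : x ∈ (T : Subgroup H) := h2 ((isPRedOf_YL Ls).le_pCore hx)
    have hxc : ∀ t ∈ T0, Commute t x := fun t ht =>
      (Subgroup.mem_centralizer_iff.1 (h1 (hcore ht)) x hx).symm
    refine mem_omegaCenter_iff.2 ⟨⟨hxT, Subgroup.mem_centralizer_iff.2 fun y hy => ?_⟩, hxc,
      (isPRedOf_YL Ls).ea.2 x hx⟩
    exact (hxc y (pCoreOf_le_TL hTl (hY.le_pCore hy))).eq
  · exact (hY.transfer ((hY.le_pCore.trans (pCoreOf_le_sylowIn hTl)).trans hTLs) hfac2.symm).le_YL

end Cfsg.Agent.S2824
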