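import Mathlib
import Cfsg.Statements.S2825
import Cfsg.Agent.Lib.LocalChar.YFactor
import Cfsg.Agent.Lib.LocalChar.Actions

set_option autoImplicit false

open scoped commutatorElement Pointwise

open Cfsg.Agent.Lib.LocalChar

namespace Cfsg.Agent.S2825

/-- Let L be a subnormal subgroup of the finite group H, p a prime, Y_H and Y_L the largest p-reduced normal subgroups. Then Y_H ∩ L = Y_H ∩ Y_L and this subgroup is a p-reduced normal subgroup of L; C_L(Y_L) = C_L(Y_H) = C_L(Y_H ∩ L); and if O^p(H) ≤ L, then [Y_L, L] = 1 if and only if [Y_H, H] = 1. -/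
theorem result {H : Type*} [Group H] [Finite H] {p : ℕ} [Fact p.Prime] (L : Subgroup H) (hL : L.IsSubnormal) : Cfsg.largestPReduced p H ⊓ L = Cfsg.largestPReduced p H ⊓ (Cfsg.largestPReducedOf p L) ∧ Cfsg.IsPReducedNormal p ((Cfsg.largestPReduced p H ⊓ L).subgroupOf L) ∧ L ⊓ Subgroup.centralizer ((Cfsg.largestPReducedOf p L : Subgroup H) : Set H) = L ⊓ Subgroup.centralizer (Cfsg.largestPReduced p H : Set H) ∧ L ⊓ Subgroup.centralizer (Cfsg.largestPReduced p H : Set H) = L ⊓ Subgroup.centralizer ((Cfsg.largestPReduced p H ⊓ L : Subgroup H) : Set H) ∧ (Cfsg.pResidual p H ≤ L → (⁅(Cfsg.largestPReducedOf p L), L⁆ = ⊥ ↔ ⁅Cfsg.largestPReduced p H, (⊤ : Subgroup H)⁆ = ⊥)) := by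
  classical
  set Y := Cfsg.largestPReduced p H
  have hYe : Y = YL p (⊤ : Subgroup H) := largestPReduced_eq
  have hY : IsPRedOf p Y (⊤ : Subgroup H) := hYe ▸ isPRedOf_YL _
  have hYn : Y.Normal := Subgroup.normalizer_eq_top_iff.1 (top_le_iff.1 hY.nz)
  set CY := Subgroup.centralizer (Y : Set H)
  haveI hCn : CY.Normal := Subgroup.normalizer_eq_top_iff.1 (top_le_iff.1 (le_nz_centralizer hY.nz))
  have hq : Cfsg.pCore p (H ⧸ CY) = ⊥ := pCore_quotient_eq_bot_iff.2 fun D hD hpow =>
    hY.red D le_top Subgroup.le_normalizer_of_normal hpow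
  -- a subnormal subgroup with p-power exponent modulo the centralizer centralizes Y
  have hsubn : ∀ D : Subgroup H, D.IsSubnormal → (∀ d ∈ D, ∃ k : ℕ, d ^ p ^ k ∈ CY) → D ≤ CY := by
    intro D hD hpow
    have hle := le_pCore_of_subnormal (hD.map (QuotientGroup.mk'_surjective CY)) (p := p) (by
      rintro ⟨_, x, hx, rfl⟩
      obtain ⟨k, hk⟩ := hpow x hx
      refine ⟨k, Subtype.ext ?_⟩
      show (QuotientGroup.mk' _ x) ^ p ^ k = 1
      rw [← map_pow]; exact (QuotientGroup.eq_one_iff _).2 hk)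
    rwa [hq, le_bot_iff, Subgroup.map_eq_bot_iff, QuotientGroup.ker_mk'] at hle
  have hYP : Y ≤ Cfsg.pCore p H := le_pCore hYn (isPGroup_of_isEA hY.ea)
  set A := Y ⊓ L
  have hAn : L ≤ Subgroup.normalizer (A : Set H) :=
    le_nz_inf Subgroup.le_normalizer_of_normal Subgroup.le_normalizer
  have hCA : L ⊓ Subgroup.centralizer (A : Set H) = L ⊓ CY := by
    refine le_antisymm (le_inf inf_le_left ?_) (inf_le_inf_left _ (Subgroup.centralizer_le inf_le_left))
    set E := L ⊓ Subgroup.centralizer (A : Set H)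
    have hE : E.IsSubnormal := Subgroup.IsSubnormal.trans inf_le_left
      (normal_subgroupOf (le_nz_inf Subgroup.le_normalizer (le_nz_centralizer hAn))).isSubnormal hL
    refine hsubn E hE fun d hd => ?_
    obtain ⟨k, hk⟩ := pow_mem_resOf (p := p) hd
    refine ⟨k, resOf_le_iff.2 (fun x hx ho => Subgroup.mem_centralizer_iff.2 fun v hv => ?_) hk⟩
    refine (commute_of_chain (A := Y) (B := A) (isPGroup_of_isEA hY.ea)
      (fun a ha => hYn.conj_mem a ha x) ho (fun b hb => (Subgroup.mem_centralizer_iff.1 hx.2 b hb).symm)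
      (fun a ha => ⟨Y.mul_mem (Y.inv_mem ha) (hYn.conj_mem a ha x), ?_⟩) v hv).eq.symm
    have h1 : a⁻¹ * x * a ∈ resOf p L := by
      simpa using conj_mem_of_nz ((hYP.trans (pCore_le_nz_resOf hL)) (Y.inv_mem ha)) (mem_resOf hx.1 ho)
    simpa [mul_assoc] using L.mul_mem (resOf_le L h1) (L.inv_mem hx.1)
  have hAred : IsPRedOf p A L := ⟨inf_le_right, hAn, isEA_of_le hY.ea inf_le_left, fun D hD hn hpow => by
    refine (hsubn D (Subgroup.IsSubnormal.trans hD (normal_subgroupOf hn).isSubnormal hL) fun d hd => ?_).trans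
      (Subgroup.centralizer_le inf_le_left)
    obtain ⟨k, hk⟩ := hpow d hd
    have h2 : d ^ p ^ k ∈ L ⊓ Subgroup.centralizer (A : Set H) := ⟨L.pow_mem (hD hd) _, hk⟩
    rw [hCA] at h2
    exact ⟨k, h2.2⟩⟩
  -- the hard inclusion, one normal step at a time
  have hmain : ∀ K : Subgroup H, K.IsSubnormal →
      K ⊓ CY ≤ Subgroup.centralizer (YL p K : Set H) := by
    intro K hK
    induction hK with
    | top => exact inf_le_right.trans (le_of_eq (by rw [← hYe]))
    | step B K hle _ hn ih =>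
      have hKB : K ≤ Subgroup.normalizer (B : Set H) := le_nz_pointwise hle hn
      set V := YL p B
      have hV := isPRedOf_YL (p := p) B
      have hKV : K ≤ Subgroup.normalizer (V : Set H) := hKB.trans (nz_le_nz_YL B)
      obtain ⟨W, ⟨hWV, hKW, hWC⟩, hmin⟩ :=
        (Set.toFinite {W : Subgroup H | W ≤ V ∧ K ≤ Subgroup.normalizer (W : Set H) ∧
          B ⊓ Subgroup.centralizer (W : Set H) ≤ Subgroup.centralizer (V : Set H)}).exists_minimal
          ⟨V, le_rfl, hKV, inf_le_right⟩
      have hWred : IsPRedOf p W K := by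
        refine ⟨hWV.trans (hV.le.trans hle), hKW, isEA_of_le hV.ea hWV, fun D hD hn' hpow => ?_⟩
        obtain ⟨Q, hQ⟩ := exists_isSylowIn (p := p) D
        have hres : resOf p D ≤ Subgroup.centralizer (W : Set H) :=
          resOf_le_iff.2 fun x hx ho => mem_of_coprime_of_pow ho (hpow x hx)
        have hsub := hmin (y := W ⊓ Subgroup.centralizer (D : Set H))
          ⟨inf_le_left.trans hWV, le_nz_inf hKW (le_nz_centralizer hn'), ?_⟩ inf_le_left
        · exact Subgroup.le_centralizer_iff.1 (hsub.trans inf_le_right)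
        set W' := W ⊓ Subgroup.centralizer (D : Set H)
        set E := B ⊓ Subgroup.centralizer (W' : Set H)
        have hEn : B ≤ Subgroup.normalizer (E : Set H) :=
          le_nz_inf Subgroup.le_normalizer (le_nz_centralizer
            (le_nz_inf (hle.trans hKW) (le_nz_centralizer (hle.trans hn'))))
        have hBD : ∀ b ∈ B, ∀ d ∈ D, ⁅b, d⁆ ∈ Subgroup.centralizer (V : Set H) := by
          intro b hb d hd
          refine hV.red (B ⊓ D) inf_le_left (le_nz_inf Subgroup.le_normalizer (hle.trans hn'))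
            (fun e he => ?_) ⟨?_, ?_⟩
          · obtain ⟨k, hk⟩ := hpow e he.2
            exact ⟨k, hWC ⟨B.pow_mem he.1 _, hk⟩⟩
          · have : ⁅b, d⁆ = b * (d * b⁻¹ * d⁻¹) := by simp [commutatorElement_def, mul_assoc]
            rw [this]; exact B.mul_mem hb (conj_mem_of_nz (hKB (hD hd)) (B.inv_mem hb))
          · have : ⁅b, d⁆ = b * d * b⁻¹ * d⁻¹ := rfl
            rw [this]; exact D.mul_mem (conj_mem_of_nz (hn' (hle hb)) hd) (D.inv_mem hd)
        have hQW : Q ≤ Subgroup.normalizer (W : Set H) := hQ.1.trans (hD.trans hKW)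
        refine hV.red E inf_le_left hEn fun e he => ?_
        obtain ⟨k, hk⟩ := pow_mem_resOf (p := p) he
        refine ⟨k, resOf_le_iff.2 (fun x hx ho => ?_) hk⟩
        refine hWC ⟨hx.1, Subgroup.mem_centralizer_iff.2 fun w hw => ?_⟩
        let f : W →* W :=
          { toFun := fun u => ⟨x * u.1 * x⁻¹, conj_mem_of_nz (hKW (hle hx.1)) u.2⟩
            map_one' := Subtype.ext (by simp)
            map_mul' := fun a b => Subtype.ext (by simp [mul_assoc]) }
        refine (commute_of_actions (P := W) (A := Q) (isPGroup_of_isEA (isEA_of_le hV.ea hWV)) hQ.2.1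
          hQW (fun u hu => conj_mem_of_nz (hKW (hle hx.1)) hu) ho ?_ ?_ w hw).eq.symm
        · intro q hq u hu
          have h5 := Subgroup.centralizer_le hWV (hBD x hx.1 q (hQ.1 hq))
          have h6 := Subgroup.mem_centralizer_iff.1 h5 _
            (conj_mem_of_nz (hKW (hD (hQ.1 hq))) (conj_mem_of_nz (hKW (hle hx.1)) hu))
          have e1 : x * (q * u * q⁻¹) * x⁻¹ =
              ⁅x, q⁆ * (q * (x * u * x⁻¹) * q⁻¹) * ⁅x, q⁆⁻¹ := by
            simp [commutatorElement_def, mul_assoc]
          rw [e1, ← h6]; group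
        · intro u hu
          refine (Subgroup.mem_centralizer_iff.1 hx.2 u ⟨hu.1, Subgroup.mem_centralizer_iff.2 fun d hd => ?_⟩).symm
          rw [← hQ.resOf_sup] at hd
          have : resOf p D ⊔ Q ≤ Subgroup.centralizer ({u} : Set H) := sup_le
            (fun r hr => Subgroup.mem_centralizer_singleton_iff.2
              (Subgroup.mem_centralizer_iff.1 (hres hr) u hu.1).symm)
            (fun q hq => Subgroup.mem_centralizer_singleton_iff.2
              (Subgroup.mem_centralizer_iff.1 hu.2 q hq))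
          exact Subgroup.mem_centralizer_singleton_iff.1 (this hd)
      intro x hx
      exact hWC ⟨hx.1, Subgroup.centralizer_le hWred.le_YL (ih ⟨hle hx.1, hx.2⟩)⟩
  have hCL : L ⊓ Subgroup.centralizer (YL p L : Set H) = L ⊓ CY :=
    le_antisymm (hCA ▸ inf_le_inf_left _ (Subgroup.centralizer_le hAred.le_YL))
      (le_inf inf_le_left (hmain L hL))
  refine ⟨le_antisymm (le_inf inf_le_left hAred.le_YL) (inf_le_inf_left _ (isPRedOf_YL L).le),
    (IsPRedOf.iff inf_le_right).2 hAred, hCL, hCA.symm, fun hres => ⟨fun h => ?_, fun h => ?_⟩⟩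
  · rw [Subgroup.commutator_top_right_eq_bot_iff_le_center]
    rw [Subgroup.commutator_comm, Subgroup.commutator_eq_bot_iff_le_centralizer] at h
    have h1 : L ≤ CY := fun x hx => ((hCL ▸ (⟨hx, h hx⟩ : x ∈ L ⊓ _)) : x ∈ L ⊓ CY).2
    have h2 : (⊤ : Subgroup H) ≤ CY := hsubn ⊤ Subgroup.IsSubnormal.top fun d hd => by
      obtain ⟨k, hk⟩ := pow_mem_resOf (p := p) hd
      rw [resOf_top] at hk
      exact ⟨k, h1 (hres hk)⟩
    exact fun v hv => Subgroup.mem_center_iff.2 fun g =>
      (Subgroup.mem_centralizer_iff.1 (h2 (Subgroup.mem_top g)) v hv).symm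
  · rw [Subgroup.commutator_top_right_eq_bot_iff_le_center] at h
    rw [Subgroup.commutator_comm, Subgroup.commutator_eq_bot_iff_le_centralizer]
    have h1 : L ≤ L ⊓ CY := le_inf le_rfl fun x _ =>
      Subgroup.mem_centralizer_iff.2 fun v hv => (Subgroup.mem_center_iff.1 (h hv) x).symm
    exact (h1.trans hCL.ge).trans inf_le_right

end Cfsg.Agent.S2825
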