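import Mathlib
import Cfsg.Statements.S2826
import Cfsg.Agent.Lib.LocalChar.YFactor

set_option autoImplicit false

open scoped commutatorElement Pointwise

open Cfsg.Agent.Lib.LocalChar

namespace Cfsg.Agent.S2826

/-- Let H be a finite group of characteristic p, T a Sylow p-subgroup, and V a normal elementary abelian p-subgroup of H containing Ω₁(Z(T)). Then C_H(Ω₁(Z(T))) = C_H([V, O^p(H)] ∩ Ω₁(Z(T))), O^p(H) being generated by the elements of order prime to p. -/
theorem result {H : Type*} [Group H] [Finite H] {p : ℕ} [Fact p.Prime] (hH : Subgroup.centralizer (Cfsg.pCore p H : Set H) ≤ Cfsg.pCore p H) (T : Sylow p H) (V : Subgroup H) [V.Normal] (hV : Cfsg.IsElementaryAbelian p V) (hZV : (Cfsg.omegaOne p ((T : Subgroup H) ⊓ Subgroup.centralizer (((T : Subgroup H) : Subgroup H) : Set H))) ≤ V) : Subgroup.centralizer ((Cfsg.omegaOne p ((T : Subgroup H) ⊓ Subgroup.centralizer (((T : Subgroup H) : Subgroup H) : Set H))) : Set H) = Subgroup.centralizer (((⁅V, Cfsg.pResidual p H⁆ ⊓ (Cfsg.omegaOne p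 ((T : Subgroup H) ⊓ Subgroup.centralizer (((T : Subgroup H) : Subgroup H) : Set H)))) : Subgroup H) : Set H) := by
  have hT := IsSylowIn.of_le T (le_top : (T : Subgroup H) ≤ ⊤)
  set Z := omZ p (T : Subgroup H)
  set R := Cfsg.pResidual p H with hR
  set W := ⁅V, R⁆
  set C := Subgroup.centralizer ((W ⊓ Z : Subgroup H) : Set H)
  have hC : C ≤ Subgroup.normalizer (V : Set H) := Subgroup.le_normalizer_of_normal
  haveI : IsMulCommutative V := hV.1
  refine le_antisymm (Subgroup.centralizer_le fun _ h => h.2) fun c hc => ?_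
  refine Subgroup.mem_centralizer_iff.2 fun z hz => ?_
  have hTC : (T : Subgroup H) ≤ C :=
    (centralizes_omZ_self _).trans (Subgroup.centralizer_le fun _ h => h.2)
  have hi := (IsSylowIn.of_le T hTC).2.2
  have hzT : ∀ t ∈ (T : Subgroup H), Commute t z := (mem_omegaCenter_iff.1 hz).2.1
  have hzV : z ∈ V := hZV hz
  set d := (normMap V C (T : Subgroup H) hC z)⁻¹ * z ^ (T : Subgroup H).relIndex C with hd
  have hdW : d ∈ W := normMap_sub_mem' hzV fun x _ => by
    have hx : x ∈ resOf p (⊤ : Subgroup H) ⊔ (T : Subgroup H) := hT.resOf_sup.symm ▸ Subgroup.mem_top x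
    obtain ⟨r, hr, t, ht, rfl⟩ :=
      (mem_sup_iff_of_nz' (le_top.trans (le_nz_resOf (p := p) (⊤ : Subgroup H)))).1 hx
    rw [commutatorElement_mul_right_eq_mul_conj]
    have : ⁅z, t⁆ = 1 := (hzT t ht).symm.commutator_eq
    rw [this]
    rw [resOf_top] at hr
    simpa using Subgroup.commutator_mem_commutator hzV hr
  have hdV : d ∈ V := commutator_le_left_of_nz Subgroup.le_normalizer_of_normal hdW
  have hdZ : d ∈ Z := mem_omegaCenter_iff.2 ⟨?_, fun t ht =>
    ((normMap_fixed hzV hzT (hTC ht)).inv_right).mul_right ((hzT t ht).pow_right _), hV.2 d hdV⟩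
  · have hpow : z ^ (T : Subgroup H).relIndex C ∈ Subgroup.centralizer ({c} : Set H) := by
      rw [show z ^ (T : Subgroup H).relIndex C = normMap V C (T : Subgroup H) hC z * d by
        rw [hd]; group]
      refine Subgroup.mul_mem _ (Subgroup.mem_centralizer_singleton_iff.2 ?_)
        (Subgroup.mem_centralizer_singleton_iff.2 ?_)
      · exact (normMap_fixed hzV hzT hc).eq.symm
      · exact Subgroup.mem_centralizer_iff.1 hc d ⟨hdW, hdZ⟩
    have := mem_of_pow_coprime (coprime_of_not_dvd hi)
      ⟨1, by rw [pow_one, (mem_omegaCenter_iff.1 hz).2.2]; exact Subgroup.one_mem _⟩ hpow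
    exact Subgroup.mem_centralizer_singleton_iff.1 this
  · exact pCore_le_sylow T (le_pCore inferInstance (isPGroup_of_isEA hV) hdV)

end Cfsg.Agent.S2826
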