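import Mathlib
import Cfsg.Statements.S2827
import Cfsg.Agent.Lib.LocalChar.PIrred

set_option autoImplicit false

open scoped commutatorElement Pointwise

open Cfsg.Agent.Lib.LocalChar

namespace Cfsg.Agent.S2827

open Cfsg.Agent.Lib.LocalChar

open scoped commutatorElement

/-- Let H be a finite p-irreducible group (not p-closed, and O^p(H) lies in every normal subgroup that is not p-closed) and T a Sylow p-subgroup. Then H is generated by the conjugates of T and H = H'·T; O^p(H) ≤ H'; and for every normal subgroup Y of T not contained in O_p(H), O^p(H) = [O^p(H), Y] and O^p(H) is contained in the normal closure of Y in H. -/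
theorem result {H : Type*} [Group H] [Finite H] {p : ℕ} [Fact p.Prime] (hH : Cfsg.IsPIrreducible p H) (T : Sylow p H) : Subgroup.normalClosure ((T : Subgroup H) : Set H) = ⊤ ∧ commutator H ⊔ (T : Subgroup H) = ⊤ ∧ Cfsg.pResidual p H ≤ commutator H ∧ ∀ Y : Subgroup H, Y ≤ (T : Subgroup H) → (T : Subgroup H) ≤ Subgroup.normalizer (Y : Set H) → ¬ Y ≤ Cfsg.pCore p H → ⁅Cfsg.pResidual p H, Y⁆ = Cfsg.pResidual p H ∧ Cfsg.pResidual p H ≤ Subgroup.normalClosure (Y : Set H) := by
  set R := Cfsg.pResidual p H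
  have hRT : R ⊔ (T : Subgroup H) = ⊤ := resOf_sup_sylow T
  have hTO : ¬ (T : Subgroup H) ≤ Cfsg.pCore p H := fun h => hH.1 fun P => by
    obtain ⟨g, rfl⟩ := MulAction.exists_smul_eq H T P
    have e : (T : Subgroup H) = Cfsg.pCore p H := le_antisymm h (pCore_le_sylow T)
    show (cj g (T : Subgroup H)).Normal
    rw [e, cj_eq_of_mem_nz (by rw [Subgroup.normalizer_eq_top_iff.2 (Cfsg.Agent.Lib.LocalChar.pCore_normal)]; exact Subgroup.mem_top g)]
    exact Cfsg.Agent.Lib.LocalChar.pCore_normal
  have key : ∀ {Y N : Subgroup H}, N.Normal → IsPGroup p Y → Y ≤ N → ¬ Y ≤ Cfsg.pCore p H → R ≤ N :=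
    fun {Y N} hN hY hYN hYO => hH.2 N hN fun hc => hYO ((isPClosed_subgroup_iff hN).1 hc Y hY hYN)
  have hcn : (commutator H ⊔ (T : Subgroup H)).Normal := by
    constructor
    intro x hx k
    rw [show k * x * k⁻¹ = ⁅k, x⁆ * x by simp [commutatorElement_def]]
    refine Subgroup.mul_mem _ (Subgroup.mem_sup_left ?_) hx
    rw [commutator_def]; exact Subgroup.commutator_mem_commutator (Subgroup.mem_top k) (Subgroup.mem_top x)
  have hCT : commutator H ⊔ (T : Subgroup H) = ⊤ := top_le_iff.1 (hRT ▸ sup_le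
    (key hcn T.isPGroup' le_sup_right hTO) le_sup_right)
  refine ⟨top_le_iff.1 (hRT ▸ sup_le (key inferInstance T.isPGroup' Subgroup.le_normalClosure hTO)
    Subgroup.le_normalClosure), hCT, ?_, fun Y hYT hTY hYO => ?_⟩
  · exact pResidual_le_of_sup T.isPGroup' (by rw [Subgroup.normalizer_eq_top (H := commutator H)]; exact le_top)
      (by rw [sup_comm]; exact hCT)
  · have hRn : R.Normal := Cfsg.Agent.Lib.LocalChar.pResidual_normal
    have hYp : IsPGroup p Y := T.isPGroup'.to_le hYT
    set X := ⁅R, Y⁆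
    have hTR : (T : Subgroup H) ≤ Subgroup.normalizer (R : Set H) := by
      rw [Subgroup.normalizer_eq_top_iff.2 hRn]; exact le_top
    have hYn : Y ≤ Subgroup.normalizer (X : Set H) := right_le_nz_commutator R Y
    have hN : (X ⊔ Y).Normal := by
      rw [← Subgroup.normalizer_eq_top_iff, eq_top_iff, ← hRT]
      refine sup_le (le_nz_iff.2 fun r hr z hz => ?_) (le_nz_sup (le_nz_commutator hTR hTY) hTY)
      obtain ⟨a, ha, y, hy, rfl⟩ := (mem_sup_iff_of_nz' hYn).1 hz
      rw [show r * (a * y) * r⁻¹ = (r * a * r⁻¹) * (⁅r, y⁆ * y) by simp [commutatorElement_def, mul_assoc]]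
      exact Subgroup.mul_mem _ (Subgroup.mem_sup_left (conj_mem_of_nz (left_le_nz_commutator R Y hr) ha))
        (Subgroup.mul_mem _ (Subgroup.mem_sup_left (Subgroup.commutator_mem_commutator hr hy)) (Subgroup.mem_sup_right hy))
    have hRle : R ≤ X ⊔ Y := key hN hYp le_sup_right hYO
    have hXR : X ≤ R := commutator_le_left_of_nz (by rw [Subgroup.normalizer_eq_top_iff.2 hRn]; exact le_top)
    refine ⟨le_antisymm hXR ?_, hRle.trans (sup_le ?_ Subgroup.le_normalClosure)⟩
    · calc R = resOf p R := resOf_pResidual.symm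
        _ ≤ resOf p (Y ⊔ X) := resOf_mono (hRle.trans (sup_comm X Y).le)
        _ = resOf p X := resOf_sup_pGroup hYp hYn
        _ ≤ X := resOf_le X
    · refine (Subgroup.commutator_mono le_rfl Subgroup.le_normalClosure).trans (commutator_le_right_of_nz ?_)
      rw [Subgroup.normalizer_eq_top]; exact le_top

end Cfsg.Agent.S2827
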