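import Mathlib
import Cfsg.Statements.S2828
import Cfsg.Agent.Lib.LocalChar.PIrred

set_option autoImplicit false

open scoped commutatorElement Pointwise

open Cfsg.Agent.Lib.LocalChar

namespace Cfsg.Agent.S2828

open Cfsg.Agent.Lib.LocalChar

open scoped commutatorElement

/-- Let H be a finite group, p a prime and D a normal p-subgroup of H. Then H is p-irreducible if and only if H/D is p-irreducible, and H is strongly p-irreducible if and only if H/D is strongly p-irreducible. -/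
theorem result {H : Type*} [Group H] [Finite H] {p : ℕ} [Fact p.Prime] (D : Subgroup H) [D.Normal] (hD : IsPGroup p ↥D) : (Cfsg.IsPIrreducible p H ↔ Cfsg.IsPIrreducible p (H ⧸ D)) ∧ (Cfsg.IsStronglyPIrreducible p H ↔ Cfsg.IsStronglyPIrreducible p (H ⧸ D)) := by
  set q := QuotientGroup.mk' D with hq
  have hqs : Function.Surjective q := QuotientGroup.mk'_surjective D
  set O := Cfsg.pCore p H
  set Ob := Cfsg.pCore p (H ⧸ D)
  have hiff : ∀ {x : H}, q x ∈ Ob ↔ x ∈ O := fun {x} => mem_quotient_pCore_iff hD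
  have hR : Cfsg.pResidual p (H ⧸ D) = (Cfsg.pResidual p H).map q := pResidual_quotient D
  -- `p`-subgroups of `q '' N` and of `N`
  have hA : ∀ {N : Subgroup H} {Nb : Subgroup (H ⧸ D)}, N.map q ≤ Nb →
      (∀ Pb : Subgroup (H ⧸ D), IsPGroup p Pb → Pb ≤ Nb → Pb ≤ Ob) →
      ∀ P : Subgroup H, IsPGroup p P → P ≤ N → P ≤ O := fun hle h P hP hPN x hx =>
    hiff.1 (h (P.map q) (hP.map q) ((Subgroup.map_mono hPN).trans hle) (Subgroup.mem_map_of_mem q hx))
  have hB : ∀ {N : Subgroup H} {Nb : Subgroup (H ⧸ D)}, Nb.comap q ≤ N →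
      (∀ P : Subgroup H, IsPGroup p P → P ≤ N → P ≤ O) →
      ∀ Pb : Subgroup (H ⧸ D), IsPGroup p Pb → Pb ≤ Nb → Pb ≤ Ob := by
    intro N Nb hle h Pb hPb hPN x hx
    obtain ⟨g, rfl⟩ := hqs x
    exact hiff.2 (h (Pb.comap q) (hPb.comap_of_ker_isPGroup q (by rw [hq, QuotientGroup.ker_mk']; exact hD))
      ((Subgroup.comap_mono hPN).trans hle) hx)
  have hclosed : Cfsg.IsPClosed p H ↔ Cfsg.IsPClosed p (H ⧸ D) := by
    rw [isPClosed_iff, isPClosed_iff]
    exact ⟨fun h Pb hPb => hB (N := ⊤) (Nb := ⊤) le_top (fun P hP _ => h P hP) Pb hPb le_top,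
      fun h P hP => hA (N := ⊤) (Nb := ⊤) le_top (fun Pb hPb _ => h Pb hPb) P hP le_top⟩
  have hres : ∀ {N : Subgroup H}, N.Normal → (Cfsg.pResidual p H).map q ≤ N.map q → Cfsg.pResidual p H ≤ N := by
    intro N hN hle
    have h1 : Cfsg.pResidual p H ≤ D ⊔ N := by
      rw [Subgroup.map_le_map_iff, hq, QuotientGroup.ker_mk', sup_comm] at hle
      exact hle
    calc Cfsg.pResidual p H = resOf p (Cfsg.pResidual p H) := resOf_pResidual.symm
      _ ≤ resOf p (D ⊔ N) := resOf_mono h1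
      _ = resOf p N := resOf_sup_pGroup hD (by rw [Subgroup.normalizer_eq_top_iff.2 hN]; exact le_top)
      _ ≤ N := resOf_le N
  refine ⟨⟨fun h => ⟨fun hc => h.1 (hclosed.2 hc), fun Nb hNb hNc => ?_⟩,
      fun h => ⟨fun hc => h.1 (hclosed.1 hc), fun N hN hNc => ?_⟩⟩,
    ⟨fun h => ⟨fun hc => h.1 (hclosed.2 hc), fun Nb hNb hNc => ?_⟩,
      fun h => ⟨fun hc => h.1 (hclosed.1 hc), fun N hN hNc => ?_⟩⟩⟩
  · rw [hR, Subgroup.map_le_iff_le_comap]
    refine h.2 _ (hNb.comap q) fun hc => hNc ((isPClosed_subgroup_iff hNb).2 ?_)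
    exact hB le_rfl ((isPClosed_subgroup_iff (hNb.comap q)).1 hc)
  · refine hres hN (hR ▸ h.2 _ (hN.map q hqs) fun hc => hNc ((isPClosed_subgroup_iff hN).2 ?_))
    exact hA le_rfl ((isPClosed_subgroup_iff (hN.map q hqs)).1 hc)
  · rw [hR, Subgroup.map_le_iff_le_comap]
    refine h.2 _ (hNb.comap q) fun hc => hNc (Subgroup.commutator_le.2 fun a ha b _ => ?_)
    obtain ⟨a, rfl⟩ := hqs a
    obtain ⟨b, rfl⟩ := hqs b
    rw [← map_commutatorElement]
    exact hiff.2 (hc (Subgroup.commutator_mem_commutator ha (Subgroup.mem_top b)))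
  · refine hres hN (hR ▸ h.2 _ (hN.map q hqs) fun hc => hNc (Subgroup.commutator_le.2 fun a ha b _ => ?_))
    refine hiff.1 ?_
    rw [map_commutatorElement]
    exact hc (Subgroup.commutator_mem_commutator (Subgroup.mem_map_of_mem q ha) (Subgroup.mem_top _))

end Cfsg.Agent.S2828
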