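import Mathlib
import Cfsg.Statements.S2829
import Cfsg.Agent.Lib.LocalChar.PIrred

set_option autoImplicit false

open scoped commutatorElement Pointwise

open Cfsg.Agent.Lib.LocalChar

namespace Cfsg.Agent.S2829

open Cfsg.Agent.Lib.LocalChar

open scoped commutatorElement

/-- Every strongly p-irreducible finite group is p-irreducible. -/
theorem result {H : Type*} [Group H] [Finite H] {p : ℕ} [Fact p.Prime] (hH : Cfsg.IsStronglyPIrreducible p H) : Cfsg.IsPIrreducible p H := by
  refine ⟨hH.1, fun N hN hc => hH.2 N hN fun hle => hc ((isPClosed_subgroup_iff hN).2 fun P hP hPN => ?_)⟩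
  have hn : (P ⊔ Cfsg.pCore p H).Normal := by
    rw [← Subgroup.normalizer_eq_top_iff, eq_top_iff, le_nz_iff]
    intro k _ x hx
    have hxN : x ∈ N ⊔ Cfsg.pCore p H := sup_le_sup hPN le_rfl hx
    have hOn := Cfsg.Agent.Lib.LocalChar.pCore_normal (G := H) (p := p)
    have h1 : ⁅k, x⁆ ∈ Cfsg.pCore p H := by
      obtain ⟨n, hn, o, ho, rfl⟩ := (mem_sup_iff_of_nz (A := N) (B := Cfsg.pCore p H)
        (by rw [Subgroup.normalizer_eq_top (H := Cfsg.pCore p H)]; exact le_top)).1 hxN
      have h2 := hle (Subgroup.commutator_mem_commutator hn (Subgroup.mem_top k))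
      rw [show ⁅k, n * o⁆ = ⁅n, k⁆⁻¹ * (n * ((k * o * k⁻¹) * o⁻¹) * n⁻¹) by
        simp [commutatorElement_def, mul_assoc]]
      exact Subgroup.mul_mem _ (Subgroup.inv_mem _ h2)
        (hOn.conj_mem _ (Subgroup.mul_mem _ (hOn.conj_mem o ho k) (Subgroup.inv_mem _ ho)) n)
    rw [show k * x * k⁻¹ = ⁅k, x⁆ * x by simp [commutatorElement_def]]
    exact Subgroup.mul_mem _ (Subgroup.mem_sup_right h1) hx
  exact le_sup_left.trans (le_pCore hn (hP.to_sup_of_normal_right' pCore_isPGroup
    (by rw [Subgroup.normalizer_eq_top (H := Cfsg.pCore p H)]; exact le_top)))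

end Cfsg.Agent.S2829
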