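import Mathlib
import Cfsg.Statements.S2830
import Cfsg.Agent.Lib.LocalChar.PIrred
import Cfsg.Agent.Lib.LocalChar.PReduced

set_option autoImplicit false

open scoped commutatorElement Pointwise

open Cfsg.Agent.Lib.LocalChar

namespace Cfsg.Agent.S2830

open Cfsg.Agent.Lib.LocalChar

/-- Let H act by conjugation on the elementary abelian p-subgroup V of a finite group G (H ≤ N(V)), with H p-irreducible and O^p(H) not centralizing V. Then C_H(V) is p-closed and C_T(V) ≤ O_p(H) for every p-subgroup T of H. If in addition O_p(H) centralizes V, then C_T(V) = T ∩ O_p(H) for every p-subgroup T of H, and V is p-reduced for H: O_p(H/C_H(V)) = 1. -/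
theorem result {G : Type*} [Group G] [Finite G] {p : ℕ} [Fact p.Prime] (V H : Subgroup G) (hV : Cfsg.IsElementaryAbelian p V) (hHV : H ≤ Subgroup.normalizer (V : Set G)) (hH : Cfsg.IsPIrreducible p ↥H) (hnc : ¬ (Cfsg.pResidual p ↥H).map H.subtype ≤ Subgroup.centralizer (V : Set G)) [hn : ((Subgroup.centralizer (V : Set G)).subgroupOf H).Normal] : Cfsg.IsPClosed p ↥(H ⊓ Subgroup.centralizer (V : Set G)) ∧ (∀ T : Subgroup G, T ≤ H → IsPGroup p ↥T → T ⊓ Subgroup.centralizer (V : Set G) ≤ Cfsg.pCoreOf p H) ∧ (Cfsg.pCoreOf p H ≤ Subgroup.centralizer (V : Set G) → (∀ T : Subgroup G, T ≤ H → IsPGroup p ↥T → T ⊓ Subgroup.centralizer (V : Set G) = T ⊓ Cfsg.pCoreOf p H) ∧ Cfsg.pCore p (↥H ⧸ (Subgroup.centralizer (V : Set G)).subgroupOf H) = ⊥) := by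
  set CV := Subgroup.centralizer (V : Set G)
  set C := CV.subgroupOf H
  have hC : ∀ P : Subgroup ↥H, IsPGroup p P → P ≤ C → P ≤ Cfsg.pCore p ↥H := by
    refine (isPClosed_subgroup_iff hn).1 ?_
    by_contra hc
    exact hnc (by rintro _ ⟨x, hx, rfl⟩; exact hH.2 C hn hc hx)
  have hTC : ∀ T : Subgroup G, T ≤ H → IsPGroup p T → T ⊓ CV ≤ Cfsg.pCoreOf p H := by
    intro T hT hTp x hx
    exact ⟨⟨x, hT hx.1⟩, hC ((T ⊓ CV).subgroupOf H) (isPGroup_subgroupOf (hTp.to_le inf_le_left))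
      (fun y hy => hy.2) hx, rfl⟩
  refine ⟨?_, hTC, fun hO => ⟨fun T hT hTp => le_antisymm (le_inf inf_le_left (hTC T hT hTp))
    (inf_le_inf_left T hO), ?_⟩⟩
  · refine isPClosed_iff.2 fun P hP x hx => ?_
    have h1 : P.map (H ⊓ CV).subtype ≤ Cfsg.pCoreOf p H := fun y hy => by
      obtain ⟨z, hz, rfl⟩ := hy
      exact hTC (P.map (H ⊓ CV).subtype) ((Subgroup.map_subtype_le P).trans inf_le_left) (hP.map _)
        ⟨⟨z, hz, rfl⟩, z.2.2⟩
    have hn' : ((Cfsg.pCoreOf p H).subgroupOf (H ⊓ CV)).Normal :=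
      normal_subgroupOf (inf_le_left.trans (le_nz_pCoreOf H))
    exact le_pCore hn' (isPGroup_subgroupOf (isPGroup_pCoreOf H)) (h1 ⟨x, hx, rfl⟩)
  · refine pCore_quotient_eq_bot_iff.2 fun D hD hpow => ?_
    have hDc : ∀ P : Subgroup ↥H, IsPGroup p P → P ≤ D → P ≤ Cfsg.pCore p ↥H := by
      refine (isPClosed_subgroup_iff hD).1 ?_
      by_contra hc
      refine hnc ?_
      rintro _ ⟨x, hx, rfl⟩
      have : Cfsg.pResidual p ↥H ≤ C := by
        rw [← resOf_pResidual (p := p)]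
        refine resOf_le_iff.2 fun y hy ho => mem_of_coprime_of_pow ho (hpow y (hH.2 D hD hc hy))
      exact this hx
    obtain ⟨P, hP⟩ := exists_isSylowIn (p := p) D
    rw [← hP.resOf_sup]
    refine sup_le (resOf_le_iff.2 fun x hx ho => mem_of_coprime_of_pow ho (hpow x hx)) ?_
    exact fun x hx => hO ⟨x, hDc P hP.2.1 hP.1 hx, rfl⟩

end Cfsg.Agent.S2830
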