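import Mathlib
import Cfsg.Statements.S2832
import Cfsg.Agent.Lib.LocalChar.PIrred

set_option autoImplicit false

open scoped commutatorElement Pointwise

open Cfsg.Agent.Lib.LocalChar

namespace Cfsg.Agent.S2832

open Cfsg.Agent.Lib.LocalChar

/-- Let H be a finite group with Sylow p-subgroup T such that H is T-minimal (generated by the conjugates of T, with T in exactly one maximal subgroup), and let N be a normal subgroup of H. Then either H/N is a p-group or H/N is minimal over the image of T in the same sense. -/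
theorem result {H : Type*} [Group H] [Finite H] {p : ℕ} [Fact p.Prime] (T : Sylow p H) (hmin : Cfsg.IsMinimalOver (T : Subgroup H)) (N : Subgroup H) [N.Normal] : IsPGroup p (H ⧸ N) ∨ Cfsg.IsMinimalOver ((T : Subgroup H).map (QuotientGroup.mk' N)) := by
  set q := QuotientGroup.mk' N with hq
  by_cases hTN : (T : Subgroup H) ⊔ N = ⊤
  · left
    have : ((T : Subgroup H).map q) = ⊤ := by
      have h := congrArg (Subgroup.map q) hTN
      rw [Subgroup.map_sup, Subgroup.map_top_of_surjective q (QuotientGroup.mk'_surjective N),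
        show N.map q = ⊥ by rw [Subgroup.map_eq_bot_iff, QuotientGroup.ker_mk'], sup_bot_eq] at h
      exact h
    intro x
    obtain ⟨k, hk⟩ := (T.isPGroup'.map q) ⟨x, this ▸ Subgroup.mem_top x⟩
    exact ⟨k, by simpa using congrArg Subtype.val hk⟩
  right
  obtain ⟨M, ⟨hM, hTM⟩, huniq⟩ := hmin.2
  have hNM : N ≤ M := le_sup_right.trans (minimalOver_le hmin hM hTM le_sup_left hTN)
  have hcm : (M.map q).comap q = M := by
    rw [Subgroup.comap_map_eq, QuotientGroup.ker_mk', sup_eq_left.2 hNM]
  have hco : ∀ Z : Subgroup (H ⧸ N), IsCoatom Z → IsCoatom (Z.comap q) := fun Z hZ => by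
    refine ⟨fun h => hZ.1 ?_, fun W hW => ?_⟩
    · rw [← Subgroup.map_comap_eq_self_of_surjective (QuotientGroup.mk'_surjective N) Z]
      exact (congrArg (Subgroup.map q) h).trans (Subgroup.map_top_of_surjective q (QuotientGroup.mk'_surjective N))
    · have hker : q.ker ≤ W := (Subgroup.ker_le_comap q Z).trans hW.le
      have h1 : W.map q = ⊤ := hZ.2 _ (lt_of_le_of_ne
        ((Subgroup.map_comap_eq_self_of_surjective (QuotientGroup.mk'_surjective N) Z).ge.trans (Subgroup.map_mono hW.le))
        fun h => hW.ne (by rw [h, Subgroup.comap_map_eq, sup_eq_left.2 hker]))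
      have := congrArg (Subgroup.comap q) h1
      rwa [Subgroup.comap_map_eq, sup_eq_left.2 hker, Subgroup.comap_top] at this
  refine ⟨?_, M.map q, ⟨⟨fun h => hM.1 (by rw [← hcm, h, Subgroup.comap_top]), fun Z hZ => ?_⟩,
    Subgroup.map_mono hTM⟩, ?_⟩
  · rw [eq_top_iff]
    intro x _
    obtain ⟨g, rfl⟩ := QuotientGroup.mk'_surjective N x
    have : Subgroup.normalClosure ((T : Subgroup H) : Set H) ≤
        (Subgroup.normalClosure (((T : Subgroup H).map q : Subgroup (H ⧸ N)) : Set (H ⧸ N))).comap q :=
      Subgroup.normalClosure_le_normal fun t ht => Subgroup.subset_normalClosure ⟨t, ht, rfl⟩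
    exact this (hmin.1 ▸ Subgroup.mem_top g)
  · have h1 : Z.comap q = ⊤ := hM.2 _ (lt_of_le_of_ne (hcm.ge.trans (Subgroup.comap_mono hZ.le))
      fun h => hZ.ne (by rw [h, Subgroup.map_comap_eq_self_of_surjective (QuotientGroup.mk'_surjective N)]))
    rw [← Subgroup.map_comap_eq_self_of_surjective (QuotientGroup.mk'_surjective N) Z]
    exact (congrArg (Subgroup.map q) h1).trans (Subgroup.map_top_of_surjective q (QuotientGroup.mk'_surjective N))
  · rintro Z ⟨hZ, hTZ⟩
    rw [← huniq (Z.comap q) ⟨hco Z hZ, fun t ht => hTZ ⟨t, ht, rfl⟩⟩,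
      Subgroup.map_comap_eq_self_of_surjective (QuotientGroup.mk'_surjective N)]

end Cfsg.Agent.S2832
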