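import Mathlib
import Cfsg.Statements.S2833
import Cfsg.Agent.Lib.LocalChar.Basic

set_option autoImplicit false

open scoped commutatorElement Pointwise

open Cfsg.Agent.Lib.LocalChar

namespace Cfsg.Agent.S2833

open scoped commutatorElement

open Cfsg.Agent.Lib.LocalChar in
lemma commutator_le_of_sup {G : Type*} [Group G] {V X Y N : Subgroup G}
    (hXn : X ≤ Subgroup.normalizer (N : Set G)) (hYn : Y ≤ Subgroup.normalizer (N : Set G))
    (hX : ⁅V, X⁆ ≤ N) (hY : ⁅V, Y⁆ ≤ N) : ⁅V, X ⊔ Y⁆ ≤ N := by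
  rw [Subgroup.commutator_le]
  intro v hv l hl
  let K : Subgroup G :=
    { carrier := {a | a ∈ Subgroup.normalizer (N : Set G) ∧ ∀ v ∈ V, ⁅v, a⁆ ∈ N}
      one_mem' := ⟨one_mem _, fun v _ => by simp⟩
      mul_mem' := by
        rintro a b ⟨ha, ha'⟩ ⟨hb, hb'⟩
        refine ⟨mul_mem ha hb, fun v hv => ?_⟩
        rw [show ⁅v, a * b⁆ = ⁅v, a⁆ * (a * ⁅v, b⁆ * a⁻¹) by
          simp [commutatorElement_def, mul_assoc]]
        exact mul_mem (ha' v hv) (conj_mem_of_nz ha (hb' v hv))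
      inv_mem' := by
        rintro a ⟨ha, ha'⟩
        refine ⟨inv_mem ha, fun v hv => ?_⟩
        rw [show ⁅v, a⁻¹⁆ = a⁻¹ * ⁅v, a⁆⁻¹ * a⁻¹⁻¹ by simp [commutatorElement_def, mul_assoc]]
        exact conj_mem_of_nz (inv_mem ha) (inv_mem (ha' v hv)) }
  have h : X ⊔ Y ≤ K :=
    sup_le (fun a ha => ⟨hXn ha, fun v hv => hX (Subgroup.commutator_mem_commutator hv ha)⟩)
      (fun a ha => ⟨hYn ha, fun v hv => hY (Subgroup.commutator_mem_commutator hv ha)⟩)
  exact (h hl).2 v hv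


/-- Let V be a subgroup of a finite group G normalized by the subgroup L, let X ≤ L and g ∈ L with [V, X, X] = 1 and L generated by X and gXg⁻¹. Put W = [V, L]. Then W = [V, X]·[V, gXg⁻¹], C_W(X) = [V, X], and C_W(L) = [V, X] ∩ [V, gXg⁻¹]. -/
theorem result {G : Type*} [Group G] [Finite G] (V L : Subgroup G) (hLV : L ≤ Subgroup.normalizer (V : Set G)) (X : Subgroup G) (hX : X ≤ L) (g : G) (hg : g ∈ L) (hq : ⁅⁅V, X⁆, X⁆ = ⊥) (hgen : X ⊔ X.map (MulAut.conj g).toMonoidHom = L) (W : Subgroup G) (hW : W = ⁅V, L⁆) : ⁅V, X⁆ ⊔ ⁅V, X.map (MulAut.conj g).toMonoidHom⁆ = W ∧ W ⊓ Subgroup.centralizer (X : Set G) = ⁅V, X⁆ ∧ W ⊓ Subgroup.centralizer (L : Set G) = ⁅V, X⁆ ⊓ ⁅V, X.map (MulAut.conj g).toMonoidHom⁆ := by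
  open Cfsg.Agent.Lib.LocalChar in
  set Y := X.map (MulAut.conj g).toMonoidHom with hY
  set A := ⁅V, X⁆ with hA
  set B := ⁅V, Y⁆ with hB
  have hYL : Y ≤ L := hgen ▸ le_sup_right
  have hgV : g ∈ Subgroup.normalizer (V : Set G) := hLV hg
  have hBA : cj g A = B := by
    rw [hA, cj_commutator, cj_eq_of_mem_nz hgV]
  have hAV : A ≤ V := commutator_le_left_of_nz (hX.trans hLV)
  have hBV : B ≤ V := commutator_le_left_of_nz (hYL.trans hLV)
  have hAW : A ≤ W := hW ▸ Subgroup.commutator_mono le_rfl hX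
  have hBW : B ≤ W := hW ▸ Subgroup.commutator_mono le_rfl hYL
  have hVA : V ≤ Subgroup.normalizer (A : Set G) := left_le_nz_commutator V X
  have hVB : V ≤ Subgroup.normalizer (B : Set G) := left_le_nz_commutator V Y
  have hXAB : X ≤ Subgroup.normalizer ((A ⊔ B : Subgroup G) : Set G) := by
    refine (Subgroup.le_normalizer_iff_commutator_le_left).2 ?_
    exact le_trans (Subgroup.commutator_mono (sup_le hAV hBV) le_rfl) le_sup_left
  have hYAB : Y ≤ Subgroup.normalizer ((A ⊔ B : Subgroup G) : Set G) := by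
    refine (Subgroup.le_normalizer_iff_commutator_le_left).2 ?_
    exact le_trans (Subgroup.commutator_mono (sup_le hAV hBV) le_rfl) le_sup_right
  have h1 : A ⊔ B = W := by
    refine le_antisymm (sup_le hAW hBW) ?_
    rw [hW, ← hgen]
    exact commutator_le_of_sup hXAB hYAB le_sup_left le_sup_right
  have hcX : ∀ a ∈ A, ∀ x ∈ X, x * a = a * x := by
    intro a ha x hx
    exact (commutatorElement_eq_one_iff_mul_comm.1 (Subgroup.mem_bot.1
      (hq ▸ Subgroup.commutator_mem_commutator ha hx))).symm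
  have hcY : ∀ b ∈ B, ∀ y ∈ Y, y * b = b * y := by
    intro b hb y hy
    rw [← hBA] at hb
    obtain ⟨a, ha, rfl⟩ := hb
    obtain ⟨x, hx, rfl⟩ := hy
    simp only [MulEquiv.coe_toMonoidHom]
    rw [← map_mul, ← map_mul, hcX a ha x hx]
  have hcL : ∀ w : G, (∀ x ∈ X, x * w = w * x) → (∀ y ∈ Y, y * w = w * y) →
      w ∈ Subgroup.centralizer (L : Set G) := by
    intro w hx hy
    have h : L ≤ Subgroup.centralizer ({w} : Set G) := by
      rw [← hgen]
      refine sup_le (fun x h => ?_) (fun y h => ?_)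
      · rintro _ (rfl : _ = w)
        exact (hx x h).symm
      · rintro _ (rfl : _ = w)
        exact (hy y h).symm
    exact fun l hl => (h hl w rfl).symm
  have h2 : W ⊓ Subgroup.centralizer (X : Set G) = A := by
    refine le_antisymm ?_ (le_inf hAW fun a ha x hx => hcX a ha x hx)
    rintro w ⟨hw, hwc⟩
    rw [← h1] at hw
    obtain ⟨a, ha, b, hb, rfl⟩ :=
      (mem_sup_iff_of_nz' (hBV.trans hVA)).1 hw
    have hbX : ∀ x ∈ X, x * b = b * x := by
      intro x hx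
      have e : Commute x (a⁻¹ * (a * b)) :=
        (Commute.inv_right (hcX a ha x hx)).mul_right (hwc x hx)
      simpa using e.eq
    have hbL := hcL b hbX (hcY b hb)
    have hbA : g⁻¹ * b * g ∈ A := mem_cj.1 (hBA.symm ▸ hb)
    rw [show g⁻¹ * b * g = b by rw [mul_assoc, ← hbL g hg, ← mul_assoc, inv_mul_cancel, one_mul]] at hbA
    exact mul_mem ha hbA
  refine ⟨h1, h2, le_antisymm ?_ ?_⟩
  · rintro w ⟨hw, hwc⟩
    have hwA : w ∈ A := h2.le ⟨hw, fun x hx => hwc x (hX hx)⟩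
    refine ⟨hwA, ?_⟩
    have := conj_mem_cj (g := g) hwA
    rwa [hBA, hwc g hg, mul_inv_cancel_right] at this
  · rintro w ⟨hwA, hwB⟩
    exact ⟨hAW hwA, hcL w (hcX w hwA) (hcY w hwB)⟩

end Cfsg.Agent.S2833
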