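import Mathlib
import Cfsg.Statements.S2834
import Cfsg.Agent.Lib.LocalChar.PIrred
import Cfsg.Agent.Lib.LocalChar.FStar

set_option autoImplicit false

open scoped commutatorElement Pointwise

open Cfsg.Agent.Lib.LocalChar

namespace Cfsg.Agent.S2834

open Subgroup Cfsg.Agent.Lib.LocalChar

section
variable {H : Type*} [Group H] [Finite H] {p : ℕ} [Fact p.Prime]

/-- A configuration for the descent. -/
def State (p : ℕ) (M A Q L : Subgroup H) : Prop :=
  A ⊔ Q ≤ L ∧ ¬ A ≤ Cfsg.pCoreOf p L ∧ ∃ (g : H) (P : Subgroup H), IsSylowIn p P L ∧ A ≤ P ∧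
    P ≤ L ⊓ cj g M ∧ L ⊓ cj g M < L ∧ ∀ X, P ≤ X → X < L → X ≤ L ⊓ cj g M

theorem cj_nz_closure {s : Set (Subgroup H)} {x : H} (h : ∀ B ∈ s, cj x B ∈ s) :
    x ∈ normalizer ((sSup s : Subgroup H) : Set H) := by
  refine mem_nz_of_cj_le ?_
  rw [cj, map_le_iff_le_comap, sSup_le_iff]
  intro B hB
  rw [← map_le_iff_le_comap]
  exact le_sSup (h B hB)

theorem mem_cj_of_le {x : H} {B : Subgroup H} {C : Subgroup H} (h : cj x B ≤ C) : B ≤ cj x⁻¹ C := by
  have := map_mono (f := (MulAut.conj x⁻¹).toMonoidHom) h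
  change cj x⁻¹ (cj x B) ≤ cj x⁻¹ C at this
  rwa [cj_cj, inv_mul_cancel, cj_one] at this

theorem minimal_state {M A Q L : Subgroup H} (hAp : IsPGroup p A) (hQn : Q.Normal) (hQp : IsPGroup p Q)
    (hs : State p M A Q L) (hmin : ∀ L', State p M A Q L' → Nat.card ↥L ≤ Nat.card ↥L') :
    ∃ g : H, A ⊔ Cfsg.pCoreOf p L ≤ L ⊓ cj g M ∧ L ⊓ cj g M < L ∧
      (∀ X, A ⊔ Cfsg.pCoreOf p L ≤ X → X < L → X ≤ L ⊓ cj g M) ∧
      ∀ x ∈ L, x ∉ L ⊓ cj g M → (A ⊔ cj x A) ⊔ Cfsg.pCoreOf p L = L := by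
  classical
  obtain ⟨hAQ, hAnot, g, P, hP, hAP, hPL₀, hlt, huniq⟩ := hs
  set L₀ := L ⊓ cj g M with hL₀
  set O := Cfsg.pCoreOf p L with hO
  have hOP : O ≤ P := pCoreOf_le_sylowIn hP
  have hQO : Q ≤ O := le_pCoreOf (le_sup_right.trans hAQ) (by rw [normalizer_eq_top_iff.2 hQn]; exact le_top) hQp
  have hAO : A ⊔ O ≤ L₀ := sup_le (hAP.trans hPL₀) (hOP.trans hPL₀)
  have claim : ∀ X, A ⊔ O ≤ X → X < L → X ≤ L₀ := by
    by_contra hbad
    push Not at hbad
    obtain ⟨X₁, hX₁, hX₁L, hX₁n⟩ := hbad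
    let 𝔅 : Set (Subgroup H × Subgroup H) := {q | A ⊔ O ≤ q.1 ∧ q.1 < L ∧ ¬ q.1 ≤ L₀ ∧
      IsPGroup p q.2 ∧ A ≤ q.2 ∧ q.2 ≤ q.1 ⊓ L₀}
    have hne : 𝔅.Nonempty := ⟨(X₁, A), hX₁, hX₁L, hX₁n, hAp, le_rfl,
      le_inf (le_sup_left.trans hX₁) (le_sup_left.trans hAO)⟩
    obtain ⟨⟨X, U⟩, ⟨hX, hXL, hXn, hUp, hAU, hUle⟩, hmaxU⟩ :=
      Set.exists_max_image 𝔅 (fun q => Nat.card ↥q.2) (Set.toFinite _) hne
    have grow : ∀ Y W : Subgroup H, A ⊔ O ≤ Y → Y < L → ¬ Y ≤ L₀ → IsPGroup p W → A ≤ W →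
        W ≤ Y ⊓ L₀ → U ≤ W → W = U := by
      intro Y W h1 h2 h3 h4 h5 h6 h7
      exact (eq_of_le_of_card_ge h7 (hmaxU (Y, W) ⟨h1, h2, h3, h4, h5, h6⟩)).symm
    have hOU : O ≤ U := by
      have h1 : O ≤ normalizer (U : Set H) → True := fun _ => trivial
      have hUn : U ≤ normalizer (O : Set H) := (hUle.trans inf_le_left).trans (hXL.le.trans (le_nz_pCoreOf L))
      have hp' : IsPGroup p ↥(U ⊔ O) := hUp.to_sup_of_normal_right' (isPGroup_pCoreOf L) hUn
      have := grow X (U ⊔ O) hX hXL hXn hp' (hAU.trans le_sup_left)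
        (sup_le hUle (le_inf (le_sup_right.trans hX) (le_sup_right.trans hAO))) le_sup_left
      exact le_sup_right.trans this.le
    -- a Sylow subgroup of `L₀` over `U`
    have hP0 : IsSylowIn p P L₀ := ⟨hPL₀, hP.2.1, fun hd => hP.2.2 (hd.trans
      (Dvd.intro _ (relIndex_mul_relIndex _ _ _ hPL₀ hlt.le)))⟩
    obtain ⟨y, hy, hyU⟩ := hP0.conj_le hUp (hUle.trans inf_le_right)
    set P' := cj y⁻¹ P with hP'
    have hyL : y ∈ L := hy.1
    have hL₀n : cj y⁻¹ L₀ = L₀ := cj_eq_of_mem_nz (le_normalizer (inv_mem hy))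
    have hLn : cj y⁻¹ L = L := cj_eq_of_mem_nz (le_normalizer (inv_mem hyL))
    have hUP' : U ≤ P' := mem_cj_of_le hyU
    have hP'L₀ : P' ≤ L₀ := (map_mono hPL₀).trans hL₀n.le
    have huniq' : ∀ Y, P' ≤ Y → Y < L → Y ≤ L₀ := by
      intro Y h1 h2
      have h3 : P ≤ cj y Y := by
        have := mem_cj_of_le (x := y⁻¹) (B := P) h1
        rwa [inv_inv] at this
      have h4 : cj y Y < L := by
        rw [← cj_eq_of_mem_nz (le_normalizer hyL : y ∈ normalizer (L : Set H))]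
        exact (map_lt_map_iff_of_injective (MulAut.conj y).injective).2 h2
      have := mem_cj_of_le (huniq _ h3 h4)
      rwa [hL₀n] at this
    have hP'p : IsPGroup p P' := hP.2.1.map _
    have hUlt : U < P' := lt_of_le_of_ne hUP' fun h => hXn (huniq' X (h ▸ hUle.trans inf_le_left) hXL)
    obtain ⟨u, huP', huU, hun⟩ := exists_mem_nz_of_lt hP'p hUlt
    have bigger : ∀ Y : Subgroup H, A ⊔ O ≤ Y → Y < L → U ≤ Y → u ∈ Y → Y ≤ L₀ := by
      intro Y h1 h2 h3 h4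
      by_contra h5
      have hle : U ⊔ zpowers u ≤ P' := sup_le hUP' (zpowers_le.2 huP')
      have := grow Y (U ⊔ zpowers u) h1 h2 h5 (hP'p.to_le hle) (hAU.trans le_sup_left)
        (le_inf (sup_le h3 (zpowers_le.2 h4)) (hle.trans hP'L₀)) le_sup_left
      exact huU (this ▸ mem_sup_right (mem_zpowers u))
    -- the normaliser of `U` lies in `L₀`
    have hNU : L ⊓ normalizer (U : Set H) ≤ L₀ := by
      have hUL : U ≤ L := hUle.trans (inf_le_right.trans inf_le_left)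
      have h1 : U ≤ L ⊓ normalizer (U : Set H) := le_inf hUL le_normalizer
      refine bigger _ ((sup_le hAU hOU).trans h1) (lt_of_le_of_ne inf_le_left fun h => hAnot ?_) h1
        ⟨(hP'L₀ huP').1, hun⟩
      exact hAU.trans (le_pCoreOf hUL (inf_eq_left.1 h) hUp)
    have hUX : IsSylowIn p U X := by
      obtain ⟨R, hR, hUR⟩ := exists_isSylowIn_ge (p := p) hUp (hUle.trans inf_le_left)
      rcases hUR.eq_or_lt with h | h
      · obtain rfl : U = R := h
        exact hR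
      · exfalso
        obtain ⟨v, hv, hvU, hvn⟩ := exists_mem_nz_of_lt hR.2.1 h
        have hle : U ⊔ zpowers v ≤ R := sup_le hUR (zpowers_le.2 hv)
        have := grow X (U ⊔ zpowers v) hX hXL hXn (hR.2.1.to_le hle) (hAU.trans le_sup_left)
          (le_inf (hle.trans hR.1) (sup_le (hUle.trans inf_le_right)
            (zpowers_le.2 (hNU ⟨hXL.le (hR.1 hv), hvn⟩)))) le_sup_left
        exact hvU (this ▸ mem_sup_right (mem_zpowers v))
    obtain ⟨X₀, ⟨hUX₀, hX₀X, hX₀n⟩, hX₀min⟩ := (Finite.to_wellFoundedLT (α := Subgroup H)).wf.has_min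
      {Y : Subgroup H | U ≤ Y ∧ Y ≤ X ∧ ¬ Y ≤ L₀} ⟨X, hUle.trans inf_le_left, le_rfl, hXn⟩
    have hX₀L : X₀ ≤ L := hX₀X.trans hXL.le
    have hUX₀' : IsSylowIn p U X₀ := ⟨hUX₀, hUp, fun hd => hUX.2.2 (hd.trans
      (Dvd.intro _ (relIndex_mul_relIndex _ _ _ hUX₀ hX₀X)))⟩
    -- some conjugate of `A` in `U` escapes the core of `X₀`
    obtain ⟨l, hl, hlU, hlnot⟩ : ∃ l ∈ L, cj l A ≤ U ∧ ¬ cj l A ≤ Cfsg.pCoreOf p X₀ := by
      by_contra hall
      push Not at hall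
      set s : Set (Subgroup H) := {B | ∃ l ∈ L, cj l A = B ∧ B ≤ U} with hs'
      set D := sSup s with hD
      have hDU : D ≤ U := sSup_le fun B ⟨_, _, _, h⟩ => h
      have hAD : A ≤ D := le_sSup ⟨1, one_mem _, cj_one A, hAU⟩
      have hperm : ∀ v ∈ L ⊓ normalizer (U : Set H), v ∈ normalizer (D : Set H) := by
        intro v hv
        refine cj_nz_closure ?_
        rintro _ ⟨l, hl, rfl, hle⟩
        refine ⟨v * l, mul_mem hv.1 hl, (cj_cj v l A).symm, ?_⟩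
        exact (map_mono hle).trans (cj_eq_of_mem_nz hv.2).le
      have hX₀D : X₀ ≤ normalizer (D : Set H) := by
        intro v hv
        refine cj_nz_closure ?_
        rintro _ ⟨l, hl, rfl, hle⟩
        refine ⟨v * l, mul_mem (hX₀L hv) hl, (cj_cj v l A).symm, ?_⟩
        exact ((map_mono (hall l hl hle)).trans (cj_eq_of_mem_nz (le_nz_pCoreOf X₀ hv)).le).trans
          (pCoreOf_le_sylowIn hUX₀')
      have hUL : U ≤ L := hUle.trans (inf_le_right.trans inf_le_left)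
      have hUN : U ≤ L ⊓ normalizer (D : Set H) :=
        le_inf hUL fun v hv => hperm v ⟨hUL hv, le_normalizer hv⟩
      refine hX₀n ((le_inf hX₀L hX₀D).trans (bigger _ ((sup_le hAU hOU).trans hUN)
        (lt_of_le_of_ne inf_le_left fun h => hAnot ?_) hUN
        ⟨(hP'L₀ huP').1, hperm u ⟨(hP'L₀ huP').1, hun⟩⟩))
      exact hAD.trans (le_pCoreOf (hDU.trans hUL) (inf_eq_left.1 h) (hUp.to_le hDU))
    -- descend
    have hlinv : cj l⁻¹ (cj l A) = A := by rw [cj_cj, inv_mul_cancel, cj_one]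
    have hQfix : cj l⁻¹ Q = Q := cj_eq_of_mem_nz ((normalizer_eq_top_iff.2 hQn) ▸ mem_top _)
    set L' := cj l⁻¹ X₀ with hL'
    have hAU' : A ≤ cj l⁻¹ U := hlinv ▸ map_mono hlU
    have hinter : L' ⊓ cj (l⁻¹ * g) M = cj l⁻¹ (X₀ ⊓ L₀) := by
      have he : X₀ ⊓ L₀ = X₀ ⊓ cj g M := by rw [hL₀, ← inf_assoc, inf_eq_left.2 hX₀L]
      rw [he, hL', ← cj_cj, cj, cj, cj, cj, ← Subgroup.map_inf _ _ _ (MulEquiv.injective _)]
    have hlt' : X₀ ⊓ L₀ < X₀ := lt_of_le_of_ne inf_le_left fun h => hX₀n (inf_eq_left.1 h)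
    have hstate : State p M A Q L' := by
      refine ⟨sup_le (hAU'.trans (map_mono hUX₀)) ?_, ?_, l⁻¹ * g, cj l⁻¹ U, ?_, hAU', ?_, ?_, ?_⟩
      · rw [← hQfix]; exact map_mono ((hQO.trans hOU).trans hUX₀)
      · intro h
        rw [hL', pCoreOf_cj] at h
        apply hlnot
        have := map_mono (f := (MulAut.conj l).toMonoidHom) h
        change cj l A ≤ cj l (cj l⁻¹ _) at this
        rwa [cj_cj, mul_inv_cancel, cj_one] at this
      · refine ⟨map_mono hUX₀'.1, hUX₀'.2.1.map _, ?_⟩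
        rw [hL', cj, cj, relIndex_map_map_of_injective _ _ (MulAut.conj l⁻¹).injective]
        exact hUX₀'.2.2
      · rw [hinter]; exact map_mono (le_inf hUX₀ (hUle.trans inf_le_right))
      · rw [hinter]; exact (map_lt_map_iff_of_injective (MulAut.conj l⁻¹).injective).2 hlt'
      · intro Y h1 h2
        rw [hinter]
        have h3 : U ≤ cj l Y := by
          have := mem_cj_of_le (x := l⁻¹) h1
          rwa [inv_inv] at this
        have h4 : cj l Y < X₀ := by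
          have := (map_lt_map_iff_of_injective (f := (MulAut.conj l).toMonoidHom) (MulAut.conj l).injective).2 h2
          change cj l Y < cj l (cj l⁻¹ X₀) at this
          rwa [cj_cj, mul_inv_cancel, cj_one] at this
        have h5 : cj l Y ≤ L₀ := by
          by_contra h6
          exact hX₀min _ ⟨h3, h4.le.trans hX₀X, h6⟩ h4
        exact mem_cj_of_le (le_inf h4.le h5)
    have hcard := hmin L' hstate
    rw [hL', cj, card_map_of_injective (MulAut.conj l⁻¹).injective] at hcard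
    exact absurd (eq_of_le_of_card_ge hX₀L hcard) (hX₀X.trans_lt hXL).ne
  refine ⟨g, hAO, hlt, claim, fun x hx hxn => ?_⟩
  refine le_antisymm (sup_le (sup_le (le_sup_left.trans hAQ) ((map_mono (le_sup_left.trans hAQ)).trans
    (cj_eq_of_mem_nz (le_normalizer hx)).le)) (pCoreOf_le L)) ?_
  by_contra hne
  have hZ : (A ⊔ cj x A) ⊔ O < L := lt_of_le_not_ge (sup_le (sup_le (le_sup_left.trans hAQ)
    ((map_mono (le_sup_left.trans hAQ)).trans (cj_eq_of_mem_nz (le_normalizer hx)).le)) (pCoreOf_le L)) hne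
  have hxA : cj x A ≤ L₀ := (le_sup_right.trans le_sup_left).trans
    (claim _ (sup_le_sup_right le_sup_left O) hZ)
  have hxi : x⁻¹ ∈ normalizer (L : Set H) := le_normalizer (inv_mem hx)
  have hle : cj x⁻¹ L₀ ≤ L₀ := by
    refine claim _ (sup_le (mem_cj_of_le hxA) ?_) ?_
    · exact (cj_eq_of_mem_nz (le_nz_pCoreOf (p := p) L (inv_mem hx))).ge.trans (map_mono (le_sup_right.trans hAO))
    · conv_rhs => rw [← cj_eq_of_mem_nz hxi]
      exact (map_lt_map_iff_of_injective (MulAut.conj x⁻¹).injective).2 hlt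
  have hxN : x ∈ normalizer (L₀ : Set H) := inv_inv x ▸ inv_mem (mem_nz_of_cj_le hle)
  have hLn : L ≤ normalizer (L₀ : Set H) := by
    by_contra h
    have h1 : L ⊓ normalizer (L₀ : Set H) < L := lt_of_le_of_ne inf_le_left fun e => h (inf_eq_left.1 e)
    exact hxn (huniq _ (hPL₀.trans (le_inf hlt.le le_normalizer)) h1 ⟨hx, hxN⟩)
  have hP0 : IsSylowIn p P L₀ := ⟨hPL₀, hP.2.1, fun hd => hP.2.2 (hd.trans
    (Dvd.intro _ (relIndex_mul_relIndex _ _ _ hPL₀ hlt.le)))⟩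
  by_cases hPn : L ≤ normalizer (P : Set H)
  · exact hAnot (hAP.trans (le_pCoreOf hP.1 hPn hP.2.1))
  · apply hlt.ne
    refine le_antisymm hlt.le ?_
    conv_lhs => rw [← hP0.frattini' hlt.le hLn]
    exact sup_le le_rfl (huniq _ (le_inf hP.1 le_normalizer)
      (lt_of_le_of_ne inf_le_left fun e => hPn (inf_eq_left.1 e)))

end

/-- The L-Lemma: let H be a finite group with Sylow p-subgroup T such that H is T-minimal (generated by the conjugates of T, T in exactly one maximal subgroup M), and let A ≤ T with A not contained in O_p(H). Then there is a subgroup L of H containing A·O_p(H) such that (a) A·O_p(L) lies in exactly one maximal subgroup L₀ of L, and L₀ = L ∩ gMg⁻¹ for some g ∈ H; (b) L = ⟨A, xAx⁻¹⟩·O_p(L) for every x ∈ L outside L₀. -/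
theorem result {H : Type*} [Group H] [Finite H] {p : ℕ} [Fact p.Prime] (T : Sylow p H) (hmin : Cfsg.IsMinimalOver (T : Subgroup H)) (M : Subgroup H) (hM : IsCoatom M ∧ (T : Subgroup H) ≤ M) (A : Subgroup H) (hAT : A ≤ (T : Subgroup H)) (hA : ¬ A ≤ Cfsg.pCore p H) : ∃ L : Subgroup H, A ⊔ Cfsg.pCore p H ≤ L ∧ ∃ L₀ : Subgroup H, A ⊔ (Cfsg.pCoreOf p L) ≤ L₀ ∧ L₀ < L ∧ (∀ X : Subgroup H, A ⊔ (Cfsg.pCoreOf p L) ≤ X → X < L → X ≤ L₀) ∧ (∃ g : H, L₀ = L ⊓ ((M : Subgroup H).map (MulAut.conj (g : H)).toMonoidHom)) ∧ ∀ x ∈ L, x ∉ L₀ → (A ⊔ ((A : Subgroup H).map (MulAut.conj (x : H)).toMonoidHom)) ⊔ (Cfsg.pCoreOf p L) = L := by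
  classical
  set Q := Cfsg.pCore p H with hQ
  have hQn : Q.Normal := Cfsg.Agent.Lib.LocalChar.pCore_normal
  have hH : State p M A Q ⊤ := by
    refine ⟨le_top, by rwa [pCoreOf_top], 1, (T : Subgroup H), IsSylowIn.of_le T le_top, hAT, ?_, ?_, ?_⟩
    · rw [cj_one, top_inf_eq]; exact hM.2
    · rw [cj_one, top_inf_eq]; exact hM.1.1.lt_top
    · intro X h1 h2
      rw [cj_one, top_inf_eq]
      exact minimalOver_le hmin hM.1 hM.2 h1 h2.ne
  obtain ⟨L, hL, hLmin⟩ := Set.exists_min_image {L | State p M A Q L} (fun L => Nat.card ↥L) (Set.toFinite _) ⟨⊤, hH⟩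
  obtain ⟨g, h1, h2, h3, h4⟩ := minimal_state (T.isPGroup'.to_le hAT) hQn pCore_isPGroup hL hLmin
  exact ⟨L, hL.1, L ⊓ cj g M, h1, h2, h3, ⟨g, rfl⟩, h4⟩

end Cfsg.Agent.S2834
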