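import Mathlib
import Cfsg.Statements.S2835
import Cfsg.Agent.Lib.LocalChar.PIrred
import Cfsg.Agent.Lib.LocalChar.Norm

set_option autoImplicit false

open scoped commutatorElement Pointwise

open Cfsg.Agent.Lib.LocalChar

namespace Cfsg.Agent.S2835

/-- Let L be a finite group, L₀ a maximal subgroup, T a Sylow p-subgroup of L₀ and Y ≤ T, and suppose L is Y-minimal (generated by the conjugates of Y, with Y in exactly one maximal subgroup, necessarily L₀). Then N_L(T) ≤ L₀, O_p(L) ≤ L₀ and T is a Sylow p-subgroup of L; N_L(L₀) = L₀; L = ⟨Y, gYg⁻¹⟩ for each g ∈ L outside L₀; and if Y is abelian then Y ∩ gYg⁻¹ = C_Y(L) for each such g. -/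
theorem result {L : Type*} [Group L] [Finite L] {p : ℕ} [Fact p.Prime] (L₀ : Subgroup L) (hL₀ : IsCoatom L₀) (T : Sylow p ↥L₀) (Y : Subgroup L) (hYT : Y ≤ (T : Subgroup ↥L₀).map L₀.subtype) (hmin : Cfsg.IsMinimalOver Y) : Subgroup.normalizer (((T : Subgroup ↥L₀).map L₀.subtype : Subgroup L) : Set L) ≤ L₀ ∧ Cfsg.pCore p L ≤ L₀ ∧ (∃ P : Sylow p L, (P : Subgroup L) = (T : Subgroup ↥L₀).map L₀.subtype) ∧ Subgroup.normalizer (L₀ : Set L) = L₀ ∧ (∀ g : L, g ∉ L₀ → Y ⊔ Y.map (MulAut.conj g).toMonoidHom = ⊤) ∧ (IsMulCommutative ↥Y → ∀ g : L, g ∉ L₀ → Y ⊓ Y.map (MulAut.conj g).toMonoidHom = Y ⊓ Subgroup.center L) := by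
  open Cfsg.Agent.Lib.LocalChar in
  set TT := (T : Subgroup ↥L₀).map L₀.subtype with hTT
  have hTsyl : IsSylowIn p TT L₀ := IsSylowIn.ofSylow T
  have hTL : TT ≤ L₀ := Subgroup.map_subtype_le _
  have hYL : Y ≤ L₀ := hYT.trans hTL
  have hYp : IsPGroup p Y := isPGroup_of_le (T.isPGroup'.map _) hYT
  have hTp : IsPGroup p TT := T.isPGroup'.map _
  have key : ∀ X : Subgroup L, Y ≤ X → X ≠ ⊤ → X ≤ L₀ := fun X h h' => minimalOver_le hmin hL₀ hYL h h'
  have hnn : ∀ N : Subgroup L, N.Normal → Y ≤ N → N ≤ L₀ → False := fun N hN h h' =>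
    hL₀.1 (top_le_iff.1 ((normalClosure_top_le hmin.1 hN h).ge.trans h'))
  have hNT : Subgroup.normalizer (TT : Set L) ≤ L₀ :=
    key _ (hYT.trans Subgroup.le_normalizer) fun h =>
      hnn TT (Subgroup.normalizer_eq_top_iff.1 h) hYT hTL
  have hcn : (Cfsg.pCore p L).Normal := Cfsg.Agent.Lib.LocalChar.pCore_normal
  have hO : Cfsg.pCore p L ≤ L₀ := by
    refine le_trans le_sup_right (key (Y ⊔ Cfsg.pCore p L) le_sup_left fun h => ?_)
    have hp : IsPGroup p (⊤ : Subgroup L) :=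
      h ▸ hYp.to_sup_of_normal_right Cfsg.Agent.Lib.LocalChar.pCore_isPGroup
    have hn : Group.IsNilpotent L :=
      (hp.of_equiv Subgroup.topEquiv).isNilpotent
    exact hnn L₀ (Subgroup.NormalizerCondition.normal_of_coatom L₀
      (Group.normalizerCondition_of_isNilpotent) hL₀) hYL le_rfl
  have hsyl : ∃ P : Sylow p L, (P : Subgroup L) = TT := by
    obtain ⟨P, hP⟩ := hTp.exists_le_sylow
    refine ⟨P, le_antisymm ?_ hP⟩
    by_contra hne
    obtain ⟨u, huP, huT, hun⟩ := exists_mem_nz_of_lt P.isPGroup' (lt_of_le_not_ge hP hne)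
    have h1 : (P : Subgroup L) ⊓ L₀ = TT :=
      hTsyl.eq_of_le (isPGroup_of_le P.isPGroup' inf_le_left) inf_le_right (le_inf hP hTL)
    exact huT (h1.le ⟨huP, hNT hun⟩)
  have hNL : Subgroup.normalizer (L₀ : Set L) = L₀ := by
    refine le_antisymm ?_ Subgroup.le_normalizer
    exact key _ (hYL.trans Subgroup.le_normalizer) fun h =>
      hnn L₀ (Subgroup.normalizer_eq_top_iff.1 h) hYL le_rfl
  have hgen : ∀ g : L, g ∉ L₀ → Y ⊔ Y.map (MulAut.conj g).toMonoidHom = ⊤ := by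
    intro g hg
    by_contra h
    have h1 : cj g Y ≤ L₀ := le_sup_right.trans (key _ le_sup_left h)
    have h2 : IsCoatom (cj g⁻¹ L₀) :=
      (OrderIso.isCoatom_iff (MulEquiv.mapSubgroup (MulAut.conj g⁻¹)) L₀).2 hL₀
    have h3 : Y ≤ cj g⁻¹ L₀ := fun y hy => by
      rw [mem_cj, inv_inv]
      exact h1 (conj_mem_cj hy)
    obtain ⟨M, -, huniq⟩ := hmin.2
    have h4 : cj g⁻¹ L₀ = L₀ := (huniq _ ⟨h2, h3⟩).trans (huniq _ ⟨hL₀, hYL⟩).symm
    exact hg (hNL.le (inv_mem_iff.1 (mem_nz_of_cj_eq h4)))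
  refine ⟨hNT, hO, hsyl, hNL, hgen, fun hab g hg => ?_⟩
  apply le_antisymm
  · rintro y ⟨hy, hyg⟩
    refine ⟨hy, Subgroup.mem_center_iff.2 fun x => ?_⟩
    have hcen : (⊤ : Subgroup L) ≤ Subgroup.centralizer ({y} : Set L) := by
      rw [← hgen g hg]
      refine sup_le (fun a ha => ?_) (fun a ha => ?_)
      · rintro _ (rfl : _ = y)
        exact (comm_of_isMulCommutative hab hy ha).eq
      · rintro _ (rfl : _ = y)
        obtain ⟨b, hb, rfl⟩ := ha
        obtain ⟨c, hc, rfl⟩ := hyg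
        simp only [MulEquiv.coe_toMonoidHom]
        rw [← map_mul, ← map_mul, (comm_of_isMulCommutative hab hc hb).eq]
    exact (hcen (Subgroup.mem_top x) y rfl).symm
  · rintro y ⟨hy, hz⟩
    refine ⟨hy, y, hy, ?_⟩
    simp [Subgroup.mem_center_iff.1 hz g]

end Cfsg.Agent.S2835
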