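import Mathlib
import Cfsg.Statements.S2836
import Cfsg.Agent.Lib.LocalChar.PIrred
import Cfsg.Agent.S2835

set_option autoImplicit false

open scoped commutatorElement Pointwise

open Cfsg.Agent.Lib.LocalChar

namespace Cfsg.Agent.S2836

open Cfsg.Agent.Lib.LocalChar in
lemma exists_cj_le_of_sup {L : Type*} [Group L] [Finite L] {p : ℕ} [Fact p.Prime] (S : Sylow p L)
    {N M P : Subgroup L} [N.Normal] (hP : IsSylowIn p P N) (hPM : P ≤ M) (hsup : N ⊔ M = ⊤) :
    ∃ x : L, cj x (S : Subgroup L) ≤ M := by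
  have h0 : N.index = N.relIndex M := by
    rw [← Subgroup.relIndex_top_right, ← hsup, Subgroup.relIndex_sup_left]
  have h1 : M.index * Nat.card ↥(N ⊓ M : Subgroup L) = Nat.card ↥N := by
    have e1 := M.card_mul_index
    have e2 := N.card_mul_index
    have e3 : Nat.card ↥(N ⊓ M : Subgroup L) * (N ⊓ M).relIndex M = Nat.card ↥M := by
      rw [← Subgroup.relIndex_bot_left, ← Subgroup.relIndex_bot_left,
        Subgroup.relIndex_mul_relIndex ⊥ _ M bot_le inf_le_right]
    rw [Subgroup.inf_relIndex_right, ← h0] at e3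
    have hpos : 0 < N.index := Nat.pos_of_ne_zero Subgroup.index_ne_zero_of_finite
    refine Nat.eq_of_mul_eq_mul_right hpos ?_
    rw [mul_assoc, e3, mul_comm M.index, e1, e2]
  have hM : ¬ p ∣ M.index := by
    intro hd
    have e5 : Nat.card ↥P * P.relIndex (N ⊓ M) = Nat.card ↥(N ⊓ M : Subgroup L) := by
      rw [← Subgroup.relIndex_bot_left, ← Subgroup.relIndex_bot_left,
        Subgroup.relIndex_mul_relIndex ⊥ _ _ bot_le (le_inf hP.1 hPM)]
    have e4 : Nat.card ↥P * P.relIndex N = Nat.card ↥N := by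
      rw [← Subgroup.relIndex_bot_left, ← Subgroup.relIndex_bot_left,
        Subgroup.relIndex_mul_relIndex ⊥ _ _ bot_le hP.1]
    rw [← h1, ← e5, mul_left_comm] at e4
    exact hP.2.2 (Nat.eq_of_mul_eq_mul_left Nat.card_pos e4 ▸ hd.mul_right _)
  obtain ⟨S0⟩ : Nonempty (Sylow p ↥M) := inferInstance
  have hS0 := IsSylowIn.ofSylow S0
  set T0 := (S0 : Subgroup ↥M).map M.subtype
  have hidx : ¬ p ∣ T0.index := by
    rw [← Subgroup.relIndex_mul_index hS0.1]
    exact (Fact.out : p.Prime).not_dvd_mul hS0.2.2 hM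
  obtain ⟨x, hx⟩ := MulAction.exists_smul_eq L S (hS0.2.1.toSylow hidx)
  refine ⟨x, le_trans (le_of_eq ?_) hS0.1⟩
  have h : ((x • S : Sylow p L) : Subgroup L) = T0 := by rw [hx]; rfl
  exact h


/-- Let L be a finite group, L₀ a maximal subgroup, T a Sylow p-subgroup of L₀, Y ≤ T, and suppose L is Y-minimal. Let D be the intersection of the conjugates of L₀ (the core of L₀). Then D contains O_p(L) and D/O_p(L) is the Frattini subgroup of L/O_p(L), so D is p-closed; and every normal subgroup N of L contained in L₀ is p-closed with N/O_p(N) a nilpotent group of order prime to p. -/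
theorem result {L : Type*} [Group L] [Finite L] {p : ℕ} [Fact p.Prime] (L₀ : Subgroup L) (hL₀ : IsCoatom L₀) (T : Sylow p ↥L₀) (Y : Subgroup L) (hYT : Y ≤ (T : Subgroup ↥L₀).map L₀.subtype) (hmin : Cfsg.IsMinimalOver Y) : (Cfsg.pCore p L ≤ L₀.normalCore ∧ (L₀.normalCore).map (QuotientGroup.mk' (Cfsg.pCore p L)) = frattini (L ⧸ Cfsg.pCore p L) ∧ Cfsg.IsPClosed p ↥(L₀.normalCore)) ∧ ∀ (N : Subgroup L) [N.Normal], N ≤ L₀ → Cfsg.IsPClosed p ↥N ∧ Group.IsNilpotent (↥N ⧸ Cfsg.pCore p ↥N) ∧ (Nat.card (↥N ⧸ Cfsg.pCore p ↥N)).Coprime p := by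
  open Cfsg.Agent.Lib.LocalChar in
  obtain ⟨hNT, hO, ⟨S, hS⟩, hNL, -, -⟩ := Cfsg.Agent.S2835.result L₀ hL₀ T Y hYT hmin
  have hYS : Y ≤ (S : Subgroup L) := hS ▸ hYT
  have hSL : (S : Subgroup L) ≤ L₀ := hS ▸ Subgroup.map_subtype_le _
  have hYL : Y ≤ L₀ := hYS.trans hSL
  have key : ∀ X : Subgroup L, Y ≤ X → X ≠ ⊤ → X ≤ L₀ := fun X h h' => minimalOver_le hmin hL₀ hYL h h'
  have hcn : (Cfsg.pCore p L).Normal := Cfsg.Agent.Lib.LocalChar.pCore_normal
  have part2 : ∀ (N : Subgroup L) [N.Normal], N ≤ L₀ → Cfsg.IsPClosed p ↥N ∧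
      Group.IsNilpotent (↥N ⧸ Cfsg.pCore p ↥N) ∧ (Nat.card (↥N ⧸ Cfsg.pCore p ↥N)).Coprime p := by
    intro N hN hNle
    have hn : (⊤ : Subgroup L) ≤ Subgroup.normalizer (N : Set L) := by rw [Subgroup.normalizer_eq_top]
    have hP : IsSylowIn p ((S : Subgroup L) ⊓ N) N := (IsSylowIn.of_le S le_top).inf le_top hn
    set P := (S : Subgroup L) ⊓ N with hPdef
    have hPn : P.Normal := by
      rw [← Subgroup.normalizer_eq_top_iff]
      by_contra h
      have h1 := key _ (hYS.trans (le_nz_inf Subgroup.le_normalizer (le_top.trans hn))) h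
      have h2 := hP.frattini' le_top hn
      exact hL₀.1 (top_le_iff.1 (h2 ▸ sup_le hNle (inf_le_right.trans h1)))
    have hPle : ∀ Q : Subgroup L, IsPGroup p Q → Q ≤ N → Q ≤ P := by
      intro Q hQ hQN
      obtain ⟨x, -, hle⟩ := hP.conj_le hQ hQN
      intro y hy
      have h1 := hPn.conj_mem _ (hle (conj_mem_cj (g := x) hy)) x⁻¹
      simpa [mul_assoc] using h1
    have hcl : Cfsg.IsPClosed p ↥N := (isPClosed_subgroup_iff hN).2 fun Q hQ hQN =>
      (hPle Q hQ hQN).trans (le_pCore hPn hP.2.1)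
    set P0 := Cfsg.pCore p ↥N with hP0
    have hP0n : P0.Normal := Cfsg.Agent.Lib.LocalChar.pCore_normal
    have hmap : P0.map N.subtype = P := by
      refine le_antisymm (hPle _ (pCore_isPGroup.map _) (Subgroup.map_subtype_le _)) fun y hy => ?_
      exact ⟨⟨y, hy.2⟩, le_pCore (hPn.comap N.subtype) (isPGroup_subgroupOf hP.2.1)
        (show (⟨y, hy.2⟩ : ↥N) ∈ P.subgroupOf N from hy), rfl⟩
    refine ⟨hcl, ?_, ?_⟩
    · apply ((Group.isNilpotent_of_finite_tfae (G := ↥N ⧸ P0)).out 0 3).2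
      intro r hr Rb
      have hr' : Fact r.Prime := hr
      obtain ⟨R, rfl⟩ := Sylow.mapSurjective_surjective (QuotientGroup.mk'_surjective P0) r Rb
      have hR := IsSylowIn.ofSylow R
      set R1 := ((R : Subgroup ↥N) ⊔ P0).map N.subtype with hR1
      have hsup : N ⊔ Subgroup.normalizer (R1 : Set L) = ⊤ := by
        refine top_le_iff.1 ((hR.frattini' le_top hn).ge.trans (sup_le_sup_left ?_ N))
        rw [hR1, Subgroup.map_sup, hmap]
        exact le_nz_sup inf_le_right (le_top.trans (Subgroup.normalizer_eq_top_iff.2 hPn).ge)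
      have hPM : P ≤ Subgroup.normalizer (R1 : Set L) :=
        (hmap ▸ Subgroup.map_mono le_sup_right : P ≤ R1).trans Subgroup.le_normalizer
      obtain ⟨x, hx⟩ := exists_cj_le_of_sup S hP hPM hsup
      set R2 := cj x⁻¹ R1 with hR2
      have hM2 : cj x⁻¹ (Subgroup.normalizer (R1 : Set L)) = Subgroup.normalizer (R2 : Set L) :=
        Subgroup.map_equiv_normalizer_eq R1 (MulAut.conj x⁻¹)
      have hSR2 : (S : Subgroup L) ≤ Subgroup.normalizer (R2 : Set L) := by
        rw [← hM2]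
        intro s hs
        rw [mem_cj, inv_inv]
        exact hx (conj_mem_cj hs)
      have hR2n : R2.Normal := by
        rw [← Subgroup.normalizer_eq_top_iff]
        by_contra h
        have h1 := key _ (hYS.trans hSR2) h
        have h2 : cj x⁻¹ (N ⊔ Subgroup.normalizer (R1 : Set L)) ≤ L₀ := by
          show (N ⊔ Subgroup.normalizer (R1 : Set L)).map (MulAut.conj x⁻¹).toMonoidHom ≤ L₀
          rw [Subgroup.map_sup]
          rw [show (Subgroup.normalizer (R1 : Set L)).map (MulAut.conj x⁻¹).toMonoidHom = _ from hM2]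
          refine sup_le ?_ h1
          exact (Cfsg.Agent.Lib.LocalChar.cj_eq_of_mem_nz (hn (Subgroup.mem_top x⁻¹))).le.trans hNle
        rw [hsup] at h2
        refine hL₀.1 (top_le_iff.1 fun y _ => ?_)
        exact h2 (mem_cj.2 (Subgroup.mem_top _))
      have hR1n : R1.Normal := by
        have : R1 = R2 := by
          calc R1 = cj x R2 := by rw [hR2, cj_cj, mul_inv_cancel]; ext y; simp [mem_cj]
            _ = R2 := cj_eq_of_mem_nz ((Subgroup.normalizer_eq_top_iff.2 hR2n) ▸ Subgroup.mem_top x)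
        rwa [this]
      have h3 : ((R : Subgroup ↥N) ⊔ P0).Normal := by
        rw [← Subgroup.comap_map_eq_self_of_injective N.subtype_injective ((R : Subgroup ↥N) ⊔ P0)]
        exact hR1n.comap N.subtype
      have h4 := h3.map _ (QuotientGroup.mk'_surjective P0)
      rw [Subgroup.map_sup, show P0.map (QuotientGroup.mk' P0) = ⊥ by
        rw [Subgroup.map_eq_bot_iff, QuotientGroup.ker_mk'], sup_bot_eq] at h4
      exact h4
    · obtain ⟨Q⟩ : Nonempty (Sylow p ↥N) := inferInstance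
      have h1 : (Q : Subgroup ↥N) = P0 :=
        le_antisymm (isPClosed_iff.1 hcl _ Q.isPGroup') (pCore_le_sylow Q)
      rw [← Subgroup.index_eq_card, show Cfsg.pCore p ↥N = (Q : Subgroup ↥N) from h1.symm]
      exact coprime_of_not_dvd Q.not_dvd_index
  have hD : Cfsg.pCore p L ≤ L₀.normalCore := Subgroup.normal_le_normalCore.2 hO
  have hDn : (L₀.normalCore).Normal := Subgroup.normalCore_normal L₀
  have hDle : L₀.normalCore ≤ L₀ := Subgroup.normalCore_le L₀
  refine ⟨⟨hD, ?_, (part2 _ hDle).1⟩, part2⟩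
  set O := Cfsg.pCore p L
  set q := QuotientGroup.mk' O
  have hq : Function.Surjective q := QuotientGroup.mk'_surjective O
  have hco : ∀ Z : Subgroup L, O ≤ Z → (IsCoatom (Z.map q) ↔ IsCoatom Z) := by
    intro Z hZ
    have e : (Z.map q).comap q = Z := by
      rw [Subgroup.comap_map_eq, QuotientGroup.ker_mk', sup_eq_left.2 hZ]
    constructor
    · intro h
      refine ⟨fun h' => h.1 (by rw [h', Subgroup.map_top_of_surjective q hq]), fun W hW => ?_⟩
      have h1 : W.map q = ⊤ := h.2 _ (lt_of_le_of_ne (Subgroup.map_mono hW.le) fun h' => hW.ne (by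
        rw [← e, h', Subgroup.comap_map_eq, QuotientGroup.ker_mk', sup_eq_left.2 (hZ.trans hW.le)]))
      have := congrArg (Subgroup.comap q) h1
      rwa [Subgroup.comap_map_eq, QuotientGroup.ker_mk', sup_eq_left.2 (hZ.trans hW.le),
        Subgroup.comap_top] at this
    · intro h
      refine ⟨fun h' => h.1 (by rw [← e, h', Subgroup.comap_top]), fun W hW => ?_⟩
      have h1 : W.comap q = ⊤ := h.2 _ (lt_of_le_of_ne (e.ge.trans (Subgroup.comap_mono hW.le))
        fun h' => hW.ne (by rw [h', Subgroup.map_comap_eq_self_of_surjective hq]))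
      rw [← Subgroup.map_comap_eq_self_of_surjective hq W, h1, Subgroup.map_top_of_surjective q hq]
  apply le_antisymm
  · rw [frattini, Order.radical]
    refine le_iInf₂ fun Zb hZb => ?_
    set Z := Zb.comap q
    have hZmap : Z.map q = Zb := Subgroup.map_comap_eq_self_of_surjective hq Zb
    have hOZ : O ≤ Z := fun y hy => by
      show q y ∈ Zb
      rw [show q y = 1 from (QuotientGroup.eq_one_iff y).2 hy]; exact one_mem _
    have hZ : IsCoatom Z := (hco Z hOZ).1 (hZmap.symm ▸ hZb)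
    rw [← hZmap]
    refine Subgroup.map_mono ?_
    by_contra hne
    have hsup : L₀.normalCore ⊔ Z = ⊤ := hZ.2 _ (lt_of_le_of_ne le_sup_right fun h => hne (h ▸ le_sup_left))
    have hn : (⊤ : Subgroup L) ≤ Subgroup.normalizer (L₀.normalCore : Set L) := by
      rw [Subgroup.normalizer_eq_top]
    have hP := (IsSylowIn.of_le S le_top).inf (N := L₀.normalCore) le_top hn
    have hPZ : (S : Subgroup L) ⊓ L₀.normalCore ≤ Z :=
      le_trans ((isPClosed_subgroup_iff hDn).1 (part2 _ hDle).1 _ hP.2.1 inf_le_right) hOZ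
    obtain ⟨x, hx⟩ := exists_cj_le_of_sup S hP hPZ hsup
    have h1 : IsCoatom (cj x⁻¹ Z) :=
      (OrderIso.isCoatom_iff (MulEquiv.mapSubgroup (MulAut.conj x⁻¹)) Z).2 hZ
    have h2 : Y ≤ cj x⁻¹ Z := fun y hy => by
      rw [mem_cj, inv_inv]
      exact hx (conj_mem_cj (hYS hy))
    obtain ⟨M, -, huniq⟩ := hmin.2
    have h3 : cj x⁻¹ Z = L₀ := (huniq _ ⟨h1, h2⟩).trans (huniq _ ⟨hL₀, hYL⟩).symm
    refine hne fun d hd => ?_
    have h4 : x⁻¹ * d * x⁻¹⁻¹ ∈ cj x⁻¹ Z := h3 ▸ hDle (hDn.conj_mem d hd x⁻¹)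
    rw [mem_cj] at h4
    simpa [mul_assoc] using h4
  · have h1 : (frattini (L ⧸ O)).comap q ≤ L₀.normalCore := by
      refine (Subgroup.normal_le_normalCore (hN := Subgroup.Normal.comap inferInstance q)).2 ?_
      intro y hy
      have h2 : frattini (L ⧸ O) ≤ L₀.map q := frattini_le_coatom ((hco L₀ hO).2 hL₀)
      obtain ⟨z, hz, hzy⟩ := h2 hy
      have := L₀.mul_mem hz (hO (QuotientGroup.eq.1 hzy))
      simpa using this
    intro z hz
    obtain ⟨y, rfl⟩ := hq z
    exact ⟨y, h1 hz, rfl⟩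

end Cfsg.Agent.S2836
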