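import Mathlib
import Cfsg.Statements.S2837
import Cfsg.Agent.Lib.LocalChar.PIrred
import Cfsg.Agent.Lib.LocalChar.Norm
import Cfsg.Agent.Lib.LocalChar.Frattini
import Cfsg.Agent.Lib.PGroupFrattini
import Cfsg.Agent.S2835
import Cfsg.Agent.S2833

set_option autoImplicit false

open scoped commutatorElement Pointwise

open Cfsg.Agent.Lib.LocalChar

namespace Cfsg.Agent.S2837

/-- Let L be a finite group of characteristic p, L₀ a maximal subgroup, Y an elementary abelian p-subgroup of L₀ with L Y-minimal and O_p(L) ≤ N_L(Y). Put A = the normal closure of O_p(L) ∩ Y in L. Then for every g ∈ L outside L₀: Φ(A) = A' = [A ∩ Y, A] = [A ∩ Y, A ∩ gYg⁻¹] ≤ C_Y(L), and Y ∩ gYg⁻¹ = (A ∩ Y) ∩ (A ∩ gYg⁻¹) = C_Y(L) = C_A(L). -/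
theorem result {L : Type*} [Group L] [Finite L] {p : ℕ} [Fact p.Prime] (hchar : Subgroup.centralizer (Cfsg.pCore p L : Set L) ≤ Cfsg.pCore p L) (L₀ : Subgroup L) (hL₀ : IsCoatom L₀) (Y : Subgroup L) (hYL₀ : Y ≤ L₀) (hYel : Cfsg.IsElementaryAbelian p Y) (hmin : Cfsg.IsMinimalOver Y) (hOY : Cfsg.pCore p L ≤ Subgroup.normalizer (Y : Set L)) (A : Subgroup L) (hA : A = Subgroup.normalClosure (((Cfsg.pCore p L ⊓ Y : Subgroup L)) : Set L)) (g : L) (hg : g ∉ L₀) : (frattini ↥A).map A.subtype = ⁅A, A⁆ ∧ ⁅A, A⁆ = ⁅A ⊓ Y, A⁆ ∧ ⁅A ⊓ Y, A⁆ = ⁅A ⊓ Y, A ⊓ Y.map (MulAut.conj g).toMonoidHom⁆ ∧ ⁅A ⊓ Y, A⁆ ≤ Y ⊓ Subgroup.center L ∧ Y ⊓ Y.map (MulAut.conj g).toMonoidHom = Y ⊓ Subgroup.center L ∧ (A ⊓ Y) ⊓ (A ⊓ Y.map (MulAut.conj g).toMonoidHom) = Y ⊓ Subgroup.center L ∧ A ⊓ Subgroup.center L = Y ⊓ Subgroup.center L := by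
  open Cfsg.Agent.Lib.LocalChar in
  have hYp : IsPGroup p Y := fun y => ⟨1, Subtype.ext (by simpa using hYel.2 y.1 y.2)⟩
  obtain ⟨T, hT⟩ := (isPGroup_subgroupOf (H := L₀) hYp).exists_le_sylow
  have hYT : Y ≤ (T : Subgroup ↥L₀).map L₀.subtype := fun y hy => ⟨⟨y, hYL₀ hy⟩, hT hy, rfl⟩
  obtain ⟨-, -, -, -, hgenY, hab⟩ := Cfsg.Agent.S2835.result L₀ hL₀ T Y hYT hmin
  set Yg := Y.map (MulAut.conj g).toMonoidHom with hYg
  have hgen : Y ⊔ Yg = ⊤ := hgenY g hg
  have hZ : Y ⊓ Yg = Y ⊓ Subgroup.center L := hab hYel.1 g hg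
  set O := Cfsg.pCore p L with hO
  have hOn : O.Normal := Cfsg.Agent.Lib.LocalChar.pCore_normal
  have hOp : IsPGroup p O := Cfsg.Agent.Lib.LocalChar.pCore_isPGroup
  have hcjO : cj g O = O := cj_eq_of_mem_nz ((Subgroup.normalizer_eq_top_iff.2 hOn).symm ▸ Subgroup.mem_top g)
  set B := O ⊓ Y with hB
  set B' := O ⊓ Yg with hB'
  have hBB : cj g B = B' := by
    ext x
    rw [mem_cj, hB, hB', hYg, Subgroup.mem_inf, Subgroup.mem_inf]
    constructor
    · rintro ⟨h1, h2⟩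
      exact ⟨by simpa [mul_assoc] using hOn.conj_mem _ h1 g, mem_cj.2 h2⟩
    · rintro ⟨h1, h2⟩
      exact ⟨by simpa [mul_assoc] using hOn.conj_mem _ h1 g⁻¹, mem_cj.1 h2⟩
  have hOYg : O ≤ Subgroup.normalizer (Yg : Set L) := by
    intro o ho
    rw [← Subgroup.map_equiv_normalizer_eq Y (MulAut.conj g)]
    refine (mem_cj (g := g) (H := Subgroup.normalizer (Y : Set L))).2 (hOY ?_)
    simpa [mul_assoc] using hOn.conj_mem _ ho g⁻¹
  have hOnz : ∀ X : Subgroup L, X ≤ Subgroup.normalizer (O : Set L) := fun X => by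
    rw [Subgroup.normalizer_eq_top_iff.2 hOn]; exact le_top
  have hYcomm : ⁅O, Y⁆ ≤ B := le_inf (commutator_le_left_of_nz (hOnz Y)) (commutator_le_right_of_nz hOY)
  have hYgcomm : ⁅O, Yg⁆ ≤ B' := le_inf (commutator_le_left_of_nz (hOnz Yg)) (commutator_le_right_of_nz hOYg)
  have hA1n : (B ⊔ B').Normal := by
    rw [← Subgroup.normalizer_eq_top_iff, eq_top_iff, ← hgen]
    refine sup_le ?_ ?_
    · refine (Subgroup.le_normalizer_iff_commutator_le_left).2 ?_
      exact ((Subgroup.commutator_mono (sup_le inf_le_left inf_le_left) le_rfl).trans hYcomm).trans le_sup_left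
    · refine (Subgroup.le_normalizer_iff_commutator_le_left).2 ?_
      exact ((Subgroup.commutator_mono (sup_le inf_le_left inf_le_left) le_rfl).trans hYgcomm).trans le_sup_right
  have hA1 : A = B ⊔ B' := by
    subst hA
    refine le_antisymm (Subgroup.normalClosure_le_normal (N := B ⊔ B') fun x hx => Subgroup.mem_sup_left hx)
      (sup_le Subgroup.le_normalClosure ?_)
    rw [← hBB]
    rintro _ ⟨x, hx, rfl⟩
    exact Subgroup.normalClosure_normal.conj_mem x (Subgroup.le_normalClosure hx) g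
  have hAn : A.Normal := hA1 ▸ hA1n
  have hAO : A ≤ O := hA1 ▸ sup_le inf_le_left inf_le_left
  have hBA : B ≤ A := hA1 ▸ le_sup_left
  have hB'A : B' ≤ A := hA1 ▸ le_sup_right
  have hAY : A ⊓ Y = B := le_antisymm (le_inf (inf_le_left.trans hAO) inf_le_right) (le_inf hBA inf_le_right)
  have hAYg : A ⊓ Yg = B' :=
    le_antisymm (le_inf (inf_le_left.trans hAO) inf_le_right) (le_inf hB'A inf_le_right)
  set C0 := ⁅B, B'⁆ with hC0
  have hBn : B' ≤ Subgroup.normalizer (B : Set L) := inf_le_left.trans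
    (le_nz_inf (hOnz O) hOY)
  have hB'n : B ≤ Subgroup.normalizer (B' : Set L) := inf_le_left.trans
    (le_nz_inf (hOnz O) hOYg)
  have hC0le : C0 ≤ Y ⊓ Subgroup.center L := by
    rw [← hZ]
    exact le_inf ((commutator_le_left_of_nz hBn).trans inf_le_right)
      ((commutator_le_right_of_nz hB'n).trans inf_le_right)
  have hC0nz : ∀ X : Subgroup L, X ≤ Subgroup.normalizer (C0 : Set L) := fun X x _ =>
    mem_nz.2 fun y => by
      constructor
      · intro hy
        rw [(Subgroup.mem_center_iff.1 (hC0le hy).2 x), mul_inv_cancel_right]; exact hy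
      · intro hy
        have h := Subgroup.mem_center_iff.1 (hC0le hy).2 x
        have : y = x * y * x⁻¹ := by
          rw [inv_mul_cancel_right] at h
          exact (mul_left_cancel h).symm
        rw [this]; exact hy
  have hcB : ∀ X : Subgroup L, X ≤ Y ∨ X ≤ Yg → ⁅X, X⁆ = ⊥ := by
    intro X hX
    rw [eq_bot_iff, Subgroup.commutator_le]
    intro a ha b hb
    rw [Subgroup.mem_bot, commutatorElement_eq_one_iff_mul_comm]
    rcases hX with h | h
    · exact (comm_of_isMulCommutative hYel.1 (h ha) (h hb)).eq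
    · obtain ⟨a', ha', rfl⟩ := h ha
      obtain ⟨b', hb', rfl⟩ := h hb
      simp only [MulEquiv.coe_toMonoidHom]
      rw [← map_mul, ← map_mul, (comm_of_isMulCommutative hYel.1 ha' hb').eq]
  have hAA : ⁅A, A⁆ = C0 := by
    refine le_antisymm ?_ (Subgroup.commutator_mono hBA hB'A)
    have h1 : ⁅B, A⁆ ≤ C0 := hA1 ▸ Cfsg.Agent.S2833.commutator_le_of_sup (hC0nz B) (hC0nz B')
      ((hcB B (Or.inl inf_le_right)).le.trans bot_le) le_rfl
    have h2 : ⁅B', A⁆ ≤ C0 := hA1 ▸ Cfsg.Agent.S2833.commutator_le_of_sup (hC0nz B) (hC0nz B')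
      (le_of_eq (Subgroup.commutator_comm B' B)) ((hcB B' (Or.inr inf_le_right)).le.trans bot_le)
    conv_lhs => enter [2]; rw [hA1]
    exact Cfsg.Agent.S2833.commutator_le_of_sup (hC0nz B) (hC0nz B')
      ((Subgroup.commutator_comm A B).le.trans h1) ((Subgroup.commutator_comm A B').le.trans h2)
  have hBA' : ⁅B, A⁆ = C0 :=
    le_antisymm ((Subgroup.commutator_mono hBA le_rfl).trans hAA.le) (Subgroup.commutator_mono le_rfl hB'A)
  have hAp : IsPGroup p A := isPGroup_of_le hOp hAO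
  have hpow : ∀ a : ↥A, a ^ p ∈ commutator ↥A := by
    intro a
    let K : Subgroup ↥A := ((powMonoidHom p : Abelianization ↥A →* Abelianization ↥A).ker).comap Abelianization.of
    have hK : ∀ x : L, ∀ h : x ∈ A, x ^ p = 1 → (⟨x, h⟩ : ↥A) ∈ K := fun x h hx => by
      show (Abelianization.of (⟨x, h⟩ : ↥A)) ^ p = 1
      rw [← map_pow, show (⟨x, h⟩ : ↥A) ^ p = 1 from Subtype.ext (by simpa using hx), map_one]
    have hle : B ⊔ B' ≤ K.map A.subtype := by
      refine sup_le (fun x hx => ?_) (fun x hx => ?_)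
      · exact ⟨⟨x, hBA hx⟩, hK x _ (hYel.2 x hx.2), rfl⟩
      · refine ⟨⟨x, hB'A hx⟩, hK x _ ?_, rfl⟩
        obtain ⟨y, hy, rfl⟩ := hx.2
        rw [← map_pow, hYel.2 y hy, map_one]
    obtain ⟨b, hb, hba⟩ := hle (hA1.le a.2)
    obtain rfl : b = a := Subtype.ext hba
    rw [← Abelianization.ker_of, MonoidHom.mem_ker, map_pow]
    exact hb
  have hF : (frattini ↥A).map A.subtype = ⁅A, A⁆ := by
    rw [← Subgroup.map_subtype_commutator, le_antisymm (frattini_le_of_pow_commutator hpow le_rfl)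
      (Cfsg.Agent.Lib.PGroupFrattini.commutator_le_frattini hAp)]
  have hYZO : Y ⊓ Subgroup.center L ≤ O := by
    refine le_pCore ⟨fun y hy x => ?_⟩ (isPGroup_of_le hYp inf_le_left)
    rwa [Subgroup.mem_center_iff.1 hy.2 x, mul_inv_cancel_right]
  refine ⟨hF, by rw [hAA, hAY, hBA'], by rw [hAY, hBA', hAYg], by rw [hAY, hBA']; exact hC0le, hZ, ?_, ?_⟩
  · rw [hAY, hAYg, ← hZ]
    exact le_antisymm (le_inf (inf_le_left.trans inf_le_right) (inf_le_right.trans inf_le_right))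
      (le_inf (le_inf (hZ.le.trans hYZO) inf_le_left) (le_inf (hZ.le.trans hYZO) inf_le_right))
  · refine le_antisymm ?_ (le_inf (le_trans (le_inf hYZO inf_le_left) hBA) inf_le_right)
    rintro a ⟨ha, hz⟩
    refine ⟨?_, hz⟩
    rw [hA1] at ha
    obtain ⟨b, hb, b', hb', rfl⟩ := (mem_sup_iff_of_nz' hBn).1 ha
    have hcY : ∀ y ∈ Y, Commute y b' := by
      intro y hy
      have e : Commute y (b⁻¹ * (b * b')) :=
        (comm_of_isMulCommutative hYel.1 hy hb.2).inv_right.mul_right (Subgroup.mem_center_iff.1 hz y)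
      simpa using e
    obtain ⟨b0, hb0, hb0'⟩ := hb'.2
    have hcYg : ∀ y ∈ Yg, Commute y b' := by
      rintro _ ⟨y, hy, rfl⟩
      rw [← hb0']
      exact (comm_of_isMulCommutative hYel.1 hy hb0).map _
    have hcen : b' ∈ Subgroup.center L := by
      rw [Subgroup.mem_center_iff]
      intro x
      have h : (⊤ : Subgroup L) ≤ Subgroup.centralizer ({b'} : Set L) := by
        rw [← hgen]
        exact sup_le (fun y hy => by rintro _ (rfl : _ = b'); exact (hcY y hy).eq.symm)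
          (fun y hy => by rintro _ (rfl : _ = b'); exact (hcYg y hy).eq.symm)
      exact (h (Subgroup.mem_top x) b' rfl).symm
    refine Y.mul_mem hb.2 ?_
    have h2 : g⁻¹ * b' * g = b' := by
      rw [Subgroup.mem_center_iff.1 hcen g⁻¹]
      group
    rw [← h2]
    exact mem_cj.1 hb'.2

end Cfsg.Agent.S2837
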