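import Mathlib
import Cfsg.Statements.S2838
import Cfsg.Agent.Lib.LocalChar.WeaklyClosed

set_option autoImplicit false

open scoped commutatorElement Pointwise

open Cfsg.Agent.Lib.LocalChar

namespace Cfsg.Agent.S2838

/-- For a nontrivial p-subgroup Q of a finite group H the following are equivalent: Q is a weakly closed subgroup (it is the only H-conjugate of itself inside some Sylow p-subgroup containing it); Q = P for every conjugate P of Q with [Q, P] ≤ Q ∩ P; Q is normal in N_H(R) for every p-subgroup R of H containing Q. -/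
theorem result {H : Type*} [Group H] [Finite H] {p : ℕ} [Fact p.Prime] (Q : Subgroup H) (hQp : IsPGroup p ↥Q) (hQ1 : Q ≠ ⊥) : (Cfsg.IsWeaklyClosedSubgroup p Q ↔ ∀ g : H, ⁅Q, ((Q : Subgroup H).map (MulAut.conj (g : H)).toMonoidHom)⁆ ≤ Q ⊓ ((Q : Subgroup H).map (MulAut.conj (g : H)).toMonoidHom) → ((Q : Subgroup H).map (MulAut.conj (g : H)).toMonoidHom) = Q) ∧ (Cfsg.IsWeaklyClosedSubgroup p Q ↔ ∀ R : Subgroup H, IsPGroup p ↥R → Q ≤ R → Subgroup.normalizer ((R : Subgroup H) : Set H) ≤ Subgroup.normalizer ((Q : Subgroup H) : Set H)) := by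
  refine ⟨⟨fun h g hg => ?_, fun h => ?_⟩, ⟨fun h R hR hQR => wc_nz h hR hQR, wc_of_nz hQp⟩⟩
  · refine wc_eq_of_normalize h hQp fun y hy => mem_nz_of_cj_le (cj_le_iff.2 fun q hq => ?_)
    have h1 := (hg (Subgroup.commutator_mem_commutator hq hy)).1
    have : y * q * y⁻¹ = ⁅q, y⁆⁻¹ * q := by simp [commutatorElement_def, mul_assoc]
    rw [this]
    exact Q.mul_mem (Q.inv_mem h1) hq
  · exact wc_of_normalize_eq hQp fun g h1 h2 =>
      h g (le_inf (commutator_le_left_of_nz h1) (by
        rw [Subgroup.commutator_comm]; exact commutator_le_left_of_nz h2))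

end Cfsg.Agent.S2838
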