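import Mathlib
import Cfsg.Statements.S2839
import Cfsg.Agent.Lib.LocalChar.WeaklyClosed
import Cfsg.Agent.Lib.Transfer.Basic

set_option autoImplicit false

open scoped commutatorElement Pointwise

open Cfsg.Agent.Lib.LocalChar

namespace Cfsg.Agent.S2839

/-- Let Q be a nontrivial p-subgroup of the finite group H that is a weakly closed subgroup, K a subgroup containing Q and N a normal subgroup of H. Then Q is a weakly closed subgroup of K; every H-conjugate of Q contained in K is a K-conjugate of Q; N_K(Q) contains a Sylow p-subgroup of K; N = N_N(Q)·O^p(N); and QN/N is a weakly closed subgroup of H/N. -/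
theorem result {H : Type*} [Group H] [Finite H] {p : ℕ} [Fact p.Prime] (Q : Subgroup H) (hQp : IsPGroup p ↥Q) (hQ1 : Q ≠ ⊥) (hwc : Cfsg.IsWeaklyClosedSubgroup p Q) (K : Subgroup H) (hQK : Q ≤ K) (N' : Subgroup H) [N'.Normal] : Cfsg.IsWeaklyClosedSubgroup p (Q.subgroupOf K) ∧ (∀ g : H, ((Q : Subgroup H).map (MulAut.conj (g : H)).toMonoidHom) ≤ K → ∃ k ∈ K, ((Q : Subgroup H).map (MulAut.conj (g : H)).toMonoidHom) = ((Q : Subgroup H).map (MulAut.conj (k : H)).toMonoidHom)) ∧ Cfsg.IsParabolic p ((Subgroup.normalizer ((Q : Subgroup H) : Set H)).subgroupOf K) ∧ (N' ⊓ Subgroup.normalizer ((Q : Subgroup H) : Set H)) ⊔ (Cfsg.pResidual p ↥N').map N'.subtype = N' ∧ Cfsg.IsWeaklyClosedSubgroup p (Q.map (QuotientGroup.mk' N')) := by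
  obtain ⟨T, hT, hQT⟩ := exists_isSylowIn_ge (p := p) hQp hQK
  have hTn : T ≤ Subgroup.normalizer (Q : Set H) := Subgroup.le_normalizer.trans (wc_nz hwc hT.2.1 hQT)
  refine ⟨⟨hT.sylow, ?_, ?_⟩, fun g hg => wc_exists_conj hwc hQp hQK hg, ⟨hT.sylow, ?_⟩, ?_, ?_⟩
  · rw [IsSylowIn.sylow_coe hT]
    exact fun x hx => hQT hx
  · intro k hk
    rw [IsSylowIn.sylow_coe hT] at hk
    have h1 : cj (k : H) Q ≤ T := cj_le_iff.2 fun q hq =>
      hk ⟨⟨q, hQK hq⟩, (hq : (⟨q, hQK hq⟩ : K) ∈ Q.subgroupOf K), rfl⟩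
    have h2 := cj_eq_of_mem_nz (mem_nz_of_cj_eq (wc_eq hwc hT.2.1 hQT h1))
    ext x
    constructor
    · rintro ⟨y, hy, rfl⟩
      exact h2.le (conj_mem_cj (g := (k : H)) hy)
    · intro hx
      refine ⟨k⁻¹ * x * k, ?_, by simp [mul_assoc]⟩
      have := mem_cj.1 (h2.ge (show (x : H) ∈ Q from hx))
      exact this
  · rw [IsSylowIn.sylow_coe hT]
    exact fun x hx => hTn hx
  · haveI : Fact p.Prime := inferInstance
    obtain ⟨R, hR, hQR⟩ := exists_isSylowIn_ge (p := p) hQp (le_sup_right : Q ≤ N' ⊔ Q)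
    have hRn : R ≤ Subgroup.normalizer (Q : Set H) := Subgroup.le_normalizer.trans (wc_nz hwc hR.2.1 hQR)
    have hRN : IsSylowIn p (R ⊓ N') N' := hR.inf le_sup_left Subgroup.le_normalizer_of_normal
    refine le_antisymm (sup_le inf_le_left (Subgroup.map_subtype_le _)) ?_
    have h1 := congrArg (Subgroup.map N'.subtype)
      (Cfsg.Agent.Lib.Transfer.pResidual_sup_sylow hRN.sylow)
    rw [Subgroup.map_sup, ← MonoidHom.range_eq_map, Subgroup.range_subtype, IsSylowIn.sylow_coe hRN,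
      Subgroup.map_subgroupOf_eq_of_le inf_le_right] at h1
    exact h1.ge.trans (sup_le le_sup_right (le_sup_of_le_left (le_inf inf_le_right (inf_le_left.trans hRn))))
  · obtain ⟨S, hS⟩ := hQp.exists_le_sylow
    refine ⟨S.mapSurjective (QuotientGroup.mk'_surjective N'), Subgroup.map_mono hS, ?_⟩
    intro gq hgq
    obtain ⟨g, rfl⟩ := QuotientGroup.mk'_surjective N' gq
    have hmap : ∀ a : H, (Q.map (QuotientGroup.mk' N')).map (MulAut.conj (QuotientGroup.mk' N' a)).toMonoidHom =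
        (cj a Q).map (QuotientGroup.mk' N') := by
      intro a
      rw [Subgroup.map_map, Subgroup.map_map]
      congr 1
    rw [hmap] at hgq ⊢
    have h1 : cj g Q ≤ (S : Subgroup H) ⊔ N' := fun x hx => by
      have h2 : QuotientGroup.mk' N' x ∈ (S : Subgroup H).map (QuotientGroup.mk' N') := hgq ⟨x, hx, rfl⟩
      have h3 := (Subgroup.comap_map_eq (QuotientGroup.mk' N') (S : Subgroup H)).le h2
      rwa [QuotientGroup.ker_mk'] at h3
    obtain ⟨k, hk, he⟩ := wc_exists_conj hwc hQp (hS.trans le_sup_left) h1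
    obtain ⟨n, hn, s, hs, rfl⟩ := (mem_sup_iff_of_nz' Subgroup.le_normalizer_of_normal).1
      (sup_comm (S : Subgroup H) N' ▸ hk : k ∈ N' ⊔ (S : Subgroup H))
    rw [he, ← cj_cj, cj_eq_of_mem_nz ((Subgroup.le_normalizer.trans (wc_nz hwc S.isPGroup' hS)) hs), ← hmap]
    rw [show QuotientGroup.mk' N' n = 1 from (QuotientGroup.eq_one_iff n).2 hn]
    exact cj_one _

end Cfsg.Agent.S2839
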