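import Mathlib
import Cfsg.Statements.S2840
import Cfsg.Agent.Lib.LocalChar.WeaklyClosed

set_option autoImplicit false

open scoped commutatorElement Pointwise

open Cfsg.Agent.Lib.LocalChar

namespace Cfsg.Agent.S2840

/-- Let Q be a nontrivial p-subgroup of the finite group H that is a weakly closed subgroup and K a subgroup containing Q; let K° be the weak closure of Q in K (generated by the H-conjugates of Q inside K). Then K° is generated by the K-conjugates of Q, and K° is the subnormal closure of Q in K. -/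
theorem result {H : Type*} [Group H] [Finite H] {p : ℕ} [Fact p.Prime] (Q : Subgroup H) (hQp : IsPGroup p ↥Q) (hQ1 : Q ≠ ⊥) (hwc : Cfsg.IsWeaklyClosedSubgroup p Q) (K : Subgroup H) (hQK : Q ≤ K) (Kc : Subgroup H) (hKc : Kc = Cfsg.weakClosure Q K) : Kc = ⨆ k : ↥K, ((Q : Subgroup H).map (MulAut.conj ((k : H) : H)).toMonoidHom) ∧ Kc = (Cfsg.subnormalClosure (Q.subgroupOf K)).map K.subtype := by
  subst hKc
  refine ⟨le_antisymm (weakClosure_le fun g hg => ?_) (iSup_le fun k => ?_), le_antisymm ?_ ?_⟩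
  · obtain ⟨k, hk, he⟩ := wc_exists_conj hwc hQp hQK hg
    exact he.le.trans (le_iSup_of_le (⟨k, hk⟩ : K) le_rfl)
  · exact cj_le_weakClosure ((cj_mono hQK).trans (cj_eq_of_mem_nz (Subgroup.le_normalizer k.2)).le)
  · suffices hS : ∀ S : Subgroup K, S.IsSubnormal → Q.subgroupOf K ≤ S →
        ∀ g : H, cj g Q ≤ K → cj g Q ≤ S.map K.subtype by
      refine weakClosure_le fun g hg x hx => ?_
      refine ⟨⟨x, hg hx⟩, ?_, rfl⟩
      show _ ∈ Cfsg.subnormalClosure _
      rw [Cfsg.subnormalClosure, Subgroup.mem_sInf]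
      rintro S ⟨hQS, hS'⟩
      obtain ⟨y, hy, e⟩ := hS S hS' hQS g hg hx
      rwa [show (⟨x, hg hx⟩ : K) = y from Subtype.ext e.symm]
    intro S hS
    induction hS with
    | top => exact fun _ g hg => hg.trans (by rw [← MonoidHom.range_eq_map, Subgroup.range_subtype])
    | step A B hle _ hn ih =>
      intro hQA g hg
      have hQB : Q.subgroupOf K ≤ B := hQA.trans hle
      obtain ⟨k, hk, he⟩ := wc_exists_conj hwc hQp (K := B.map K.subtype)
        (fun q hq => ⟨⟨q, hQK hq⟩, hQB (show (⟨q, hQK hq⟩ : K) ∈ Q.subgroupOf K from hq), rfl⟩) (ih hQB g hg)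
      obtain ⟨b, hb, rfl⟩ := hk
      rw [he]
      refine cj_le_iff.2 fun q hq => ⟨b * ⟨q, hQK hq⟩ * b⁻¹, ?_, rfl⟩
      exact conj_mem_of_nz (le_nz_pointwise hle hn hb) (hQA (show (⟨q, hQK hq⟩ : K) ∈ Q.subgroupOf K from hq))
  · refine Subgroup.map_le_iff_le_comap.2 (sInf_le ⟨fun x hx => le_weakClosure hQK hx, ?_⟩)
    exact (normal_subgroupOf (Subgroup.le_normalizer.trans (nz_le_nz_weakClosure Q K))).isSubnormal

end Cfsg.Agent.S2840
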