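import Mathlib
import Cfsg.Statements.S2841
import Cfsg.Agent.Lib.LocalChar.WeaklyClosed

set_option autoImplicit false

open scoped commutatorElement Pointwise

open Cfsg.Agent.Lib.LocalChar

namespace Cfsg.Agent.S2841

/-- Let Q be a nontrivial p-subgroup of the finite group H that is a weakly closed subgroup and N a normal subgroup of H. Then N = N_N(Q)·[N, Q] and [N, Q] = (Q ∩ [N, Q])·[N, Q, Q]. -/
theorem result {H : Type*} [Group H] [Finite H] {p : ℕ} [Fact p.Prime] (Q : Subgroup H) (hQp : IsPGroup p ↥Q) (hQ1 : Q ≠ ⊥) (hwc : Cfsg.IsWeaklyClosedSubgroup p Q) (N' : Subgroup H) [N'.Normal] : (∀ n : H, n ∈ N' → ∃ a ∈ N' ⊓ Subgroup.normalizer ((Q : Subgroup H) : Set H), ∃ b ∈ ⁅N', Q⁆, n = a * b) ∧ (∀ c : H, c ∈ ⁅N', Q⁆ → ∃ a ∈ Q ⊓ ⁅N', Q⁆, ∃ b ∈ ⁅⁅N', Q⁆, Q⁆, c = a * b) := by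
  have hQN : Q ≤ Subgroup.normalizer (N' : Set H) := Subgroup.le_normalizer_of_normal
  refine ⟨fun n hn => wc_factor hwc hQp hQN hn, fun c hc => ?_⟩
  set C := ⁅N', Q⁆
  have hQC : Q ≤ Subgroup.normalizer (C : Set H) := right_le_nz_commutator N' Q
  set D := ⁅C, Q⁆
  have hQD : Q ≤ Subgroup.normalizer (D : Set H) := right_le_nz_commutator C Q
  suffices h : C ≤ (Q ⊓ C) ⊔ D by
    obtain ⟨a, ha, b, hb, e⟩ := (mem_sup_iff_of_nz (inf_le_left.trans hQD)).1 (h hc)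
    exact ⟨a, ha, b, hb, e⟩
  rw [Subgroup.commutator_le]
  intro n hn q hq
  obtain ⟨a, ⟨haN, haQ⟩, b, hb, rfl⟩ := wc_factor hwc hQp hQN hn
  have haC : a ∈ Subgroup.normalizer (C : Set H) := left_le_nz_commutator N' Q haN
  have haD : a ∈ Subgroup.normalizer (D : Set H) :=
    le_nz_commutator (N := Subgroup.normalizer (C : Set H) ⊓ Subgroup.normalizer (Q : Set H))
      inf_le_left inf_le_right ⟨haC, haQ⟩
  have e : ⁅a * b, q⁆ = (a * ⁅b, q⁆ * a⁻¹) * ⁅a, q⁆ := by simp [commutatorElement_def, mul_assoc]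
  rw [e]
  refine Subgroup.mul_mem _ (Subgroup.mem_sup_right (conj_mem_of_nz haD (Subgroup.commutator_mem_commutator hb hq)))
    (Subgroup.mem_sup_left ⟨?_, Subgroup.commutator_mem_commutator haN hq⟩)
  rw [commutatorElement_def]
  exact Q.mul_mem (conj_mem_of_nz haQ hq) (Q.inv_mem hq)

end Cfsg.Agent.S2841
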