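import Mathlib
import Cfsg.Statements.S2843
import Cfsg.Agent.Lib.LocalChar.LargeCore

set_option autoImplicit false

open scoped commutatorElement Pointwise

open Cfsg.Agent.Lib.LocalChar

namespace Cfsg.Agent.S2843

/-- Let Q be a nontrivial large p-subgroup of the finite group H, Q ≤ L ≤ H, and Y a nontrivial p-subgroup of H normalized by L. Let L° be the weak closure of Q in L (generated by the conjugates of Q inside L). Then L° equals the weak closure of Q in L·C_H(Y), and [L°, C_H(Y)] ≤ O_p(L°); in particular C_H(Y) normalizes L°. -/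
theorem result {H : Type*} [Group H] [Finite H] {p : ℕ} [Fact p.Prime] (Q : Subgroup H) (hQp : IsPGroup p ↥Q) (hQ1 : Q ≠ ⊥) (hL : Cfsg.IsLarge Q) (L : Subgroup H) (hQL : Q ≤ L) (Y : Subgroup H) (hYp : IsPGroup p ↥Y) (hY1 : Y ≠ ⊥) (hLY : L ≤ Subgroup.normalizer ((Y : Subgroup H) : Set H)) : Cfsg.weakClosure Q L = Cfsg.weakClosure Q (L ⊔ Subgroup.centralizer ((Y : Subgroup H) : Set H)) ∧ ⁅Cfsg.weakClosure Q L, Subgroup.centralizer ((Y : Subgroup H) : Set H)⁆ ≤ (Cfsg.pCoreOf p (Cfsg.weakClosure Q L)) ∧ Subgroup.centralizer ((Y : Subgroup H) : Set H) ≤ Subgroup.normalizer (((Cfsg.weakClosure Q L) : Subgroup H) : Set H) := by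
  have hwc := wc_of_isLarge hQp hQ1 hL
  set C := Subgroup.centralizer (Y : Set H)
  obtain ⟨u, hu, hu1, hc⟩ := exists_fixed hYp hQp (hQL.trans hLY) hY1
  have hCQ : C ≤ Subgroup.normalizer (Q : Set H) := by
    refine le_trans ?_ (hL.2 (Subgroup.zpowers u)
      (Subgroup.zpowers_le.2 (Subgroup.mem_centralizer_iff.2 fun q hq => (hc q hq).eq))
      (fun e => hu1 (Subgroup.zpowers_eq_bot.1 e)))
    exact (Subgroup.centralizer_le (Subgroup.zpowers_le.2 hu)).trans (Subgroup.centralizer_le_normalizer _)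
  have hLC : L ≤ Subgroup.normalizer (C : Set H) := le_nz_centralizer hLY
  have hCQl : ∀ l ∈ L, C ≤ Subgroup.normalizer (cj l Q : Set H) := fun l hl c hc => by
    refine mem_nz_of_cj_eq ?_
    have h1 : l⁻¹ * c * l ∈ C := by simpa using conj_mem_of_nz (hLC (L.inv_mem hl)) hc
    rw [cj_cj, show c * l = l * (l⁻¹ * c * l) by group, ← cj_cj, cj_eq_of_mem_nz (hCQ h1)]
  have hconj : ∀ g : H, cj g Q ≤ L ⊔ C → ∃ l ∈ L, cj g Q = cj l Q := fun g hg => by
    obtain ⟨k, hk, he⟩ := wc_exists_conj hwc hQp (hQL.trans le_sup_left) hg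
    obtain ⟨l, hl, c, hc, rfl⟩ := (mem_sup_iff_of_nz hLC).1 hk
    exact ⟨l, hl, by rw [he, ← cj_cj, cj_eq_of_mem_nz (hCQ hc)]⟩
  have hLcL : ∀ l ∈ L, cj l Q ≤ L := fun l hl =>
    (cj_mono hQL).trans (cj_eq_of_mem_nz (Subgroup.le_normalizer hl)).le
  set W := Cfsg.weakClosure Q L
  have hWeq : W = Cfsg.weakClosure Q (L ⊔ C) := le_antisymm
    (weakClosure_le fun g hg => cj_le_weakClosure (hg.trans le_sup_left))
    (weakClosure_le fun g hg => by
      obtain ⟨l, hl, he⟩ := hconj g hg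
      exact he.le.trans (cj_le_weakClosure (hLcL l hl)))
  have hCW : C ≤ Subgroup.normalizer (W : Set H) :=
    hWeq ▸ le_sup_right.trans (Subgroup.le_normalizer.trans (nz_le_nz_weakClosure Q (L ⊔ C)))
  refine ⟨hWeq, ?_, hCW⟩
  set M := W ⊓ Cfsg.pCoreOf p C
  have hWC : W ≤ Subgroup.normalizer (C : Set H) := (weakClosure_le_self Q L).trans hLC
  have hWM : W ≤ Subgroup.normalizer (M : Set H) :=
    le_nz_inf Subgroup.le_normalizer (hWC.trans (nz_le_nz_pCoreOf C))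
  have hMp : M ≤ Cfsg.pCoreOf p W := le_pCoreOf inf_le_left hWM ((isPGroup_pCoreOf C).to_le inf_le_right)
  refine le_trans ?_ hMp
  let S : Subgroup H :=
    { carrier := {g | g ∈ Subgroup.normalizer (M : Set H) ∧ ∀ c ∈ C, ⁅g, c⁆ ∈ M}
      one_mem' := ⟨Subgroup.one_mem _, fun u _ => by simp⟩
      mul_mem' := by
        rintro a b ⟨ha, ha'⟩ ⟨hb, hb'⟩
        refine ⟨Subgroup.mul_mem _ ha hb, fun u hu => ?_⟩
        rw [show ⁅a * b, u⁆ = (a * ⁅b, u⁆ * a⁻¹) * ⁅a, u⁆ by simp [commutatorElement_def, mul_assoc]]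
        exact M.mul_mem (conj_mem_of_nz ha (hb' u hu)) (ha' u hu)
      inv_mem' := by
        rintro a ⟨ha, ha'⟩
        refine ⟨Subgroup.inv_mem _ ha, fun u hu => ?_⟩
        rw [show ⁅a⁻¹, u⁆ = a⁻¹ * ⁅a, u⁆⁻¹ * a⁻¹⁻¹ by simp [commutatorElement_def, mul_assoc]]
        exact conj_mem_of_nz (Subgroup.inv_mem _ ha) (M.inv_mem (ha' u hu)) }
  suffices hS : W ≤ S by
    rw [Subgroup.commutator_le]
    exact fun g hg c hc => (hS hg).2 c hc
  refine weakClosure_le fun g hg x hx => ?_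
  obtain ⟨l, hl, he⟩ := hconj g (hg.trans le_sup_left)
  rw [he] at hx
  have hxW : x ∈ W := cj_le_weakClosure (hLcL l hl) hx
  refine ⟨hWM hxW, fun c hc => ?_⟩
  set P := cj l Q
  have h1 : ⁅x, c⁆ ∈ P ⊓ C := by
    refine ⟨?_, ?_⟩
    · rw [commutatorElement_def, mul_assoc, mul_assoc, ← mul_assoc c]
      exact P.mul_mem hx (conj_mem_of_nz (hCQl l hl hc) (P.inv_mem hx))
    · rw [commutatorElement_def]
      exact C.mul_mem (conj_mem_of_nz (hWC hxW) hc) (C.inv_mem hc)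
  exact ⟨cj_le_weakClosure (hLcL l hl) h1.1,
    le_pCoreOf inf_le_right (le_nz_inf (hCQl l hl) Subgroup.le_normalizer)
      ((isPGroup_cj hQp).to_le inf_le_left) h1⟩

end Cfsg.Agent.S2843
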