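import Mathlib
import Cfsg.Statements.S2844
import Cfsg.Agent.Lib.LocalChar.WeaklyClosed

set_option autoImplicit false

open scoped commutatorElement Pointwise

open Cfsg.Agent.Lib.LocalChar

namespace Cfsg.Agent.S2844

/-- Let Q be a nontrivial large p-subgroup of the finite group H and Q• = O_p(N_H(Q)). Then for every g ∈ H outside N_H(Q): C_H(Q) ∩ C_H(gQg⁻¹) = 1, C_H(Q•) ∩ C_H(gQ•g⁻¹) = 1, Z(Q) ∩ Z(gQg⁻¹) = 1 and Z(Q•) ∩ Z(gQ•g⁻¹) = 1; moreover N_H(Q) = N_H(Q•) and Q• is large in H. -/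
theorem result {H : Type*} [Group H] [Finite H] {p : ℕ} [Fact p.Prime] (Q : Subgroup H) (hQp : IsPGroup p ↥Q) (hQ1 : Q ≠ ⊥) (hL : Cfsg.IsLarge Q) (Qb : Subgroup H) (hQb : Qb = Cfsg.largeBullet p Q) : (∀ g : H, g ∉ Subgroup.normalizer ((Q : Subgroup H) : Set H) → Subgroup.centralizer ((Q : Subgroup H) : Set H) ⊓ Subgroup.centralizer ((((Q : Subgroup H).map (MulAut.conj (g : H)).toMonoidHom) : Subgroup H) : Set H) = ⊥ ∧ Subgroup.centralizer ((Qb : Subgroup H) : Set H) ⊓ Subgroup.centralizer ((((Qb : Subgroup H).map (MulAut.conj (g : H)).toMonoidHom) : Subgroup H) : Set H) = ⊥ ∧ (Q ⊓ Subgroup.centralizer ((Q : Subgroup H) : Set H)) ⊓ (((Q : Subgroup H).map (MulAut.conj (g : H)).toMonoidHom) ⊓ Subgroup.centralizer ((((Q : Subgroup H).map (MulAut.conj (g : H)).toMonoidHom) : Subgroup H) : Set H)) = ⊥ ∧ (Qb ⊓ Subgroup.centralizer ((Qb : Subgroup H) : Set H)) ⊓ (((Qb : Subgroup H).map (MulAut.conj (g : H)).toMonoidHom) ⊓ Subgroup.centralizer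 ((((Qb : Subgroup H).map (MulAut.conj (g : H)).toMonoidHom) : Subgroup H) : Set H)) = ⊥) ∧ Subgroup.normalizer ((Q : Subgroup H) : Set H) = Subgroup.normalizer ((Qb : Subgroup H) : Set H) ∧ Cfsg.IsLarge Qb := by
  subst hQb
  set N := Subgroup.normalizer (Q : Set H)
  set B := Cfsg.largeBullet p Q
  have hwc := wc_of_isLarge hQp hQ1 hL
  have hBp : IsPGroup p B := isPGroup_pCoreOf N
  have hQB : Q ≤ B := le_pCoreOf Subgroup.le_normalizer le_rfl hQp
  have heq : N = Subgroup.normalizer (B : Set H) :=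
    le_antisymm (le_nz_pCoreOf N) (wc_nz hwc hBp hQB)
  refine ⟨fun g hg => ?_, heq, ?_⟩
  · have h1 : Subgroup.centralizer (Q : Set H) ⊓ Subgroup.centralizer (cj g Q : Set H) = ⊥ := by
      by_contra hne
      have hle := hL.2 _ inf_le_left hne
      refine hg (mem_nz_of_cj_eq (wc_eq_of_normalize hwc hQp ?_))
      refine le_trans ?_ ((Subgroup.centralizer_le_normalizer _).trans hle)
      exact Subgroup.le_centralizer_iff.1 inf_le_right
    have h2 : Subgroup.centralizer (B : Set H) ⊓ Subgroup.centralizer (cj g B : Set H) = ⊥ :=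
      le_bot_iff.1 (le_trans (inf_le_inf (Subgroup.centralizer_le hQB)
        (Subgroup.centralizer_le (cj_mono hQB))) h1.le)
    exact ⟨h1, h2, le_bot_iff.1 (le_trans (inf_le_inf inf_le_right inf_le_right) h1.le),
      le_bot_iff.1 (le_trans (inf_le_inf inf_le_right inf_le_right) h2.le)⟩
  · refine ⟨(Subgroup.centralizer_le hQB).trans (hL.1.trans hQB), fun U hU hne => ?_⟩
    exact (hL.2 U (hU.trans (Subgroup.centralizer_le hQB)) hne).trans heq.le

end Cfsg.Agent.S2844
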