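import Mathlib
import Cfsg.Statements.S2845
import Cfsg.Agent.Lib.LocalChar.LargeCore

set_option autoImplicit false

open scoped commutatorElement Pointwise

open Cfsg.Agent.Lib.LocalChar

namespace Cfsg.Agent.S2845

/-- Let Q be a nontrivial large p-subgroup of the finite group H. Then for every subgroup L ≥ Q with O_p(L) ≠ 1, C_H(O_p(L)) is a p-group and L has characteristic p, and either the weak closure L° of Q in L equals Q or C_H(L°) = 1; for every subgroup R of H containing a Sylow p-subgroup of H with O_p(R) ≠ 1, C_H(O_p(R)) ≤ O_p(R); and H has parabolic characteristic p. -/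
theorem result {H : Type*} [Group H] [Finite H] {p : ℕ} [Fact p.Prime] (Q : Subgroup H) (hQp : IsPGroup p ↥Q) (hQ1 : Q ≠ ⊥) (hL : Cfsg.IsLarge Q) : (∀ L : Subgroup H, Q ≤ L → Cfsg.pCore p ↥L ≠ ⊥ → IsPGroup p ↥(Subgroup.centralizer (((Cfsg.pCoreOf p L) : Subgroup H) : Set H)) ∧ Subgroup.centralizer (Cfsg.pCore p ↥L : Set ↥L) ≤ Cfsg.pCore p ↥L ∧ (Cfsg.weakClosure Q L = Q ∨ Subgroup.centralizer (((Cfsg.weakClosure Q L) : Subgroup H) : Set H) = ⊥)) ∧ (∀ R : Subgroup H, Cfsg.IsParabolic p R → Cfsg.pCore p ↥R ≠ ⊥ → Subgroup.centralizer (((Cfsg.pCoreOf p R) : Subgroup H) : Set H) ≤ (Cfsg.pCoreOf p R)) ∧ Cfsg.IsOfParabolicCharacteristic p H := by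
  refine ⟨fun L hQL hne => ?_, fun R hR hne => large_parabolic_centralizer hQp hQ1 hL hR (pCoreOf_ne_bot hne), ?_⟩
  · obtain ⟨-, h1, h2⟩ := large_centralizer_core hQp hQ1 hL hQL (pCoreOf_ne_bot hne)
    refine ⟨h1, Cfsg.Agent.Lib.LocalChar.charP_iff.2 h2, ?_⟩
    by_cases hC : Subgroup.centralizer (Cfsg.weakClosure Q L : Set H) = ⊥
    · exact Or.inr hC
    left
    have hwc := wc_of_isLarge hQp hQ1 hL
    have hLQ : L ≤ Subgroup.normalizer (Q : Set H) :=
      (le_nz_centralizer (Subgroup.le_normalizer.trans (nz_le_nz_weakClosure Q L))).trans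
        (hL.2 _ (Subgroup.centralizer_le (le_weakClosure hQL)) hC)
    refine le_antisymm (weakClosure_le fun g hg => ?_) (le_weakClosure hQL)
    exact (wc_eq_of_normalize hwc hQp (hg.trans hLQ)).le
  · intro R hRp hR1 hpar
    have hle : R ≤ Cfsg.pCoreOf p (Subgroup.normalizer (R : Set H)) :=
      le_pCoreOf Subgroup.le_normalizer le_rfl hRp
    refine Cfsg.Agent.Lib.LocalChar.charP_iff.2 (inf_le_right.trans
      (large_parabolic_centralizer hQp hQ1 hL hpar fun e => hR1 (le_bot_iff.1 (e ▸ hle))))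

end Cfsg.Agent.S2845
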