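import Mathlib
import Cfsg.Statements.S2846
import Cfsg.Agent.Lib.LocalChar.FrakMExists
import Cfsg.Agent.Lib.LocalChar.WeaklyClosed

set_option autoImplicit false

open scoped commutatorElement Pointwise

open Cfsg.Agent.Lib.LocalChar

namespace Cfsg.Agent.S2846

open Cfsg.Agent.Lib.LocalChar

/-- Let Q be a nontrivial large p-subgroup of the finite group H, S a Sylow p-subgroup containing Q, and L a subgroup containing S with O_p(L) ≠ 1 and C_H(O_p(L)) ≤ O_p(L). Then there are a subgroup M containing S having the basic property (M ∈ 𝔐_H, writing Y_X for the largest p-reduced normal subgroup of X and 𝓛_H for the set of subgroups X with O_p(X) ≠ 1 and C_H(O_p(X)) ≤ O_p(X): M ∈ 𝓛_H, M·C_H(Y_M) is the only maximal member of 𝓛_H containing M and its largest p-reduced normal subgroup is again Y_M, C_M(Y_M) is p-closed, and the image of C_M(Y_M) in M/O_p(M) lies in the Frattini subgroup of M/O_p(M)) and a subgroup L* with S ≤ L* ≤ M, O_p(L*)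 ≠ 1, C_H(O_p(L*)) ≤ O_p(L*), such that L·C_H(Y_L) = L*·C_H(Y_L), the weak closures of Q in L and in L* agree and lie in that of M, and Y_L = Y_{L*} ≤ Y_M. If moreover Q is not normal in L, then Q is normal in neither L* nor M. -/
theorem result {H : Type*} [Group H] [Finite H] {p : ℕ} [Fact p.Prime] (Q : Subgroup H) (hQp : IsPGroup p ↥Q) (hQ1 : Q ≠ ⊥) (hLg : Cfsg.IsLarge Q) (S : Sylow p H) (hQS : Q ≤ (S : Subgroup H)) (L : Subgroup H) (hSL : (S : Subgroup H) ≤ L) (hL : L ∈ Cfsg.charPSubgroups p H) : ∃ M Ls : Subgroup H, (S : Subgroup H) ≤ M ∧ Cfsg.IsInFrakM p M ∧ (S : Subgroup H) ≤ Ls ∧ Ls ≤ M ∧ Ls ∈ Cfsg.charPSubgroups p H ∧ L ⊔ Subgroup.centralizer (((Cfsg.largestPReducedOf p L) : Subgroup H) : Set H) = Ls ⊔ Subgroup.centralizer (((Cfsg.largestPReducedOf p L) : Subgroup H) : Set H) ∧ Cfsg.weakClosure Q L = Cfsg.weakClosure Q Ls ∧ Cfsg.weakClosure Q Ls ≤ Cfsg.weakClosure Q M ∧ (Cfsg.largestPReducedOf p L) = (Cfsg.largestPReducedOf p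 Ls) ∧ (Cfsg.largestPReducedOf p Ls) ≤ (Cfsg.largestPReducedOf p M) ∧ (¬ L ≤ Subgroup.normalizer ((Q : Subgroup H) : Set H) → ¬ Ls ≤ Subgroup.normalizer ((Q : Subgroup H) : Set H) ∧ ¬ M ≤ Subgroup.normalizer ((Q : Subgroup H) : Set H)) := by
  have hloc := parabolicLoc_of_large hQp hQ1 hLg S
  obtain ⟨M, Ls, hSM, hM, hSLs, hLsM, hLs, he, hYe, hYle⟩ := exists_frakM hloc hSL hL
  set C := Subgroup.centralizer (Cfsg.largestPReducedOf p L : Set H)
  have hwc := wc_of_isLarge hQp hQ1 hLg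
  set Y := Cfsg.largestPReducedOf p L
  have hLne := pCoreOf_ne_bot hL.1
  have hYS : Y ≤ (S : Subgroup H) :=
    (isPRedOf_YL L).le_pCore.trans (pCoreOf_le_sylowIn (IsSylowIn.of_le S hSL))
  have hLY : L ≤ Subgroup.normalizer (Y : Set H) := (isPRedOf_YL L).nz
  obtain ⟨u, hu, hu1, hc⟩ := exists_fixed (isPGroup_of_isEA (isPRedOf_YL (p := p) L).ea) hQp
    (hQS.trans (hSL.trans hLY)) (YL_ne_bot_parabolic hloc hSL hLne)
  have hCQ : C ≤ Subgroup.normalizer (Q : Set H) := by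
    refine le_trans ?_ (hLg.2 (Subgroup.zpowers u) (Subgroup.zpowers_le.2
      (Subgroup.mem_centralizer_iff.2 fun q hq => (hc q hq).eq)) (fun e => hu1 (Subgroup.zpowers_eq_bot.1 e)))
    exact (Subgroup.centralizer_le (Subgroup.zpowers_le.2 hu)).trans (Subgroup.centralizer_le_normalizer _)
  have hLsY : Ls ≤ Subgroup.normalizer (Y : Set H) := by
    rw [show Y = Cfsg.largestPReducedOf p Ls from hYe]; exact (isPRedOf_YL Ls).nz
  have key : ∀ X : Subgroup H, (S : Subgroup H) ≤ X → X ≤ Subgroup.normalizer (Y : Set H) → ∀ g : H,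
      cj g Q ≤ X ⊔ C → cj g Q ≤ X := by
    intro X hSX hXY g hg
    obtain ⟨k, hk, hk'⟩ := wc_exists_conj hwc hQp (hQS.trans (hSX.trans le_sup_left)) hg
    obtain ⟨x, hx, c, hc, rfl⟩ := (mem_sup_iff_of_nz (hXY.trans (le_nz_centralizer le_rfl))).1 hk
    rw [hk', ← cj_cj, cj_eq_of_mem_nz (hCQ hc)]
    exact (cj_mono (hQS.trans hSX)).trans (cj_eq_of_mem_nz (Subgroup.le_normalizer hx)).le
  refine ⟨M, Ls, hSM, hM, hSLs, hLsM, hLs, he, le_antisymm ?_ ?_, ?_, hYe, hYle, fun hn => ?_⟩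
  · exact weakClosure_le fun g hg => cj_le_weakClosure
      (key Ls hSLs hLsY g (hg.trans (le_sup_left.trans he.le)))
  · exact weakClosure_le fun g hg => cj_le_weakClosure
      (key L hSL hLY g (hg.trans (le_sup_left.trans he.ge)))
  · exact weakClosure_le fun g hg => cj_le_weakClosure (hg.trans hLsM)
  · have h1 : ¬ Ls ≤ Subgroup.normalizer (Q : Set H) := fun h =>
      hn (le_sup_left.trans (he.le.trans (sup_le h hCQ)))
    exact ⟨h1, fun h => h1 (hLsM.trans h)⟩

end Cfsg.Agent.S2846
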