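import Mathlib
import Cfsg.Statements.S2848
import Cfsg.Agent.Lib.LocalChar.FrakM

set_option autoImplicit false

open scoped commutatorElement Pointwise

open Cfsg.Agent.Lib.LocalChar

namespace Cfsg.Agent.S2848

/-- Standing hypotheses: G a finite group, S a Sylow p-subgroup, Q a nontrivial large p-subgroup of G contained in S (C_G(Q) ≤ Q and N_G(U) ≤ N_G(Q) for all nontrivial U ≤ C_G(Q)), and M a subgroup containing S with the basic property (M ∈ 𝔐_G(S)); Y_M denotes the largest p-reduced normal subgroup of M and M† = M·C_G(Y_M). Then O_p(M) is a weakly closed subgroup of M† (for p): it is the only M†-conjugate of itself inside some Sylow p-subgroup of M† containing it. -/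
theorem result {G : Type*} [Group G] [Finite G] {p : ℕ} [Fact p.Prime] (S : Sylow p G) (Q : Subgroup G) (hQp : IsPGroup p ↥Q) (hQ1 : Q ≠ ⊥) (hQS : Q ≤ (S : Subgroup G)) (hQ : Cfsg.IsLarge Q) (M : Subgroup G) (hSM : (S : Subgroup G) ≤ M) (hM : Cfsg.IsInFrakM p M) : Cfsg.IsWeaklyClosedSubgroup p (((Cfsg.pCoreOf p M)).subgroupOf (M ⊔ Subgroup.centralizer (((Cfsg.largestPReducedOf p M) : Subgroup G) : Set G))) := by
  set D := dag p M
  set O := Cfsg.pCoreOf p M
  have hSD : (S : Subgroup G) ≤ D := hSM.trans le_sup_left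
  refine ⟨S.subtype hSD, ?_, ?_⟩
  · exact fun x hx => pCoreOf_le_sylowIn (p := p) (H := M) ⟨hSM, S.isPGroup', fun hd => S.not_dvd_index
      (hd.trans (Subgroup.relIndex_dvd_index_of_le hSM))⟩ hx
  · intro k hk
    have hCn : (k : G) ∈ Subgroup.normalizer (Subgroup.centralizer (Cfsg.largestPReducedOf p M : Set G) : Set G) :=
      le_nz_centralizer (dag_le_nz (p := p) (M := M)) k.2
    have hsub : ∀ o ∈ O, (k : G) * o * (k : G)⁻¹ ∈ O := by
      intro o ho
      have h1 : (k : G) * o * (k : G)⁻¹ ∈ (S : Subgroup G) :=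
        hk ⟨⟨o, (pCoreOf_le M).trans le_sup_left ho⟩, ho, rfl⟩
      have heq := frakM_core_eq hSM hM
      rw [show O = _ from heq]
      exact ⟨h1, conj_mem_of_nz hCn ((heq.le ho).2)⟩
    have hkO : (k : G) ∈ Subgroup.normalizer (O : Set G) := mem_nz_of_cj_le (cj_le_iff.2 hsub)
    ext x
    constructor
    · rintro ⟨y, hy, rfl⟩
      exact hsub y hy
    · intro hx
      refine ⟨k⁻¹ * x * k, ?_, by simp [mul_assoc]⟩
      have := conj_mem_of_nz (Subgroup.inv_mem _ hkO) (show (x : G) ∈ O from hx)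
      rw [inv_inv] at this
      exact this

end Cfsg.Agent.S2848
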