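import Mathlib
import Cfsg.Statements.S2849
import Cfsg.Agent.Lib.LocalChar.FrakM

set_option autoImplicit false

open scoped commutatorElement Pointwise

open Cfsg.Agent.Lib.LocalChar

namespace Cfsg.Agent.S2849

/-- Standing hypotheses: G a finite group, S a Sylow p-subgroup, Q a nontrivial large p-subgroup of G contained in S (C_G(Q) ≤ Q and N_G(U) ≤ N_G(Q) for all nontrivial U ≤ C_G(Q)), and M a subgroup containing S with the basic property (M ∈ 𝔐_G(S)); Y_M denotes the largest p-reduced normal subgroup of M and M† = M·C_G(Y_M). Suppose Y_M is asymmetric in G. Then for every subgroup R with Y_M ≤ R ≤ M†, the normal closure of Y_M in N_G(R) is elementary abelian. -/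
theorem result {G : Type*} [Group G] [Finite G] {p : ℕ} [Fact p.Prime] (S : Sylow p G) (Q : Subgroup G) (hQp : IsPGroup p ↥Q) (hQ1 : Q ≠ ⊥) (hQS : Q ≤ (S : Subgroup G)) (hQ : Cfsg.IsLarge Q) (M : Subgroup G) (hSM : (S : Subgroup G) ≤ M) (hM : Cfsg.IsInFrakM p M) (hasym : ¬ Cfsg.IsSymmetricIn (Cfsg.largestPReducedOf p M)) (R : Subgroup G) (hYR : (Cfsg.largestPReducedOf p M) ≤ R) (hRM : R ≤ (M ⊔ Subgroup.centralizer (((Cfsg.largestPReducedOf p M) : Subgroup G) : Set G))) : Cfsg.IsElementaryAbelian p ((Subgroup.normalClosure ((((Cfsg.largestPReducedOf p M)).subgroupOf (Subgroup.normalizer ((R : Subgroup G) : Set G)) : Subgroup ↥(Subgroup.normalizer ((R : Subgroup G) : Set G))) : Set ↥(Subgroup.normalizer ((R : Subgroup G) : Set G)))).map (Subgroup.normalizer ((R : Subgroup G) : Set G)).subtype) := by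
  set Y := Cfsg.largestPReducedOf p M
  set N := Subgroup.normalizer (R : Set G)
  rw [conjClosure_map_subtype _ _ (hYR.trans Subgroup.le_normalizer)]
  have hea := (isPRedOf_YL (p := p) M).ea
  have hYN : ∀ l ∈ N, cj l Y ≤ R := fun l hl => (cj_mono hYR).trans (cj_eq_of_mem_nz hl).le
  have hcomm : ∀ l ∈ N, Y ≤ Subgroup.centralizer (cj l Y : Set G) := by
    intro l hl
    refine asym_commute hasym ((hYN l hl).trans (hRM.trans dag_le_nz)) ?_
    intro y hy
    have h1 : l⁻¹ * y * l ∈ R := by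
      have := conj_mem_of_nz (Subgroup.inv_mem _ hl) (hYR hy)
      rwa [inv_inv] at this
    refine mem_nz_of_cj_eq ?_
    rw [cj_cj, show y * l = l * (l⁻¹ * y * l) by group, ← cj_cj,
      cj_eq_of_mem_nz (dag_le_nz (p := p) (M := M) (hRM h1))]
  set X : Set G := {y | ∃ l ∈ N, ∃ x ∈ Y, y = l * x * l⁻¹}
  have hX : ∀ a ∈ X, ∀ b ∈ X, a * b = b * a := by
    rintro _ ⟨l, hl, x, hx, rfl⟩ _ ⟨m, hm, y, hy, rfl⟩
    have h := Subgroup.mem_centralizer_iff.1 (hcomm (l⁻¹ * m) (N.mul_mem (N.inv_mem hl) hm) hx)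
      ((l⁻¹ * m) * y * (l⁻¹ * m)⁻¹) (conj_mem_cj hy)
    calc l * x * l⁻¹ * (m * y * m⁻¹) = l * (x * ((l⁻¹ * m) * y * (l⁻¹ * m)⁻¹)) * l⁻¹ := by group
      _ = l * (((l⁻¹ * m) * y * (l⁻¹ * m)⁻¹) * x) * l⁻¹ := by rw [← h]
      _ = _ := by group
  haveI hc : IsMulCommutative (Subgroup.closure X) := Subgroup.isMulCommutative_closure hX
  refine ⟨hc, fun a ha => ?_⟩
  induction ha using Subgroup.closure_induction with
  | mem x hx =>
    obtain ⟨l, -, y, hy, rfl⟩ := hx
    rw [conj_pow, hea.2 y hy]; simp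
  | one => simp
  | mul a b ha hb iha ihb => rw [(comm_of_isMulCommutative hc ha hb).mul_pow, iha, ihb, mul_one]
  | inv a _ iha => rw [inv_pow, iha, inv_one]

end Cfsg.Agent.S2849
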