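import Mathlib
import Cfsg.Statements.S2850
import Cfsg.Agent.Lib.LocalChar.Asymmetric

set_option autoImplicit false

open scoped commutatorElement Pointwise

open Cfsg.Agent.Lib.LocalChar

namespace Cfsg.Agent.S2850

/-- Standing hypotheses: G a finite group, S a Sylow p-subgroup, Q a nontrivial large p-subgroup of G contained in S (C_G(Q) ≤ Q and N_G(U) ≤ N_G(Q) for all nontrivial U ≤ C_G(Q)), and M a subgroup containing S with the basic property (M ∈ 𝔐_G(S)); Y_M denotes the largest p-reduced normal subgroup of M and M† = M·C_G(Y_M). Suppose Y_M is asymmetric in G. Then N_G(L) ≤ N_G(O_p(M)) ≤ M† for every p-subgroup L containing O_p(M); O_p(M) is a weakly closed subgroup of G; for every subgroup L containing O_p(M), L ∩ M† contains a Sylow p-subgroup of L; and two elements of Y_M conjugate in G are conjugate in M. -/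
theorem result {G : Type*} [Group G] [Finite G] {p : ℕ} [Fact p.Prime] (S : Sylow p G) (Q : Subgroup G) (hQp : IsPGroup p ↥Q) (hQ1 : Q ≠ ⊥) (hQS : Q ≤ (S : Subgroup G)) (hQ : Cfsg.IsLarge Q) (M : Subgroup G) (hSM : (S : Subgroup G) ≤ M) (hM : Cfsg.IsInFrakM p M) (hasym : ¬ Cfsg.IsSymmetricIn (Cfsg.largestPReducedOf p M)) : (∀ L : Subgroup G, IsPGroup p ↥L → (Cfsg.pCoreOf p M) ≤ L → Subgroup.normalizer ((L : Subgroup G) : Set G) ≤ Subgroup.normalizer (((Cfsg.pCoreOf p M) : Subgroup G) : Set G) ∧ Subgroup.normalizer (((Cfsg.pCoreOf p M) : Subgroup G) : Set G) ≤ (M ⊔ Subgroup.centralizer (((Cfsg.largestPReducedOf p M) : Subgroup G) : Set G))) ∧ Cfsg.IsWeaklyClosedSubgroup p (Cfsg.pCoreOf p M) ∧ (∀ L : Subgroup G, (Cfsg.pCoreOf p M) ≤ L → Cfsg.IsParabolic p ((L ⊓ (M ⊔ Subgroup.centralizer (((Cfsg.largestPReducedOf p M) : Subgroup G) : Set G))).subgroupOf L)) ∧ (∀ x ∈ (Cfsg.largestPReducedOf p M), ∀ g : G, g * x * g⁻¹ ∈ (Cfsg.largestPReducedOf p M)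 → ∃ m ∈ M, m * x * m⁻¹ = g * x * g⁻¹) := by
  set Y := Cfsg.largestPReducedOf p M
  set O := Cfsg.pCoreOf p M
  have hOp : IsPGroup p O := isPGroup_pCoreOf M
  have hall := fun (L : Subgroup G) (hL : IsPGroup p L) (hOL : O ≤ L) =>
    asym_nz_le hQp hQ1 hQ hSM hM hasym hL hOL
  have hNO : Subgroup.normalizer (O : Set G) ≤ dag p M := (hall O hOp le_rfl).2.1
  have hwc : Cfsg.IsWeaklyClosedSubgroup p O := wc_of_nz hOp fun L hL hOL => (hall L hL hOL).2.2
  refine ⟨fun L hL hOL => ⟨(hall L hL hOL).2.2, hNO⟩, hwc, fun L hOL => ?_, ?_⟩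
  · obtain ⟨T, hT, hOT⟩ := exists_isSylowIn_ge (p := p) hOp hOL
    refine ⟨hT.sylow, ?_⟩
    rw [IsSylowIn.sylow_coe hT]
    intro x hx
    exact ⟨x.2, (hall T hT.2.1 hOT).1 hx⟩
  · intro x hx g hg
    set y := g * x * g⁻¹
    have hYO : Y = omZ p O := by
      have h0 := YL_eq_omZ_TL (frakM_sylow hSM) (frakM_charP hM)
      change Y = omZ p ((S : Subgroup G) ⊓ Subgroup.centralizer (Y : Set G)) at h0
      rwa [← frakM_core_eq hSM hM] at h0
    have hcen : ∀ z ∈ Y, O ≤ Subgroup.centralizer ({z} : Set G) := fun z hz o ho =>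
      Subgroup.mem_centralizer_singleton_iff.2 ((mem_omegaCenter_iff.1 (hYO.le hz)).2.1 o ho).eq
    have h1 : cj g O ≤ Subgroup.centralizer ({y} : Set G) := cj_le_iff.2 fun o ho => by
      rw [Subgroup.mem_centralizer_singleton_iff]
      have := Subgroup.mem_centralizer_singleton_iff.1 (hcen x hx ho)
      calc g * o * g⁻¹ * y = g * (o * x) * g⁻¹ := by simp only [y]; group
        _ = g * (x * o) * g⁻¹ := by rw [this]
        _ = _ := by simp only [y]; group
    obtain ⟨c, hc, he⟩ := wc_exists_conj hwc hOp (hcen y hg) h1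
    have hcg : c⁻¹ * g ∈ Subgroup.normalizer (O : Set G) :=
      mem_nz_of_cj_eq (by rw [← cj_cj, he, cj_cj, inv_mul_cancel, cj_one])
    obtain ⟨m, hm, z, hz, e⟩ := (mem_sup_iff_of_nz (show M ≤ Subgroup.normalizer
      (Subgroup.centralizer (Y : Set G) : Set G) from le_nz_centralizer (isPRedOf_YL M).nz)).1 (hNO hcg)
    refine ⟨m, hm, ?_⟩
    have hzx : z * x * z⁻¹ = x := by rw [← Subgroup.mem_centralizer_iff.1 hz x hx]; group
    calc m * x * m⁻¹ = m * (z * x * z⁻¹) * m⁻¹ := by rw [hzx]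
      _ = (m * z) * x * (m * z)⁻¹ := by group
      _ = c⁻¹ * y * c := by rw [← e]; simp only [y]; group
      _ = y := by
        rw [mul_assoc, ← Subgroup.mem_centralizer_singleton_iff.1 hc]; group

end Cfsg.Agent.S2850
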