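import Mathlib
import Cfsg.Statements.S2851
import Cfsg.Agent.Lib.LocalChar.Asymmetric
import Cfsg.Agent.Lib.LocalChar.YL
import Cfsg.Agent.Lib.Components.Bender

set_option autoImplicit false

open scoped commutatorElement Pointwise

open Cfsg.Agent.Lib.LocalChar

namespace Cfsg.Agent.S2851

open Cfsg.Agent.Lib.LocalChar

/-- Standing hypotheses: G a finite group, S a Sylow p-subgroup, Q a nontrivial large p-subgroup of G contained in S, M a subgroup containing S with the basic property (M ∈ 𝔐_G(S)); Y_M the largest p-reduced normal subgroup of M and M† = M·C_G(Y_M). Let F be the preimage in M† of the generalized Fitting subgroup of M†/C_{M†}(Y_M). If Y_M is asymmetric in G and H is a subgroup of characteristic p containing F, then Y_M ≤ Y_H. -/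
theorem result {G : Type*} [Group G] [Finite G] {p : ℕ} [Fact p.Prime] (S : Sylow p G) (Q : Subgroup G) (hQp : IsPGroup p ↥Q) (hQ1 : Q ≠ ⊥) (hQS : Q ≤ (S : Subgroup G)) (hQ : Cfsg.IsLarge Q) (M : Subgroup G) (hSM : (S : Subgroup G) ≤ M) (hM : Cfsg.IsInFrakM p M) (hasym : ¬ Cfsg.IsSymmetricIn (Cfsg.largestPReducedOf p M)) [hn : ((Subgroup.centralizer (((Cfsg.largestPReducedOf p M) : Subgroup G) : Set G)).subgroupOf (M ⊔ Subgroup.centralizer (((Cfsg.largestPReducedOf p M) : Subgroup G) : Set G))).Normal] (F : Subgroup G) (hF : F = ((Cfsg.generalizedFittingSubgroup (↥(M ⊔ Subgroup.centralizer (((Cfsg.largestPReducedOf p M) : Subgroup G) : Set G)) ⧸ (Subgroup.centralizer (((Cfsg.largestPReducedOf p M) : Subgroup G) : Set G)).subgroupOf (M ⊔ Subgroup.centralizer (((Cfsg.largestPReducedOf p M) : Subgroup G) : Set G)))).comap (QuotientGroup.mk' ((Subgroup.centralizer (((Cfsg.largestPReducedOf p M) : Subgroup G) : Set G)).subgroupOf (M ⊔ Subgroup.centralizer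 (((Cfsg.largestPReducedOf p M) : Subgroup G) : Set G))))).map ((M ⊔ Subgroup.centralizer (((Cfsg.largestPReducedOf p M) : Subgroup G) : Set G))).subtype) (H : Subgroup G) (hFH : F ≤ H) (hH : Subgroup.centralizer (Cfsg.pCore p ↥H : Set ↥H) ≤ Cfsg.pCore p ↥H) : (Cfsg.largestPReducedOf p M) ≤ Cfsg.largestPReducedOf p H := by
  subst hF
  set Y := Cfsg.largestPReducedOf p M
  set C := Subgroup.centralizer (Y : Set G)
  set D' := M ⊔ C
  set Cd := C.subgroupOf D'
  set q := QuotientGroup.mk' Cd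
  set Fb := Cfsg.generalizedFittingSubgroup (↥D' ⧸ Cd)
  set F := (Fb.comap q).map D'.subtype
  set O := Cfsg.pCoreOf p M
  have hYD : IsPRedOf p Y D' := by
    rw [show Y = Cfsg.largestPReducedOf p D' from hM.2.2.2.1]; exact isPRedOf_YL D'
  have hbot : Cfsg.pCore p (↥D' ⧸ Cd) = ⊥ := by
    refine pCore_quotient_eq_bot_iff.2 fun D hD hpow d hd => ?_
    refine hYD.red (D.map D'.subtype) (Subgroup.map_subtype_le D) ?_ ?_ ⟨d, hd, rfl⟩
    · rw [le_nz_iff]
      rintro k hk _ ⟨x, hx, rfl⟩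
      exact ⟨⟨k, hk⟩ * x * ⟨k, hk⟩⁻¹, hD.conj_mem x hx _, rfl⟩
    · rintro _ ⟨x, hx, rfl⟩
      obtain ⟨k, hk⟩ := hpow x hx
      exact ⟨k, hk⟩
  haveI hFbn : Fb.Normal := Cfsg.Agent.Lib.Components.gfs_normal
  -- subgroups normalised by `F` that are `p`-groups modulo `C` centralise `Y`
  have key : ∀ P : Subgroup G, P ≤ D' → F ≤ Subgroup.normalizer (P : Set G) →
      (∀ d ∈ P, ∃ k : ℕ, d ^ p ^ k ∈ C) → P ≤ C := by
    intro P hPD hFP hpow
    set Pb := (P.subgroupOf D').map q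
    have hPp : IsPGroup p Pb := by
      rintro ⟨_, x, hx, rfl⟩
      obtain ⟨k, hk⟩ := hpow _ hx
      exact ⟨k, Subtype.ext (by
        show q x ^ p ^ k = 1
        rw [← map_pow]; exact (QuotientGroup.eq_one_iff _).2 (by simpa [Cd, Subgroup.mem_subgroupOf] using hk))⟩
    have hFPb : Fb ≤ Subgroup.normalizer (Pb : Set (↥D' ⧸ Cd)) := by
      rw [le_nz_iff]
      rintro f hf _ ⟨x, hx, rfl⟩
      obtain ⟨f, rfl⟩ := QuotientGroup.mk'_surjective Cd f
      exact ⟨f * x * f⁻¹, conj_mem_of_nz (H := P) (g := (f : G)) (hFP ⟨f, hf, rfl⟩) hx, by simp [q]⟩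
    have hInf : Pb ⊓ Fb = ⊥ := by
      rw [eq_bot_iff, ← hbot]
      refine le_pCore_of_subnormal ?_ (hPp.to_le inf_le_left)
      exact Subgroup.IsSubnormal.step _ Fb inf_le_right hFbn.isSubnormal
        (normal_subgroupOf (le_nz_inf hFPb Subgroup.le_normalizer))
    have hc : Pb ≤ Subgroup.centralizer (Fb : Set (↥D' ⧸ Cd)) := by
      rw [← Subgroup.commutator_eq_bot_iff_le_centralizer, eq_bot_iff, ← hInf]
      refine le_inf (commutator_le_left_of_nz hFPb) ?_
      exact commutator_le_right_of_nz (by rw [Subgroup.normalizer_eq_top (H := Fb)]; exact le_top)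
    have hPb : Pb = ⊥ := by
      rw [← inf_eq_left.2 (hc.trans Cfsg.Agent.Lib.Components.centralizer_gfs_le), hInf]
    intro x hx
    have h1 : q ⟨x, hPD hx⟩ ∈ Pb := Subgroup.mem_map_of_mem q (show (⟨x, hPD hx⟩ : ↥D') ∈ P.subgroupOf D' from hx)
    rw [hPb, Subgroup.mem_bot] at h1
    exact (QuotientGroup.eq_one_iff (N := Cd) _).1 h1
  have hFD : F ≤ D' := Subgroup.map_subtype_le _
  have hCF : C ≤ F := fun c hc => ⟨⟨c, (le_sup_right : C ≤ D') hc⟩, by
    show q ⟨c, _⟩ ∈ Fb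
    rw [show q ⟨c, (le_sup_right : C ≤ D') hc⟩ = 1 from (QuotientGroup.eq_one_iff _).2 hc]
    exact Fb.one_mem, rfl⟩
  have hO : O ≤ C := by rw [show O = _ from frakM_core_eq hSM hM]; exact inf_le_right
  have hCH : C ≤ H := hCF.trans hFH
  have hYH : Y ≤ H := ((frakM_YL_le_core hM).trans (hO.trans hCH))
  have hOH : O ≤ H := hO.trans hCH
  set U := Cfsg.pCoreOf p H
  have hUp : IsPGroup p U := isPGroup_pCoreOf H
  have hUD : U ≤ D' := le_sup_left.trans (asym_nz_le hQp hQ1 hQ hSM hM hasym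
    (hUp.to_sup_of_normal_left' (isPGroup_pCoreOf M) (hOH.trans (le_nz_pCoreOf H))) le_sup_right).1
  have hUC : U ≤ C := key U hUD (hFH.trans (le_nz_pCoreOf H)) fun d hd =>
    (exists_pow_eq_one hUp hd).imp fun k hk => by rw [hk]; exact C.one_mem
  have hYU : Y ≤ omZ p U := by
    intro y hy
    refine mem_omegaCenter_iff.2 ⟨?_, fun a ha => (Subgroup.mem_centralizer_iff.1 (hUC ha) y hy).symm, hYD.ea.2 y hy⟩
    exact (charP_iff.1 hH) ⟨hYH hy, Subgroup.mem_centralizer_iff.2 fun a ha =>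
      (Subgroup.mem_centralizer_iff.1 (hUC ha) y hy).symm⟩
  have hVU : conjClosure H Y ≤ omZ p U :=
    conjClosure_le hYU ((le_nz_pCoreOf H).trans (nz_le_nz_omZ _))
  have hpr : IsPRedOf p (conjClosure H Y) H := by
    refine ⟨conjClosure_le hYH Subgroup.le_normalizer, le_nz_conjClosure H Y,
      isEA_of_le (isEA_omegaCenter _) hVU, fun D hD hn hpow => ?_⟩
    have hpowC : ∀ d ∈ D, ∃ k : ℕ, d ^ p ^ k ∈ C := fun d hd =>
      (hpow d hd).imp fun k hk => Subgroup.centralizer_le (le_conjClosure H Y) hk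
    obtain ⟨T, hT, hOT⟩ := exists_isSylowIn_ge (p := p) (isPGroup_pCoreOf M) hOH
    have hTD : T ≤ D' := (asym_nz_le hQp hQ1 hQ hSM hM hasym hT.2.1 hOT).1
    have h1 : D ⊓ D' ≤ C := key _ inf_le_right
      (le_nz_inf (hFH.trans hn) (hFD.trans Subgroup.le_normalizer)) fun d hd => hpowC d hd.1
    have hDC : D ≤ C := by
      rw [← (hT.inf hD hn).resOf_sup]
      exact sup_le (resOf_le_iff.2 fun x hx ho => mem_of_coprime_of_pow ho (hpowC x hx))
        ((le_inf inf_le_right (inf_le_left.trans hTD)).trans h1)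
    rw [Subgroup.le_centralizer_iff]
    exact conjClosure_le (Subgroup.le_centralizer_iff.1 hDC) (le_nz_centralizer hn)
  exact (le_conjClosure H Y).trans hpr.le_YL

end Cfsg.Agent.S2851
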