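import Mathlib
import Cfsg.Statements.S2852
import Cfsg.Agent.Lib.LocalChar.FrakH

set_option autoImplicit false

open scoped commutatorElement Pointwise

open Cfsg.Agent.Lib.LocalChar

namespace Cfsg.Agent.S2852

/-- Standing hypotheses: G a finite group, S a Sylow p-subgroup, Q a nontrivial large p-subgroup of G contained in S, M a subgroup containing S with the basic property (M ∈ 𝔐_G(S)); Y_M the largest p-reduced normal subgroup of M. If Y_M is char-p-tall and asymmetric in G, then some subgroup H of G lies in ℌ_G(O_p(M)): H has characteristic p, O_p(M) ≤ H, Y_M ≰ O_p(H), and Y_M ≤ O_p(P) for every proper subgroup P of H containing O_p(M). -/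
theorem result {G : Type*} [Group G] [Finite G] {p : ℕ} [Fact p.Prime] (S : Sylow p G) (Q : Subgroup G) (hQp : IsPGroup p ↥Q) (hQ1 : Q ≠ ⊥) (hQS : Q ≤ (S : Subgroup G)) (hQ : Cfsg.IsLarge Q) (M : Subgroup G) (hSM : (S : Subgroup G) ≤ M) (hM : Cfsg.IsInFrakM p M) (htall : Cfsg.IsCharPTall p (Cfsg.largestPReducedOf p M)) (hasym : ¬ Cfsg.IsSymmetricIn (Cfsg.largestPReducedOf p M)) : ∃ H : Subgroup G, Cfsg.IsInFrakH p M H := by
  set Y := Cfsg.largestPReducedOf p M
  set O := Cfsg.pCoreOf p M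
  set C := Subgroup.centralizer (Y : Set G)
  obtain ⟨T, L, hTL, hLc, hYL⟩ := htall
  have hSY : IsSylowIn p O C := by
    have h := IsSylowIn.inf (N := C) (⟨hSM.trans le_sup_left, S.isPGroup', fun hd => S.not_dvd_index
      (hd.trans (Subgroup.relIndex_dvd_index_of_le (hSM.trans le_sup_left)))⟩ :
      IsSylowIn p (S : Subgroup G) (dag p M)) le_sup_right (le_nz_centralizer dag_le_nz)
    rwa [← frakM_core_eq hSM hM] at h
  obtain ⟨c, hc, he⟩ := hSY.conj_eq (IsSylowIn.ofSylow T)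
  set L' := cj c L
  have hcY : cj c Y = Y := cj_eq_of_mem_nz (Subgroup.centralizer_le_normalizer _ hc)
  have hOL : O ≤ L' := he ▸ cj_mono hTL
  have hYL' : ¬ Y ≤ Cfsg.pCoreOf p L' := fun h => hYL (by
    show Y ≤ Cfsg.pCoreOf p L
    rw [pCoreOf_cj] at h
    have h2 := cj_mono (g := c⁻¹) h
    rwa [cj_inv_eq_self hcY, cj_cj, inv_mul_cancel, cj_one] at h2)
  have hLc' : IsCharPOf p L' := by
    intro x hx
    rw [pCoreOf_cj, mem_cj]
    refine (Cfsg.Agent.Lib.LocalChar.charP_iff.1 hLc) ⟨mem_cj.1 hx.1, Subgroup.mem_centralizer_iff.2 fun y hy => ?_⟩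
    have hm : c * y * c⁻¹ ∈ Cfsg.pCoreOf p L' := pCoreOf_cj (p := p) c L ▸ conj_mem_cj hy
    have := Subgroup.mem_centralizer_iff.1 hx.2 _ hm
    calc y * (c⁻¹ * x * c) = c⁻¹ * (c * y * c⁻¹ * x) * c := by group
      _ = c⁻¹ * (x * (c * y * c⁻¹)) * c := by rw [this]
      _ = _ := by group
  obtain ⟨H, ⟨hHL, hOH, hYH⟩, hmin⟩ :=
    (Set.toFinite {P : Subgroup G | P ≤ L' ∧ O ≤ P ∧ ¬ Y ≤ Cfsg.pCoreOf p P}).exists_minimal ⟨L', le_rfl, hOL, hYL'⟩
  refine ⟨H, Cfsg.Agent.Lib.LocalChar.charP_iff.2 ?_, hOH, hYH, fun P hOP hlt => ?_⟩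
  swap
  · by_contra hn
    exact hlt.not_ge (hmin ⟨hlt.le.trans hHL, hOP, hn⟩ hlt.le)
  -- `H` has characteristic `p`
  have hOp : IsPGroup p O := isPGroup_pCoreOf M
  have hnz := fun (R : Subgroup G) (hR : IsPGroup p R) (h : O ≤ R) =>
    asym_nz_le hQp hQ1 hQ hSM hM hasym hR h
  set U := Cfsg.pCoreOf p L'
  set P := Cfsg.pCoreOf p H
  set K := H ⊓ Subgroup.centralizer (P : Set G)
  have hHK : H ≤ Subgroup.normalizer (K : Set G) :=
    le_nz_inf Subgroup.le_normalizer (le_nz_centralizer (le_nz_pCoreOf H))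
  have hLU := le_nz_pCoreOf (p := p) L'
  have hUO : ⁅U, O⁆ ≤ U ⊓ H := by
    have h1 : U ≤ Subgroup.normalizer (O : Set G) := le_sup_left.trans
      (Subgroup.le_normalizer.trans (hnz _ ((isPGroup_pCoreOf L').to_sup_of_normal_left' hOp (hOL.trans hLU)) le_sup_right).2.2)
    exact le_inf (commutator_le_left_of_nz (hOL.trans hLU))
      ((Subgroup.commutator_comm U O).le.trans ((commutator_le_left_of_nz h1).trans hOH))
  have hUH : U ⊓ H ≤ P := le_pCoreOf inf_le_right
    (le_nz_inf (hHL.trans hLU) Subgroup.le_normalizer) ((isPGroup_pCoreOf L').to_le inf_le_left)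
  set D := ⁅O, K⁆
  have hDK : D ≤ K := (Subgroup.commutator_comm O K).le.trans (commutator_le_left_of_nz (hOH.trans hHK))
  have hDp : IsPGroup p D := (isPGroup_iff_forall_coprime _).2 fun d hd ho => by
    have hc' := commute_of_stabilizes (M := U ⊓ H) (isPGroup_pCoreOf L') (inf_le_left.trans (hHL.trans hLU))
      (hOL.trans hLU) (le_nz_inf (inf_le_left.trans (hHL.trans hLU)) (inf_le_left.trans Subgroup.le_normalizer))
      (le_nz_inf (hOL.trans hLU) (hOH.trans Subgroup.le_normalizer)) (hOH.trans hHK) hUO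
      (fun x hx _ m hm => (Subgroup.mem_centralizer_iff.1 hx.2 m (hUH hm)).symm) hd ho
    exact eq_one_of_isPGroup_of_coprime (isPGroup_pCoreOf L')
      (hLc' ⟨hHL (hDK hd).1, Subgroup.mem_centralizer_iff.2 fun u hu => (hc' u hu).eq.symm⟩) ho
  have hKD : K ≤ Subgroup.normalizer (D : Set G) := right_le_nz_commutator O K
  have hKR : K ≤ Subgroup.normalizer ((D ⊔ O : Subgroup G) : Set G) := fun k hk => mem_nz_of_cj_le (by
    show (D ⊔ O).map _ ≤ _
    rw [Subgroup.map_sup]
    refine sup_le ((cj_eq_of_mem_nz (hKD hk)).le.trans le_sup_left) (cj_le_iff.2 fun q hq => ?_)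
    rw [show k * q * k⁻¹ = ⁅q, k⁆⁻¹ * q by simp [commutatorElement_def, mul_assoc]]
    exact Subgroup.mul_mem_sup (D.inv_mem (Subgroup.commutator_mem_commutator hq hk)) hq)
  have hKO : K ≤ Subgroup.normalizer (O : Set G) :=
    hKR.trans (hnz _ (hDp.to_sup_of_normal_left' hOp (left_le_nz_commutator O K)) le_sup_right).2.2
  have hDO : D ≤ O := commutator_le_left_of_nz hKO
  have hDP : D ≤ P := (le_pCoreOf (H := K) hDK hKD hDp).trans (pCoreOf_mono_normal inf_le_left hHK)
  intro x hx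
  refine le_pCoreOf (H := H) inf_le_left hHK ((isPGroup_iff_forall_coprime _).2 fun y hy ho => ?_) hx
  have hyC : y ∈ Subgroup.centralizer (O : Set G) := Subgroup.mem_centralizer_iff.2 fun q hq => by
    have h1 : q⁻¹ * (y * q * y⁻¹) ∈ D := by
      have := Subgroup.commutator_mem_commutator (O.inv_mem hq) hy
      simpa [commutatorElement_def, mul_assoc] using this
    exact (commute_of_two_step (p := p) ho (Subgroup.mem_centralizer_iff.1 hy.2 _ (hDP h1)).symm
      (exists_pow_eq_one hOp (hDO h1))).eq.symm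
  exact eq_one_of_isPGroup_of_coprime hOp (hM.1.2 hyC) ho

end Cfsg.Agent.S2852
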