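import Mathlib
import Cfsg.Statements.S2853
import Cfsg.Agent.Lib.LocalChar.FrakH

set_option autoImplicit false

open scoped commutatorElement Pointwise

open Cfsg.Agent.Lib.LocalChar

namespace Cfsg.Agent.S2853

/-- Standing hypotheses: G a finite group, S a Sylow p-subgroup, Q a nontrivial large p-subgroup of G contained in S, M a subgroup containing S with the basic property (M ∈ 𝔐_G(S)); Y_M the largest p-reduced normal subgroup of M and M† = M·C_G(Y_M). Suppose Y_M is char-p-tall and asymmetric in G and H ∈ ℌ_G(O_p(M)). Then every Sylow p-subgroup of H ∩ M† is a Sylow p-subgroup of H; O_p(H) normalizes O_p(M) and Y_M; O^p(H) = [O^p(H), Y_M] and H = O^p(H)·O_p(M); O^p(H)·Y_M is the normal closure of Y_M in H; and H is the normal closure of O_p(M) in H. Here O^p(H) is the subgroup generated by the elements of H of order prime to p. -/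
theorem result {G : Type*} [Group G] [Finite G] {p : ℕ} [Fact p.Prime] (S : Sylow p G) (Q : Subgroup G) (hQp : IsPGroup p ↥Q) (hQ1 : Q ≠ ⊥) (hQS : Q ≤ (S : Subgroup G)) (hQ : Cfsg.IsLarge Q) (M : Subgroup G) (hSM : (S : Subgroup G) ≤ M) (hM : Cfsg.IsInFrakM p M) (htall : Cfsg.IsCharPTall p (Cfsg.largestPReducedOf p M)) (hasym : ¬ Cfsg.IsSymmetricIn (Cfsg.largestPReducedOf p M)) (H : Subgroup G) (hH : Cfsg.IsInFrakH p M H) (R : Subgroup G) (hR : R = (Cfsg.pResidual p ↥H).map H.subtype) : (∀ T : Sylow p ↥(H ⊓ (M ⊔ Subgroup.centralizer (((Cfsg.largestPReducedOf p M) : Subgroup G) : Set G))), ∃ P : Sylow p ↥H, ((P : Subgroup ↥H).map H.subtype) = (T : Subgroup ↥(H ⊓ (M ⊔ Subgroup.centralizer (((Cfsg.largestPReducedOf p M) : Subgroup G) : Set G)))).map (H ⊓ (M ⊔ Subgroup.centralizer (((Cfsg.largestPReducedOf p M) : Subgroup G) : Set G))).subtype) ∧ Cfsg.pCoreOf p H ≤ Subgroup.normalizer (((Cfsg.pCoreOf p M) : Subgroup G) : Set G) ⊓ Subgroup.normalizer (((Cfsg.largestPReducedOf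 p M) : Subgroup G) : Set G) ∧ ⁅R, (Cfsg.largestPReducedOf p M)⁆ = R ∧ R ⊔ (Cfsg.pCoreOf p M) = H ∧ R ⊔ (Cfsg.largestPReducedOf p M) = (Subgroup.normalClosure ((((Cfsg.largestPReducedOf p M)).subgroupOf H : Subgroup ↥H) : Set ↥H)).map H.subtype ∧ (Subgroup.normalClosure ((((Cfsg.pCoreOf p M)).subgroupOf H : Subgroup ↥H) : Set ↥H)).map H.subtype = H := by
  subst hR
  have hYO := frakM_YL_le_core (p := p) hM
  have hOp : IsPGroup p (Cfsg.pCoreOf p M) := isPGroup_pCoreOf M
  have hOH := hH.2.1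
  have hnz := fun (R : Subgroup G) (hR : IsPGroup p R) (h : Cfsg.pCoreOf p M ≤ R) =>
    asym_nz_le hQp hQ1 hQ hSM hM hasym hR h
  obtain ⟨P, hP, hOP⟩ := exists_isSylowIn_ge (p := p) hOp hOH
  refine ⟨?_, ?_, frakH_commutator hM hH, frakH_resOf_sup hH, ?_, ?_⟩
  · set K := H ⊓ dag p M
    intro T
    have hPK : IsSylowIn p P K := hP.mono (le_inf hP.1 (hnz P hP.2.1 hOP).1) inf_le_left
    have hT := IsSylowIn.ofSylow T
    obtain ⟨x, hx, hex⟩ := hPK.conj_eq hT
    have hT' : (T : Subgroup K).map K.subtype = cj x⁻¹ P := by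
      rw [← hex, cj_cj, inv_mul_cancel, cj_one]
    have h := hP.conj (x := x⁻¹) (Subgroup.le_normalizer (H.inv_mem hx.1))
    refine ⟨h.sylow, ?_⟩
    rw [IsSylowIn.sylow_coe h, Subgroup.map_subgroupOf_eq_of_le h.1]
    exact hT'.symm
  · have h := hnz _ ((isPGroup_pCoreOf H).to_sup_of_normal_left' hOp (hOH.trans (le_nz_pCoreOf H))) le_sup_right
    refine le_inf (le_sup_left.trans (Subgroup.le_normalizer.trans h.2.2)) ?_
    exact le_sup_left.trans (h.1.trans dag_le_nz)
  · rw [conjClosure_map_subtype _ _ (hYO.trans hOH)]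
    exact (frakH_closure_sup hM hH).2
  · rw [conjClosure_map_subtype _ _ hOH]
    refine le_antisymm (conjClosure_le hOH Subgroup.le_normalizer) ?_
    conv_lhs => rw [← (frakH_closure_sup hM hH).1]
    exact sup_le (conjClosure_le (hYO.trans (le_conjClosure H _)) (le_nz_conjClosure H _)) (le_conjClosure H _)

end Cfsg.Agent.S2853
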