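import Mathlib
import Cfsg.Statements.S2854
import Cfsg.Agent.Lib.LocalChar.FrakH

set_option autoImplicit false

open scoped commutatorElement Pointwise

open Cfsg.Agent.Lib.LocalChar

namespace Cfsg.Agent.S2854

/-- Standing hypotheses: G a finite group, S a Sylow p-subgroup, Q a nontrivial large p-subgroup of G contained in S, M a subgroup containing S with the basic property (M ∈ 𝔐_G(S)); Y_M the largest p-reduced normal subgroup of M and M† = M·C_G(Y_M). Suppose Y_M is asymmetric in G, H ∈ ℌ_G(O_p(M)), and H ≤ N_G(gQg⁻¹) for some g ∈ G. Then gQg⁻¹ ≤ O_p(H·gQg⁻¹) ≤ N_G(O_p(M)) ≤ N_G(Y_M) = M†; H is normal in H·gQg⁻¹ with O^p(H) = O^p(H·gQg⁻¹); and H·gQg⁻¹ is p-irreducible. -/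
theorem result {G : Type*} [Group G] [Finite G] {p : ℕ} [Fact p.Prime] (S : Sylow p G) (Q : Subgroup G) (hQp : IsPGroup p ↥Q) (hQ1 : Q ≠ ⊥) (hQS : Q ≤ (S : Subgroup G)) (hQ : Cfsg.IsLarge Q) (M : Subgroup G) (hSM : (S : Subgroup G) ≤ M) (hM : Cfsg.IsInFrakM p M) (hasym : ¬ Cfsg.IsSymmetricIn (Cfsg.largestPReducedOf p M)) (H : Subgroup G) (hH : Cfsg.IsInFrakH p M H) (g : G) (hHQ : H ≤ Subgroup.normalizer ((((Q : Subgroup G).map (MulAut.conj (g : G)).toMonoidHom) : Subgroup G) : Set G)) : ((Q : Subgroup G).map (MulAut.conj (g : G)).toMonoidHom) ≤ Cfsg.pCoreOf p (H ⊔ ((Q : Subgroup G).map (MulAut.conj (g : G)).toMonoidHom)) ∧ Cfsg.pCoreOf p (H ⊔ ((Q : Subgroup G).map (MulAut.conj (g : G)).toMonoidHom)) ≤ Subgroup.normalizer (((Cfsg.pCoreOf p M) : Subgroup G) : Set G) ∧ Subgroup.normalizer (((Cfsg.pCoreOf p M) : Subgroup G) : Set G) ≤ Subgroup.normalizer (((Cfsg.largestPReducedOf p M) : Subgroup G) : Set G) ∧ Subgroup.normalizer (((Cfsg.largestPReducedOf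 p M) : Subgroup G) : Set G) = (M ⊔ Subgroup.centralizer (((Cfsg.largestPReducedOf p M) : Subgroup G) : Set G)) ∧ (H.subgroupOf (H ⊔ ((Q : Subgroup G).map (MulAut.conj (g : G)).toMonoidHom))).Normal ∧ (Cfsg.pResidual p ↥H).map H.subtype = (Cfsg.pResidual p ↥(H ⊔ ((Q : Subgroup G).map (MulAut.conj (g : G)).toMonoidHom))).map (H ⊔ ((Q : Subgroup G).map (MulAut.conj (g : G)).toMonoidHom)).subtype ∧ Cfsg.IsPIrreducible p ↥(H ⊔ ((Q : Subgroup G).map (MulAut.conj (g : G)).toMonoidHom)) := by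
  set P' := (Q : Subgroup G).map (MulAut.conj (g : G)).toMonoidHom
  set Y := Cfsg.largestPReducedOf p M
  set O := Cfsg.pCoreOf p M
  set K := H ⊔ P'
  set R := resOf p H
  set J := Cfsg.pCoreOf p H
  have hP'p : IsPGroup p P' := hQp.map _
  have hYO : Y ≤ O := frakM_YL_le_core (p := p) hM
  have hOp : IsPGroup p O := isPGroup_pCoreOf M
  have hOH : O ≤ H := hH.2.1
  have hOK : O ≤ K := hOH.trans le_sup_left
  have hnz := fun (R : Subgroup G) (hR : IsPGroup p R) (h : O ≤ R) => asym_nz_le hQp hQ1 hQ hSM hM hasym hR h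
  have hNO := (hnz O hOp le_rfl).2.1
  have hKP : K ≤ Subgroup.normalizer (P' : Set G) := sup_le hHQ Subgroup.le_normalizer
  have hP'K : P' ≤ Cfsg.pCoreOf p K := le_pCoreOf le_sup_right hKP hP'p
  have hKO : Cfsg.pCoreOf p K ≤ Subgroup.normalizer (O : Set G) :=
    le_sup_left.trans (Subgroup.le_normalizer.trans
      (hnz _ ((isPGroup_pCoreOf K).to_sup_of_normal_left' hOp (hOK.trans (le_nz_pCoreOf K))) le_sup_right).2.2)
  have hP'O : P' ≤ Subgroup.normalizer (O : Set G) := hP'K.trans hKO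
  have hYne : Y ≠ ⊥ := frakM_YL_ne_bot hSM hM
  have hP'H : P' ≤ Subgroup.normalizer (H : Set G) := by
    have hcl : conjClosure H O = H := by
      refine le_antisymm (conjClosure_le hOH Subgroup.le_normalizer) ?_
      conv_lhs => rw [← (frakH_closure_sup hM hH).1]
      exact sup_le (conjClosure_le (hYO.trans (le_conjClosure H _)) (le_nz_conjClosure H _)) (le_conjClosure H _)
    intro q hq
    refine mem_nz_of_cj_le ?_
    conv_lhs => rw [← hcl]
    rw [conjClosure, cj, MonoidHom.map_closure, Subgroup.closure_le]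
    rintro _ ⟨_, ⟨h, hh, o, ho, rfl⟩, rfl⟩
    have hq' : h⁻¹ * q * h * q⁻¹ ∈ P' :=
      P'.mul_mem (by simpa using conj_mem_of_nz (hHQ (H.inv_mem hh)) hq) (P'.inv_mem hq)
    have h1 := conj_mem_of_nz (hP'O (P'.mul_mem hq' hq)) ho
    show q * (h * o * h⁻¹) * q⁻¹ ∈ H
    have e : q * (h * o * h⁻¹) * q⁻¹ =
        h * ((h⁻¹ * q * h * q⁻¹ * q) * o * (h⁻¹ * q * h * q⁻¹ * q)⁻¹) * h⁻¹ := by group
    rw [e]
    exact H.mul_mem (H.mul_mem hh (hOH h1)) (H.inv_mem hh)
  have hKH : K ≤ Subgroup.normalizer (H : Set G) := sup_le Subgroup.le_normalizer hP'H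
  have hres : resOf p K = R := by
    have := resOf_sup_pGroup (p := p) hP'p hP'H
    rwa [sup_comm] at this
  refine ⟨hP'K, hKO, hNO.trans dag_le_nz, le_antisymm (frakM_nz_le hQp hQ1 hQ hSM hM
    (isPGroup_of_isEA (isPRedOf_YL M).ea) hYne (isPRedOf_YL M).nz) dag_le_nz, normal_subgroupOf hKH, hres.symm,
    ?_, ?_⟩
  · intro hcl
    obtain ⟨T⟩ : Nonempty (Sylow p K) := inferInstance
    have hTn := hcl T
    have hOT : O.subgroupOf K ≤ (T : Subgroup K) := by
      obtain ⟨T', hT'⟩ := (isPGroup_subgroupOf (H := K) hOp).exists_le_sylow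
      haveI := hTn
      haveI := Sylow.unique_of_normal T hTn
      rwa [Subsingleton.elim T T']
    set T₀ := (T : Subgroup K).map K.subtype
    have hT₀ : K ≤ Subgroup.normalizer (T₀ : Set G) := le_nz_iff.2 fun k hk x hx => by
      obtain ⟨y, hy, rfl⟩ := hx
      exact ⟨_, hTn.conj_mem y hy ⟨k, hk⟩, rfl⟩
    refine hH.2.2.1 (hYO.trans (le_trans (le_inf (show O ≤ T₀ from fun o ho => ⟨⟨o, hOK ho⟩, hOT ho, rfl⟩) hOH) ?_))
    exact le_pCoreOf inf_le_right (le_nz_inf (le_sup_left.trans hT₀) Subgroup.le_normalizer)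
      ((T.isPGroup'.map K.subtype).to_le inf_le_left)
  · intro N0 hN0 hnc
    set N := N0.map K.subtype
    have hNK : N ≤ K := Subgroup.map_subtype_le N0
    have hKN : K ≤ Subgroup.normalizer (N : Set G) := le_nz_iff.2 fun k hk x hx => by
      obtain ⟨y, hy, rfl⟩ := hx
      exact ⟨_, hN0.conj_mem y hy ⟨k, hk⟩, rfl⟩
    suffices hRN : R ≤ N by
      intro x hx
      obtain ⟨y, hy, e⟩ := hRN (hres ▸ ⟨x, hx, rfl⟩ : (x : G) ∈ R)
      rwa [← show y = x from Subtype.ext e]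
    by_contra hRN
    apply hnc
    have hRH : R ≤ H := resOf_le H
    have hHR : H ≤ Subgroup.normalizer (R : Set G) := Subgroup.le_normalizer.trans (nz_le_nz_resOf H)
    have hKR : K ≤ Subgroup.normalizer (R : Set G) := hKH.trans (nz_le_nz_resOf H)
    have hKJ : K ≤ Subgroup.normalizer (J : Set G) := hKH.trans (nz_le_nz_pCoreOf H)
    have hJp : IsPGroup p J := isPGroup_pCoreOf H
    set Z := N ⊓ R
    have hKZ : K ≤ Subgroup.normalizer (Z : Set G) := le_nz_inf hKN hKR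
    have hHK : H ≤ K := le_sup_left
    have hZO : O ⊔ Z ≠ H := fun e => hRN (by
      have := resOf_sup_pGroup (p := p) hOp (hOK.trans hKZ)
      rw [e] at this
      exact this.le.trans ((resOf_le Z).trans inf_le_left))
    have hY2 := hH.2.2.2 (O ⊔ Z) le_sup_left (lt_of_le_of_ne (sup_le hOH (inf_le_right.trans hRH)) hZO)
    have hZY : ⁅Z, Y⁆ ≤ J := by
      have h1 : ⁅Z, Y⁆ ≤ Z ⊓ Cfsg.pCoreOf p (O ⊔ Z) := le_inf (commutator_le_left_of_nz ((hYO.trans hOK).trans hKZ))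
        ((Subgroup.commutator_comm Z Y).le.trans ((Subgroup.commutator_mono hY2 le_rfl).trans
          (commutator_le_left_of_nz ((le_sup_right : Z ≤ O ⊔ Z).trans (le_nz_pCoreOf _)))))
      refine h1.trans ((le_pCoreOf (H := Z) inf_le_left (le_nz_inf Subgroup.le_normalizer
        ((le_sup_right : Z ≤ O ⊔ Z).trans (le_nz_pCoreOf _))) ((isPGroup_pCoreOf _).to_le inf_le_right)).trans ?_)
      exact pCoreOf_mono_normal (inf_le_right.trans hRH) (hHK.trans hKZ)
    let C0 : Subgroup G :=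
      { carrier := {h | h ∈ H ∧ ∀ z ∈ Z, ⁅z, h⁆ ∈ J}
        one_mem' := ⟨H.one_mem, fun z _ => by simp⟩
        mul_mem' := by
          rintro a b ⟨ha, ha'⟩ ⟨hb, hb'⟩
          refine ⟨H.mul_mem ha hb, fun u hu => ?_⟩
          rw [show ⁅u, a * b⁆ = ⁅u, a⁆ * (a * ⁅u, b⁆ * a⁻¹) by simp [commutatorElement_def, mul_assoc]]
          exact J.mul_mem (ha' u hu) (conj_mem_of_nz (hKJ (hHK ha)) (hb' u hu))
        inv_mem' := by
          rintro a ⟨ha, ha'⟩
          refine ⟨H.inv_mem ha, fun u hu => ?_⟩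
          rw [show ⁅u, a⁻¹⁆ = a⁻¹ * ⁅u, a⁆⁻¹ * a⁻¹⁻¹ by simp [commutatorElement_def, mul_assoc]]
          exact conj_mem_of_nz (hKJ (hHK (H.inv_mem ha))) (J.inv_mem (ha' u hu)) }
    have hC0 : H ≤ Subgroup.normalizer (C0 : Set G) := le_nz_iff.2 fun l hl k hk => by
      refine ⟨H.mul_mem (H.mul_mem hl hk.1) (H.inv_mem hl), fun z hz => ?_⟩
      have hz' : l⁻¹ * z * l ∈ Z := by simpa using conj_mem_of_nz (hKZ (hHK (H.inv_mem hl))) hz
      rw [show ⁅z, l * k * l⁻¹⁆ = l * ⁅l⁻¹ * z * l, k⁆ * l⁻¹ by simp [commutatorElement_def, mul_assoc]]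
      exact conj_mem_of_nz (hKJ (hHK hl)) (hk.2 _ hz')
    have hZR : ⁅Z, R⁆ ≤ J := by
      have h1 : R ≤ C0 := (le_sup_left.trans (frakH_closure_sup hM hH).2.le).trans
        (conjClosure_le (fun y hy => ⟨hOH (hYO hy), fun z hz => hZY (Subgroup.commutator_mem_commutator hz hy)⟩) hC0)
      rw [Subgroup.commutator_le]
      exact fun z hz r hr => (h1 hr).2 z hz
    -- a Sylow subgroup of `N`
    obtain ⟨T, hT, hOT⟩ := exists_isSylowIn_ge (p := p) hOp hOK
    have hU := hT.inf hNK hKN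
    set U := T ⊓ N
    have hUK : U ≤ K := inf_le_right.trans hNK
    have hUR : ⁅U, R⁆ ≤ Z := le_inf
      ((Subgroup.commutator_mono (inf_le_right : U ≤ N) le_rfl).trans (commutator_le_left_of_nz ((hRH.trans hHK).trans hKN)))
      ((Subgroup.commutator_comm U R).le.trans (commutator_le_left_of_nz (hUK.trans hKR)))
    have hTY : T ≤ Subgroup.normalizer (Y : Set G) := (hnz T hT.2.1 hOT).1.trans dag_le_nz
    set Y0 := Y ⊓ N
    have hYU : ⁅Y, U⁆ ≤ Y0 := le_inf (commutator_le_left_of_nz ((inf_le_left : U ≤ T).trans hTY))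
      ((Subgroup.commutator_comm Y U).le.trans ((Subgroup.commutator_mono (inf_le_right : U ≤ N) le_rfl).trans
        (commutator_le_left_of_nz ((hYO.trans hOK).trans hKN))))
    have hY0 : ⁅Y0, R⁆ ≤ J := by
      have hYc : ⁅Y, Y0⁆ = ⊥ := Subgroup.commutator_eq_bot_iff_le_centralizer.2 fun a ha =>
        Subgroup.mem_centralizer_iff.2 fun b hb => (comm_of_isMulCommutative (isPRedOf_YL M).ea.1 ha hb.1).symm.eq
      have h2 : ⁅Y0, R⁆ ≤ Z := le_inf
        ((Subgroup.commutator_mono (inf_le_right : Y0 ≤ N) le_rfl).trans (commutator_le_left_of_nz ((hRH.trans hHK).trans hKN)))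
        ((Subgroup.commutator_comm Y0 R).le.trans (commutator_le_left_of_nz (((inf_le_left : Y0 ≤ Y).trans (hYO.trans hOH)).trans hHR)))
      have h3 : ⁅⁅R, Y⁆, Y0⁆ ≤ J := three_subgroup_le ((hRH.trans hHK).trans hKJ) ((hYO.trans hOK).trans hKJ)
        (((inf_le_left : Y0 ≤ Y).trans (hYO.trans hOK)).trans hKJ)
        (by rw [hYc, Subgroup.commutator_bot_left]; exact bot_le)
        ((Subgroup.commutator_mono h2 le_rfl).trans hZY)
      rw [frakH_commutator hM hH] at h3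
      exact (Subgroup.commutator_comm Y0 R).le.trans h3
    have hUJ : ⁅R, U⁆ ≤ J := by
      have h3 : ⁅⁅R, Y⁆, U⁆ ≤ J := three_subgroup_le ((hRH.trans hHK).trans hKJ) ((hYO.trans hOK).trans hKJ)
        (hUK.trans hKJ) ((Subgroup.commutator_mono hYU le_rfl).trans hY0)
        ((Subgroup.commutator_mono hUR le_rfl).trans hZY)
      rwa [frakH_commutator hM hH] at h3
    have hNU : N ≤ Subgroup.normalizer (U : Set G) := by
      rw [← hU.resOf_sup]
      refine sup_le (fun r hr => mem_nz_of_cj_le ?_) Subgroup.le_normalizer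
      have hrR : r ∈ R := hres ▸ resOf_mono hNK hr
      have hrN : r ∈ N := resOf_le N hr
      set W := (J ⊔ U) ⊓ N
      have hWp : IsPGroup p W := (hJp.to_sup_of_normal_left' hU.2.1 (hUK.trans hKJ)).to_le inf_le_left
      have hWU : W = U := hU.eq_of_le hWp inf_le_right (le_inf le_sup_right inf_le_right)
      refine le_trans (cj_le_iff.2 fun u hu => ?_) hWU.le
      refine ⟨?_, N.mul_mem (N.mul_mem hrN hu.2) (N.inv_mem hrN)⟩
      rw [show r * u * r⁻¹ = ⁅r, u⁆ * u by simp [commutatorElement_def, mul_assoc]]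
      exact Subgroup.mul_mem_sup (hUJ (Subgroup.commutator_mem_commutator hrR hu)) hu
    refine isPClosed_of_normal (G := G) (K.subtype.comp N0.subtype)
      (fun a b h => Subtype.ext (Subtype.ext h)) hU.2.1 ?_ ?_
    · rintro _ ⟨y, rfl⟩
      exact hNU ⟨_, y.2, rfl⟩
    · intro X hX hle
      have hXN : X ≤ N := hle.trans (by rintro _ ⟨y, rfl⟩; exact ⟨_, y.2, rfl⟩)
      have := hU.eq_of_le (Q := U ⊔ X) (hU.2.1.to_sup_of_normal_left' hX (hXN.trans hNU)) (sup_le inf_le_right hXN) le_sup_left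
      exact le_sup_right.trans this.le

end Cfsg.Agent.S2854
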