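import Mathlib
import Cfsg.Statements.S2855
import Cfsg.Agent.Lib.LocalChar.PIrred
import Cfsg.Agent.Lib.LocalChar.FStar

set_option autoImplicit false

open scoped commutatorElement Pointwise

open Cfsg.Agent.Lib.LocalChar

namespace Cfsg.Agent.S2855

open Subgroup Cfsg.Agent.Lib.LocalChar
open scoped commutatorElement

section
variable {H : Type*} [Group H] [Finite H] {p : ℕ} [Fact p.Prime]

/-- An element inducing central commutators on a subgroup generated by `p`-elements with
`p'`-centre centralises it. -/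
theorem centralize_of_central {E : Subgroup H} {x : H} (hgen : Cfsg.pElementClosure p E = E)
    (hp : ∀ z ∈ E ⊓ centralizer (E : Set H), (orderOf z).Coprime p)
    (hx : ∀ e ∈ E, ⁅x, e⁆ ∈ E ⊓ centralizer (E : Set H)) : x ∈ centralizer (E : Set H) := by
  have hmul : ∀ a ∈ E, ∀ b ∈ E, ⁅x, a * b⁆ = ⁅x, a⁆ * ⁅x, b⁆ := by
    intro a ha b hb
    have hc : a * ⁅x, b⁆ * a⁻¹ = ⁅x, b⁆ := by
      rw [mem_centralizer_iff.1 (hx b hb).2 a ha, mul_inv_cancel_right]
    calc ⁅x, a * b⁆ = ⁅x, a⁆ * (a * ⁅x, b⁆ * a⁻¹) := by simp only [commutatorElement_def]; group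
      _ = _ := by rw [hc]
  let φ : ↥E →* ↥(E ⊓ centralizer (E : Set H)) :=
    { toFun := fun e => ⟨⁅x, (e : H)⁆, hx e e.2⟩
      map_one' := Subtype.ext (by simp)
      map_mul' := fun a b => Subtype.ext (by simpa using hmul a a.2 b b.2) }
  have hle : E ≤ φ.ker.map E.subtype := by
    conv_lhs => rw [← hgen]
    refine (closure_le _).2 ?_
    rintro e ⟨he, k, hk⟩
    refine ⟨⟨e, he⟩, ?_, rfl⟩
    have h1 : orderOf (φ ⟨e, he⟩) ∣ p ^ k := (orderOf_map_dvd φ _).trans (by rw [Subgroup.orderOf_mk, hk])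
    have h2 : (orderOf (φ ⟨e, he⟩)).Coprime p := by
      rw [← Subgroup.orderOf_coe]; exact hp _ (φ ⟨e, he⟩).2
    exact orderOf_eq_one_iff.1 (Nat.eq_one_of_dvd_coprimes (h2.pow_right k) dvd_rfl h1)
  refine mem_centralizer_iff.2 fun e he => ?_
  obtain ⟨w, hw, hwe⟩ := hle he
  have h1 : ⁅x, e⁆ = 1 := by
    rw [← hwe]
    exact congrArg Subtype.val (show φ w = 1 from hw)
  exact (commutatorElement_eq_one_iff_mul_comm.1 h1).symm

/-- The centre of a subnormal subgroup is a `p'`-group if `O_p = 1`. -/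
theorem center_p' (hO : Cfsg.pCore p H = ⊥) {E : Subgroup H} (hE : E.IsSubnormal) :
    ∀ z ∈ E ⊓ centralizer (E : Set H), (orderOf z).Coprime p := by
  intro z hz
  have hle : (center ↥E).map E.subtype ≤ Cfsg.fittingSubgroup H := by
    haveI : Group.IsNilpotent ↥(center ↥E) :=
      @CommGroup.isNilpotent _ (CommGroup.mk fun a b => Subtype.ext (mem_center_iff.1 b.2 a))
    exact Cfsg.Agent.Lib.Components.le_fittingSubgroup_of_subnormal
      ((inferInstance : (center ↥E).Normal).isSubnormal.trans' hE)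
      (Group.nilpotent_of_surjective (E.subtype.subgroupMap _) (E.subtype.subgroupMap_surjective _))
  have hzc : z ∈ (center ↥E).map E.subtype :=
    ⟨⟨z, hz.1⟩, mem_center_iff.2 fun a => Subtype.ext (mem_centralizer_iff.1 hz.2 a a.2), rfl⟩
  exact coprime_of_not_dvd fun hd => fitting_p' hO (hd.trans ((Cfsg.fittingSubgroup H).orderOf_dvd_natCard (hle hzc)))

/-- A strongly `p`-irreducible group is generated by its `p`-elements. -/
theorem pElementClosure_eq_of_strong {E : Subgroup H} (h : Cfsg.IsStronglyPIrreducible p ↥E) :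
    Cfsg.pElementClosure p E = E := by
  refine le_antisymm (pElementClosure_le E) ?_
  set N := (Cfsg.pElementClosure p E).subgroupOf E with hN
  have hNn : N.Normal := normal_subgroupOf (le_nz_pElementClosure E)
  obtain ⟨T⟩ : Nonempty (Sylow p ↥E) := inferInstance
  have hTN : (T : Subgroup ↥E) ≤ N := fun t ht =>
    mem_pElementClosure (T.isPGroup'.map E.subtype) (map_subtype_le _) ⟨t, ht, rfl⟩
  have hres : Cfsg.pResidual p ↥E ≤ N := by
    refine h.2 N hNn fun hle => h.1 (isPClosed_iff.2 fun P hP => ?_)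
    -- every `p`-subgroup normalises itself modulo the core
    obtain ⟨U, hU⟩ := hP.exists_le_sylow
    refine hU.trans ?_
    have hn : ((U : Subgroup ↥E) ⊔ Cfsg.pCore p ↥E).Normal := by
      rw [← normalizer_eq_top_iff, eq_top_iff]
      refine le_nz_iff.2 fun g _ x hx => ?_
      have hxN : x ∈ N := by
        refine (sup_le ?_ ?_ : (U : Subgroup ↥E) ⊔ Cfsg.pCore p ↥E ≤ N) hx
        · exact fun t ht => mem_pElementClosure (U.isPGroup'.map E.subtype) (map_subtype_le _) ⟨t, ht, rfl⟩
        · exact fun t ht => mem_pElementClosure (pCore_isPGroup.map E.subtype) (map_subtype_le _) ⟨t, ht, rfl⟩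
      have hc := hle (commutator_mem_commutator hxN (mem_top g))
      have he : g * x * g⁻¹ = ⁅x, g⁆⁻¹ * x := by rw [commutatorElement_def]; group
      rw [he]
      exact mul_mem (inv_mem (mem_sup_right hc)) hx
    rw [sup_eq_left.2 (pCore_le_sylow U)] at hn
    exact le_pCore hn U.isPGroup'
  have htop : N = ⊤ := top_le_iff.1 (resOf_sup_sylow T ▸ sup_le hres hTN)
  exact subgroupOf_eq_top.1 htop

end

set_option maxHeartbeats 400000 in
/-- Let H be a finite group, p a prime, and 𝒦 a nonempty set of subgroups of H permuted transitively by conjugation, with R the subgroup generated by the members of 𝒦. Suppose O^p(H) ≤ R, each E ∈ 𝒦 has E·O_p(H) normal in R·O_p(H), and each E ∈ 𝒦 is p-minimal (generated by the conjugates of a Sylow p-subgroup T_E of E, with T_E in exactly one maximal subgroup of E). Then H is p-minimal in the same sense. If instead each E ∈ 𝒦 is strongly p-irreducible, then H is p-irreducible and, for E, K ∈ 𝒦, either O^p(E·O_p(H)) = O^p(K·O_p(H)) or [E, K] ≤ O_p(H).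 -/
theorem result {H : Type*} [Group H] [Finite H] {p : ℕ} [Fact p.Prime] (𝒦 : Set (Subgroup H)) (hne : 𝒦.Nonempty) (hinv : ∀ h : H, ∀ E ∈ 𝒦, E.map (MulAut.conj h).toMonoidHom ∈ 𝒦) (htr : ∀ E ∈ 𝒦, ∀ K ∈ 𝒦, ∃ h : H, K = E.map (MulAut.conj h).toMonoidHom) (hres : Cfsg.pResidual p H ≤ sSup 𝒦) (hnorm : ∀ E ∈ 𝒦, sSup 𝒦 ⊔ Cfsg.pCore p H ≤ Subgroup.normalizer ((E ⊔ Cfsg.pCore p H : Subgroup H) : Set H)) : ((∀ E ∈ 𝒦, ∀ T : Sylow p ↥E, Cfsg.IsMinimalOver (T : Subgroup ↥E)) → ∀ T : Sylow p H, Cfsg.IsMinimalOver (T : Subgroup H)) ∧ ((∀ E ∈ 𝒦, Cfsg.IsStronglyPIrreducible p ↥E) → Cfsg.IsPIrreducible p H ∧ ∀ E ∈ 𝒦, ∀ K ∈ 𝒦, (Cfsg.pResidual p ↥(E ⊔ Cfsg.pCore p H)).map (E ⊔ Cfsg.pCore p H).subtype = (Cfsg.pResidual p ↥(K ⊔ Cfsg.pCore p H)).map (K ⊔ Cfsg.pCore p H).subtype ∨ ⁅E, K⁆ ≤ Cfsg.pCore p H) := by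
  classical
  set D := Cfsg.pCore p H with hD
  haveI hDn : D.Normal := Cfsg.Agent.Lib.LocalChar.pCore_normal
  have hDp : IsPGroup p ↥D := pCore_isPGroup
  set R := sSup 𝒦 with hR
  have hER : ∀ E ∈ 𝒦, E ≤ R := fun E hE => le_sSup hE
  have hcjD : ∀ h : H, cj h D = D := fun h => cj_eq_of_mem_nz ((normalizer_eq_top (H := D)) ▸ mem_top h)
  haveI hRn : R.Normal := by
    refine ⟨fun x hx g => ?_⟩
    have : cj g R ≤ R := by
      rw [hR, cj, map_le_iff_le_comap, sSup_le_iff]
      intro E hE
      rw [← map_le_iff_le_comap]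
      exact le_sSup (hinv g E hE)
    exact this ⟨x, hx, rfl⟩
  have hsubED : ∀ E ∈ 𝒦, (E ⊔ D).IsSubnormal := by
    intro E hE
    have hn : ((E ⊔ D).subgroupOf (R ⊔ D)).Normal := normal_subgroupOf (hnorm E hE)
    have h := hn.isSubnormal.trans' (inferInstance : (R ⊔ D).Normal).isSubnormal
    rwa [map_subgroupOf_eq_of_le (sup_le_sup_right (hER E hE) D)] at h
  have hRT : ∀ T : Sylow p H, R ⊔ (T : Subgroup H) = ⊤ := fun T =>
    top_le_iff.1 (resOf_sup_sylow T ▸ sup_le_sup_right hres _)
  refine ⟨fun hmin T => ?_, fun hstr => ?_⟩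
  · -- minimality over a Sylow subgroup
    obtain ⟨E₀, hE₀⟩ := hne
    have hDT : D ≤ (T : Subgroup H) := pCore_le_sylow T
    have hN : normalClosure ((T : Subgroup H) : Set H) = ⊤ := by
      have hRN : R ≤ normalClosure ((T : Subgroup H) : Set H) := by
        refine sSup_le fun E hE => ?_
        obtain ⟨TE⟩ : Nonempty (Sylow p ↥E) := inferInstance
        have h : (normalClosure ((T : Subgroup H) : Set H)).subgroupOf E = ⊤ := by
          refine normalClosure_top_le (hmin E hE TE).1 (normalClosure_normal.subgroupOf E) ?_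
          intro t ht
          obtain ⟨x, -, hle⟩ := (IsSylowIn.of_le T le_top).conj_le (TE.isPGroup'.map E.subtype) le_top
          have h1 := (normalClosure_normal (s := ((T : Subgroup H) : Set H))).conj_mem _
            (subset_normalClosure (hle (mem_map_of_mem (MulAut.conj x).toMonoidHom (mem_map_of_mem E.subtype ht)))) x⁻¹
          have h2 : (t : H) ∈ normalClosure ((T : Subgroup H) : Set H) := by simpa [mul_assoc] using h1
          exact h2
        exact subgroupOf_eq_top.1 h
      exact top_le_iff.1 (hRT T ▸ sup_le hRN (fun t ht => subset_normalClosure ht))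
    -- the maximal subgroup of `E D` over `T ∩ E D`
    have key : ∀ E ∈ 𝒦, ∃ ME : Subgroup H, (T : Subgroup H) ⊓ (E ⊔ D) ≤ ME ∧ ME < E ⊔ D ∧
        ∀ Y, (T : Subgroup H) ⊓ (E ⊔ D) ≤ Y → Y < E ⊔ D → Y ≤ ME := by
      intro E hE
      have hTE : IsSylowIn p ((T : Subgroup H) ⊓ (E ⊔ D)) (E ⊔ D) := IsSylowIn.inf_subnormal T (hsubED E hE)
      obtain ⟨Q, hQ, hTQ⟩ := exists_isSylowIn_ge (p := p) (T.isPGroup'.to_le inf_le_left)
        (inf_le_right : (T : Subgroup H) ⊓ E ≤ E)
      have hQT : Q ≤ (T : Subgroup H) := by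
        have hQD : IsPGroup p ↥(Q ⊔ D) := hQ.2.1.to_sup_of_normal_right hDp
        obtain ⟨x, hx, hle⟩ := hTE.conj_le hQD (sup_le_sup_right hQ.1 D)
        obtain ⟨e, he, d, hd, rfl⟩ := mem_sup_of_normal_right.1 hx
        have hTn : d ∈ normalizer (((T : Subgroup H) ⊓ (E ⊔ D) : Subgroup H) : Set H) :=
          le_normalizer ⟨hDT hd, mem_sup_right hd⟩
        have he' : e ∈ normalizer (E : Set H) := le_normalizer he
        have h2 : cj e (Q ⊔ D) ≤ (T : Subgroup H) ⊓ (E ⊔ D) := by
          have : cj (e * d) (Q ⊔ D) = cj e (Q ⊔ D) := by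
            rw [← cj_cj, cj_eq_of_mem_nz (le_normalizer (mem_sup_right hd) : d ∈ normalizer ((Q ⊔ D : Subgroup H) : Set H))]
          rwa [← this]
        have h3 : cj e Q ≤ (T : Subgroup H) ⊓ E :=
          le_inf ((map_mono le_sup_left).trans (h2.trans inf_le_left)) ((map_mono hQ.1).trans (cj_eq_of_mem_nz he').le)
        have h4 : cj e Q = Q := eq_of_le_of_card_ge (h3.trans hTQ)
          (by rw [cj, card_map_of_injective (MulAut.conj e).injective])
        exact h4 ▸ h3.trans inf_le_left
      have hQeq : (T : Subgroup H) ⊓ E = Q := le_antisymm hTQ (le_inf hQT hQ.1)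
      obtain ⟨M', ⟨hM', hQM'⟩, huniq⟩ := (hmin E hE hQ.sylow).2
      set ME := M'.map E.subtype ⊔ D with hME
      have hDE : D ⊓ E ≤ M'.map E.subtype := by
        intro x hx
        refine ⟨⟨x, hx.2⟩, hQM' ?_, rfl⟩
        rw [hQ.sylow_coe, mem_subgroupOf]
        exact hQeq.le ⟨hDT hx.1, hx.2⟩
      refine ⟨ME, ?_, ?_, fun Y hTY hY => ?_⟩
      · intro t ht
        obtain ⟨e, he, d, hd, rfl⟩ := mem_sup_of_normal_right.1 ht.2
        have heT : e ∈ (T : Subgroup H) := by simpa using (T : Subgroup H).mul_mem ht.1 ((T : Subgroup H).inv_mem (hDT hd))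
        refine mul_mem (mem_sup_left ⟨⟨e, he⟩, hQM' ?_, rfl⟩) (mem_sup_right hd)
        rw [hQ.sylow_coe, mem_subgroupOf]
        exact hQeq.le ⟨heT, he⟩
      · refine lt_of_le_of_ne (sup_le_sup_right (map_subtype_le _) D) fun h => hM'.1 ?_
        rw [eq_top_iff]
        rintro e -
        obtain ⟨m, hm, d, hd, he⟩ := mem_sup_of_normal_right.1 (h.symm ▸ mem_sup_left e.2 : (e : H) ∈ ME)
        have hdE : d ∈ E := by
          rw [show d = m⁻¹ * (e : H) by rw [← he]; group]
          exact mul_mem (inv_mem (map_subtype_le _ hm)) e.2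
        have := mul_mem hm (hDE ⟨hd, hdE⟩)
        rw [he] at this
        obtain ⟨w, hw, hwe⟩ := this
        exact Subtype.ext hwe ▸ hw
      · have hDY : D ≤ Y := (le_inf hDT le_sup_right).trans hTY
        have hne' : Y.subgroupOf E ≠ ⊤ := fun h =>
          hY.not_ge (sup_le (subgroupOf_eq_top.1 h) hDY)
        obtain ⟨Z, hZ, hle⟩ := (eq_top_or_exists_le_coatom _).resolve_left hne'
        have hQZ : (hQ.sylow : Subgroup ↥E) ≤ Z := fun q hq => hle (hTY ⟨hQT hq, mem_sup_left q.2⟩)
        rw [huniq Z ⟨hZ, hQZ⟩] at hle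
        intro y hy
        obtain ⟨e, he, d, hd, rfl⟩ := mem_sup_of_normal_right.1 (hY.le hy)
        have heY : e ∈ Y := by simpa using mul_mem hy (inv_mem (hDY hd))
        exact mul_mem (mem_sup_left ⟨⟨e, he⟩, hle heY, rfl⟩) (mem_sup_right hd)
    choose! ME hME1 hME2 hME3 using key
    set Ms := (⨅ E ∈ 𝒦, normalizer (ME E : Set H)) ⊓ (R ⊔ D) with hMs
    have hTperm : ∀ t ∈ (T : Subgroup H), ∀ E ∈ 𝒦, cj t (ME E) = ME (cj t E) := by
      intro t ht E hE
      have hE' : cj t E ∈ 𝒦 := hinv t E hE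
      have hED : cj t (E ⊔ D) = cj t E ⊔ D := by
        rw [cj, Subgroup.map_sup]; exact congrArg (cj t E ⊔ ·) (hcjD t)
      have hT : cj t (T : Subgroup H) = (T : Subgroup H) := cj_eq_of_mem_nz (le_normalizer ht)
      have h1 : cj t (ME E) ≤ ME (cj t E) := by
        refine hME3 _ hE' _ ?_ ?_
        · rw [← hED]
          nth_rewrite 1 [← hT]
          rw [cj, cj, ← Subgroup.map_inf _ _ _ (MulEquiv.injective _)]
          exact map_mono (hME1 E hE)
        · rw [← hED]
          exact (map_lt_map_iff_of_injective (MulAut.conj t).injective).2 (hME2 E hE)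
      refine le_antisymm h1 ?_
      have hback : cj t⁻¹ (ME (cj t E)) ≤ ME E := by
        refine hME3 E hE _ ?_ ?_
        · have h2 := map_mono (f := (MulAut.conj t⁻¹).toMonoidHom) (hME1 _ hE')
          rw [Subgroup.map_inf _ _ _ (MulEquiv.injective _)] at h2
          change cj t⁻¹ _ ⊓ cj t⁻¹ _ ≤ cj t⁻¹ _ at h2
          rwa [← hED, cj_cj, inv_mul_cancel, cj_one, cj_eq_of_mem_nz (le_normalizer (inv_mem ht))] at h2
        · have h2 := (map_lt_map_iff_of_injective (f := (MulAut.conj t⁻¹).toMonoidHom) (MulAut.conj t⁻¹).injective).2 (hME2 _ hE')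
          change cj t⁻¹ _ < cj t⁻¹ _ at h2
          rwa [← hED, cj_cj, inv_mul_cancel, cj_one] at h2
      have h3 := map_mono (f := (MulAut.conj t).toMonoidHom) hback
      change cj t _ ≤ cj t _ at h3
      rwa [cj_cj, mul_inv_cancel, cj_one] at h3
    have hTMs : (T : Subgroup H) ≤ normalizer (Ms : Set H) := le_nz_iff.2 fun t ht x hx => by
      refine ⟨?_, (inferInstance : (R ⊔ D).Normal).conj_mem x hx.2 t⟩
      have hx1 : ∀ E ∈ 𝒦, x ∈ normalizer (ME E : Set H) := by simpa using hx.1
      show _ ∈ (⨅ E ∈ 𝒦, normalizer (ME E : Set H) : Subgroup H)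
      simp only [Subgroup.mem_iInf]
      intro E hE
      have hE' : cj t⁻¹ E ∈ 𝒦 := hinv t⁻¹ E hE
      refine mem_nz_of_cj_eq ?_
      have e1 : cj t (ME (cj t⁻¹ E)) = ME E := by rw [hTperm t ht _ hE', cj_cj, mul_inv_cancel, cj_one]
      rw [← e1, cj_cj, show t * x * t⁻¹ * t = t * x by group, ← cj_cj, cj_eq_of_mem_nz (hx1 _ hE')]
    set Mstar := Ms ⊔ (T : Subgroup H) with hMstar
    have hproper : Mstar ≠ ⊤ := by
      intro htop
      have h0 := pResidual_le_of_sup T.isPGroup' hTMs (by rw [sup_comm]; exact htop)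
      have hsyl := IsSylowIn.inf_subnormal T (hsubED E₀ hE₀)
      have hdec : (E₀ ⊔ D : Subgroup H) ≤ normalizer (ME E₀ : Set H) := by
        rw [← hsyl.resOf_sup]
        refine sup_le ?_ ((hME1 E₀ hE₀).trans le_normalizer)
        intro x hx
        have h1 : x ∈ (⨅ E ∈ 𝒦, normalizer (ME E : Set H) : Subgroup H) := (h0 (resOf_top (p := p) (G := H) ▸ resOf_mono le_top hx)).1
        simp only [Subgroup.mem_iInf] at h1
        exact h1 E₀ hE₀
      obtain ⟨Q⟩ : Nonempty (Sylow p ↥E₀) := inferInstance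
      obtain ⟨x, hx, hle⟩ := hsyl.conj_le (Q.isPGroup'.map E₀.subtype) ((map_subtype_le _).trans le_sup_left)
      have hQM : (Q : Subgroup ↥E₀).map E₀.subtype ≤ ME E₀ := by
        intro q hq
        have h1 := conj_mem_of_nz (inv_mem (hdec hx)) (hME1 E₀ hE₀ (hle (mem_map_of_mem _ hq)))
        simpa [mul_assoc] using h1
      haveI : ((ME E₀).subgroupOf E₀).Normal := by
        refine ⟨fun a ha g => ?_⟩
        exact conj_mem_of_nz (H := ME E₀) (hdec (mem_sup_left g.2)) ha
      have htop' : (ME E₀).subgroupOf E₀ = ⊤ :=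
        normalClosure_top_le (hmin E₀ hE₀ Q).1 inferInstance (fun q hq => hQM ⟨q, hq, rfl⟩)
      exact (hME2 E₀ hE₀).not_ge (sup_le (subgroupOf_eq_top.1 htop') ((le_inf hDT le_sup_right).trans (hME1 E₀ hE₀)))
    have hall : ∀ X : Subgroup H, (T : Subgroup H) ≤ X → X ≠ ⊤ → X ≤ Mstar := by
      intro X hTX hX
      have hsmall : ∀ E ∈ 𝒦, X ⊓ (E ⊔ D) < E ⊔ D := by
        intro E hE
        refine lt_of_le_of_ne inf_le_right fun h => hX ?_
        have hEX : E ⊔ D ≤ X := inf_eq_right.1 h
        refine top_le_iff.1 (hRT T ▸ sup_le (sSup_le fun K hK => ?_) hTX)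
        obtain ⟨g, rfl⟩ := htr E hE K hK
        obtain ⟨r, hr, t, ht, rfl⟩ := mem_sup_of_normal_left.1 ((hRT T).symm ▸ mem_top g)
        have hE' : cj t E ∈ 𝒦 := hinv t E hE
        have h1 : cj t E ⊔ D ≤ X := by
          refine sup_le ?_ (le_sup_right.trans hEX)
          rw [← cj_eq_of_mem_nz (le_normalizer (hTX ht) : t ∈ normalizer (X : Set H))]
          exact map_mono (le_sup_left.trans hEX)
        refine le_trans ?_ h1
        show cj (r * t) E ≤ _
        rw [← cj_cj, ← cj_eq_of_mem_nz (hnorm _ hE' (mem_sup_left hr))]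
        exact map_mono le_sup_left
      intro x hx
      obtain ⟨r, hr, t, ht, rfl⟩ := mem_sup_of_normal_left.1 ((hRT T).symm ▸ mem_top x)
      have hrX : r ∈ X := by simpa using mul_mem hx (inv_mem (hTX ht))
      refine mul_mem (mem_sup_left ⟨?_, mem_sup_left hr⟩) (mem_sup_right ht)
      show _ ∈ (⨅ E ∈ 𝒦, normalizer (ME E : Set H) : Subgroup H)
      simp only [Subgroup.mem_iInf]
      intro E hE
      set TE := (T : Subgroup H) ⊓ (E ⊔ D) with hTE
      have hTEs := IsSylowIn.inf_subnormal T (hsubED E hE)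
      have hle : TE ≤ X ⊓ (E ⊔ D) := inf_le_inf_right _ hTX
      have hTX' : IsSylowIn p TE (X ⊓ (E ⊔ D)) := ⟨hle, hTEs.2.1, fun hd => hTEs.2.2 (hd.trans
        (Dvd.intro _ (relIndex_mul_relIndex _ _ _ hle inf_le_right)))⟩
      have hrn : r ∈ normalizer ((E ⊔ D : Subgroup H) : Set H) := hnorm E hE (mem_sup_left hr)
      have hcle : cj r TE ≤ X ⊓ (E ⊔ D) := le_inf
        ((map_mono (hle.trans inf_le_left)).trans (cj_eq_of_mem_nz (le_normalizer hrX)).le)
        ((map_mono inf_le_right).trans (cj_eq_of_mem_nz hrn).le)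
      obtain ⟨y, hy, hyle⟩ := hTX'.conj_le (hTEs.2.1.map _) hcle
      rw [cj_cj] at hyle
      have heq : cj (y * r) TE = TE := eq_of_le_of_card_ge hyle
        (by rw [cj, card_map_of_injective (MulAut.conj (y * r)).injective])
      have hzED : cj (y * r) (E ⊔ D) = E ⊔ D := cj_eq_of_mem_nz (mul_mem (le_normalizer hy.2) hrn)
      have hz : y * r ∈ normalizer (ME E : Set H) := by
        refine mem_nz_of_cj_le (hME3 E hE _ ?_ ?_)
        · show TE ≤ _
          rw [← heq]; exact map_mono (hME1 E hE)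
        · nth_rewrite 1 [← hzED]
          exact (map_lt_map_iff_of_injective (MulAut.conj (y * r)).injective).2 (hME2 E hE)
      have hyM : y ∈ normalizer (ME E : Set H) := le_normalizer (hME3 E hE _ hle (hsmall E hE) hy)
      simpa using mul_mem (inv_mem hyM) hz
    refine ⟨hN, Mstar, ⟨⟨hproper, fun Y hY => ?_⟩, le_sup_right⟩, fun Y hY => ?_⟩
    · by_contra hne'
      exact hY.not_ge (hall Y (le_sup_right.trans hY.le) hne')
    · exact (hall Y hY.2 hY.1.1).eq_or_lt.resolve_right fun h => hproper (hY.1.2 _ h)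
  · -- irreducibility
    have hEsub := hsubED
    set π := QuotientGroup.mk' D with hπ
    have hπs : Function.Surjective π := QuotientGroup.mk'_surjective D
    have hker : π.ker = D := QuotientGroup.ker_mk' D
    have hmk : ∀ {X : Subgroup H}, D ≤ X → ∀ x, π x ∈ X.map π ↔ x ∈ X := fun {X} hX x => by
      rw [← mem_comap, comap_map_eq, hker, sup_eq_left.2 hX]
    have hOq : Cfsg.pCore p (H ⧸ D) = ⊥ := by
      rw [eq_bot_iff]
      intro q hq
      obtain ⟨x, rfl⟩ := hπs q
      rw [mem_bot]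
      exact (QuotientGroup.eq_one_iff x).2 ((mem_quotient_pCore_iff hDp).1 hq)
    have hpE : ∀ E ∈ 𝒦, Cfsg.pCoreOf p E ≤ D := by
      intro E hE
      have h1 : IsPGroup p ↥(Cfsg.pCoreOf p E ⊔ D) := (isPGroup_pCoreOf E).to_sup_of_normal_right hDp
      have hn : E ⊔ D ≤ normalizer ((Cfsg.pCoreOf p E ⊔ D : Subgroup H) : Set H) :=
        sup_le (le_nz_sup (le_nz_pCoreOf E) (by rw [normalizer_eq_top_iff.2 hDn]; exact le_top))
          (le_sup_right.trans le_normalizer)
      have h2 := (normal_subgroupOf hn).isSubnormal.trans' (hEsub E hE)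
      rw [map_subgroupOf_eq_of_le (sup_le_sup_right (pCoreOf_le E) D)] at h2
      exact le_sup_left.trans (le_pCore_of_subnormal h2 h1)
    have hEbsub : ∀ E ∈ 𝒦, (E.map π).IsSubnormal := by
      intro E hE
      have h := (hEsub E hE).map hπs
      rwa [Subgroup.map_sup, show D.map π = ⊥ from QuotientGroup.map_mk'_self D, sup_bot_eq] at h
    have hEbgen : ∀ E ∈ 𝒦, Cfsg.pElementClosure p (E.map π) = E.map π := by
      intro E hE
      refine le_antisymm (pElementClosure_le _) ?_
      conv_lhs => rw [← pElementClosure_eq_of_strong (hstr E hE), Cfsg.pElementClosure, MonoidHom.map_closure]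
      refine (closure_le _).2 ?_
      rintro _ ⟨x, ⟨hxE, k, hk⟩, rfl⟩
      obtain ⟨j, -, hj⟩ := (Nat.dvd_prime_pow Fact.out).1 (hk ▸ orderOf_map_dvd π x)
      exact Subgroup.subset_closure ⟨mem_map_of_mem π hxE, j, hj⟩
    -- a normal subgroup of `R D` without `O^p(E)` commutes with `E` modulo the core
    have hcentral : ∀ E ∈ 𝒦, ∀ X : Subgroup H, D ≤ X → E ≤ normalizer (X : Set H) →
        (¬ Cfsg.pResidual p ↥E ≤ X.subgroupOf E) → ∀ x : H, (∀ e ∈ E, ⁅x, e⁆ ∈ X ⊓ (E ⊔ D)) →
        π x ∈ centralizer (E.map π : Set (H ⧸ D)) := by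
      intro E hE X hDX hEX hno x hx
      have hXE : (X.subgroupOf E).Normal := by
        refine ⟨fun a ha g => ?_⟩
        exact conj_mem_of_nz (H := X) (hEX g.2) ha
      have hle : ⁅X.subgroupOf E, (⊤ : Subgroup ↥E)⁆ ≤ Cfsg.pCore p ↥E := by
        by_contra h
        exact hno ((hstr E hE).2 _ hXE h)
      refine centralize_of_central (hEbgen E hE) (center_p' hOq (hEbsub E hE)) ?_
      rintro _ ⟨e, he, rfl⟩
      obtain ⟨hcX, hcED⟩ := hx e he
      obtain ⟨n, hn, d, hd, hnd⟩ := mem_sup_of_normal_right.1 hcED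
      have hnX : n ∈ X := by
        rw [show n = ⁅x, e⁆ * d⁻¹ by rw [← hnd]; group]
        exact mul_mem hcX (inv_mem (hDX hd))
      have hπn : ⁅π x, π e⁆ = π n := by
        rw [← map_commutatorElement, ← hnd, map_mul, show π d = 1 from (QuotientGroup.eq_one_iff d).2 hd, mul_one]
      rw [hπn]
      refine ⟨mem_map_of_mem π hn, mem_centralizer_iff.2 ?_⟩
      rintro _ ⟨a, ha, rfl⟩
      have h1 := hle (commutator_mem_commutator (show (⟨n, hn⟩ : ↥E) ∈ X.subgroupOf E from hnX) (mem_top (⟨a, ha⟩ : ↥E)))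
      have h2 : ⁅n, a⁆ ∈ D := hpE E hE ⟨_, h1, rfl⟩
      have h3 : ⁅π n, π a⁆ = 1 := by
        rw [← map_commutatorElement]; exact (QuotientGroup.eq_one_iff _).2 h2
      exact (commutatorElement_eq_one_iff_mul_comm.1 h3).symm
    refine ⟨⟨fun hcl => ?_, fun N hN hNc => ?_⟩, fun E hE K hK => ?_⟩
    · -- not `p`-closed
      obtain ⟨E, hE⟩ := hne
      refine (hstr E hE).1 (isPClosed_iff.2 fun Q hQ => ?_)
      have h1 : Q.map E.subtype ≤ D := isPClosed_iff.1 hcl _ (hQ.map _)
      have h2 : D.subgroupOf E ≤ Cfsg.pCore p ↥E :=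
        le_pCore (hDn.subgroupOf E) (isPGroup_subgroupOf hDp)
      exact fun q hq => h2 (h1 (mem_map_of_mem _ hq))
    · -- a normal subgroup which is not `p`-closed
      set N' := N ⊔ D with hN'
      haveI := hN
      haveI hN'n : N'.Normal := inferInstance
      have hDN : D ≤ N' := le_sup_right
      by_cases hex : ∃ E ∈ 𝒦, Cfsg.pResidual p ↥E ≤ N'.subgroupOf E
      · obtain ⟨E, hE, hEN⟩ := hex
        have hall : ∀ K ∈ 𝒦, resOf p K ≤ N' := by
          intro K hK
          obtain ⟨g, rfl⟩ := htr E hE K hK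
          refine resOf_le_iff.2 ?_
          rintro _ ⟨x, hx, rfl⟩ ho
          have hxo : (orderOf (⟨x, hx⟩ : ↥E)).Coprime p := by
            rw [Subgroup.orderOf_mk]
            simpa [orderOf_conj'] using ho
          exact hN'n.conj_mem x (hEN (mem_pResidual hxo)) g
        -- the image of `R` modulo `N'` is a `p`-group
        set σ := QuotientGroup.mk' N'
        have hσs : Function.Surjective σ := QuotientGroup.mk'_surjective N'
        have hRp : IsPGroup p ↥(R.map σ) := by
          have hEp : ∀ K ∈ 𝒦, IsPGroup p ↥(K.map σ) := by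
            intro K hK
            rintro ⟨_, x, hx, rfl⟩
            obtain ⟨k, hk⟩ := pow_mem_resOf (p := p) hx
            exact ⟨k, Subtype.ext (by rw [Subgroup.coe_pow, ← map_pow]; exact (QuotientGroup.eq_one_iff _).2 (hall K hK hk))⟩
          have hEn : ∀ K ∈ 𝒦, R.map σ ≤ normalizer ((K.map σ : Subgroup (H ⧸ N')) : Set (H ⧸ N')) := by
            intro K hK
            have h1 : (K ⊔ D).map σ = K.map σ := by
              rw [Subgroup.map_sup]
              refine sup_eq_left.2 (le_trans (le_of_eq ?_) bot_le)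
              rw [Subgroup.map_eq_bot_iff, QuotientGroup.ker_mk']; exact hDN
            rw [← h1]
            rintro _ ⟨r, hr, rfl⟩
            exact le_normalizer_map σ ⟨r, hnorm K hK (mem_sup_left hr), rfl⟩
          have hle : R.map σ ≤ Cfsg.pCoreOf p (R.map σ) := by
            rw [map_le_iff_le_comap, hR, sSup_le_iff]
            intro K hK
            rw [← map_le_iff_le_comap]
            exact le_pCoreOf (map_mono (hER K hK)) (hEn K hK) (hEp K hK)
          exact (isPGroup_pCoreOf _).to_le hle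
        have hres' : Cfsg.pResidual p H ≤ N' := pResidual_le_iff.2 fun x hx => by
          obtain ⟨k, hk⟩ := hRp ⟨σ x, mem_map_of_mem σ (hres (mem_pResidual hx))⟩
          have h1 : orderOf (σ x) ∣ p ^ k := orderOf_dvd_of_pow_eq_one (by simpa using congrArg Subtype.val hk)
          have h2 := (orderOf_map_dvd σ x)
          exact (QuotientGroup.eq_one_iff x).1 (orderOf_eq_one_iff.1
            (Nat.eq_one_of_dvd_coprimes ((Nat.Coprime.coprime_dvd_left h2 hx).pow_right k) dvd_rfl h1))
        rw [← resOf_pResidual]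
        refine (resOf_mono hres').trans ?_
        rw [hN', sup_comm, resOf_sup_pGroup hDp (by rw [normalizer_eq_top_iff.2 hN]; exact le_top)]
        exact resOf_le N
      · exfalso
        push Not at hex
        apply hNc
        refine (isPClosed_subgroup_iff hN).2 fun P hP hPN => ?_
        set Rb := R.map π with hRb
        haveI hRbn : Rb.Normal := hRn.map π hπs
        -- elements of `N' ∩ R D` are central modulo the core
        have hA : ∀ a ∈ N' ⊓ (R ⊔ D), π a ∈ centralizer (Rb : Set (H ⧸ D)) := by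
          intro a ha
          have hle : Rb ≤ centralizer ({π a} : Set (H ⧸ D)) := by
            rw [hRb, map_le_iff_le_comap, hR, sSup_le_iff]
            intro E hE e he
            refine mem_comap.2 (mem_centralizer_singleton_iff.2 ?_)
            refine mem_centralizer_iff.1 (hcentral E hE N' hDN (le_top.trans (normalizer_eq_top_iff.2 hN'n).ge) (hex E hE) a ?_) _ (mem_map_of_mem π he)
            intro b hb
            refine ⟨?_, ?_⟩
            · rw [commutatorElement_def, mul_assoc, mul_assoc, ← mul_assoc b]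
              exact mul_mem ha.1 (hN'n.conj_mem _ (inv_mem ha.1) b)
            · rw [commutatorElement_def]
              exact mul_mem (conj_mem_of_nz (hnorm E hE ha.2) (mem_sup_left hb)) (Subgroup.inv_mem _ (mem_sup_left hb))
          exact mem_centralizer_iff.2 fun y hy => mem_centralizer_singleton_iff.1 (hle hy)
        have hgenR : Cfsg.pElementClosure p Rb = Rb := by
          refine le_antisymm (pElementClosure_le _) ?_
          conv_lhs => rw [hRb, hR]
          rw [map_le_iff_le_comap, sSup_le_iff]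
          intro E hE
          rw [← map_le_iff_le_comap, ← hEbgen E hE]
          exact closure_mono fun x hx => ⟨map_mono (hER E hE) hx.1, hx.2⟩
        set C := centralizer (Rb : Set (H ⧸ D)) with hC
        haveI hCn : C.Normal := normal_centralizer
        have hPC : P.map π ≤ C := by
          rintro _ ⟨x, hx, rfl⟩
          refine centralize_of_central hgenR (center_p' hOq hRbn.isSubnormal) ?_
          rintro _ ⟨r, hr, rfl⟩
          rw [← map_commutatorElement]
          have h1 : ⁅x, r⁆ ∈ N' := by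
            rw [commutatorElement_def, mul_assoc, mul_assoc, ← mul_assoc r]
            exact mul_mem (mem_sup_left (hPN hx)) (hN'n.conj_mem _ (inv_mem (mem_sup_left (hPN hx))) r)
          have h2 : ⁅x, r⁆ ∈ R := by
            rw [commutatorElement_def]
            exact mul_mem (hRn.conj_mem r hr x) (inv_mem hr)
          exact ⟨mem_map_of_mem π h2, hA _ ⟨h1, mem_sup_left h2⟩⟩
        haveI hCnil : Group.IsNilpotent ↥C := by
          have hQp : IsPGroup p ((H ⧸ D) ⧸ Rb) := by
            intro q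
            obtain ⟨y, rfl⟩ := QuotientGroup.mk_surjective q
            obtain ⟨x, rfl⟩ := hπs y
            obtain ⟨k, hk⟩ := pow_mem_resOf (p := p) (mem_top x)
            rw [resOf_top] at hk
            exact ⟨k, by rw [← QuotientGroup.mk_pow, QuotientGroup.eq_one_iff, ← map_pow]; exact mem_map_of_mem π (hres hk)⟩
          let f : ↥C →* ↥((⊤ : Subgroup ((H ⧸ D) ⧸ Rb))) :=
            ((QuotientGroup.mk' Rb).comp C.subtype).codRestrict ⊤ (fun _ => mem_top _)
          haveI : Group.IsNilpotent ↥(⊤ : Subgroup ((H ⧸ D) ⧸ Rb)) := (hQp.to_subgroup ⊤).isNilpotent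
          refine Subgroup.isNilpotent_of_ker_le_center f (fun c hc => mem_center_iff.2 fun b => Subtype.ext ?_)
          have h1 : (c : H ⧸ D) ∈ Rb := (QuotientGroup.eq_one_iff _).1 (congrArg Subtype.val hc)
          exact (mem_centralizer_iff.1 b.2 _ h1).symm
        have hCF : C ≤ Cfsg.fittingSubgroup (H ⧸ D) :=
          Cfsg.Agent.Lib.Components.le_fittingSubgroup_of_subnormal hCn.isSubnormal hCnil
        have hbot : P.map π = ⊥ := by
          rcases (hP.map π).card_eq_or_dvd with h | h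
          · exact card_eq_one.1 h
          · exact absurd (h.trans (card_dvd_of_le (hPC.trans hCF))) (fitting_p' hOq)
        rw [Subgroup.map_eq_bot_iff, hker] at hbot
        exact hbot
    · -- two members
      set I := (E ⊔ D) ⊓ (K ⊔ D) with hI
      by_cases hle : Cfsg.pResidual p ↥E ≤ I.subgroupOf E
      · left
        show resOf p (E ⊔ D) = resOf p (K ⊔ D)
        obtain ⟨g, rfl⟩ := htr E hE K hK
        have h1 : resOf p (E ⊔ D) ≤ resOf p (cj g E ⊔ D) := by
          refine resOf_le_iff.2 fun x hx ho => ?_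
          have hxE : x ∈ resOf p (E ⊔ D) := mem_resOf hx ho
          have hle2 : resOf p (E ⊔ D) ≤ cj g E ⊔ D := by
            rw [resOf_le_iff]
            intro y hy hyo
            obtain ⟨u, hu, d, hd, rfl⟩ := mem_sup_of_normal_right.1 hy
            obtain ⟨k, hk⟩ := pow_mem_resOf (p := p) hu
            obtain ⟨b, hb, hbe⟩ := mul_pow_mem ((normalizer_eq_top (H := D)) ▸ mem_top u) hd (p ^ k)
            have hZ : resOf p E ⊔ D ≤ cj g E ⊔ D := by
              refine sup_le ?_ le_sup_right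
              rintro _ ⟨w, hw, rfl⟩
              exact (hle hw).2
            exact hZ (mem_of_coprime_of_pow hyo ⟨k, by rw [hbe]; exact mul_mem (mem_sup_left hk) (mem_sup_right hb)⟩)
          exact mem_resOf (hle2 hxE) ho
        have hcj : resOf p (cj g E ⊔ D) ≤ cj g (resOf p (E ⊔ D)) := by
          refine resOf_le_iff.2 fun x hx ho => ?_
          have hxx : x ∈ cj g (E ⊔ D) := by
            rw [cj, Subgroup.map_sup]
            exact (sup_le_sup_left (hcjD g).ge _) hx
          obtain ⟨a, ha, rfl⟩ := hxx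
          exact ⟨a, mem_resOf ha (by simpa [orderOf_conj'] using ho), rfl⟩
        refine eq_of_le_of_card_ge h1 ?_
        exact (Nat.le_of_dvd Nat.card_pos (card_dvd_of_le hcj)).trans
          (by rw [cj, card_map_of_injective (MulAut.conj g).injective])
      · right
        rw [commutator_le]
        intro e he k hk
        have hEI : E ≤ normalizer (I : Set H) :=
          le_nz_inf (le_sup_left.trans le_normalizer) ((hER E hE).trans (le_sup_left.trans (hnorm K hK)))
        have h := hcentral E hE I (le_inf le_sup_right le_sup_right) hEI hle k (fun b hb => ⟨⟨?_, ?_⟩, ?_⟩)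
        · have h3 : ⁅π e, π k⁆ = 1 :=
            commutatorElement_eq_one_iff_mul_comm.2 (mem_centralizer_iff.1 h _ (mem_map_of_mem π he))
          rw [← map_commutatorElement] at h3
          exact (QuotientGroup.eq_one_iff _).1 h3
        · exact mul_mem (conj_mem_of_nz (hnorm E hE (mem_sup_left (hER K hK hk))) (mem_sup_left hb)) (Subgroup.inv_mem _ (mem_sup_left hb))
        · rw [commutatorElement_def, mul_assoc, mul_assoc, ← mul_assoc b]
          exact mul_mem (mem_sup_left hk) (conj_mem_of_nz (hnorm K hK (mem_sup_left (hER E hE hb))) (Subgroup.inv_mem _ (mem_sup_left hk)))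
        · exact mul_mem (conj_mem_of_nz (hnorm E hE (mem_sup_left (hER K hK hk))) (mem_sup_left hb)) (Subgroup.inv_mem _ (mem_sup_left hb))

end Cfsg.Agent.S2855
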