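import Mathlib
import Cfsg.Statements.S2859
import Cfsg.Agent.Lib.LocalChar.WeaklyClosed
import Cfsg.Agent.Lib.LocalChar.ThreeSub
import Cfsg.Agent.Lib.LocalChar.Subnormal

set_option autoImplicit false

open scoped commutatorElement Pointwise

open Cfsg.Agent.Lib.LocalChar

namespace Cfsg.Agent.S2859

open Cfsg.Agent.Lib.LocalChar

open scoped commutatorElement

variable {G : Type*} [Group G] [Finite G] {p : ℕ} [Fact p.Prime] {Q : Subgroup G}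

/-- The facts about one factor. -/
theorem side (hwc : Cfsg.IsWeaklyClosedSubgroup p Q) (hQp : IsPGroup p Q) {Hc H₁ H₂ : Subgroup G}
    (hQHc : Q ≤ Hc) (h₁ : H₁ ≤ Hc) (hn₁ : Hc ≤ Subgroup.normalizer (H₁ : Set G))
    (h₂ : H₂ ≤ Hc) (hn₂ : Hc ≤ Subgroup.normalizer (H₂ : Set G)) (hprod : H₁ ⊔ H₂ = Hc)
    (hcomm : ⁅H₁, H₂⁆ ≤ Subgroup.normalizer (Q : Set G))
    (hconj : ∀ g : G, cj g Q ≤ Hc → ∃ k ∈ Hc, cj g Q = cj k Q)
    (hgen : Hc ≤ Cfsg.weakClosure Q Hc) (K : Subgroup G) (hK : K = resOf p (Cfsg.weakClosure Q (H₁ ⊔ Q))) :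
    (⁅K, Q⁆ = K ∧ ⁅K, H₁⁆ = K ∧ K ≤ ⁅H₁, H₁⁆ ∧ Hc ≤ Subgroup.normalizer (K : Set G)) ∧
      ⁅K, H₂⁆ ≤ Cfsg.pCoreOf p Hc ∧ ∀ h ∈ H₁, cj h Q ≤ K ⊔ Q := by
  set X := H₁ ⊔ Q
  set W := Cfsg.weakClosure Q X
  have hWX : W ≤ X := weakClosure_le_self Q X
  have hQW : Q ≤ W := le_weakClosure le_sup_right
  have hQn : Q ≤ Subgroup.normalizer (H₁ : Set G) := hQHc.trans hn₁
  have hH₁W : H₁ ≤ Subgroup.normalizer (W : Set G) :=
    (le_sup_left.trans Subgroup.le_normalizer).trans (nz_le_nz_weakClosure Q X)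
  have hWgen : W ≤ Cfsg.weakClosure Q W := weakClosure_le fun g hg => cj_le_weakClosure (cj_le_weakClosure hg)
  obtain ⟨T, hT, hQT⟩ := exists_isSylowIn_ge (p := p) hQp hQW
  have hTQ : T ≤ Subgroup.normalizer (Q : Set G) := Subgroup.le_normalizer.trans (wc_nz hwc hT.2.1 hQT)
  have hKW : K ≤ W := hK ▸ resOf_le W
  have hWK : W ≤ Subgroup.normalizer (K : Set G) := hK ▸ le_nz_resOf W
  have hsup : K ⊔ T = W := by rw [hK]; exact hT.resOf_sup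
  set N0 := ⁅K, Q⁆
  have hN0K : N0 ≤ K := commutator_le_left_of_nz (hQW.trans hWK)
  have hWN0 : W ≤ Subgroup.normalizer (N0 : Set G) := by
    rw [← hsup]
    exact sup_le (left_le_nz_commutator K Q) (le_nz_commutator (hT.1.trans hWK) hTQ)
  have hKQ : ∀ w ∈ W, cj w Q ≤ N0 ⊔ Q := by
    intro w hw
    obtain ⟨k, hk, t, ht, rfl⟩ := (mem_sup_iff_of_nz' (hT.1.trans hWK)).1 (hsup.ge hw)
    rw [← cj_cj, cj_eq_of_mem_nz (hTQ ht), cj_le_iff]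
    intro q hq
    rw [show k * q * k⁻¹ = ⁅k, q⁆ * q by simp [commutatorElement_def]]
    exact Subgroup.mul_mem_sup (Subgroup.commutator_mem_commutator hk hq) hq
  have hWle : W ≤ N0 ⊔ Q := hWgen.trans (weakClosure_le fun g hg => by
    obtain ⟨w, hw, e⟩ := wc_exists_conj hwc hQp hQW hg
    rw [e]; exact hKQ w hw)
  have hKN0 : N0 = K := by
    refine le_antisymm hN0K ?_
    calc K = resOf p W := hK
      _ ≤ resOf p (Q ⊔ N0) := resOf_mono (hWle.trans (sup_comm N0 Q).le)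
      _ = resOf p N0 := resOf_sup_pGroup hQp (hQW.trans hWN0)
      _ ≤ N0 := resOf_le N0
  have hKH : K ≤ H₁ := by
    rw [hK]
    refine le_trans (resOf_mono (hWX.trans (sup_comm H₁ Q).le)) ?_
    rw [resOf_sup_pGroup hQp hQn]; exact resOf_le H₁
  have hH₁K : H₁ ≤ Subgroup.normalizer (K : Set G) := hK ▸ hH₁W.trans (nz_le_nz_resOf W)
  set N1 := ⁅K, H₁⁆
  have hN1K : N1 ≤ K := commutator_le_left_of_nz hH₁K
  have hQN1 : Q ≤ Subgroup.normalizer (N1 : Set G) := le_nz_commutator (hQW.trans hWK) hQn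
  have hH₁N1 : H₁ ≤ Subgroup.normalizer (N1 : Set G) := right_le_nz_commutator K H₁
  set K0 := K ⊓ Subgroup.normalizer (Q : Set G)
  have hK0N1 : K0 ≤ Subgroup.normalizer (N1 : Set G) := inf_le_left.trans (hKH.trans hH₁N1)
  have hdec : ∀ k ∈ K, ∀ q ∈ Q, ⁅k, q⁆ ∈ N1 ⊔ K0 := by
    intro k hk q hq
    obtain ⟨a, ha, b, hb, rfl⟩ := (mem_sup_iff_of_nz' (h₂.trans hn₁)).1 (hprod.ge (hQHc hq))
    set d := ⁅k, b⁆
    have hkab : ⁅k, a * b⁆ ∈ K := hN0K (Subgroup.commutator_mem_commutator hk hq)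
    rw [show ⁅k, a * b⁆ = ⁅k, a⁆ * (a * d * a⁻¹) by simp [d, commutatorElement_def, mul_assoc]] at hkab ⊢
    have hka : ⁅k, a⁆ ∈ N1 := Subgroup.commutator_mem_commutator hk ha
    have hdK : d ∈ K := by
      have h1 : a * d * a⁻¹ ∈ K := by
        have h0 := K.mul_mem (K.inv_mem (hN1K hka)) hkab
        rwa [inv_mul_cancel_left] at h0
      simpa [mul_assoc] using conj_mem_of_nz (hH₁K (H₁.inv_mem ha)) h1
    refine Subgroup.mul_mem _ (Subgroup.mem_sup_left hka) ?_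
    rw [show a * d * a⁻¹ = ⁅d, a⁆⁻¹ * d by simp [commutatorElement_def, mul_assoc]]
    exact Subgroup.mul_mem_sup (N1.inv_mem (Subgroup.commutator_mem_commutator hdK ha))
      ⟨hdK, hcomm (Subgroup.commutator_mem_commutator (hKH hk) hb)⟩
  have hKle : K ≤ N1 ⊔ (K ⊓ Q) := by
    have h1 : K ≤ N1 ⊔ K0 := hKN0.ge.trans (Subgroup.commutator_le.2 hdec)
    refine hKN0.ge.trans (Subgroup.commutator_le.2 fun k hk q hq => ?_)
    obtain ⟨n, hn, k0, hk0, rfl⟩ := (mem_sup_iff_of_nz' hK0N1).1 (h1 hk)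
    rw [show ⁅n * k0, q⁆ = n * ⁅k0, q⁆ * (q * n⁻¹ * q⁻¹) by simp [commutatorElement_def, mul_assoc]]
    refine Subgroup.mul_mem _ (Subgroup.mul_mem_sup hn ⟨?_, ?_⟩)
      (Subgroup.mem_sup_left (conj_mem_of_nz (hQN1 hq) (N1.inv_mem hn)))
    · exact hN0K (Subgroup.commutator_mem_commutator hk0.1 hq)
    · rw [commutatorElement_def]; exact Q.mul_mem (conj_mem_of_nz hk0.2 hq) (Q.inv_mem hq)
  have hKN1 : N1 = K := by
    refine le_antisymm hN1K ?_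
    calc K = resOf p K := by rw [hK, resOf_idem]
      _ ≤ resOf p ((K ⊓ Q) ⊔ N1) := resOf_mono (hKle.trans (sup_comm N1 (K ⊓ Q)).le)
      _ = resOf p N1 := resOf_sup_pGroup (hQp.to_le inf_le_right) (inf_le_right.trans hQN1)
      _ ≤ N1 := resOf_le N1
  -- modulo `O_p(H°)`
  set U := Cfsg.pCoreOf p Hc
  have hUn : Hc ≤ Subgroup.normalizer (U : Set G) := le_nz_pCoreOf Hc
  have hUQ : U ≤ Subgroup.normalizer (Q : Set G) := le_sup_left.trans (Subgroup.le_normalizer.trans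
    (wc_nz hwc ((isPGroup_pCoreOf Hc).to_sup_of_normal_left' hQp (hQHc.trans hUn)) le_sup_right))
  set N := ⁅H₁, H₂⁆
  have hNH : N ≤ Hc := (Subgroup.commutator_mono h₁ h₂).trans (commutator_le_left_of_nz Subgroup.le_normalizer)
  have hNn : Hc ≤ Subgroup.normalizer (N : Set G) := le_nz_commutator hn₁ hn₂
  have hNU : ⁅N, Hc⁆ ≤ U := by
    refine Subgroup.commutator_le.2 fun n hn x hx => ?_
    have hall : Cfsg.weakClosure Q Hc ≤
        ({ carrier := {x | x ∈ Hc ∧ ∀ n ∈ N, ⁅n, x⁆ ∈ U}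
           one_mem' := ⟨Hc.one_mem, fun n _ => by simp⟩
           mul_mem' := by
             rintro a b ⟨ha, ha'⟩ ⟨hb, hb'⟩
             refine ⟨Hc.mul_mem ha hb, fun n hn => ?_⟩
             rw [show ⁅n, a * b⁆ = ⁅n, a⁆ * (a * ⁅n, b⁆ * a⁻¹) by simp [commutatorElement_def, mul_assoc]]
             exact U.mul_mem (ha' n hn) (conj_mem_of_nz (hUn ha) (hb' n hn))
           inv_mem' := by
             rintro a ⟨ha, ha'⟩
             refine ⟨Hc.inv_mem ha, fun n hn => ?_⟩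
             rw [show ⁅n, a⁻¹⁆ = a⁻¹ * ⁅n, a⁆⁻¹ * a⁻¹⁻¹ by simp [commutatorElement_def, mul_assoc]]
             exact conj_mem_of_nz (hUn (Hc.inv_mem ha)) (U.inv_mem (ha' n hn)) } : Subgroup G) := by
      refine weakClosure_le fun g hg => ?_
      obtain ⟨k, hk, e⟩ := hconj g hg
      rw [e]
      intro y hy
      refine ⟨(e ▸ hg) hy, fun n hn => ?_⟩
      have hNk : N ≤ Subgroup.normalizer (cj k Q : Set G) := by
        rw [le_nz_iff]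
        intro m hm z hz
        rw [mem_cj] at hz ⊢
        have hm' : k⁻¹ * m * k ∈ N := by simpa using conj_mem_of_nz (hNn (Hc.inv_mem hk)) hm
        simpa [mul_assoc] using conj_mem_of_nz (hcomm hm') hz
      have hp' : N ⊓ cj k Q ≤ Cfsg.pCoreOf p N :=
        le_pCoreOf inf_le_left (le_nz_inf Subgroup.le_normalizer hNk) ((isPGroup_cj hQp).to_le inf_le_right)
      refine pCoreOf_mono_normal hNH hNn (hp' ⟨?_, ?_⟩)
      · exact commutator_le_left_of_nz hNn (Subgroup.commutator_mem_commutator hn ((e ▸ hg) hy))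
      · rw [commutatorElement_def]
        exact Subgroup.mul_mem _ (conj_mem_of_nz (hNk hn) hy) (Subgroup.inv_mem _ hy)
    exact (hall (hgen hx)).2 n hn
  have hKH₂ : ⁅K, H₂⁆ ≤ U := by
    rw [← hKN1]
    refine three_subgroup_le ((hKH.trans h₁).trans hUn) (h₁.trans hUn) (h₂.trans hUn) ?_ ?_
    · exact (Subgroup.commutator_mono le_rfl (hKH.trans h₁)).trans hNU
    · refine (Subgroup.commutator_mono ?_ h₁).trans hNU
      exact (Subgroup.commutator_comm H₂ K).le.trans (Subgroup.commutator_mono hKH le_rfl)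
  have hUK : U ≤ Subgroup.normalizer (K : Set G) := by
    have hUX : U ≤ Subgroup.normalizer (X : Set G) := le_nz_sup ((pCoreOf_le Hc).trans hn₁) hUQ
    exact hK ▸ (hUX.trans (nz_le_nz_weakClosure Q X)).trans (nz_le_nz_resOf W)
  refine ⟨⟨hKN0, hKN1, hKN1.ge.trans (Subgroup.commutator_mono hKH le_rfl), ?_⟩, hKH₂, fun h hh => ?_⟩
  · rw [← hprod]
    refine sup_le hH₁K fun b hb => mem_nz_of_cj_le ?_
    have h1 : cj b K ≤ U ⊔ K := cj_le_iff.2 fun k hk => by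
      rw [show b * k * b⁻¹ = ⁅k, b⁆⁻¹ * k by simp [commutatorElement_def, mul_assoc]]
      exact Subgroup.mul_mem_sup (U.inv_mem (hKH₂ (Subgroup.commutator_mem_commutator hk hb))) hk
    calc cj b K = resOf p (cj b K) := ?_
      _ ≤ resOf p (U ⊔ K) := resOf_mono h1
      _ = resOf p K := resOf_sup_pGroup (isPGroup_pCoreOf Hc) hUK
      _ ≤ K := resOf_le K
    refine le_antisymm ?_ (resOf_le _)
    have hKr : K ≤ resOf p K := by rw [hK, resOf_idem]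
    refine (cj_mono hKr).trans ?_
    rw [resOf_eq_closure, resOf_eq_closure]
    show (Subgroup.closure _).map _ ≤ _
    rw [MonoidHom.map_closure, Subgroup.closure_le]
    rintro _ ⟨x, hx, rfl⟩
    refine Subgroup.subset_closure ⟨⟨x, hx.1, rfl⟩, ?_⟩
    show (orderOf (b * x * b⁻¹)).Coprime p
    rw [orderOf_conj']; exact hx.2
  · have h1 : cj h Q ≤ W := cj_le_weakClosure
      ((cj_mono le_sup_right).trans (cj_eq_of_mem_nz (Subgroup.le_normalizer (Subgroup.mem_sup_left hh))).le)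
    exact h1.trans (hWle.trans (sup_le_sup hN0K le_rfl))

/-- Let Q be a nontrivial p-subgroup of the finite group H that is a weakly closed subgroup, H° the weak closure of Q in H (generated by the conjugates of Q) and H_∘ = O^p(H°). Suppose H₁, H₂ are normal subgroups of H° with H° = H₁H₂ and [H₁, H₂] ≤ N_H(Q), and put Kᵢ = O^p of the weak closure of Q in HᵢQ. Then for i = 1, 2: Kᵢ = [Kᵢ, Q] = [Kᵢ, Hᵢ] ≤ Hᵢ′ and Kᵢ is normal in H°; H_∘ = K₁K₂; and [K₁, K₂] ≤ O_p(H°). -/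
theorem result {G : Type*} [Group G] [Finite G] {p : ℕ} [Fact p.Prime] (Q : Subgroup G) (hQp : IsPGroup p ↥Q) (hQ1 : Q ≠ ⊥) (hwc : Cfsg.IsWeaklyClosedSubgroup p Q) (Hc : Subgroup G) (hHc : Hc = Cfsg.weakClosure Q ⊤) (H₁ H₂ : Subgroup G) (hn₁ : H₁ ≤ Hc ∧ Hc ≤ Subgroup.normalizer ((H₁ : Subgroup G) : Set G)) (hn₂ : H₂ ≤ Hc ∧ Hc ≤ Subgroup.normalizer ((H₂ : Subgroup G) : Set G)) (hprod : H₁ ⊔ H₂ = Hc) (hcomm : ⁅H₁, H₂⁆ ≤ Subgroup.normalizer ((Q : Subgroup G) : Set G)) (K₁ K₂ : Subgroup G) (hK₁ : K₁ = ((Cfsg.pResidual p ↥(Cfsg.weakClosure Q (H₁ ⊔ Q))).map ((Cfsg.weakClosure Q (H₁ ⊔ Q))).subtype)) (hK₂ : K₂ = ((Cfsg.pResidual p ↥(Cfsg.weakClosure Q (H₂ ⊔ Q))).map ((Cfsg.weakClosure Q (H₂ ⊔ Q))).subtype)) : (⁅K₁, Q⁆ = K₁ ∧ ⁅K₁, H₁⁆ = K₁ ∧ K₁ ≤ ⁅H₁, H₁⁆ ∧ Hc ≤ Subgroup.normalizer ((K₁ : Subgroup G) : Set G)) ∧ (⁅K₂, Q⁆ = K₂ ∧ ⁅K₂, H₂⁆ = K₂ ∧ K₂ ≤ ⁅H₂, H₂⁆ ∧ Hc ≤ Subgroup.normalizer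 ((K₂ : Subgroup G) : Set G)) ∧ K₁ ⊔ K₂ = ((Cfsg.pResidual p ↥Hc).map (Hc).subtype) ∧ ⁅K₁, K₂⁆ ≤ (Cfsg.pCoreOf p Hc) := by
  subst hK₁ hK₂
  set K₁ := resOf p (Cfsg.weakClosure Q (H₁ ⊔ Q))
  set K₂ := resOf p (Cfsg.weakClosure Q (H₂ ⊔ Q))
  show (⁅K₁, Q⁆ = K₁ ∧ ⁅K₁, H₁⁆ = K₁ ∧ K₁ ≤ ⁅H₁, H₁⁆ ∧ Hc ≤ Subgroup.normalizer (K₁ : Set G)) ∧
    (⁅K₂, Q⁆ = K₂ ∧ ⁅K₂, H₂⁆ = K₂ ∧ K₂ ≤ ⁅H₂, H₂⁆ ∧ Hc ≤ Subgroup.normalizer (K₂ : Set G)) ∧
      K₁ ⊔ K₂ = resOf p Hc ∧ ⁅K₁, K₂⁆ ≤ Cfsg.pCoreOf p Hc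
  have hQHc : Q ≤ Hc := hHc ▸ le_weakClosure le_top
  have hconj : ∀ g : G, cj g Q ≤ Hc → ∃ k ∈ Hc, cj g Q = cj k Q := fun g hg => wc_exists_conj hwc hQp hQHc hg
  have hgen : Hc ≤ Cfsg.weakClosure Q Hc := by
    conv_lhs => rw [hHc]
    exact weakClosure_le fun g hg => cj_le_weakClosure (hHc ▸ cj_le_weakClosure hg)
  obtain ⟨a₁, b₁, c₁⟩ := side hwc hQp hQHc hn₁.1 hn₁.2 hn₂.1 hn₂.2 hprod hcomm hconj hgen K₁ rfl
  obtain ⟨a₂, b₂, c₂⟩ := side hwc hQp hQHc hn₂.1 hn₂.2 hn₁.1 hn₁.2 (by rw [sup_comm]; exact hprod)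
    (by rw [Subgroup.commutator_comm]; exact hcomm) hconj hgen K₂ rfl
  refine ⟨a₁, a₂, le_antisymm ?_ ?_, ?_⟩
  · have hWle : ∀ {H' : Subgroup G}, H' ≤ Hc → Cfsg.weakClosure Q (H' ⊔ Q) ≤ Hc := fun h =>
      (weakClosure_le_self Q _).trans (sup_le h hQHc)
    exact sup_le (resOf_mono (hWle hn₁.1)) (resOf_mono (hWle hn₂.1))
  · set KK := K₁ ⊔ K₂
    have hKKn : Hc ≤ Subgroup.normalizer (KK : Set G) := le_nz_sup a₁.2.2.2 a₂.2.2.2
    have hle : Hc ≤ Q ⊔ KK := hgen.trans (weakClosure_le fun g hg => by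
      obtain ⟨k, hk, e⟩ := hconj g hg
      obtain ⟨x, hx, y, hy, rfl⟩ := (mem_sup_iff_of_nz' (hn₂.1.trans hn₁.2)).1 (hprod.ge hk)
      rw [e, ← cj_cj]
      refine (cj_mono (c₂ y hy)).trans ?_
      show (K₂ ⊔ Q).map _ ≤ _
      rw [Subgroup.map_sup]
      refine sup_le ?_ ((c₁ x hx).trans (sup_le (le_sup_left.trans le_sup_right) le_sup_left))
      exact (cj_eq_of_mem_nz (a₂.2.2.2 (hn₁.1 hx))).le.trans (le_sup_right.trans le_sup_right))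
    refine (resOf_mono hle).trans ?_
    rw [resOf_sup_pGroup hQp (hQHc.trans hKKn)]
    exact resOf_le KK
  · refine le_trans (Subgroup.commutator_mono le_rfl ?_) b₁
    exact a₂.2.1.ge.trans (commutator_le_right_of_nz
      (((resOf_le _).trans (weakClosure_le_self Q _)).trans (sup_le Subgroup.le_normalizer (hQHc.trans hn₂.2))))

end Cfsg.Agent.S2859
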