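import Mathlib
import Cfsg.Statements.S2860
import Cfsg.Agent.Lib.LocalChar.WeaklyClosed
import Cfsg.Agent.Lib.LocalChar.Subnormal
import Cfsg.Agent.Lib.Components.Basic

set_option autoImplicit false
set_option maxHeartbeats 1000000

open scoped commutatorElement Pointwise

open Cfsg.Agent.Lib.LocalChar

namespace Cfsg.Agent.S2860

open Cfsg.Agent.Lib.LocalChar

open scoped commutatorElement

/-- A normal subgroup of a quasisimple subgroup is everything or centralised by it. -/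
theorem qs_dich {A : Type*} [Group A] {X N : Subgroup A} (hX : Cfsg.IsQuasisimple ↥X) (hNX : N ≤ X)
    (hn : X ≤ Subgroup.normalizer (N : Set A)) : N = X ∨ ⁅N, X⁆ = ⊥ := by
  rcases Cfsg.Agent.Lib.Components.qs_normal hX (N := N.subgroupOf X) (normal_subgroupOf hn) with h | h
  · exact Or.inl (le_antisymm hNX (Subgroup.subgroupOf_eq_top.1 h))
  · right
    rw [Subgroup.commutator_eq_bot_iff_le_centralizer]
    intro n hn'
    refine Subgroup.mem_centralizer_iff.2 fun x hx => ?_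
    exact congrArg Subtype.val (Subgroup.mem_center_iff.1 (h (show (⟨n, hNX hn'⟩ : ↥X) ∈ N.subgroupOf X from hn')) ⟨x, hx⟩)

/-- A `p'`-element of a quotient lifts to a `p'`-element. -/
theorem exists_coprime_lift {A B : Type*} [Group A] [Finite A] [Group B] {p : ℕ} [Fact p.Prime] (f : A →* B)
    (hf : Function.Surjective f) {x : B} (hx : (orderOf x).Coprime p) :
    ∃ b : A, (orderOf b).Coprime p ∧ f b = x := by
  obtain ⟨g, rfl⟩ := hf x
  obtain ⟨a, b, ha, hb, hab, ⟨k, hk⟩, hbo⟩ := exists_ppart (p := p) g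
  refine ⟨b, hbo, ?_⟩
  have h1 : f a ∈ Subgroup.zpowers (f g) := by
    rw [← MonoidHom.map_zpowers]; exact Subgroup.mem_map_of_mem f ha
  have h2 : f a = 1 := eq_one_of_pow_coprime (Nat.Coprime.coprime_dvd_left (orderOf_dvd_of_mem_zpowers h1) hx)
    ⟨k, by rw [← map_pow, ← hk, pow_orderOf_eq_one, map_one]⟩ (pow_orderOf_eq_one _)
  rw [hab, map_mul, h2, one_mul]

/-- Let Q be a nontrivial large p-subgroup of the finite group H, U a nontrivial elementary abelian p-subgroup of H, and Q ≤ E ≤ N_H(U) with Q not normal in E. Suppose O_p(E/C_E(U)) = 1 and O^p(E)·C_E(U)/C_E(U) is quasisimple. Let E° be the weak closure of Q in E (generated by the conjugates of Q inside E) and E_∘ = O^p(E°). Then O^p(E)·C_E(U) = E_∘·C_E(U); E_∘ is perfect and equals O^p(E_∘); E_∘/C_{E_∘}(U) and E_∘/O_p(E_∘) are quasisimple; and E_∘ = [E_∘, Y] for every p-subgroup Y of E not centralizing U. -/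
theorem result {G : Type*} [Group G] [Finite G] {p : ℕ} [Fact p.Prime] (Q : Subgroup G) (hQp : IsPGroup p ↥Q) (hQ1 : Q ≠ ⊥) (hQ : Cfsg.IsLarge Q) (U : Subgroup G) (hU : Cfsg.IsElementaryAbelian p U) (hU1 : U ≠ ⊥) (E : Subgroup G) (hQE : Q ≤ E) (hEU : E ≤ Subgroup.normalizer ((U : Subgroup G) : Set G)) (hQn : ¬ E ≤ Subgroup.normalizer ((Q : Subgroup G) : Set G)) [hn : ((Subgroup.centralizer ((U : Subgroup G) : Set G)).subgroupOf E).Normal] (hred : Cfsg.pCore p (↥E ⧸ (Subgroup.centralizer ((U : Subgroup G) : Set G)).subgroupOf E) = ⊥) (hqs : Cfsg.IsQuasisimple ↥(((Cfsg.pResidual p ↥E) ⊔ (Subgroup.centralizer ((U : Subgroup G) : Set G)).subgroupOf E).map (QuotientGroup.mk' ((Subgroup.centralizer ((U : Subgroup G) : Set G)).subgroupOf E)))) (Er : Subgroup G) (hEr : Er = ((Cfsg.pResidual p ↥(Cfsg.weakClosure Q E)).map ((Cfsg.weakClosure Q E)).subtype)) [hn2 : ((Subgroup.centralizer ((U : Subgroup G) : Set G)).subgroupOf Er).Normal] : ((Cfsg.pResidual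 p ↥E).map (E).subtype) ⊔ (E ⊓ Subgroup.centralizer ((U : Subgroup G) : Set G)) = Er ⊔ (E ⊓ Subgroup.centralizer ((U : Subgroup G) : Set G)) ∧ ⁅Er, Er⁆ = Er ∧ ((Cfsg.pResidual p ↥Er).map (Er).subtype) = Er ∧ Cfsg.IsQuasisimple (↥Er ⧸ (Subgroup.centralizer ((U : Subgroup G) : Set G)).subgroupOf Er) ∧ Cfsg.IsQuasisimple (↥Er ⧸ Cfsg.pCore p ↥Er) ∧ ∀ Y : Subgroup G, Y ≤ E → IsPGroup p ↥Y → ¬ Y ≤ Subgroup.centralizer ((U : Subgroup G) : Set G) → ⁅Er, Y⁆ = Er := by
  set CU := Subgroup.centralizer (U : Set G)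
  set C := E ⊓ CU
  set q := QuotientGroup.mk' (CU.subgroupOf E)
  set X := ((Cfsg.pResidual p ↥E) ⊔ CU.subgroupOf E).map q with hXdef
  set W := Cfsg.weakClosure Q E
  have hErW : Er = resOf p W := hEr
  have hwc := wc_of_isLarge hQp hQ1 hQ
  have hWE : W ≤ E := weakClosure_le_self Q E
  have hQW : Q ≤ W := le_weakClosure hQE
  have hEW : E ≤ Subgroup.normalizer (W : Set G) := Subgroup.le_normalizer.trans (nz_le_nz_weakClosure Q E)
  have hErle : Er ≤ W := hErW ▸ resOf_le W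
  have hErE : Er ≤ E := hErle.trans hWE
  have hEEr : E ≤ Subgroup.normalizer (Er : Set G) := hErW ▸ hEW.trans (nz_le_nz_resOf W)
  have hEC : E ≤ Subgroup.normalizer (C : Set G) := le_nz_inf Subgroup.le_normalizer (le_nz_centralizer hEU)
  have hCE : C ≤ E := inf_le_left
  -- `C` normalises `Q`
  obtain ⟨u, hu, hu1, hc⟩ := exists_fixed (isPGroup_of_isEA hU) hQp (hQE.trans hEU) hU1
  have hCQ : C ≤ Subgroup.normalizer (Q : Set G) := by
    refine inf_le_right.trans (le_trans ?_ (hQ.2 (Subgroup.zpowers u) (Subgroup.zpowers_le.2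
      (Subgroup.mem_centralizer_iff.2 fun q hq => (hc q hq).eq)) (fun e => hu1 (Subgroup.zpowers_eq_bot.1 e))))
    exact (Subgroup.centralizer_le (Subgroup.zpowers_le.2 hu)).trans (Subgroup.centralizer_le_normalizer _)
  have hconj : ∀ g : G, cj g Q ≤ E → ∃ k ∈ E, cj g Q = cj k Q := fun g hg => wc_exists_conj hwc hQp hQE hg
  have hQC : ¬ Q ≤ C := by
    intro h
    refine hQn (((le_nz_pCoreOf (p := p) E).trans ?_))
    exact wc_nz hwc (isPGroup_pCoreOf (p := p) E) ((le_pCoreOf (p := p) h hCQ hQp).trans (pCoreOf_mono_normal hCE hEC))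
  -- `[C, W] ≤ O_p(C)`
  set P := Cfsg.pCoreOf p C
  have hEP : E ≤ Subgroup.normalizer (P : Set G) := hEC.trans (nz_le_nz_pCoreOf C)
  let KC : Subgroup G :=
    { carrier := {x | x ∈ E ∧ ∀ c ∈ C, ⁅c, x⁆ ∈ P}
      one_mem' := ⟨E.one_mem, fun c _ => by simp⟩
      mul_mem' := by
        rintro a b ⟨ha, ha'⟩ ⟨hb, hb'⟩
        refine ⟨E.mul_mem ha hb, fun c hc => ?_⟩
        rw [show ⁅c, a * b⁆ = ⁅c, a⁆ * (a * ⁅c, b⁆ * a⁻¹) by simp [commutatorElement_def, mul_assoc]]
        exact P.mul_mem (ha' c hc) (conj_mem_of_nz (hEP ha) (hb' c hc))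
      inv_mem' := by
        rintro a ⟨ha, ha'⟩
        refine ⟨E.inv_mem ha, fun c hc => ?_⟩
        rw [show ⁅c, a⁻¹⁆ = a⁻¹ * ⁅c, a⁆⁻¹ * a⁻¹⁻¹ by simp [commutatorElement_def, mul_assoc]]
        exact conj_mem_of_nz (hEP (E.inv_mem ha)) (P.inv_mem (ha' c hc)) }
  have hWKC : W ≤ KC := weakClosure_le fun g hg => by
    obtain ⟨k, hk, e⟩ := hconj g hg
    have hCk : C ≤ Subgroup.normalizer (cj g Q : Set G) := by
      rw [e, le_nz_iff]
      intro c hc z hz
      rw [mem_cj] at hz ⊢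
      have hc' : k⁻¹ * c * k ∈ C := by simpa using conj_mem_of_nz (hEC (E.inv_mem hk)) hc
      simpa [mul_assoc] using conj_mem_of_nz (hCQ hc') hz
    intro y hy
    refine ⟨hg hy, fun c hc => le_pCoreOf (p := p) (N := C ⊓ cj g Q) inf_le_left
      (le_nz_inf Subgroup.le_normalizer hCk) ((isPGroup_cj hQp).to_le inf_le_right) ⟨?_, ?_⟩⟩
    · exact commutator_le_left_of_nz hEC (Subgroup.commutator_mem_commutator hc (hg hy))
    · rw [commutatorElement_def]
      exact Subgroup.mul_mem _ (conj_mem_of_nz (hCk hc) hy) (Subgroup.inv_mem _ hy)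
  set P' := Cfsg.pCoreOf p Er
  have hCP' : ⁅Er ⊓ C, Er⁆ ≤ P' := by
    refine Subgroup.commutator_le.2 fun c hc e he => ?_
    refine le_pCoreOf (p := p) (N := Er ⊓ P) inf_le_left (le_nz_inf Subgroup.le_normalizer (hErE.trans hEP))
      ((isPGroup_pCoreOf C).to_le inf_le_right) ⟨?_, (hWKC (hErle he)).2 c hc.2⟩
    rw [commutatorElement_def]
    exact Er.mul_mem (Er.mul_mem (Er.mul_mem hc.1 he) (Er.inv_mem hc.1)) (Er.inv_mem he)
  -- the quasisimple image
  haveI hresn : (Cfsg.pResidual p ↥E).Normal := Cfsg.Agent.Lib.LocalChar.pResidual_normal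
  haveI hXn : X.Normal := Subgroup.Normal.map inferInstance q (QuotientGroup.mk'_surjective _)
  have hXperf : ⁅X, X⁆ = X := Cfsg.Agent.Lib.Components.isQuasisimple_perfect hqs
  have hqC : ∀ {x : ↥E}, q x = 1 ↔ (x : G) ∈ CU := fun {x} =>
    (QuotientGroup.eq_one_iff (N := CU.subgroupOf E) x).trans Subgroup.mem_subgroupOf
  have hlift : ∀ x : ↥E ⧸ CU.subgroupOf E, (orderOf x).Coprime p → x ∈ X := by
    intro x hx
    obtain ⟨b, hb, rfl⟩ := exists_coprime_lift q (QuotientGroup.mk'_surjective _) hx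
    exact Subgroup.mem_map_of_mem q (Subgroup.mem_sup_left (Subgroup.subset_closure hb))
  -- `p`-subgroups centralising `X` are trivial
  have hcentp : ∀ Ab : Subgroup (↥E ⧸ CU.subgroupOf E), IsPGroup p Ab → ⁅X, Ab⁆ = ⊥ → Ab = ⊥ := by
    intro Ab hAb hcomm
    set CX := Subgroup.centralizer (X : Set (↥E ⧸ CU.subgroupOf E))
    haveI : CX.Normal := Subgroup.normal_centralizer
    have hAbC : Ab ≤ CX :=
      Subgroup.commutator_eq_bot_iff_le_centralizer.1 (by rw [Subgroup.commutator_comm]; exact hcomm)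
    obtain ⟨T, hT, hAT⟩ := exists_isSylowIn_ge (p := p) hAb hAbC
    have hn : CX ≤ Subgroup.normalizer (T : Set (↥E ⧸ CU.subgroupOf E)) := by
      conv_lhs => rw [← hT.resOf_sup]
      refine sup_le (resOf_le_iff.2 fun x hx ho => Subgroup.centralizer_le_normalizer _ ?_) Subgroup.le_normalizer
      exact Subgroup.mem_centralizer_iff.2 fun t ht =>
        (Subgroup.mem_centralizer_iff.1 (hT.1 ht) x (hlift x ho)).symm
    have h1 : T ≤ Cfsg.pCore p (↥E ⧸ CU.subgroupOf E) :=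
      le_pCore_of_subnormal (Subgroup.IsSubnormal.step _ CX hT.1 (Subgroup.Normal.isSubnormal inferInstance)
        (normal_subgroupOf hn)) hT.2.1
    rw [hred] at h1
    exact le_bot_iff.1 (hAT.trans h1)
  have hmapQ : (Q.subgroupOf E).map q ≠ ⊥ := fun h => hQC fun x hx => ⟨hQE hx, hqC.1 (Subgroup.mem_bot.1
    (h ▸ Subgroup.mem_map_of_mem q (show (⟨x, hQE hx⟩ : ↥E) ∈ Q.subgroupOf E from hx)))⟩
  have hXW : X ≤ (W.subgroupOf E).map q := by
    set Wb := (W.subgroupOf E).map q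
    haveI hWbn : Wb.Normal := Subgroup.Normal.map (normal_subgroupOf hEW) q (QuotientGroup.mk'_surjective _)
    have hN : ⁅X, Wb⁆ ≤ X := commutator_le_left_of_nz (by rw [Subgroup.normalizer_eq_top (H := X)]; exact le_top)
    rcases qs_dich hqs hN (left_le_nz_commutator X Wb) with h | h
    · exact h.ge.trans (commutator_le_right_of_nz (by rw [Subgroup.normalizer_eq_top (H := Wb)]; exact le_top))
    · refine absurd ?_ hmapQ
      have h' : ⁅⁅Wb, X⁆, X⁆ = ⊥ := by rw [Subgroup.commutator_comm Wb X]; exact h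
      have h2 : ⁅X, Wb⁆ = ⊥ := Cfsg.Agent.Lib.Components.commutator_eq_bot_of_perfect hXperf h'
      exact hcentp _ (((hQp.comap_of_injective E.subtype Subtype.coe_injective)).map q)
        (le_bot_iff.1 (h2 ▸ Subgroup.commutator_mono le_rfl (Subgroup.map_mono (Subgroup.comap_mono hQW))))
  obtain ⟨T, hT, hQT⟩ := exists_isSylowIn_ge (p := p) hQp hQW
  have hTQ : T ≤ Subgroup.normalizer (Q : Set G) := Subgroup.le_normalizer.trans (wc_nz hwc hT.2.1 hQT)
  have hTW : Er ⊔ T = W := by rw [hErW]; exact hT.resOf_sup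
  have hTn : T ≤ Subgroup.normalizer ((Er ⊔ C : Subgroup G) : Set G) :=
    le_nz_sup ((hT.1.trans hWE).trans hEEr) ((hT.1.trans hWE).trans hEC)
  have hres : resOf p E ≤ Er ⊔ C := resOf_le_iff.2 fun b hb hbo => by
    have hbX : q ⟨b, hb⟩ ∈ X := Subgroup.mem_map_of_mem q
      (Subgroup.mem_sup_left (Subgroup.subset_closure (show (orderOf (⟨b, hb⟩ : ↥E)).Coprime p by rwa [Subgroup.orderOf_mk])))
    obtain ⟨w, hw, he⟩ := hXW hbX
    have hbW : b ∈ W ⊔ C := by
      have h1 : (w⁻¹ * ⟨b, hb⟩ : ↥E).1 ∈ CU := hqC.1 (by rw [map_mul, map_inv, he, inv_mul_cancel])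
      rw [show b = (w : G) * ((w : G)⁻¹ * b) by group]
      exact Subgroup.mul_mem_sup hw ⟨E.mul_mem (E.inv_mem w.2) hb, h1⟩
    have h2 : W ⊔ C ≤ T ⊔ (Er ⊔ C) := sup_le (hTW.ge.trans (sup_le (le_sup_left.trans le_sup_right) le_sup_left))
      (le_sup_right.trans le_sup_right)
    have h3 : b ∈ resOf p (T ⊔ (Er ⊔ C)) := mem_resOf (h2 hbW) hbo
    rw [resOf_sup_pGroup hT.2.1 hTn] at h3
    exact resOf_le _ h3
  have hRC : resOf p E ⊔ C = Er ⊔ C :=
    le_antisymm (sup_le hres le_sup_right) (sup_le_sup_right (hErW.le.trans (resOf_mono hWE)) C)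
  have hErX : (Er.subgroupOf E).map q = X := by
    refine le_antisymm ?_ ?_
    · refine Subgroup.map_mono ?_
      refine le_trans ?_ le_sup_left
      rw [← resOf_subgroupOf]
      exact Subgroup.comap_mono (hErW.le.trans (resOf_mono hWE))
    · rintro _ ⟨x, hx, rfl⟩
      have hx' : (x : G) ∈ Er ⊔ C := by
        have h0 : Cfsg.pResidual p ↥E ⊔ CU.subgroupOf E ≤ (Er ⊔ C).subgroupOf E := by
          refine sup_le ?_ (fun y hy => Subgroup.mem_sup_right ⟨y.2, hy⟩)
          rw [← resOf_subgroupOf]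
          exact Subgroup.comap_mono hres
        exact h0 hx
      obtain ⟨e, he, c, hc, hec⟩ := (mem_sup_iff_of_nz (hErE.trans hEC)).1 hx'
      refine ⟨⟨e, hErE he⟩, he, ?_⟩
      have hxe : x = ⟨e, hErE he⟩ * ⟨c, hc.1⟩ := Subtype.ext hec
      rw [hxe, map_mul, show q ⟨c, hc.1⟩ = 1 from hqC.2 hc.2, mul_one]
  -- `Er = [Er, Q]`
  have hQEr : Q ≤ Subgroup.normalizer (Er : Set G) := hQE.trans hEEr
  have hErQ : ⁅Er, Q⁆ = Er := by
    set N0 := ⁅Er, Q⁆
    have hN0 : N0 ≤ Er := commutator_le_left_of_nz hQEr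
    have hWN0 : W ≤ Subgroup.normalizer (N0 : Set G) := hTW.ge.trans (sup_le (left_le_nz_commutator Er Q)
      (le_nz_commutator ((hT.1.trans hWE).trans hEEr) hTQ))
    have hWle : W ≤ Q ⊔ N0 := weakClosure_le fun g hg => by
      obtain ⟨w, hw, e⟩ := wc_exists_conj hwc hQp hQW (cj_le_weakClosure hg)
      obtain ⟨k, hk, t, ht, rfl⟩ := (mem_sup_iff_of_nz' ((hT.1.trans hWE).trans hEEr)).1 (hTW.ge hw)
      rw [e, ← cj_cj, cj_eq_of_mem_nz (hTQ ht), cj_le_iff]
      intro y hy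
      rw [show k * y * k⁻¹ = ⁅k, y⁆ * y by simp [commutatorElement_def]]
      exact Subgroup.mul_mem _ (Subgroup.mem_sup_right (Subgroup.commutator_mem_commutator hk hy)) (Subgroup.mem_sup_left hy)
    refine le_antisymm hN0 ?_
    calc Er = resOf p W := hErW
      _ ≤ resOf p (Q ⊔ N0) := resOf_mono hWle
      _ = resOf p N0 := resOf_sup_pGroup hQp (hQW.trans hWN0)
      _ ≤ N0 := resOf_le N0
  have hres_idem : resOf p Er = Er := by rw [hErW, resOf_idem]
  -- supplements modulo `C`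
  have hsupp : ∀ N : Subgroup G, N ≤ Er → X ≤ (N.subgroupOf E).map q → Er ≤ N ⊔ (Er ⊓ C) := by
    intro N hN hXN e he
    obtain ⟨n, hn, hne⟩ := hXN (hErX ▸ Subgroup.mem_map_of_mem q (show (⟨e, hErE he⟩ : ↥E) ∈ Er.subgroupOf E from he))
    have h1 : (n⁻¹ * ⟨e, hErE he⟩ : ↥E).1 ∈ CU := hqC.1 (by rw [map_mul, map_inv, hne, inv_mul_cancel])
    rw [show e = (n : G) * ((n : G)⁻¹ * e) by group]
    exact Subgroup.mul_mem_sup hn ⟨Er.mul_mem (Er.inv_mem (hN hn)) he, E.mul_mem (E.inv_mem n.2) (hErE he), h1⟩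
  have hperf : ⁅Er, Er⁆ = Er := by
    set D := ⁅Er, Er⁆
    have hD : D ≤ Er := commutator_le_left_of_nz Subgroup.le_normalizer
    have hQD : Q ≤ Subgroup.normalizer (D : Set G) := le_nz_commutator hQEr hQEr
    have hXD : X ≤ (D.subgroupOf E).map q := by
      rw [← hXperf, ← hErX, ← Subgroup.map_commutator]
      refine Subgroup.map_mono (Subgroup.commutator_le.2 fun a ha b hb => ?_)
      exact Subgroup.commutator_mem_commutator (H₁ := Er) (H₂ := Er) ha hb
    have hle : Er ≤ (Er ⊓ Q) ⊔ D := hErQ.ge.trans (Subgroup.commutator_le.2 fun e he y hy => by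
      obtain ⟨d, hd, c, hc, rfl⟩ := (mem_sup_iff_of_nz' (B := Er ⊓ C)
        (inf_le_left.trans (left_le_nz_commutator Er Er))).1 (hsupp D hD hXD he)
      rw [show ⁅d * c, y⁆ = d * ⁅c, y⁆ * (y * d⁻¹ * y⁻¹) by simp [commutatorElement_def, mul_assoc]]
      refine Subgroup.mul_mem _ (Subgroup.mul_mem _ (Subgroup.mem_sup_right hd) (Subgroup.mem_sup_left ⟨?_, ?_⟩))
        (Subgroup.mem_sup_right (conj_mem_of_nz (hQD hy) (D.inv_mem hd)))
      · exact hErQ.le (Subgroup.commutator_mem_commutator hc.1 hy)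
      · rw [commutatorElement_def]
        exact Q.mul_mem (conj_mem_of_nz (hCQ hc.2) hy) (Q.inv_mem hy))
    refine le_antisymm hD ?_
    calc Er = resOf p Er := hres_idem.symm
      _ ≤ resOf p ((Er ⊓ Q) ⊔ D) := resOf_mono hle
      _ = resOf p D := resOf_sup_pGroup (hQp.to_le inf_le_right) (inf_le_right.trans hQD)
      _ ≤ D := resOf_le D
  -- quotients
  set CdEr := CU.subgroupOf Er
  let f : ↥Er →* ↥X := (q.comp (Subgroup.inclusion hErE)).codRestrict X fun x =>
    hErX.le (Subgroup.mem_map_of_mem q (show Subgroup.inclusion hErE x ∈ Er.subgroupOf E from x.2))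
  have hfs : Function.Surjective f := by
    rintro ⟨x, hx⟩
    obtain ⟨e, he, rfl⟩ := hErX.ge hx
    exact ⟨⟨e.1, he⟩, Subtype.ext rfl⟩
  have hfk : f.ker = CdEr := by
    ext x
    rw [MonoidHom.mem_ker, Subgroup.mem_subgroupOf, ← Subtype.coe_inj]
    exact hqC
  have hqs1 : Cfsg.IsQuasisimple (↥Er ⧸ CdEr) :=
    (Cfsg.Agent.Lib.Components.qs_congr ((QuotientGroup.quotientMulEquivOfEq hfk.symm).trans
      (QuotientGroup.quotientKerEquivOfSurjective f hfs))).2 hqs
  have hcore : Cfsg.pCore p ↥Er ≤ CdEr := by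
    intro x hx
    have h1 : P' ≤ Cfsg.pCoreOf p E := pCoreOf_mono_normal hErE hEEr
    have h2 : (Cfsg.pCore p ↥E).map q ≤ Cfsg.pCore p (↥E ⧸ CU.subgroupOf E) :=
      le_pCore (Cfsg.Agent.Lib.LocalChar.pCore_normal.map q (QuotientGroup.mk'_surjective _)) (pCore_isPGroup.map q)
    rw [hred] at h2
    obtain ⟨y, hy, hye⟩ := h1 (⟨x, hx, rfl⟩ : (x : G) ∈ P')
    have h3 := hqC.1 (Subgroup.mem_bot.1 (h2 (Subgroup.mem_map_of_mem q hy)))
    exact Subgroup.mem_subgroupOf.2 (show (x : G) ∈ CU from hye ▸ h3)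
  have hErperf : Group.IsPerfect ↥Er := Group.isPerfect_def.2 (by
    rw [← Subgroup.map_subtype_inj, commutator_def, Subgroup.map_commutator, ← MonoidHom.range_eq_map,
      Subgroup.range_subtype]
    exact hperf)
  haveI hpn : (Cfsg.pCore p ↥Er).Normal := Cfsg.Agent.Lib.LocalChar.pCore_normal
  have hqs2 : Cfsg.IsQuasisimple (↥Er ⧸ Cfsg.pCore p ↥Er) := by
    haveI := hErperf
    refine Cfsg.Agent.Lib.Components.qs_of_central_extension
      (Group.IsPerfect.ofSurjective (QuotientGroup.mk'_surjective (Cfsg.pCore p ↥Er)))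
      (QuotientGroup.lift (Cfsg.pCore p ↥Er) (QuotientGroup.mk' CdEr) (by rw [QuotientGroup.ker_mk']; exact hcore))
      (fun y => ?_) ?_ hqs1
    · obtain ⟨z, rfl⟩ := QuotientGroup.mk'_surjective CdEr y
      exact ⟨QuotientGroup.mk z, rfl⟩
    · intro y hy
      obtain ⟨z, rfl⟩ := QuotientGroup.mk'_surjective (Cfsg.pCore p ↥Er) y
      have hzC : (z : G) ∈ CU := Subgroup.mem_subgroupOf.1 ((QuotientGroup.eq_one_iff (N := CdEr) z).1 hy)
      refine Subgroup.mem_center_iff.2 fun g => ?_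
      obtain ⟨g, rfl⟩ := QuotientGroup.mk'_surjective (Cfsg.pCore p ↥Er) g
      symm
      rw [← commutatorElement_eq_one_iff_mul_comm, ← map_commutatorElement]
      refine (QuotientGroup.eq_one_iff (N := Cfsg.pCore p ↥Er) _).2 ?_
      rw [← pCoreOf_subgroupOf]
      exact hCP' (Subgroup.commutator_mem_commutator ⟨z.2, hErE z.2, hzC⟩ g.2)
  refine ⟨hRC, hperf, hres_idem, hqs1, hqs2, fun Y hYE hYp hYC => ?_⟩
  set N := ⁅Er, Y⁆
  have hN : N ≤ Er := commutator_le_left_of_nz (hYE.trans hEEr)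
  have hXN : X ≤ (N.subgroupOf E).map q := by
    set Yb := (Y.subgroupOf E).map q
    have hNb : ⁅X, Yb⁆ = ⁅(Er.subgroupOf E).map q, Yb⁆ := by rw [hErX]
    have hle : ⁅X, Yb⁆ ≤ (N.subgroupOf E).map q := by
      rw [hNb, ← Subgroup.map_commutator]
      refine Subgroup.map_mono (Subgroup.commutator_le.2 fun a ha b hb => ?_)
      exact Subgroup.commutator_mem_commutator (H₁ := Er) (H₂ := Y) ha hb
    have hN1 : ⁅X, Yb⁆ ≤ X := commutator_le_left_of_nz (by rw [Subgroup.normalizer_eq_top (H := X)]; exact le_top)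
    rcases qs_dich hqs hN1 (left_le_nz_commutator X Yb) with h | h
    · exact h.ge.trans hle
    · refine absurd ?_ hYC
      have h' : ⁅⁅Yb, X⁆, X⁆ = ⊥ := by rw [Subgroup.commutator_comm Yb X]; exact h
      have h2 := hcentp Yb ((hYp.comap_of_injective E.subtype Subtype.coe_injective).map q)
        (Cfsg.Agent.Lib.Components.commutator_eq_bot_of_perfect hXperf h')
      intro y hy
      have h3 : q ⟨y, hYE hy⟩ ∈ Yb := Subgroup.mem_map_of_mem q (show (⟨y, hYE hy⟩ : ↥E) ∈ Y.subgroupOf E from hy)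
      rw [h2, Subgroup.mem_bot] at h3
      exact hqC.1 h3
  have hErN : Er ≤ Subgroup.normalizer (N : Set G) := left_le_nz_commutator Er Y
  have hle : Er ≤ P' ⊔ N := hperf.ge.trans (Subgroup.commutator_le.2 fun a ha b hb => by
    obtain ⟨n, hn, c, hc, rfl⟩ := (mem_sup_iff_of_nz' (B := Er ⊓ C) (inf_le_left.trans hErN)).1 (hsupp N hN hXN ha)
    rw [show ⁅n * c, b⁆ = n * ⁅c, b⁆ * (b * n⁻¹ * b⁻¹) by simp [commutatorElement_def, mul_assoc]]
    refine Subgroup.mul_mem _ (Subgroup.mul_mem _ (Subgroup.mem_sup_right hn)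
      (Subgroup.mem_sup_left (hCP' (Subgroup.commutator_mem_commutator hc hb))))
      (Subgroup.mem_sup_right (conj_mem_of_nz (hErN hb) (N.inv_mem hn))))
  refine le_antisymm hN ?_
  calc Er = resOf p Er := hres_idem.symm
    _ ≤ resOf p (P' ⊔ N) := resOf_mono hle
    _ = resOf p N := resOf_sup_pGroup (isPGroup_pCoreOf Er) ((pCoreOf_le Er).trans hErN)
    _ ≤ N := resOf_le N

end Cfsg.Agent.S2860
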