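import Mathlib
import Cfsg.Statements.S2861
import Cfsg.Agent.Lib.LocalChar.FrakLMember

set_option autoImplicit false

open scoped commutatorElement Pointwise

open Cfsg.Agent.Lib.LocalChar

namespace Cfsg.Agent.S2861

open Cfsg.Agent.Lib.LocalChar

/-- Standing hypotheses: G a finite group, S a Sylow p-subgroup, Q a nontrivial large p-subgroup of G contained in S, M a subgroup containing S with the basic property (M ∈ 𝔐_G(S)); Y_M the largest p-reduced normal subgroup of M and M† = M·C_G(Y_M). Let L ∈ 𝔏_G(Y_M) (L ∈ 𝔏_G(Y_M): Y_M ≤ L; O_p(L) is the normal closure in L of Y_M ∩ O_p(L) and normalizes Y_M; L is Y_M-minimal of characteristic p with N_L(Y_M) its unique maximal subgroup over Y_M; and L/O_p(L) ≅ SL₂(q) with q = |Y_M : Y_M ∩ O_p(L)|, or p = 2 and L/O_p(L) is a Suzuki group Sz(q) or dihedral of order 2r, r an odd prime) and A = O_p(L). Then Y_M·A/A is the unique nontrivial elementary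 abelian normal p-subgroup of N_L(Y_M)/A. -/
theorem result {G : Type*} [Group G] [Finite G] {p : ℕ} [Fact p.Prime] (S : Sylow p G) (Q : Subgroup G) (hQp : IsPGroup p ↥Q) (hQ1 : Q ≠ ⊥) (hQS : Q ≤ (S : Subgroup G)) (hQ : Cfsg.IsLarge Q) (M : Subgroup G) (hSM : (S : Subgroup G) ≤ M) (hM : Cfsg.IsInFrakM p M) (L : Subgroup G) (hL : Cfsg.IsInFrakL p M L) (NL : Subgroup G) (hNL : NL = L ⊓ Subgroup.normalizer (((Cfsg.largestPReducedOf p M) : Subgroup G) : Set G)) [hn : (((Cfsg.pCoreOf p L)).subgroupOf NL).Normal] : let Ybar : Subgroup (↥NL ⧸ ((Cfsg.pCoreOf p L)).subgroupOf NL) := (((Cfsg.largestPReducedOf p M)).subgroupOf NL).map (QuotientGroup.mk' (((Cfsg.pCoreOf p L)).subgroupOf NL)); Ybar ≠ ⊥ ∧ Ybar.Normal ∧ Cfsg.IsElementaryAbelian p Ybar ∧ ∀ (V : Subgroup (↥NL ⧸ ((Cfsg.pCoreOf p L)).subgroupOf NL)), V.Normal → Cfsg.IsElementaryAbelian p V → V ≠ ⊥ → V = Ybar := by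
  intro Ybar
  obtain ⟨c, K, _, π, hπ, hker, hQ', -, hirr⟩ := frakL_member hL
  have hYL : Cfsg.largestPReducedOf p M ≤ L := hL.1
  set Y := Cfsg.largestPReducedOf p M
  set Y' := Y.subgroupOf L with hY'
  set A' := (Cfsg.pCoreOf p L).subgroupOf NL
  haveI := finite_of_surj hπ
  have hNLL : NL ≤ L := hNL ▸ inf_le_left
  have hYNL : Y ≤ NL := hNL ▸ le_inf hYL Subgroup.le_normalizer
  set q := QuotientGroup.mk' A'
  set ι := Subgroup.inclusion hNLL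
  have hmemA : ∀ x : ↥NL, q x = 1 ↔ π (ι x) = 1 := by
    intro x
    rw [← MonoidHom.mem_ker, QuotientGroup.ker_mk', ← MonoidHom.mem_ker, hker, ← pCoreOf_subgroupOf]
    rfl
  have heq : ∀ x y : ↥NL, π (ι x) = π (ι y) → q x = q y := by
    intro x y h
    rw [← mul_inv_eq_one, ← map_inv, ← map_mul, hmemA, map_mul, map_inv, map_mul, map_inv, h, mul_inv_cancel]
  have hea : Cfsg.IsElementaryAbelian p Y := (isPRedOf_YL (p := p) M).ea
  refine ⟨fun hbot => ?_, ?_, ⟨⟨⟨?_⟩⟩, ?_⟩, ?_⟩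
  · refine c.not_le_core fun y hy => ?_
    have h1 : q ⟨y, hYNL hy⟩ ∈ Ybar := Subgroup.mem_map_of_mem q (show (⟨y, hYNL hy⟩ : ↥NL) ∈ Y.subgroupOf NL from hy)
    rw [hbot, Subgroup.mem_bot, hmemA, ← MonoidHom.mem_ker, hker] at h1
    exact h1
  · refine Subgroup.Normal.map ⟨fun x hx g => ?_⟩ q (QuotientGroup.mk'_surjective _)
    exact conj_mem_of_nz (H := Y) (g := (g : G)) (hNL ▸ g.2 : (g : G) ∈ L ⊓ Subgroup.normalizer (Y : Set G)).2 hx
  · rintro ⟨_, a, ha, rfl⟩ ⟨_, b, hb, rfl⟩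
    exact Subtype.ext ((Commute.map (show Commute a b from Subtype.ext (comm_of_isMulCommutative hea.1 ha hb)) q).eq)
  · rintro _ ⟨a, ha, rfl⟩
    rw [← map_pow, show a ^ p = 1 from Subtype.ext (by simpa using hea.2 _ ha), map_one]
  intro V hV hVea hV1
  set W := (V.comap q).map ι
  set V' := W.map π
  have hp' : V' ≤ Y'.map π := by
    rintro _ ⟨_, ⟨x, hx, rfl⟩, rfl⟩
    refine c.mem_img_of_nz hπ hQ' (Subgroup.le_normalizer_map π (Subgroup.mem_map_of_mem π ?_)) ?_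
    · exact (frakL_nz_iff hYL _).2 (hNL ▸ x.2 : (x : G) ∈ L ⊓ Subgroup.normalizer (Y : Set G)).2
    · rw [← map_pow, ← map_pow, ← hmemA, map_pow]
      exact hVea.2 _ hx
  have hV'1 : V' ≠ ⊥ := by
    intro h
    obtain ⟨v, hv, hv1⟩ : ∃ v ∈ V, v ≠ 1 := by
      by_contra h'; push Not at h'; exact hV1 ((Subgroup.eq_bot_iff_forall V).2 h')
    obtain ⟨x, rfl⟩ := QuotientGroup.mk'_surjective A' v
    refine hv1 ((hmemA x).2 ?_)
    have : π (ι x) ∈ V' := ⟨_, ⟨x, hv, rfl⟩, rfl⟩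
    rwa [h, Subgroup.mem_bot] at this
  have hnorm : Subgroup.normalizer (Y'.map π : Set K) ≤ Subgroup.normalizer (V' : Set K) := by
    intro k hk
    obtain ⟨g, rfl⟩ := hπ k
    have hg : (g : G) ∈ NL := hNL ▸ ⟨g.2, (frakL_nz_iff hYL g).1 (c.nz_comap_le hπ hker hk)⟩
    refine mem_nz_of_cj_le (cj_le_iff.2 ?_)
    rintro _ ⟨_, ⟨x, hx, rfl⟩, rfl⟩
    refine ⟨ι (⟨g, hg⟩ * x * ⟨g, hg⟩⁻¹), ⟨_, ?_, rfl⟩, ?_⟩
    · show q (⟨g, hg⟩ * x * ⟨g, hg⟩⁻¹) ∈ V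
      rw [map_mul, map_mul, map_inv]
      exact hV.conj_mem _ hx _
    · rw [map_mul, map_mul, map_inv, map_mul, map_mul, map_inv]; rfl
  have hVY : V' = Y'.map π := hirr V' hp' hV'1 hnorm
  refine le_antisymm (fun v hv => ?_) ?_
  · obtain ⟨x, rfl⟩ := QuotientGroup.mk'_surjective A' v
    have hmem : π (ι x) ∈ Y'.map π := hVY ▸ (⟨_, ⟨x, hv, rfl⟩, rfl⟩ : π (ι x) ∈ V')
    obtain ⟨y, hy, hye⟩ := hmem
    exact ⟨⟨y, hYNL hy⟩, hy, heq _ _ (by rw [← hye]; rfl)⟩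
  · rintro _ ⟨y, hy, rfl⟩
    have hmem : π (ι y) ∈ V' := hVY ▸ Subgroup.mem_map_of_mem π (show ι y ∈ Y' from hy)
    obtain ⟨_, ⟨x, hx, rfl⟩, hxe⟩ := hmem
    rw [heq y x hxe.symm]
    exact hx

end Cfsg.Agent.S2861
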