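import Mathlib
import Cfsg.Statements.S2862
import Cfsg.Agent.Lib.LocalChar.FrakH
import Cfsg.Agent.Lib.LocalChar.Actions
import Cfsg.Agent.Lib.LocalChar.YL
import Cfsg.Agent.Lib.Involution.BaerSuzuki

set_option autoImplicit false
set_option linter.unusedSectionVars false
set_option maxHeartbeats 1600000

open scoped commutatorElement Pointwise

open Cfsg.Agent.Lib.LocalChar

namespace Cfsg.Agent.S2862

open Cfsg.Agent.Lib.LocalChar

open scoped commutatorElement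

variable {G : Type*} [Group G] [Finite G] {p : ℕ} [Fact p.Prime]

/-- The elements of `H` stabilising the chain `U ≥ V ≥ W ≥ 1` form a `p`-group modulo `C_H(U) ≤ U`. -/
theorem isPGroup_stab {H U V W K : Subgroup G} (hU : IsPGroup p U)
    (hHc : ∀ x ∈ H, (orderOf x).Coprime p → (∀ a ∈ U, Commute x a) → x = 1)
    (hVU : V ≤ U) (hKH : K ≤ H) (hKU : K ≤ Subgroup.normalizer (U : Set G))
    (hKV : K ≤ Subgroup.normalizer (V : Set G))
    (h1 : ∀ k ∈ K, ∀ u ∈ U, u⁻¹ * (k * u * k⁻¹) ∈ V)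
    (h2 : ∀ k ∈ K, ∀ v ∈ V, v⁻¹ * (k * v * k⁻¹) ∈ W)
    (h3 : ∀ k ∈ K, ∀ w ∈ W, Commute k w) : IsPGroup p K := by
  rw [isPGroup_iff_forall_coprime]
  intro x hx ho
  refine hHc x (hKH hx) ho ?_
  exact commute_of_chain hU (fun a ha => conj_mem_of_nz (hKU hx) ha) ho
    (commute_of_chain (hU.to_le hVU) (fun a ha => conj_mem_of_nz (hKV hx) ha) ho (h3 x hx) (h2 x hx)) (h1 x hx)

/-- The subgroup of elements of `N` moving `V` only inside `W`. -/
def stab (N V W : Subgroup G) (hNW : N ≤ Subgroup.normalizer (W : Set G))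
    (hNV : N ≤ Subgroup.normalizer (V : Set G)) : Subgroup G where
  carrier := {x | x ∈ N ∧ ∀ v ∈ V, v⁻¹ * (x * v * x⁻¹) ∈ W}
  one_mem' := ⟨N.one_mem, fun v _ => by simp⟩
  mul_mem' := by
    rintro a b ⟨ha, ha'⟩ ⟨hb, hb'⟩
    refine ⟨N.mul_mem ha hb, fun v hv => ?_⟩
    rw [show v⁻¹ * (a * b * v * (a * b)⁻¹) = (v⁻¹ * (a * v * a⁻¹)) * (a * (v⁻¹ * (b * v * b⁻¹)) * a⁻¹) by group]
    exact W.mul_mem (ha' v hv) (conj_mem_of_nz (hNW ha) (hb' v hv))
  inv_mem' := by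
    rintro a ⟨ha, ha'⟩
    refine ⟨N.inv_mem ha, fun v hv => ?_⟩
    have h1 := ha' _ (conj_mem_of_nz (hNV (N.inv_mem ha)) hv)
    have h2 := W.inv_mem h1
    simpa [mul_assoc] using h2

theorem stab_conj {N V W : Subgroup G} (hNW : N ≤ Subgroup.normalizer (W : Set G))
    (hNV : N ≤ Subgroup.normalizer (V : Set G)) {x k : G} (hxN : x ∈ Subgroup.normalizer (N : Set G))
    (hxV : x ∈ Subgroup.normalizer (V : Set G)) (hxW : x ∈ Subgroup.normalizer (W : Set G))
    (hk : k ∈ stab N V W hNW hNV) : x * k * x⁻¹ ∈ stab N V W hNW hNV := by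
  refine ⟨conj_mem_of_nz hxN hk.1, fun v hv => ?_⟩
  have h1 := hk.2 _ (conj_mem_of_nz (Subgroup.inv_mem _ hxV) hv)
  have h2 := conj_mem_of_nz hxW h1
  simpa [mul_assoc] using h2

/-- Standing hypotheses: G a finite group, S a Sylow p-subgroup, Q a nontrivial large p-subgroup of G contained in S, M a subgroup containing S with the basic property (M ∈ 𝔐_G(S)); Y_M the largest p-reduced normal subgroup of M and M† = M·C_G(Y_M). Suppose Y_M is char-p-tall and asymmetric in G, H ∈ ℌ_G(O_p(M)), and L is minimal among the subgroups of H containing Y_M with Y_M ≰ O_p(L). Then H = ⟨L, O_p(M)⟩ = ⟨hY_Mh⁻¹, O_p(M)⟩ for every h ∈ L outside N_L(Y_M); L is Y_M-minimal and of characteristic p, with N_L(Y_M) the unique maximal subgroup of L containing Y_M; [V, O^p(L)] ≠ 1 for every noncentral chief factor V/W of H inside O_p(H) (that is, O^p(L) does not act trivially on V/W); and the normal closure of O_p(L) ∩ Y_M in L lies in O_p(H).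 -/
theorem result {G : Type*} [Group G] [Finite G] {p : ℕ} [Fact p.Prime] (S : Sylow p G) (Q : Subgroup G) (hQp : IsPGroup p ↥Q) (hQ1 : Q ≠ ⊥) (hQS : Q ≤ (S : Subgroup G)) (hQ : Cfsg.IsLarge Q) (M : Subgroup G) (hSM : (S : Subgroup G) ≤ M) (hM : Cfsg.IsInFrakM p M) (htall : Cfsg.IsCharPTall p (Cfsg.largestPReducedOf p M)) (hasym : ¬ Cfsg.IsSymmetricIn (Cfsg.largestPReducedOf p M)) (H : Subgroup G) (hH : Cfsg.IsInFrakH p M H) (L : Subgroup G) (hLH : L ≤ H) (hYL : (Cfsg.largestPReducedOf p M) ≤ L) (hYO : ¬ (Cfsg.largestPReducedOf p M) ≤ (Cfsg.pCoreOf p L)) (hmin : ∀ L' : Subgroup G, L' ≤ L → (Cfsg.largestPReducedOf p M) ≤ L' → ¬ (Cfsg.largestPReducedOf p M) ≤ (Cfsg.pCoreOf p L') → L' = L) : (L ⊔ (Cfsg.pCoreOf p M) = H ∧ ∀ h ∈ L, h ∉ Subgroup.normalizer (((Cfsg.largestPReducedOf p M) : Subgroup G) : Set G) → (((Cfsg.largestPReducedOf p M) : Subgroup G).map (MulAut.conj (h : G)).toMonoidHom) ⊔ (Cfsg.pCoreOf p M) = H) ∧ (Cfsg.IsMinimalOver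 (((Cfsg.largestPReducedOf p M)).subgroupOf L) ∧ Subgroup.centralizer (Cfsg.pCore p ↥L : Set ↥L) ≤ Cfsg.pCore p ↥L ∧ L ⊓ Subgroup.normalizer (((Cfsg.largestPReducedOf p M) : Subgroup G) : Set G) < L ∧ ∀ X : Subgroup G, (Cfsg.largestPReducedOf p M) ≤ X → X < L → X ≤ L ⊓ Subgroup.normalizer (((Cfsg.largestPReducedOf p M) : Subgroup G) : Set G)) ∧ (∀ V W' : Subgroup G, V ≤ (Cfsg.pCoreOf p H) → H ≤ Subgroup.normalizer ((V : Subgroup G) : Set G) → H ≤ Subgroup.normalizer ((W' : Subgroup G) : Set G) → W' < V → (∀ Z' : Subgroup G, H ≤ Subgroup.normalizer ((Z' : Subgroup G) : Set G) → W' ≤ Z' → Z' ≤ V → Z' = W' ∨ Z' = V) → ¬ ⁅V, H⁆ ≤ W' → ¬ ⁅V, ((Cfsg.pResidual p ↥L).map (L).subtype)⁆ ≤ W') ∧ (Subgroup.normalClosure (((((Cfsg.pCoreOf p L) ⊓ (Cfsg.largestPReducedOf p M)).subgroupOf L : Subgroup ↥L)) : Set ↥L)).map L.subtype ≤ (Cfsg.pCoreOf p H) := by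
  have hnYA := hYO
  clear hYO
  set Y := Cfsg.largestPReducedOf p M with hYdef
  set O := Cfsg.pCoreOf p M
  set U := Cfsg.pCoreOf p H
  set A := Cfsg.pCoreOf p L
  have hOH : O ≤ H := hH.2.1
  have hYO : Y ≤ O := frakM_YL_le_core hM
  have hOp : IsPGroup p O := isPGroup_pCoreOf M
  have hUp : IsPGroup p U := isPGroup_pCoreOf H
  have hYea : Cfsg.IsElementaryAbelian p Y := (isPRedOf_YL (p := p) M).ea
  have hYp : IsPGroup p Y := isPGroup_of_isEA hYea
  have hOC : O ≤ Subgroup.centralizer (Y : Set G) := by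
    rw [show O = _ from frakM_core_eq hSM hM]; exact inf_le_right
  have hdagY : dag p M ≤ Subgroup.normalizer (Y : Set G) := dag_le_nz
  have hUH : U ≤ H := pCoreOf_le H
  have hHU : H ≤ Subgroup.normalizer (U : Set G) := le_nz_pCoreOf H
  have hHc : ∀ x ∈ H, (orderOf x).Coprime p → (∀ a ∈ U, Commute x a) → x = 1 :=
    fun x hx ho hc => (charP_iff.1 hH.1).eq_one hx ho hc
  have hR0 := asym_nz_le hQp hQ1 hQ hSM hM hasym
    (hUp.to_sup_of_normal_left' hOp (hOH.trans hHU)) le_sup_right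
  have hUO : U ≤ Subgroup.normalizer (O : Set G) :=
    le_sup_left.trans (Subgroup.le_normalizer.trans hR0.2.2)
  have hUY : U ≤ Subgroup.normalizer (Y : Set G) := le_sup_left.trans (hR0.1.trans hdagY)
  have hOY : O ≤ Subgroup.normalizer (Y : Set G) := hOC.trans (Subgroup.centralizer_le_normalizer _)
  have hLU : L ≤ Subgroup.normalizer (U : Set G) := hLH.trans hHU
  -- proper overgroups of `Y` in `L`
  have hprop : ∀ {X : Subgroup G}, Y ≤ X → X ≤ L → X ≠ L → Y ≤ Cfsg.pCoreOf p X := fun {X} h1 h2 h3 => by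
    by_contra h; exact h3 (hmin X h2 h1 h)
  have hnp : ∀ {P : Subgroup G}, P ≤ L → L ≤ Subgroup.normalizer (P : Set G) → IsPGroup p P → P ≤ A :=
    fun h1 h2 h3 => le_pCoreOf h1 h2 h3
  have hLXno : ∀ {X : Subgroup G}, L ≤ X → O ≤ X → X ≤ H → X = H := by
    intro X hLX hOX hXH
    by_contra hne
    have h1 := hH.2.2.2 _ hOX (lt_of_le_of_ne hXH hne)
    refine hnYA ((le_inf h1 hYL).trans (hnp inf_le_right ?_ ((isPGroup_pCoreOf X).to_le inf_le_left)))
    exact le_nz_inf (hLX.trans (le_nz_pCoreOf X)) Subgroup.le_normalizer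
  have hsupH : L ⊔ O = H := hLXno le_sup_left le_sup_right (sup_le hLH hOH)
  have hgenH : ∀ g : G, Y ⊔ cj g Y = L → cj g Y ⊔ O = H := fun g hgen =>
    hLXno (hgen ▸ sup_le (hYO.trans le_sup_right) le_sup_left) le_sup_right
      (sup_le ((le_sup_right.trans hgen.le).trans hLH) hOH)
  have hcjL : ∀ {x : G}, x ∈ L → cj x Y ≤ L := fun hx =>
    (cj_mono hYL).trans (cj_eq_of_mem_nz (Subgroup.le_normalizer hx)).le
  have hflip : ∀ x : G, cj x⁻¹ (Y ⊔ cj x Y) = Y ⊔ cj x⁻¹ Y := fun x => by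
    show (Y ⊔ cj x Y).map _ = _
    rw [Subgroup.map_sup, sup_comm]
    exact congrArg₂ (· ⊔ ·) (by show cj x⁻¹ (cj x Y) = Y; rw [cj_cj, inv_mul_cancel, cj_one]) rfl
  have hgen' : ∀ {x : G}, x ∈ L → Y ⊔ cj x Y = L → Y ⊔ cj x⁻¹ Y = L := fun {x} hx h => by
    rw [← hflip, h, cj_eq_of_mem_nz (Subgroup.le_normalizer (L.inv_mem hx))]
  obtain ⟨g, hg, hgen⟩ : ∃ g ∈ L, Y ⊔ cj g Y = L := by
    by_contra hall
    push Not at hall
    set Y' := Y.subgroupOf L
    obtain ⟨N, hN, hNp, hYN⟩ := Cfsg.Agent.Lib.Involution.baerSuzuki (p := p) Y' fun x => by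
      have hx := x.2
      have hmap : (Y' ⊔ Y'.map (MulAut.conj x).toMonoidHom).map L.subtype = Y ⊔ cj (x : G) Y := by
        rw [Subgroup.map_sup, Subgroup.map_map]
        have e : L.subtype.comp (MulAut.conj x).toMonoidHom = ((MulAut.conj (x : G)).toMonoidHom).comp L.subtype := by
          ext y; simp
        rw [e, ← Subgroup.map_map, Subgroup.map_subgroupOf_eq_of_le hYL]
      suffices h : IsPGroup p (Y ⊔ cj (x : G) Y : Subgroup G) from
        (hmap ▸ h).of_equiv ((Subgroup.equivMapOfInjective _ _ Subtype.coe_injective).symm)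
      have h1 := hprop le_sup_left (sup_le hYL (hcjL hx)) (hall _ hx)
      have h2 := hprop le_sup_left (sup_le hYL (hcjL (L.inv_mem hx))) (hall _ (L.inv_mem hx))
      refine (isPGroup_pCoreOf (Y ⊔ cj (x : G) Y)).to_le (sup_le h1 ?_)
      have h3 := cj_mono (g := (x : G)) h2
      rw [← pCoreOf_cj, ← hflip, cj_cj, mul_inv_cancel, cj_one] at h3
      exact h3
    exact hnYA fun y hy => ⟨⟨y, hYL hy⟩, le_pCore hN hNp (hYN hy), rfl⟩
  set B := Y ⊓ U
  have hBU : B ≤ U := inf_le_right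
  have hBO : B ≤ U ⊓ O := le_inf hBU (inf_le_left.trans hYO)
  have hcU : ∀ {x : G}, x ∈ L → cj x U = U := fun hx => cj_eq_of_mem_nz (hLU hx)
  have hcjB : ∀ {x : G}, x ∈ L → cj x B = cj x Y ⊓ U := fun {x} hx => by
    conv_rhs => rw [← hcU hx]
    exact Subgroup.map_inf Y U _ (MulAut.conj x).injective
  have hUYx : ∀ {x : G}, x ∈ L → U ≤ Subgroup.normalizer (cj x Y : Set G) := fun {x} hx => by
    rw [le_nz_iff]
    intro u hu y hy
    rw [mem_cj] at hy ⊢
    have hu' : x⁻¹ * u * x ∈ U := by simpa using conj_mem_of_nz (hLU (L.inv_mem hx)) hu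
    simpa [mul_assoc] using conj_mem_of_nz (hUY hu') hy
  -- commutators of `U` with conjugates of `Y`
  have hmv : ∀ {x : G}, x ∈ L → ∀ y ∈ cj x Y, ∀ u ∈ U,
      u⁻¹ * (y * u * y⁻¹) ∈ cj x B ∧ y * u * y⁻¹ * u⁻¹ ∈ cj x B := by
    intro x hx y hy u hu
    have hyU : y ∈ Subgroup.normalizer (U : Set G) := hLU (hcjL hx hy)
    rw [hcjB hx]
    refine ⟨⟨?_, U.mul_mem (U.inv_mem hu) (conj_mem_of_nz hyU hu)⟩, ⟨?_, U.mul_mem (conj_mem_of_nz hyU hu) (U.inv_mem hu)⟩⟩
    · rw [show u⁻¹ * (y * u * y⁻¹) = (u⁻¹ * y * u⁻¹⁻¹) * y⁻¹ by group]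
      exact Subgroup.mul_mem _ (conj_mem_of_nz (hUYx hx (U.inv_mem hu)) hy) (Subgroup.inv_mem _ hy)
    · rw [show y * u * y⁻¹ * u⁻¹ = y * (u * y⁻¹ * u⁻¹) by group]
      exact Subgroup.mul_mem _ hy (conj_mem_of_nz (hUYx hx hu) (Subgroup.inv_mem _ hy))
  have hcomm_cj : ∀ {x a b : G}, a ∈ cj x Y → b ∈ cj x Y → Commute a b := by
    rintro x _ _ ⟨a, ha, rfl⟩ ⟨b, hb, rfl⟩
    exact (comm_of_isMulCommutative hYea.1 ha hb).map _
  have hmv1 : ∀ y ∈ Y, ∀ u ∈ U, u⁻¹ * (y * u * y⁻¹) ∈ B ∧ y * u * y⁻¹ * u⁻¹ ∈ B := by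
    have := hmv L.one_mem
    simpa [cj_one] using this
  have hcentL : ∀ {x : G}, Y ⊔ cj x Y = L → ∀ {z : G}, (∀ y ∈ Y, Commute y z) →
      (∀ y ∈ cj x Y, Commute y z) → ∀ l ∈ L, Commute l z := by
    intro x hxgen z h1 h2 l hl
    have : L ≤ Subgroup.centralizer {z} := hxgen ▸ sup_le
      (fun y hy => Subgroup.mem_centralizer_singleton_iff.2 (h1 y hy).eq)
      (fun y hy => Subgroup.mem_centralizer_singleton_iff.2 (h2 y hy).eq)
    exact Subgroup.mem_centralizer_singleton_iff.1 (this hl)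
  set B' := cj g B
  have hB'U : B' ≤ U := (hcjB hg).le.trans inf_le_right
  set D := B ⊔ B'
  have hDU : D ≤ U := sup_le hBU hB'U
  have hDmem : ∀ {d : G}, d ∈ D ↔ ∃ b ∈ B, ∃ b' ∈ B', d = b * b' := by
    intro d
    refine mem_sup_iff_of_nz (hBU.trans ?_)
    rw [show B' = cj g Y ⊓ U from hcjB hg]
    exact le_nz_inf (hUYx hg) Subgroup.le_normalizer
  have hDL : L ≤ Subgroup.normalizer (D : Set G) := by
    rw [← hgen]
    refine sup_le ?_ ?_ <;> (rw [le_nz_iff]; intro y hy d hd)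
    · rw [show y * d * y⁻¹ = (y * d * y⁻¹ * d⁻¹) * d by group]
      exact D.mul_mem (Subgroup.mem_sup_left (hmv1 y hy d (hDU hd)).2) hd
    · rw [show y * d * y⁻¹ = (y * d * y⁻¹ * d⁻¹) * d by group]
      exact D.mul_mem (Subgroup.mem_sup_right (hmv hg y hy d (hDU hd)).2) hd
  have hLD : ∀ x ∈ L, ∀ u ∈ U, u⁻¹ * (x * u * x⁻¹) ∈ D := by
    have : L ≤ stab L U D hDL hLU := hgen.ge.trans (sup_le
      (fun y hy => ⟨hYL hy, fun u hu => Subgroup.mem_sup_left (hmv1 y hy u hu).1⟩)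
      (fun y hy => ⟨hcjL hg hy, fun u hu => Subgroup.mem_sup_right (hmv hg y hy u hu).1⟩))
    exact fun x hx => (this hx).2
  have hCB : ∀ d ∈ D, (∀ y ∈ Y, Commute y d) → d ∈ B := by
    intro d hd hc
    obtain ⟨b, hb, b', hb', rfl⟩ := hDmem.1 hd
    refine B.mul_mem hb ?_
    have hyb : ∀ y ∈ Y, Commute y b' := fun y hy => by
      simpa using (comm_of_isMulCommutative hYea.1 hy hb.1).inv_right.mul_right (hc y hy)
    have hgb := hcentL hgen hyb (fun y hy => hcomm_cj hy ((hcjB hg).le hb').1) g hg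
    have h1 := mem_cj.1 hb'
    rwa [mul_assoc, ← hgb.eq, inv_mul_cancel_left] at h1
  -- conjugates of `Y` commuting with `Y`
  have hBnz : ∀ {x : G}, x ∈ L → (∀ a ∈ Y, ∀ b ∈ cj x Y, Commute a b) →
      x ∈ Subgroup.normalizer (B : Set G) := by
    intro x hx hc
    suffices x⁻¹ ∈ Subgroup.normalizer (B : Set G) by simpa using Subgroup.inv_mem _ this
    refine mem_nz_of_cj_le (cj_le_iff.2 fun b hb => hCB _ (conj_mem_of_nz (hDL (L.inv_mem hx))
      (Subgroup.mem_sup_left hb)) fun y hy => ?_)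
    have h1 := hc b hb.1 _ (conj_mem_cj (g := x) hy)
    have h2 := h1.map (MulAut.conj x⁻¹).toMonoidHom
    simpa [mul_assoc] using h2.symm
  -- the subgroup `E = (U ∩ O) B''` is normal in `H`
  set U0 := U ⊓ O
  have hU0O : O ≤ Subgroup.normalizer (U0 : Set G) := le_nz_inf (hOH.trans hHU) Subgroup.le_normalizer
  have hUU0 : U ≤ Subgroup.normalizer (U0 : Set G) := le_nz_inf Subgroup.le_normalizer hUO
  have hOY' : ∀ {o y : G}, o ∈ O → y ∈ Y → Commute y o := fun ho hy =>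
    (Subgroup.mem_centralizer_iff.1 (hOC ho) _ hy)
  have hOmv : ∀ o ∈ O, ∀ u ∈ U, u⁻¹ * (o * u * o⁻¹) ∈ U0 ∧ o * u * o⁻¹ * u⁻¹ ∈ U0 := by
    intro o ho u hu
    refine ⟨⟨U.mul_mem (U.inv_mem hu) (conj_mem_of_nz (hHU (hOH ho)) hu), ?_⟩,
      ⟨U.mul_mem (conj_mem_of_nz (hHU (hOH ho)) hu) (U.inv_mem hu), ?_⟩⟩
    · rw [show u⁻¹ * (o * u * o⁻¹) = (u⁻¹ * o * u⁻¹⁻¹) * o⁻¹ by group]
      exact O.mul_mem (conj_mem_of_nz (hUO (U.inv_mem hu)) ho) (O.inv_mem ho)
    · rw [show o * u * o⁻¹ * u⁻¹ = o * (u * o⁻¹ * u⁻¹) by group]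
      exact O.mul_mem ho (conj_mem_of_nz (hUO hu) (O.inv_mem ho))
  have hEn : ∀ x : G, x ∈ L → Y ⊔ cj x Y = L →
      H ≤ Subgroup.normalizer ((U0 ⊔ cj x B : Subgroup G) : Set G) := by
    intro x hx hxgen
    have hxU : cj x B ≤ U := (hcjB hx).le.trans inf_le_right
    have hEU : U0 ⊔ cj x B ≤ U := sup_le inf_le_left hxU
    rw [← hgenH x hxgen]
    refine sup_le ?_ ?_ <;> (rw [le_nz_iff]; intro k hk e he)
    · rw [show k * e * k⁻¹ = (k * e * k⁻¹ * e⁻¹) * e by group]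
      exact Subgroup.mul_mem _ (Subgroup.mem_sup_right (hmv hx k hk e (hEU he)).2) he
    · rw [show k * e * k⁻¹ = (k * e * k⁻¹ * e⁻¹) * e by group]
      exact Subgroup.mul_mem _ (Subgroup.mem_sup_left (hOmv k hk e (hEU he)).2) he
  have hU0dec : ∀ u ∈ U0, ∃ c b, b ∈ B ∧ (∀ l ∈ L, Commute l c) ∧ u = c * b := by
    intro u hu
    have hgU0 : B ≤ Subgroup.normalizer (cj g U0 : Set G) := by
      refine hBU.trans ?_
      rw [le_nz_iff]
      intro k hk z hz
      rw [mem_cj] at hz ⊢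
      have hk' : g⁻¹ * k * g ∈ U := by simpa using conj_mem_of_nz (hLU (L.inv_mem hg)) hk
      simpa [mul_assoc] using conj_mem_of_nz (hUU0 hk') hz
    have h1 : u ∈ cj g U0 ⊔ B := by
      have h2 : cj g (U0 ⊔ cj g⁻¹ B) = U0 ⊔ cj g⁻¹ B :=
        cj_eq_of_mem_nz (hEn g⁻¹ (L.inv_mem hg) (hgen' hg hgen) (hLH hg))
      have h3 : cj g (U0 ⊔ cj g⁻¹ B) = cj g U0 ⊔ B := by
        show (U0 ⊔ cj g⁻¹ B).map _ = _
        rw [Subgroup.map_sup]
        exact congrArg₂ (· ⊔ ·) rfl (by show cj g (cj g⁻¹ B) = B; rw [cj_cj, mul_inv_cancel, cj_one])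
      rw [← h3, h2]
      exact Subgroup.mem_sup_left hu
    obtain ⟨c, hc, b, hb, rfl⟩ := (mem_sup_iff_of_nz' hgU0).1 h1
    refine ⟨c, b, hb, ?_, rfl⟩
    have hcO : c ∈ O := by simpa using O.mul_mem hu.2 (O.inv_mem (hBO hb).2)
    refine hcentL hgen (fun y hy => hOY' hcO hy) fun y hy => ?_
    obtain ⟨y, hy, rfl⟩ := hy
    obtain ⟨c, hc', rfl⟩ := hc
    exact (hOY' hc'.2 hy).map _
  -- elements of `L` normalising `B` lie in `M†`
  have hmain : ∀ x ∈ L, x ∈ Subgroup.normalizer (B : Set G) → x ∈ dag p M := by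
    intro x hx hxB
    have hxU0' : ∀ u ∈ U0, u⁻¹ * (x * u * x⁻¹) ∈ B := by
      intro u hu
      obtain ⟨c, b, hb, hc, rfl⟩ := hU0dec u hu
      rw [show (c * b)⁻¹ * (x * (c * b) * x⁻¹) = b⁻¹ * (c⁻¹ * (x * c * x⁻¹)) * (x * b * x⁻¹) by group,
        (hc x hx).eq, mul_inv_cancel_right, inv_mul_cancel, mul_one]
      exact B.mul_mem (B.inv_mem hb) (conj_mem_of_nz hxB hb)
    have hxU0 : x ∈ Subgroup.normalizer (U0 : Set G) := mem_nz_of_cj_le (cj_le_iff.2 fun u hu => by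
      rw [show x * u * x⁻¹ = u * (u⁻¹ * (x * u * x⁻¹)) by group]
      exact U0.mul_mem hu (hBO (hxU0' u hu)))
    set N0 := H ⊓ Subgroup.normalizer (U0 : Set G) ⊓ Subgroup.normalizer (B : Set G)
    have hNU : N0 ≤ Subgroup.normalizer (U : Set G) := inf_le_left.trans (inf_le_left.trans hHU)
    have hN0 : N0 ≤ Subgroup.normalizer (U0 : Set G) := inf_le_left.trans inf_le_right
    have hNB : N0 ≤ Subgroup.normalizer (B : Set G) := inf_le_right
    set S1 := stab N0 U U0 hN0 hNU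
    set S2 := stab N0 U0 B hNB hN0
    set K3 := S1 ⊓ S2 ⊓ Subgroup.centralizer (B : Set G)
    have hOB : O ≤ Subgroup.centralizer (B : Set G) := fun o ho =>
      Subgroup.mem_centralizer_iff.2 fun b hb => (hOY' ho hb.1).eq
    have hON : O ≤ N0 := le_inf (le_inf hOH hU0O) (hOB.trans (Subgroup.centralizer_le_normalizer _))
    have hxN : x ∈ N0 := ⟨⟨hLH hx, hxU0⟩, hxB⟩
    have hnK : ∀ n ∈ N0, ∀ k ∈ K3, n * k * n⁻¹ ∈ K3 := fun n hn k hk =>
      ⟨⟨stab_conj hN0 hNU (Subgroup.le_normalizer hn) (hNU hn) (hN0 hn) hk.1.1,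
        stab_conj hNB hN0 (Subgroup.le_normalizer hn) (hN0 hn) (hNB hn) hk.1.2⟩,
        conj_mem_of_nz (le_nz_centralizer hNB hn) hk.2⟩
    have hK3 : IsPGroup p K3 := isPGroup_stab hUp hHc (V := U0) (W := B) inf_le_left
      (fun k hk => hk.1.1.1.1.1) (fun k hk => hNU hk.1.1.1) (fun k hk => hN0 hk.1.1.1)
      (fun k hk => hk.1.1.2) (fun k hk => hk.1.2.2)
      (fun k hk w hw => (Subgroup.mem_centralizer_iff.1 hk.2 w hw).symm)
    have hR : IsPGroup p (O ⊔ K3 : Subgroup G) :=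
      hOp.to_sup_of_normal_right' hK3 (le_nz_iff.2 fun o ho k hk => hnK o (hON ho) k hk)
    have hxR : x ∈ Subgroup.normalizer ((O ⊔ K3 : Subgroup G) : Set G) := by
      refine mem_nz_of_cj_le ?_
      show (O ⊔ K3).map _ ≤ _
      rw [Subgroup.map_sup]
      refine sup_le (cj_le_iff.2 fun o ho => ?_) (cj_le_iff.2 fun k hk => Subgroup.mem_sup_right (hnK x hxN k hk))
      rw [show x * o * x⁻¹ = (x * o * x⁻¹ * o⁻¹) * o by group]
      refine Subgroup.mul_mem _ (Subgroup.mem_sup_right ⟨⟨?_, ?_⟩, ?_⟩) (Subgroup.mem_sup_left ho)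
      · have ho1 : o ∈ S1 := ⟨hON ho, fun u hu => (hOmv o ho u hu).1⟩
        exact Subgroup.mul_mem _ (stab_conj hN0 hNU (Subgroup.le_normalizer hxN) (hNU hxN) (hN0 hxN) ho1)
          (Subgroup.inv_mem _ ho1)
      · have hx2 : x ∈ S2 := ⟨hxN, hxU0'⟩
        rw [show x * o * x⁻¹ * o⁻¹ = x * (o * x⁻¹ * o⁻¹) by group]
        exact Subgroup.mul_mem _ hx2 (stab_conj hNB hN0 (Subgroup.le_normalizer (hON ho)) (hN0 (hON ho))
          (hNB (hON ho)) (Subgroup.inv_mem _ hx2))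
      · exact Subgroup.mul_mem _ (conj_mem_of_nz (le_nz_centralizer hNB hxN) (hOB ho))
          (Subgroup.inv_mem _ (hOB ho))
    exact (asym_nz_le hQp hQ1 hQ hSM hM hasym hR le_sup_left).2.1 hxR
  have hmut : ∀ {x : G}, x ∈ L → cj x Y ≤ Subgroup.normalizer (Y : Set G) →
      cj x⁻¹ Y ≤ Subgroup.normalizer (Y : Set G) → x ∈ dag p M := by
    intro x hx h1 h2
    refine hmain x hx (hBnz hx fun a ha b hb => ?_)
    have h3 : Y ≤ Subgroup.normalizer (cj x Y : Set G) := fun y hy => mem_nz_of_cj_eq (by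
      have hy' : x⁻¹ * y * x ∈ Subgroup.normalizer (Y : Set G) :=
        h2 (by simpa using conj_mem_cj (g := x⁻¹) hy)
      rw [cj_cj, show y * x = x * (x⁻¹ * y * x) by group, ← cj_cj, cj_eq_of_mem_nz hy'])
    exact (Subgroup.mem_centralizer_iff.1 (asym_commute hasym h1 h3 ha) b hb).symm
  have hXN : ∀ {X : Subgroup G}, Y ≤ X → X ≤ L → X ≠ L → X ≤ Subgroup.normalizer (Y : Set G) := by
    intro X hYX hXL hXne
    set R0 := Cfsg.pCoreOf p X
    have hYR : Y ≤ R0 := hprop hYX hXL hXne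
    have hR0L : R0 ≤ L := (pCoreOf_le X).trans hXL
    have hR0d : R0 ≤ dag p M := by
      by_contra hne
      obtain ⟨n, hn, hnR, hnn⟩ := exists_mem_nz_of_lt (isPGroup_pCoreOf X)
        (lt_of_le_of_ne inf_le_left fun e => hne (inf_eq_left.1 e) : R0 ⊓ dag p M < R0)
      have hY1 : Y ≤ R0 ⊓ dag p M := le_inf hYR ((hYO.trans (pCoreOf_le M)).trans le_sup_left)
      have hin : ∀ {n : G}, n ∈ Subgroup.normalizer ((R0 ⊓ dag p M : Subgroup G) : Set G) →
          cj n Y ≤ Subgroup.normalizer (Y : Set G) := fun hnn =>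
        ((cj_mono hY1).trans (cj_eq_of_mem_nz hnn).le).trans (inf_le_right.trans hdagY)
      exact hnR ⟨hn, hmut (hR0L hn) (hin hnn) (hin (Subgroup.inv_mem _ hnn))⟩
    have hin : ∀ x ∈ X, cj x Y ≤ Subgroup.normalizer (Y : Set G) := fun x hx =>
      ((cj_mono hYR).trans (cj_eq_of_mem_nz (le_nz_pCoreOf X hx)).le).trans (hR0d.trans hdagY)
    exact fun x hx => hdagY (hmut (hXL hx) (hin x hx) (hin _ (X.inv_mem hx)))
  have hNlt : L ⊓ Subgroup.normalizer (Y : Set G) < L := lt_of_le_of_ne inf_le_left fun e =>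
    hnYA (hnp hYL (inf_eq_left.1 e) hYp)
  have hall : ∀ h ∈ L, h ∉ Subgroup.normalizer (Y : Set G) → Y ⊔ cj h Y = L := by
    intro h hh hhn
    by_contra hne
    have h1 := hXN le_sup_left (sup_le hYL (hcjL hh)) hne
    have hne' : Y ⊔ cj h⁻¹ Y ≠ L := fun e => hne (by simpa using hgen' (L.inv_mem hh) e)
    have h2 := hXN le_sup_left (sup_le hYL (hcjL (L.inv_mem hh))) hne'
    exact hhn (hdagY (hmut hh (le_sup_right.trans h1) (le_sup_right.trans h2)))
  refine ⟨⟨hsupH, fun h hh hhn => hgenH h (hall h hh hhn)⟩, ⟨⟨?_, ?_⟩, ?_, hNlt, ?_⟩, ?_, ?_⟩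
  · have h1 : conjClosure L Y = L := by
      refine hmin _ (conjClosure_le hYL Subgroup.le_normalizer) (le_conjClosure L Y) fun hle => hnYA ?_
      exact hle.trans (pCoreOf_mono_normal (conjClosure_le hYL Subgroup.le_normalizer) (le_nz_conjClosure L Y))
    rw [← Subgroup.map_subtype_inj, conjClosure_map_subtype _ _ hYL, h1, ← MonoidHom.range_eq_map,
      Subgroup.range_subtype]
  · have hkey : ∀ X : Subgroup L, Y.subgroupOf L ≤ X → X ≠ ⊤ →
        X ≤ (L ⊓ Subgroup.normalizer (Y : Set G)).subgroupOf L := by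
      intro X hYX hX x hx
      refine ⟨x.2, hXN (X := X.map L.subtype) (fun y hy => ⟨⟨y, hYL hy⟩, hYX hy, rfl⟩)
        (Subgroup.map_subtype_le _) (fun e => hX ?_) ⟨x, hx, rfl⟩⟩
      rw [← Subgroup.map_subtype_inj, e, ← MonoidHom.range_eq_map, Subgroup.range_subtype]
    set N1 := (L ⊓ Subgroup.normalizer (Y : Set G)).subgroupOf L
    have hN1 : N1 ≠ ⊤ := fun e => hNlt.ne (le_antisymm inf_le_left (Subgroup.subgroupOf_eq_top.1 e))
    have hYN1 : Y.subgroupOf L ≤ N1 := fun y hy => ⟨y.2, Subgroup.le_normalizer hy⟩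
    refine ⟨N1, ⟨⟨hN1, fun X hX => ?_⟩, hYN1⟩, fun X hX => ?_⟩
    · by_contra hne
      exact hX.not_ge (hkey X (hYN1.trans hX.le) hne)
    · exact (hX.1.le_iff.1 (hkey X hX.2 hX.1.1)).resolve_left hN1 |>.symm
  · refine charP_iff.2 (isCharPOf_of_forall fun c hc hco hcA => hHc c (hLH hc) hco ?_)
    have hUA : U ⊓ L ≤ A := hnp inf_le_right (le_nz_inf hLU Subgroup.le_normalizer) (hUp.to_le inf_le_left)
    have hDL' : D ≤ U ⊓ L := le_inf hDU (sup_le (inf_le_left.trans hYL) ((cj_mono inf_le_left).trans (hcjL hg)))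
    exact commute_of_chain hUp (fun a ha => conj_mem_of_nz (hLU hc) ha) hco
      (fun d hd => hcA d (hUA (hDL' hd))) (fun a ha => hLD c hc a ha)
  · intro X hYX hXL
    exact le_inf hXL.le (hXN hYX hXL.le hXL.ne)
  · intro V W' hVU hVn hWn hlt hchief hnc hRW
    set C := stab H V W' hWn hVn
    have hCH : C ≤ H := fun x hx => hx.1
    have hR : resOf p L ≤ C := fun r hr => ⟨hLH (resOf_le L hr), fun v hv => by
      have := hRW (Subgroup.commutator_mem_commutator (V.inv_mem hv) hr)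
      simpa [commutatorElement_def, mul_assoc] using this⟩
    have hLRY : resOf p L ⊔ Y = L := by
      by_contra hne
      have h1 := le_sup_left.trans (hXN le_sup_right (sup_le (resOf_le L) hYL) hne)
      obtain ⟨T, hT, hYT⟩ := exists_isSylowIn_ge (p := p) hYp hYL
      have hTne : T ≠ L := fun e => hnYA (hYT.trans (hnp hT.1 (by rw [e]; exact Subgroup.le_normalizer) hT.2.1))
      refine hNlt.ne (le_antisymm inf_le_left (le_inf le_rfl ?_))
      conv_lhs => rw [← hT.resOf_sup]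
      exact sup_le h1 (hXN hYT hT.1 hTne)
    have hCn : H ≤ Subgroup.normalizer (C : Set G) := le_nz_iff.2 fun k hk x hx =>
      stab_conj hWn hVn (Subgroup.le_normalizer hk) (hVn hk) (hWn hk) hx
    have hHle : H ≤ C ⊔ O := by
      conv_lhs => rw [← hgenH g hgen]
      refine sup_le (cj_le_iff.2 fun y hy => ?_) le_sup_right
      obtain ⟨r, hr, y0, hy0, he⟩ := (mem_sup_iff_of_nz' (A := resOf p L) (B := Y)
        (hYL.trans (le_nz_resOf L))).1 (hLRY.symm ▸ hg : g ∈ resOf p L ⊔ Y)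
      rw [he, show r * y0 * y * (r * y0)⁻¹ = r * (y0 * y * y0⁻¹) * r⁻¹ by group,
        (comm_of_isMulCommutative hYea.1 hy0 hy).eq, mul_inv_cancel_right,
        show r * y * r⁻¹ = (r * (y * r⁻¹ * y⁻¹)) * y by group]
      refine Subgroup.mul_mem_sup (C.mul_mem (hR hr) ?_) (hYO hy)
      exact conj_mem_of_nz (hCn ((hYO.trans hOH) hy)) (C.inv_mem (hR hr))
    have hCall : ∀ {K : Subgroup G}, K ≤ C → ∀ Z : Subgroup G, W' ≤ Z → Z ≤ V →
        K ≤ Subgroup.normalizer (Z : Set G) := fun hK Z h1 h2 => le_nz_iff.2 fun c hc z hz => by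
      rw [show c * z * c⁻¹ = z * (z⁻¹ * (c * z * c⁻¹)) by group]
      exact Z.mul_mem hz (h1 ((hK hc).2 z (h2 hz)))
    set Z' := W' ⊔ ⁅V, O⁆
    have hOV : O ≤ Subgroup.normalizer (V : Set G) := hOH.trans hVn
    have hZV : Z' ≤ V := sup_le hlt.le (commutator_le_left_of_nz hOV)
    have hZn : H ≤ Subgroup.normalizer (Z' : Set G) := hHle.trans (sup_le (hCall le_rfl Z' le_sup_left hZV)
      (le_nz_sup (hOH.trans hWn) (right_le_nz_commutator V O)))
    rcases hchief Z' hZn le_sup_left hZV with he | he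
    · refine hnc ?_
      have hHC : H ≤ C := hHle.trans (sup_le le_rfl fun o ho => ⟨hOH ho, fun v hv => by
        have : ⁅v⁻¹, o⁆ ∈ W' := he.le (Subgroup.mem_sup_right (Subgroup.commutator_mem_commutator (V.inv_mem hv) ho))
        simpa [commutatorElement_def, mul_assoc] using this⟩)
      rw [Subgroup.commutator_le]
      intro v hv k hk
      have := (hHC hk).2 v⁻¹ (V.inv_mem hv)
      simpa [commutatorElement_def, mul_assoc] using this
    · have hit : ∀ n, V ≤ W' ⊔ Cfsg.iterCommutator V O n := by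
        intro n
        induction n with
        | zero => exact le_sup_right
        | succ n ih =>
          have hIV : ∀ n, Cfsg.iterCommutator V O n ≤ V := by
            intro n
            induction n with
            | zero => exact le_rfl
            | succ n ihn => exact (Subgroup.commutator_mono ihn le_rfl).trans (commutator_le_left_of_nz hOV)
          refine he.ge.trans ?_
          refine sup_le le_sup_left (Subgroup.commutator_le.2 fun v hv o ho => ?_)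
          obtain ⟨w, hw, i, hi, rfl⟩ := (mem_sup_iff_of_nz' (A := W') (B := Cfsg.iterCommutator V O n)
            (((hIV n).trans hVU).trans (hUH.trans hWn))).1 (ih hv)
          rw [show ⁅w * i, o⁆ = w * ⁅i, o⁆ * (o * w⁻¹ * o⁻¹) by simp [commutatorElement_def, mul_assoc]]
          exact Subgroup.mul_mem _ (Subgroup.mul_mem_sup hw (Subgroup.commutator_mem_commutator hi ho))
            (Subgroup.mem_sup_left (conj_mem_of_nz (hWn (hOH ho)) (W'.inv_mem hw)))
      obtain ⟨n, hn⟩ := exists_iter_eq_bot (N := V) (A := O) (hUp.to_sup_of_normal_left' hOp (hOH.trans hHU))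
        (hVU.trans le_sup_left) le_sup_right
      have := hit n
      rw [hn, sup_bot_eq] at this
      exact hlt.not_ge this
  · rw [conjClosure_map_subtype _ _ (inf_le_right.trans hYL)]
    refine conjClosure_le ?_ hLU
    rintro y ⟨hyA, hyY⟩
    set E := U0 ⊔ cj g⁻¹ B
    have hg' := L.inv_mem hg
    have hgen'' := hgen' hg hgen
    have hEH := hEn g⁻¹ hg' hgen''
    have hBU' : cj g⁻¹ B ≤ U := (hcjB hg').le.trans inf_le_right
    set Z0 := U ⊓ Subgroup.centralizer (H : Set G)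
    have hAY : A ≤ Subgroup.normalizer (Y : Set G) := by
      have hp' : IsPGroup p (A ⊔ Y : Subgroup G) :=
        (isPGroup_pCoreOf L).to_sup_of_normal_left' hYp (hYL.trans (le_nz_pCoreOf L))
      refine le_sup_left.trans (hXN le_sup_right (sup_le (pCoreOf_le L) hYL) fun e => hnYA ?_)
      exact (le_sup_right.trans e.le).trans (hnp le_rfl Subgroup.le_normalizer (e ▸ hp'))
    have hyE : ∀ e ∈ E, e⁻¹ * (y * e * y⁻¹) ∈ Z0 := by
      intro e he
      obtain ⟨u, hu, b, hb, rfl⟩ := (mem_sup_iff_of_nz' (hBU'.trans hUU0)).1 he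
      rw [show (u * b)⁻¹ * (y * (u * b) * y⁻¹) = b⁻¹ * (u⁻¹ * (y * u * y⁻¹)) * (y * b * y⁻¹) by group,
        (hOY' hu.2 hyY).eq, mul_inv_cancel_right, inv_mul_cancel, mul_one]
      set z := b⁻¹ * (y * b * y⁻¹)
      have hbY : b ∈ cj g⁻¹ Y := ((hcjB hg').le hb).1
      have hzB : z ∈ B := (hmv1 y hyY b (hBU' hb)).1
      have hzY' : z ∈ cj g⁻¹ Y := by
        refine Subgroup.mul_mem _ (Subgroup.inv_mem _ hbY) ?_
        rw [mem_cj] at hbY ⊢
        have h1 : g⁻¹⁻¹ * y * g⁻¹ ∈ A := by simpa using conj_mem_of_nz (le_nz_pCoreOf L hg) hyA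
        simpa [mul_assoc] using conj_mem_of_nz (hAY h1) hbY
      have hzL := hcentL hgen'' (fun a ha => comm_of_isMulCommutative hYea.1 ha hzB.1)
        (fun a ha => hcomm_cj ha hzY')
      refine ⟨hzB.2, Subgroup.mem_centralizer_iff.2 fun k hk => ?_⟩
      have hle : H ≤ Subgroup.centralizer {z} := hsupH ▸ sup_le
        (fun l hl => Subgroup.mem_centralizer_singleton_iff.2 (hzL l hl).eq)
        (fun o ho => Subgroup.mem_centralizer_singleton_iff.2 (hOY' ho hzB.1).symm.eq)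
      exact Subgroup.mem_centralizer_singleton_iff.1 (hle hk)
    have hZn : H ≤ Subgroup.normalizer (Z0 : Set G) := le_nz_inf hHU (le_nz_centralizer Subgroup.le_normalizer)
    set K := stab H U E hEH hHU ⊓ stab H E Z0 hZn hEH
    have hKp : IsPGroup p K := isPGroup_stab hUp hHc (V := E) (W := Z0) (sup_le inf_le_left hBU')
      (fun k hk => hk.1.1) (fun k hk => hHU hk.1.1) (fun k hk => hEH hk.1.1)
      (fun k hk => hk.1.2) (fun k hk => hk.2.2)
      (fun k hk w hw => Subgroup.mem_centralizer_iff.1 hw.2 k hk.1.1)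
    have hKn : H ≤ Subgroup.normalizer (K : Set G) := le_nz_iff.2 fun k hk x hx =>
      ⟨stab_conj hEH hHU (Subgroup.le_normalizer hk) (hHU hk) (hEH hk) hx.1,
        stab_conj hZn hEH (Subgroup.le_normalizer hk) (hEH hk) (hZn hk) hx.2⟩
    refine le_pCoreOf (N := K) (H := H) (fun x hx => hx.1.1) hKn hKp ⟨⟨?_, fun u hu => ?_⟩, ⟨?_, hyE⟩⟩
    · exact hLH (hYL hyY)
    · exact Subgroup.mem_sup_left (hBO (hmv1 y hyY u hu).1)
    · exact hLH (hYL hyY)

end Cfsg.Agent.S2862
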