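import Mathlib
import Cfsg.Statements.S2863
import Cfsg.Agent.Lib.LocalChar.FrakLModels
import Cfsg.Agent.Lib.LocalChar.PReduced
import Cfsg.Agent.Lib.Suz.Bridge

set_option autoImplicit false

open scoped commutatorElement Pointwise

open Cfsg.Agent.Lib.LocalChar

namespace Cfsg.Agent.S2863

open Cfsg.Agent.Lib.LocalChar

/-- Standing hypotheses: G a finite group, S a Sylow p-subgroup, Q a nontrivial large p-subgroup of G contained in S, M a subgroup containing S with the basic property (M ∈ 𝔐_G(S)); Y_M the largest p-reduced normal subgroup of M and M† = M·C_G(Y_M). Let L ∈ 𝔏_G(Y_M) (L ∈ 𝔏_G(Y_M): Y_M ≤ L; O_p(L) is the normal closure in L of Y_M ∩ O_p(L) and normalizes Y_M; L is Y_M-minimal of characteristic p with N_L(Y_M) its unique maximal subgroup over Y_M; and L/O_p(L) ≅ SL₂(q) with q = |Y_M : Y_M ∩ O_p(L)|, or p = 2 and L/O_p(L) is a Suzuki group Sz(q) or dihedral of order 2r, r an odd prime), A = O_p(L), and C = C_{Y_M}(L).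 Then every element h of L whose order is not a power of p acts without nontrivial fixed points on A/C: for a ∈ A, hah⁻¹a⁻¹ ∈ C implies a ∈ C. -/
theorem result {G : Type*} [Group G] [Finite G] {p : ℕ} [Fact p.Prime] (S : Sylow p G) (Q : Subgroup G) (hQp : IsPGroup p ↥Q) (hQ1 : Q ≠ ⊥) (hQS : Q ≤ (S : Subgroup G)) (hQ : Cfsg.IsLarge Q) (M : Subgroup G) (hSM : (S : Subgroup G) ≤ M) (hM : Cfsg.IsInFrakM p M) (L : Subgroup G) (hL : Cfsg.IsInFrakL p M L) (h : G) (hh : h ∈ L) (hnp : ¬ ∃ k : ℕ, orderOf h = p ^ k) : ∀ a ∈ (Cfsg.pCoreOf p L), h * a * h⁻¹ * a⁻¹ ∈ (Cfsg.largestPReducedOf p M) ⊓ Subgroup.centralizer ((L : Subgroup G) : Set G) → a ∈ (Cfsg.largestPReducedOf p M) ⊓ Subgroup.centralizer ((L : Subgroup G) : Set G) := by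
  obtain ⟨hYL, hA, hAN, ⟨hclo, -⟩, -, ⟨hlt, hmax⟩, hcase⟩ := hL
  set Y := Cfsg.largestPReducedOf p M
  set Y' := Y.subgroupOf L with hY'
  have hAn : (Cfsg.pCore p ↥L).Normal := Cfsg.Agent.Lib.LocalChar.pCore_normal
  have hea : Cfsg.IsElementaryAbelian p Y := (isPRedOf_YL (p := p) M).ea
  have hAA : Cfsg.pCore p ↥L = Subgroup.normalClosure
      (((Y ⊓ Cfsg.pCoreOf p L).subgroupOf L : Subgroup ↥L) : Set ↥L) :=
    Subgroup.map_injective Subtype.coe_injective hA
  have hnzY : ∀ g : ↥L, g ∈ Subgroup.normalizer (Y' : Set ↥L) ↔ (g : G) ∈ Subgroup.normalizer (Y : Set G) := by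
    intro g
    rw [mem_nz, mem_nz]
    constructor
    · intro hg x
      constructor
      · intro hx; exact (hg ⟨x, hYL hx⟩).1 hx
      · intro hx
        have hxL : x ∈ L := by
          simpa [mul_assoc] using L.mul_mem (L.mul_mem (L.inv_mem g.2) (hYL hx)) g.2
        exact (hg ⟨x, hxL⟩).2 hx
    · intro hg x; exact hg x
  have c : FLCtx p Y' := by
    refine ⟨fun a ha b hb => ?_, fun y hy => Subtype.ext (by simpa using hea.2 _ hy), fun N hN hYN => ?_,
      fun N hN hYN => ?_, fun a ha => (hnzY a).2 (hAN ⟨a, ha, rfl⟩), fun htop => ?_, fun X hX hXt => ?_⟩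
    · exact Subtype.ext (comm_of_isMulCommutative hea.1 ha hb)
    · exact top_le_iff.1 (hclo.ge.trans (Subgroup.normalClosure_le_normal hYN))
    · rw [hAA]
      refine Subgroup.normalClosure_le_normal fun x hx => hYN ⟨hx.1, ?_⟩
      rw [← pCoreOf_subgroupOf]; exact hx.2
    · refine hlt.ne (le_antisymm inf_le_left fun g hg => ⟨hg, (hnzY ⟨g, hg⟩).1 ?_⟩)
      rw [htop]; exact Subgroup.mem_top _
    · intro g hg
      have h1 : X.map L.subtype < L := by
        refine lt_of_le_of_ne (Subgroup.map_subtype_le _) fun h => hXt ?_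
        rw [← Subgroup.map_subtype_inj, h, ← MonoidHom.range_eq_map, Subgroup.range_subtype]
      exact (hnzY g).2 (hmax (X.map L.subtype) (fun y hy => ⟨⟨y, hYL hy⟩, hX hy, rfl⟩) h1 ⟨g, hg, rfl⟩).2
  have hrel : (Y ⊓ Cfsg.pCoreOf p L).relIndex Y = (Cfsg.pCore p ↥L).relIndex Y' := by
    rw [Subgroup.inf_relIndex_left, ← pCoreOf_subgroupOf (p := p) L, hY', Subgroup.relIndex_subgroupOf hYL]
  have finish : ∀ {K : Type} [Group K] (π : ↥L →* K), Function.Surjective π →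
      π.ker = Cfsg.pCore p ↥L → FLSmall p (Y'.map π) → FLReal p K →
      ∀ a ∈ Cfsg.pCoreOf p L, h * a * h⁻¹ * a⁻¹ ∈ Y ⊓ Subgroup.centralizer (L : Set G) →
        a ∈ Y ⊓ Subgroup.centralizer (L : Set G) := by
    intro K _ π hπ hker hQ' hR a ha hfix
    obtain ⟨a, ha, rfl⟩ := ha
    haveI : (flZ Y').Normal := flZ_normal
    have hiff : ∀ x : ↥L, x ∈ flZ Y' ↔ (x : G) ∈ Y ⊓ Subgroup.centralizer (L : Set G) := fun x => by
      constructor
      · rintro ⟨h1, h2⟩
        exact ⟨h1, Subgroup.mem_centralizer_iff.2 fun g hg =>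
          congrArg Subtype.val (Subgroup.mem_center_iff.1 h2 ⟨g, hg⟩)⟩
      · rintro ⟨h1, h2⟩
        exact ⟨h1, Subgroup.mem_center_iff.2 fun g => Subtype.ext (Subgroup.mem_centralizer_iff.1 h2 g g.2)⟩
    refine (hiff a).1 (c.fixed_point_free hπ hker hQ' hR (h := ⟨h, hh⟩) (fun hk => hnp ?_) ha
      ((hiff _).2 (by simpa [commutatorElement_def] using hfix)))
    simpa [Subgroup.orderOf_mk] using hk
  have hker : ∀ {K : Type} [Group K] (e : ↥L ⧸ Cfsg.pCore p ↥L ≃* K),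
      (e.toMonoidHom.comp (QuotientGroup.mk' (Cfsg.pCore p ↥L))).ker = Cfsg.pCore p ↥L := by
    intro K _ e
    ext x
    simp [MonoidHom.mem_ker]
  have hsurj : ∀ {K : Type} [Group K] (e : ↥L ⧸ Cfsg.pCore p ↥L ≃* K),
      Function.Surjective (e.toMonoidHom.comp (QuotientGroup.mk' (Cfsg.pCore p ↥L))) :=
    fun e => e.surjective.comp (QuotientGroup.mk'_surjective _)
  have hcard : ∀ {K : Type} [Group K] (π : ↥L →* K), π.ker = Cfsg.pCore p ↥L →
      Nat.card (Y'.map π) = (Y ⊓ Cfsg.pCoreOf p L).relIndex Y := by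
    intro K _ π hk
    rw [hrel, ← hk, Subgroup.relIndex_ker]
  have hpg : ∀ {K : Type} [Group K] [Finite K] (π : ↥L →* K), π.ker = Cfsg.pCore p ↥L →
      ∃ n, Nat.card (Y'.map π) = p ^ n ∧ n ≠ 0 := by
    intro K _ _ π hk
    obtain ⟨n, hn⟩ := IsPGroup.iff_card.1 (c.isPGroup.map π)
    refine ⟨n, hn, fun h0 => c.not_le_core ?_⟩
    rw [h0, pow_zero, Subgroup.card_eq_one, Subgroup.map_eq_bot_iff, hk] at hn
    exact hn
  rcases hcase with ⟨F, _, _, hq, ⟨e⟩⟩ | ⟨rfl, F, _, _, m, hFm, hq, ⟨e⟩⟩ | ⟨rfl, r, hr, hr2, ⟨e⟩⟩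
  · have hc := hcard _ (hker e)
    obtain ⟨n, hn, hn0⟩ := hpg _ (hker e)
    have hqn : Fintype.card F = p ^ n := by rw [hq, ← hc, hn]
    haveI : CharP F p := charP_of_card_eq_prime_pow hqn
    exact finish _ (hsurj e) (hker e) (sl2_small n hqn hn0 _ (by rw [hc, hq])) sl2_real
  · have hc := hcard _ (hker e)
    haveI := finite_of_surj (hsurj e)
    rcases Nat.eq_zero_or_pos m with rfl | hm
    · obtain ⟨h1, h2⟩ := c.props_of_two (hsurj e) (hker e) (by rw [hc, ← hq, hFm]; norm_num)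
      exact finish _ (hsurj e) (hker e) h1 h2
    · have cc : Cfsg.Agent.Lib.Suz.Ctx F m := ⟨hm, hFm⟩
      haveI := Cfsg.Agent.Lib.Suz.charP_two cc
      let e' := e.trans (Cfsg.Agent.Lib.Suz.lieEquiv cc).symm
      have hc' := hcard _ (hker e')
      exact finish _ (hsurj e') (hker e') (sz_small cc _ (by rw [hc', hq])) (sz_real cc)
  · haveI : NeZero r := ⟨hr.ne_zero⟩
    obtain ⟨n, hn, hn0⟩ := hpg _ (hker e)
    have hd : 2 ^ n ∣ 2 * r := by
      rw [← hn, ← DihedralGroup.nat_card]; exact Subgroup.card_subgroup_dvd_card _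
    have hn1 : n = 1 := by
      by_contra hne
      have h4 : 2 * 2 ∣ 2 * r := (show 2 ^ 2 ∣ 2 ^ n from pow_dvd_pow 2 (by omega)).trans hd
      exact hr2 ((Nat.prime_dvd_prime_iff_eq Nat.prime_two hr).1 ((Nat.mul_dvd_mul_iff_left (by norm_num)).1 h4)).symm
    obtain ⟨h1, h2⟩ := c.props_of_two (hsurj e) (hker e) (by rw [hn, hn1]; norm_num)
    exact finish _ (hsurj e) (hker e) h1 h2

end Cfsg.Agent.S2863
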