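import Mathlib
import Cfsg.Statements.S2864
import Cfsg.Agent.Lib.LocalChar.FrakM
import Cfsg.Agent.Lib.LocalChar.Subnormal
import Cfsg.Agent.Lib.PGroupFrattini
import Cfsg.Agent.Lib.Coprime.Action

set_option autoImplicit false

open scoped commutatorElement Pointwise

open Cfsg.Agent.Lib.LocalChar

namespace Cfsg.Agent.S2864

/-- Standing hypotheses: G a finite group, S a Sylow p-subgroup, Q a nontrivial large p-subgroup of G contained in S, M a subgroup containing S with the basic property (M ∈ 𝔐_G(S)); Y_M the largest p-reduced normal subgroup of M and M† = M·C_G(Y_M). Let I be a nontrivial normal p-subgroup of M and Y ≤ O_p(M†); let L be a subgroup of G containing Y and A a normal p-subgroup of L with I ≤ A ≤ M. If [Y, A] ≤ [I, A], then Y ≤ O_p(L). -/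
theorem result {G : Type*} [Group G] [Finite G] {p : ℕ} [Fact p.Prime] (S : Sylow p G) (Q : Subgroup G) (hQp : IsPGroup p ↥Q) (hQ1 : Q ≠ ⊥) (hQS : Q ≤ (S : Subgroup G)) (hQ : Cfsg.IsLarge Q) (M : Subgroup G) (hSM : (S : Subgroup G) ≤ M) (hM : Cfsg.IsInFrakM p M) (I : Subgroup G) (hI1 : I ≠ ⊥) (hIp : IsPGroup p ↥I) (hIM : I ≤ M ∧ M ≤ Subgroup.normalizer ((I : Subgroup G) : Set G)) (Y : Subgroup G) (hY : Y ≤ (Cfsg.pCoreOf p (M ⊔ Subgroup.centralizer (((Cfsg.largestPReducedOf p M) : Subgroup G) : Set G)))) (L : Subgroup G) (hYL : Y ≤ L) (A : Subgroup G) (hAp : IsPGroup p ↥A) (hAL : A ≤ L ∧ L ≤ Subgroup.normalizer ((A : Subgroup G) : Set G)) (hIA : I ≤ A) (hAM : A ≤ M) (hc : ⁅Y, A⁆ ≤ ⁅I, A⁆) : Y ≤ (Cfsg.pCoreOf p L) := by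
  obtain ⟨hAL, hLA⟩ := hAL
  set D := dag p M
  set A' := ⁅A, A⁆
  have hA'n : L ≤ Subgroup.normalizer (A' : Set G) := le_nz_commutator hLA hLA
  let K : Subgroup G :=
    { carrier := {x | x ∈ L ∧ ∀ a ∈ A, ⁅x, a⁆ ∈ A'}
      one_mem' := ⟨L.one_mem, fun a _ => by simp⟩
      mul_mem' := by
        rintro a b ⟨ha, ha'⟩ ⟨hb, hb'⟩
        refine ⟨L.mul_mem ha hb, fun u hu => ?_⟩
        rw [show ⁅a * b, u⁆ = (a * ⁅b, u⁆ * a⁻¹) * ⁅a, u⁆ by simp [commutatorElement_def, mul_assoc]]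
        exact A'.mul_mem (conj_mem_of_nz (hA'n ha) (hb' u hu)) (ha' u hu)
      inv_mem' := by
        rintro a ⟨ha, ha'⟩
        refine ⟨L.inv_mem ha, fun u hu => ?_⟩
        rw [show ⁅a⁻¹, u⁆ = a⁻¹ * ⁅a, u⁆⁻¹ * a⁻¹⁻¹ by simp [commutatorElement_def, mul_assoc]]
        exact conj_mem_of_nz (Subgroup.inv_mem _ (hA'n ha)) (A'.inv_mem (ha' u hu)) }
  have hKL : K ≤ L := fun x hx => hx.1
  have hKn : L ≤ Subgroup.normalizer (K : Set G) := le_nz_iff.2 fun l hl k hk => by
    refine ⟨L.mul_mem (L.mul_mem hl hk.1) (L.inv_mem hl), fun a ha => ?_⟩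
    have ha' : l⁻¹ * a * l ∈ A := by simpa using conj_mem_of_nz (hLA (L.inv_mem hl)) ha
    rw [show ⁅l * k * l⁻¹, a⁆ = l * ⁅k, l⁻¹ * a * l⁆ * l⁻¹ by simp [commutatorElement_def, mul_assoc]]
    exact conj_mem_of_nz (hA'n hl) (hk.2 _ ha')
  have hYK : Y ≤ K := fun y hy => ⟨hYL hy, fun a ha =>
    Subgroup.commutator_mono hIA le_rfl (hc (Subgroup.commutator_mem_commutator hy ha))⟩
  -- `p'`-elements of `K` centralise `A`
  have hres : ∀ x ∈ K, (orderOf x).Coprime p → x ∈ Subgroup.centralizer (A : Set G) := by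
    intro x hx ho
    have hA'F : A' ≤ (frattini A).map A.subtype := by
      rw [show A' = (⁅(⊤ : Subgroup A), (⊤ : Subgroup A)⁆ : Subgroup A).map A.subtype by
        rw [Subgroup.map_commutator, ← MonoidHom.range_eq_map, Subgroup.range_subtype]]
      exact Subgroup.map_mono (Cfsg.Agent.Lib.PGroupFrattini.commutator_le_frattini hAp)
    refine Cfsg.Agent.Lib.Coprime.le_centralizer_of_frattini
      (Subgroup.zpowers_le.2 (hLA hx.1)) ?_ ?_ (Subgroup.mem_zpowers x)
    · obtain ⟨k, hk⟩ := (hAp.to_subgroup (frattini A)).exists_card_eq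
      rw [Nat.card_zpowers, hk]
      exact ho.pow_right k
    · intro c hc k hk
      have := (Subgroup.zpowers_le.2 hx hc).2 k hk
      rw [commutatorElement_def] at this
      exact hA'F this
  have hID : Subgroup.centralizer (A : Set G) ≤ D :=
    ((Subgroup.centralizer_le hIA).trans (Subgroup.centralizer_le_normalizer _)).trans
      (frakM_nz_le hQp hQ1 hQ hSM hM hIp hI1 hIM.2)
  set C := L ⊓ Subgroup.centralizer (A : Set G)
  set Z := Y ⊔ C
  have hZD : Z ≤ D := sup_le (hY.trans (pCoreOf_le D)) (inf_le_right.trans hID)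
  have hYZ : Y ≤ Cfsg.pCoreOf p Z := by
    refine le_trans (le_inf hY (le_sup_left : Y ≤ Z)) (le_pCoreOf inf_le_right
      (le_nz_inf (hZD.trans (le_nz_pCoreOf D)) Subgroup.le_normalizer) ((isPGroup_pCoreOf D).to_le inf_le_left))
  have hCK : C ≤ K := fun c hc => ⟨hc.1, fun a ha => by
    rw [commutatorElement_eq_one_iff_mul_comm.2 (Subgroup.mem_centralizer_iff.1 hc.2 a ha).symm]
    exact A'.one_mem⟩
  have hZK : Z ≤ K := sup_le hYK hCK
  -- `Z` is subnormal in `L`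
  set Z' := Z.subgroupOf L
  have hsub : Z'.IsSubnormal := by
    have h1 : ((Z.subgroupOf K)).IsSubnormal := isSubnormal_of_pResidual_le (p := p) (by
      rw [Cfsg.pResidual, Subgroup.closure_le]
      intro x hx
      have ho : (orderOf (x : G)).Coprime p := by rw [Subgroup.orderOf_coe]; exact hx
      exact Subgroup.mem_subgroupOf.2 (Subgroup.mem_sup_right ⟨x.2.1, hres x x.2 ho⟩))
    refine Subgroup.IsSubnormal.trans (fun x hx => hZK hx : Z' ≤ K.subgroupOf L) ?_
      (normal_subgroupOf hKn).isSubnormal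
    have := h1.map (Subgroup.subgroupOfEquivOfLe hKL).symm.surjective
      (f := (Subgroup.subgroupOfEquivOfLe hKL).symm.toMonoidHom)
    convert this using 1
    ext x
    constructor
    · intro hx
      exact ⟨⟨(x : L), x.2⟩, hx, rfl⟩
    · rintro ⟨y, hy, rfl⟩
      exact hy
  refine hYZ.trans ?_
  have h2 := pCoreOf_le_of_subnormal (p := p) hsub
  intro x hx
  refine ⟨⟨x, hKL (hZK (pCoreOf_le Z hx))⟩, h2 ?_, rfl⟩
  refine le_pCoreOf (p := p) (N := (Cfsg.pCoreOf p Z).subgroupOf L) (H := Z') ?_ ?_ ?_ hx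
  · exact fun y hy => pCoreOf_le Z hy
  · exact le_nz_iff.2 fun k hk y hy => conj_mem_of_nz (H := Cfsg.pCoreOf p Z) (g := (k : G)) (h := (y : G)) (le_nz_pCoreOf Z hk) hy
  · exact isPGroup_subgroupOf (isPGroup_pCoreOf Z)

end Cfsg.Agent.S2864
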