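import Mathlib
import Cfsg.Statements.S2872
import Cfsg.Agent.Lib.LocalChar.CentralTransfer
import Cfsg.Agent.Lib.Transfer.Hall

set_option autoImplicit false

open scoped commutatorElement Pointwise

open Cfsg.Agent.Lib.LocalChar

namespace Cfsg.Agent.S2872

/-- Let S be a Sylow 2-subgroup of the finite group G. Then G has a proper normal subgroup of 2-power index (O²(G) ≠ G), or Ω₁(Z(S)) is contained in the Frattini subgroup of S, or N_G(S) acts nontrivially on Ω₁(Z(S)) by conjugation. -/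
theorem result {G : Type*} [Group G] [Finite G] (S : Sylow 2 G) : Cfsg.pResidual 2 G ≠ ⊤ ∨ Cfsg.omegaOne 2 ((S : Subgroup G) ⊓ Subgroup.centralizer ((S : Subgroup G) : Set G)) ≤ (frattini ↥(S : Subgroup G)).map (S : Subgroup G).subtype ∨ ∃ g ∈ Subgroup.normalizer ((S : Subgroup G) : Set G), ∃ z ∈ Cfsg.omegaOne 2 ((S : Subgroup G) ⊓ Subgroup.centralizer ((S : Subgroup G) : Set G)), g * z * g⁻¹ ≠ z := by
  by_contra hcon
  push Not at hcon
  obtain ⟨hres, hle, hN⟩ := hcon
  simp only [Cfsg.omegaOne, Subgroup.closure_le, Set.not_subset] at hle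
  obtain ⟨z, ⟨⟨hzS, hzc⟩, hz2⟩, hzΦ⟩ := hle
  have : ∃ M : Subgroup (S : Subgroup G), IsCoatom M ∧ (⟨z, hzS⟩ : (S : Subgroup G)) ∉ M := by
    by_contra! h
    exact hzΦ ⟨⟨z, hzS⟩, by
      simp only [frattini, Order.radical, SetLike.mem_coe, Subgroup.mem_iInf]
      exact fun M hM => h M hM, rfl⟩
  obtain ⟨M, hM, hzM⟩ := this
  have hp : IsPGroup 2 (S : Subgroup G) := S.isPGroup'
  haveI := Cfsg.Agent.Lib.Transfer.normal_of_isCoatom_pGroup hp hM
  have hcard : Nat.card ((S : Subgroup G) ⧸ M) = 2 := by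
    rw [← Subgroup.index_eq_card, Cfsg.Agent.Lib.Transfer.index_of_isCoatom_pGroup hp hM]
  letI : CommGroup ((S : Subgroup G) ⧸ M) :=
    { (inferInstance : Group ((S : Subgroup G) ⧸ M)) with
      mul_comm := (haveI := isCyclic_of_prime_card hcard; IsCyclic.isMulCommutative (α := (S : Subgroup G) ⧸ M)).is_comm.comm }
  have hz2' : z * z = 1 := by rwa [← sq]
  have hzΩ : z ∈ Cfsg.omegaOne 2 ((S : Subgroup G) ⊓ Subgroup.centralizer ((S : Subgroup G) : Set G)) :=
    Subgroup.subset_closure ⟨⟨hzS, hzc⟩, hz2⟩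
  have hne := transfer_central_involution_ne_one hcard S (QuotientGroup.mk' M) hzS hz2'
    (fun s hs => (Subgroup.mem_centralizer_iff.1 hzc s hs).symm) (fun n hn => hN n hn z hzΩ)
    (fun h => hzM ((QuotientGroup.eq_one_iff _).1 h))
  set f := MonoidHom.transfer (QuotientGroup.mk' M : (S : Subgroup G) →* _)
  have hker : Cfsg.pResidual 2 G ≤ f.ker := by
    rw [Cfsg.pResidual, Subgroup.closure_le]
    intro g hg
    rw [SetLike.mem_coe, MonoidHom.mem_ker, ← orderOf_eq_one_iff]
    refine Nat.eq_one_of_dvd_coprimes hg (orderOf_map_dvd f g) ?_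
    exact (orderOf_dvd_natCard _).trans hcard.dvd
  rw [hres] at hker
  exact hne (hker (Subgroup.mem_top z))

end Cfsg.Agent.S2872
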