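import Mathlib
import Cfsg.Statements.S2873
import Cfsg.Agent.Lib.LocalChar.Core

set_option autoImplicit false

open scoped commutatorElement Pointwise

open Cfsg.Agent.Lib.LocalChar

namespace Cfsg.Agent.S2873

theorem dihedral_inv {r : ℕ} [Fact r.Prime] (hr : r ≠ 2) {u v : DihedralGroup r} (hu : orderOf u = r)
    (hv : orderOf v = 2) : v * u * v⁻¹ = u⁻¹ := by
  rcases u with i | i
  · rcases v with j | j
    · exfalso
      have h := hv
      have hd : orderOf (DihedralGroup.r j) ∣ r := orderOf_dvd_of_pow_eq_one (by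
        rw [DihedralGroup.r_pow, ZMod.natCast_self, mul_zero]; rfl)
      rw [h] at hd
      exact hr ((Nat.prime_dvd_prime_iff_eq Nat.prime_two Fact.out).1 hd).symm
    · simp
  · rw [DihedralGroup.orderOf_sr] at hu
    exact absurd hu.symm hr

theorem card_conj_pairs {G : Type*} [Group G] [Finite G] (Q : Subgroup G) [Q.Normal] (a a' ρ : G)
    (hρ : ρ = a * a')
    (hinj : ∀ q ∈ Q, q * ρ = ρ * q → q = 1)
    (huniq : ∀ b : G, b⁻¹ * a ∈ Q → b * b = 1 → b * ρ * b⁻¹ = ρ⁻¹ → b = a)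
    (ha : a * a = 1) (ha' : a' * a' = 1) :
    (∀ b : G, b⁻¹ * a ∈ Q → b * b = 1 → ∃ q ∈ Q, q * a * q⁻¹ = b) ∧
    Nat.card ↥(Q ⊓ Subgroup.centralizer ({a} : Set G)) * Nat.card ↥(Q ⊓ Subgroup.centralizer ({a'} : Set G)) =
      Nat.card ↥Q := by
  classical
  have hsurj : ∀ y : G, ρ⁻¹ * y ∈ Q → ∃ q ∈ Q, q * ρ * q⁻¹ = y := by
    intro y hy
    let f : ↥Q → ↥Q := fun q => ⟨ρ⁻¹ * ((q : G) * ρ * (q : G)⁻¹), by
      have := Q.mul_mem ((‹Q.Normal›).conj_mem _ q.2 ρ⁻¹) (Q.inv_mem q.2)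
      simpa [mul_assoc] using this⟩
    have hf : Function.Injective f := by
      intro q s h
      have h1 : (q : G) * ρ * (q : G)⁻¹ = s * ρ * (s : G)⁻¹ := mul_left_cancel (congrArg Subtype.val h)
      have h2 := hinj ((s : G)⁻¹ * q) (Q.mul_mem (Q.inv_mem s.2) q.2) (by
        calc (s : G)⁻¹ * q * ρ = (s : G)⁻¹ * ((q : G) * ρ * (q : G)⁻¹) * q := by group
          _ = (s : G)⁻¹ * ((s : G) * ρ * (s : G)⁻¹) * q := by rw [h1]
          _ = ρ * ((s : G)⁻¹ * q) := by group)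
      exact Subtype.ext (inv_mul_eq_one.1 h2).symm
    obtain ⟨q, hq⟩ := (Finite.injective_iff_surjective.1 hf) ⟨_, hy⟩
    exact ⟨q, q.2, mul_left_cancel (congrArg Subtype.val hq)⟩
  have key : ∀ b b' : G, b⁻¹ * a ∈ Q → b'⁻¹ * a' ∈ Q → b * b = 1 → b' * b' = 1 →
      ∃ q ∈ Q, q * a * q⁻¹ = b ∧ q * a' * q⁻¹ = b' := by
    intro b b' hb hb' hbb hbb'
    obtain ⟨q, hq, hqe⟩ := hsurj (b * b') (by
      rw [hρ]
      have h1 : a⁻¹ * b ∈ Q := by simpa using Q.inv_mem hb
      have h2 : a'⁻¹ * b' ∈ Q := by simpa using Q.inv_mem hb'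
      have h3 := Q.mul_mem ((‹Q.Normal›).conj_mem _ h1 a'⁻¹) h2
      simpa [mul_assoc] using h3)
    have hbi : b⁻¹ = b := inv_eq_of_mul_eq_one_right hbb
    have hbi' : b'⁻¹ = b' := inv_eq_of_mul_eq_one_right hbb'
    have h := huniq (q⁻¹ * b * q) (by
        have h1 : (q⁻¹ * b * q)⁻¹ * a = q⁻¹ * (b⁻¹ * q * b) * (b⁻¹ * a) := by group
        rw [h1]
        exact Q.mul_mem (Q.mul_mem (Q.inv_mem hq) (by simpa using (‹Q.Normal›).conj_mem _ hq b⁻¹)) hb)
      (by rw [show q⁻¹ * b * q * (q⁻¹ * b * q) = q⁻¹ * (b * b) * q by group, hbb]; group)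
      (by
        have hρe : ρ = q⁻¹ * (b * b') * q := by rw [← hqe]; group
        rw [hρe, show q⁻¹ * b * q * (q⁻¹ * (b * b') * q) * (q⁻¹ * b * q)⁻¹ = q⁻¹ * (b * b) * (b' * b⁻¹) * q by group,
          hbb, show (q⁻¹ * (b * b') * q)⁻¹ = q⁻¹ * (b'⁻¹ * b⁻¹) * q by group, hbi']
        group)
    have hab : q * a * q⁻¹ = b := by rw [← h]; group
    refine ⟨q, hq, hab, ?_⟩
    have h2 : q * a * q⁻¹ * (q * a' * q⁻¹) = b * b' := by rw [← hqe, hρ]; group
    rw [hab] at h2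
    exact mul_left_cancel h2
  constructor
  · intro b hb hbb
    obtain ⟨q, hq, h, -⟩ := key b a' hb (by simp) hbb ha'
    exact ⟨q, hq, h⟩
  · set Ca := (Q ⊓ Subgroup.centralizer ({a} : Set G)).subgroupOf Q with hCa
    set Cb := (Q ⊓ Subgroup.centralizer ({a'} : Set G)).subgroupOf Q with hCb
    have hmem : ∀ (c : G) (x : ↥Q), x ∈ (Q ⊓ Subgroup.centralizer ({c} : Set G)).subgroupOf Q ↔
        (x : G) * c = c * x := by
      intro c x
      simp [Subgroup.mem_subgroupOf, Subgroup.mem_centralizer_iff, eq_comm, x.2]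
    have hcj : ∀ (c : G) (q s : ↥Q), (QuotientGroup.mk q : ↥Q ⧸ (Q ⊓ Subgroup.centralizer ({c} : Set G)).subgroupOf Q) =
        QuotientGroup.mk s ↔ (q : G) * c * (q : G)⁻¹ = s * c * (s : G)⁻¹ := by
      intro c q s
      rw [QuotientGroup.eq, hmem]
      push_cast
      constructor <;> intro h
      · calc (q : G) * c * (q : G)⁻¹ = q * (c * ((q : G)⁻¹ * s)) * (s : G)⁻¹ := by group
          _ = q * ((q : G)⁻¹ * s * c) * (s : G)⁻¹ := by rw [h]
          _ = _ := by group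
      · calc (q : G)⁻¹ * s * c = (q : G)⁻¹ * (s * c * (s : G)⁻¹) * s := by group
          _ = (q : G)⁻¹ * (q * c * (q : G)⁻¹) * s := by rw [h]
          _ = _ := by group
    let F : ↥Q → (↥Q ⧸ Ca) × (↥Q ⧸ Cb) := fun q => (QuotientGroup.mk q, QuotientGroup.mk q)
    have hF : Function.Bijective F := by
      constructor
      · intro q s h
        have h1 := (hcj a q s).1 (congrArg Prod.fst h)
        have h2 := (hcj a' q s).1 (congrArg Prod.snd h)
        have h3 : (q : G) * ρ * (q : G)⁻¹ = s * ρ * (s : G)⁻¹ := by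
          rw [hρ, show (q : G) * (a * a') * (q : G)⁻¹ = q * a * (q : G)⁻¹ * (q * a' * (q : G)⁻¹) by group, h1, h2]
          group
        have h4 := hinj ((s : G)⁻¹ * q) (Q.mul_mem (Q.inv_mem s.2) q.2) (by
          calc (s : G)⁻¹ * q * ρ = (s : G)⁻¹ * ((q : G) * ρ * (q : G)⁻¹) * q := by group
            _ = (s : G)⁻¹ * ((s : G) * ρ * (s : G)⁻¹) * q := by rw [h3]
            _ = ρ * ((s : G)⁻¹ * q) := by group)
        exact Subtype.ext (inv_mul_eq_one.1 h4).symm
      · rintro ⟨u, v⟩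
        obtain ⟨q1, rfl⟩ := QuotientGroup.mk_surjective u
        obtain ⟨q2, rfl⟩ := QuotientGroup.mk_surjective v
        have hin : ∀ (c : G) (q : ↥Q), ((q : G) * c * (q : G)⁻¹)⁻¹ * c ∈ Q := by
          intro c q
          have := Q.mul_mem q.2 ((‹Q.Normal›).conj_mem _ (Q.inv_mem q.2) c⁻¹)
          simpa [mul_assoc] using this
        obtain ⟨q, hq, h1, h2⟩ := key ((q1 : G) * a * (q1 : G)⁻¹) ((q2 : G) * a' * (q2 : G)⁻¹) (hin a q1) (hin a' q2)
          (by rw [show ((q1 : G) * a * (q1 : G)⁻¹) * ((q1 : G) * a * (q1 : G)⁻¹) = q1 * (a * a) * (q1 : G)⁻¹ by group, ha]; group)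
          (by rw [show ((q2 : G) * a' * (q2 : G)⁻¹) * ((q2 : G) * a' * (q2 : G)⁻¹) = q2 * (a' * a') * (q2 : G)⁻¹ by group, ha']; group)
        exact ⟨⟨q, hq⟩, Prod.ext ((hcj a ⟨q, hq⟩ q1).2 h1) ((hcj a' ⟨q, hq⟩ q2).2 h2)⟩
    have hcard := Nat.card_eq_of_bijective F hF
    rw [Nat.card_prod] at hcard
    have e1 := Ca.card_eq_card_quotient_mul_card_subgroup
    have e2 := Cb.card_eq_card_quotient_mul_card_subgroup
    rw [← Nat.card_congr (Subgroup.subgroupOfEquivOfLe (inf_le_left : Q ⊓ Subgroup.centralizer ({a} : Set G) ≤ Q)).toEquiv,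
      ← Nat.card_congr (Subgroup.subgroupOfEquivOfLe (inf_le_left : Q ⊓ Subgroup.centralizer ({a'} : Set G) ≤ Q)).toEquiv,
      ← hCa, ← hCb]
    have h : Nat.card ↥Q * (Nat.card ↥Ca * Nat.card ↥Cb) = Nat.card ↥Q * Nat.card ↥Q := by
      conv_rhs => arg 1; rw [e1]
      conv_rhs => arg 2; rw [e2]
      rw [hcard]; ring
    exact Nat.eq_of_mul_eq_mul_left Nat.card_pos h

/-- Let G be a finite group and r an odd prime such that G ⧸ O₂(G) is dihedral of order 2r, and let R be a Sylow r-subgroup of G with C_{O₂(G)}(R) = 1. Then N_G(R) is dihedral of order 2r; for any involution a of N_G(R), every involution of G outside O₂(G) is conjugate to a; and |C_{O₂(G)}(a)|² = |O₂(G)|. -/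
theorem result {G : Type*} [Group G] [Finite G] {r : ℕ} [Fact r.Prime] (hr : r ≠ 2) [hN : (Cfsg.pCore 2 G).Normal] (hquot : Nonempty (G ⧸ Cfsg.pCore 2 G ≃* DihedralGroup r)) (R : Sylow r G) (hC : Cfsg.pCore 2 G ⊓ Subgroup.centralizer ((R : Subgroup G) : Set G) = ⊥) : Nonempty (↥(Subgroup.normalizer ((R : Subgroup G) : Set G)) ≃* DihedralGroup r) ∧ ∀ a : G, a ∈ Subgroup.normalizer ((R : Subgroup G) : Set G) → orderOf a = 2 → (∀ b : G, orderOf b = 2 → b ∉ Cfsg.pCore 2 G → ∃ g : G, g * a * g⁻¹ = b) ∧ Nat.card ↥(Cfsg.pCore 2 G ⊓ Subgroup.centralizer ({a} : Set G)) ^ 2 = Nat.card ↥(Cfsg.pCore 2 G) := by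
  classical
  obtain ⟨e⟩ := hquot
  set Q := Cfsg.pCore 2 G with hQdef
  have hr' : r.Prime := Fact.out
  set π : G →* DihedralGroup r := e.toMonoidHom.comp (QuotientGroup.mk' Q) with hπ
  have hπs : Function.Surjective π := e.surjective.comp (QuotientGroup.mk'_surjective Q)
  have hπk : π.ker = Q := by
    ext g
    simp [hπ, MonoidHom.mem_ker, QuotientGroup.eq_one_iff]
  have hQ2 : IsPGroup 2 ↥Q := Cfsg.Agent.Lib.LocalChar.pCore_isPGroup
  haveI : Fact (Nat.Prime 2) := ⟨Nat.prime_two⟩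
  have hRQ : (R : Subgroup G) ⊓ Q = ⊥ :=
    disjoint_iff.1 (IsPGroup.disjoint_of_ne r 2 hr _ _ R.isPGroup' hQ2)
  obtain ⟨m, hm⟩ := IsPGroup.iff_card.1 hQ2
  have hG : Nat.card G = Nat.card ↥Q * (2 * r) := by
    rw [Q.card_eq_card_quotient_mul_card_subgroup, Nat.card_congr e.toEquiv, DihedralGroup.nat_card]
    ring
  have hRc : Nat.card ↥(R : Subgroup G) = r := by
    obtain ⟨k, hk⟩ := IsPGroup.iff_card.1 R.isPGroup'
    have hd : r ^ k ∣ Nat.card ↥Q * (2 * r) := hk ▸ hG ▸ (R : Subgroup G).card_subgroup_dvd_card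
    rw [hm, ← mul_assoc, ← pow_succ] at hd
    have hd2 : r ^ k ∣ r :=
      (((Nat.coprime_primes hr' Nat.prime_two).2 hr).pow k (m + 1)).dvd_of_dvd_mul_left hd
    have hdvd : r ∣ Nat.card ↥(R : Subgroup G) :=
      R.dvd_card_of_dvd_card (by rw [hG]; exact Dvd.intro_left _ (mul_assoc _ 2 r))
    exact Nat.dvd_antisymm (hk ▸ hd2) hdvd
  set N := Subgroup.normalizer ((R : Subgroup G) : Set G) with hN'
  have hQN : ∀ q ∈ Q, q ∈ N → q = 1 := by
    intro q hq hn
    have : q ∈ Q ⊓ Subgroup.centralizer ((R : Subgroup G) : Set G) := by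
      refine ⟨hq, fun x hx => ?_⟩
      have h1 : q * x * q⁻¹ * x⁻¹ ∈ (R : Subgroup G) ⊓ Q :=
        ⟨mul_mem ((hn x).1 hx) ((R : Subgroup G).inv_mem hx), by
          rw [show q * x * q⁻¹ * x⁻¹ = q * (x * q⁻¹ * x⁻¹) by group]
          exact mul_mem hq (hN.conj_mem _ (inv_mem hq) x)⟩
      rw [hRQ, Subgroup.mem_bot, mul_inv_eq_one, mul_inv_eq_iff_eq_mul] at h1
      exact h1.symm
    rw [hC] at this
    exact Subgroup.mem_bot.1 this
  set f : ↥N →* DihedralGroup r := π.comp N.subtype with hf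
  have hfi : Function.Injective f := by
    rw [← MonoidHom.ker_eq_bot_iff, Subgroup.eq_bot_iff_forall]
    intro x hx
    exact Subtype.ext (hQN x (hπk ▸ (hx : (x : G) ∈ π.ker)) x.2)
  have hfs : Function.Surjective f := by
    have hn : ((R : Subgroup G).map π).Normal := by
      refine Subgroup.normal_of_index_eq_two ?_
      have h1 : Nat.card ↥((R : Subgroup G).map π) = r := by
        have hdj : (R : Subgroup G) ⊓ π.ker = ⊥ := hπk ▸ hRQ
        have hi : Function.Injective (π.comp (R : Subgroup G).subtype) := by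
          rw [← MonoidHom.ker_eq_bot_iff, Subgroup.eq_bot_iff_forall]
          intro x hx
          exact Subtype.ext (Subgroup.mem_bot.1 (hdj ▸ (⟨x.2, hx⟩ : (x : G) ∈ (R : Subgroup G) ⊓ π.ker)))
        rw [show (R : Subgroup G).map π = (π.comp (R : Subgroup G).subtype).range by
          rw [MonoidHom.range_comp, Subgroup.range_subtype], ← Nat.card_congr (MonoidHom.ofInjective hi).toEquiv]
        exact hRc
      have h2 := Subgroup.card_mul_index ((R : Subgroup G).map π)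
      rw [h1, DihedralGroup.nat_card, mul_comm 2 r] at h2
      exact Nat.eq_of_mul_eq_mul_left hr'.pos h2
    intro d
    obtain ⟨g, hg⟩ := hπs d
    set L := ((R : Subgroup G).map π).comap π with hL
    haveI : L.Normal := hn.comap π
    have hRL : (R : Subgroup G) ≤ L := Subgroup.le_comap_map π _
    have htop := Sylow.normalizer_sup_eq_top' R hRL
    obtain ⟨n, hn1, l, hl, rfl⟩ := Subgroup.mem_sup_of_normal_right.1 (htop ▸ Subgroup.mem_top g)
    obtain ⟨x, hx, hxl⟩ := Subgroup.mem_map.1 hl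
    exact ⟨⟨n * x, mul_mem hn1 (Subgroup.le_normalizer hx)⟩, by
      rw [← hg]; show π (n * x) = π (n * l); rw [map_mul, map_mul, hxl]⟩
  refine ⟨⟨MulEquiv.ofBijective f ⟨hfi, hfs⟩⟩, fun a ha ha2 => ?_⟩
  obtain ⟨x, hx, hx1⟩ := (R : Subgroup G).bot_or_exists_ne_one.resolve_left (fun h => by
    rw [h, Subgroup.card_bot] at hRc; exact hr'.ne_one hRc.symm)
  have hxo : orderOf x = r := by
    have hd := (R : Subgroup G).orderOf_dvd_natCard hx
    rw [hRc] at hd
    exact (hr'.eq_one_or_self_of_dvd _ hd).resolve_left (fun h => hx1 (orderOf_eq_one_iff.1 h))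
  have hinv : ∀ n ∈ N, orderOf n = 2 → n * x * n⁻¹ = x⁻¹ := by
    intro n hn hn2
    have h := dihedral_inv hr (u := f ⟨x, Subgroup.le_normalizer hx⟩) (v := f ⟨n, hn⟩)
      (by rw [orderOf_injective f hfi, Subgroup.orderOf_mk, hxo])
      (by rw [orderOf_injective f hfi, Subgroup.orderOf_mk, hn2])
    rw [← map_inv, ← map_mul, ← map_mul, ← map_inv] at h
    exact congrArg Subtype.val (hfi h)
  have hsq : ∀ n : G, orderOf n = 2 → n * n = 1 := fun n hn => by
    rw [← pow_two, ← hn]; exact pow_orderOf_eq_one n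
  have main : ∀ n ∈ N, orderOf n = 2 → (∀ b : G, b⁻¹ * n ∈ Q → b * b = 1 → ∃ q ∈ Q, q * n * q⁻¹ = b) ∧
      Nat.card ↥(Q ⊓ Subgroup.centralizer ({n} : Set G)) * Nat.card ↥(Q ⊓ Subgroup.centralizer ({x * n * x⁻¹} : Set G)) =
        Nat.card ↥Q := by
    intro n hn hn2
    set ρ := n * (x * n * x⁻¹) with hρ
    have hni : n⁻¹ = n := inv_eq_of_mul_eq_one_right (hsq n hn2)
    have hρx : ρ = x⁻¹ * x⁻¹ := by
      have h1 := hinv n hn hn2
      rw [hni] at h1
      rw [hρ, ← mul_assoc, ← mul_assoc, h1]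
    have hρR : ρ ∈ (R : Subgroup G) := hρx ▸ mul_mem (inv_mem hx) (inv_mem hx)
    have hρo : orderOf ρ = r := by
      rw [hρx, ← pow_two, Nat.Coprime.orderOf_pow, orderOf_inv, hxo]
      rw [orderOf_inv, hxo]
      exact (Nat.coprime_primes hr' Nat.prime_two).2 hr
    have hz : Subgroup.zpowers ρ = (R : Subgroup G) :=
      Subgroup.eq_of_le_of_card_ge (Subgroup.zpowers_le.2 hρR) (by rw [Nat.card_zpowers, hρo, hRc])
    refine card_conj_pairs Q n (x * n * x⁻¹) ρ hρ (fun q hq hc => ?_) (fun b hb hbb hbi => ?_) (hsq n hn2)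
      (by rw [show x * n * x⁻¹ * (x * n * x⁻¹) = x * (n * n) * x⁻¹ by group, hsq n hn2]; group)
    · refine hQN q hq (Cfsg.Agent.Lib.LocalChar.mem_nz_of_cj_le ?_)
      rw [← hz]
      show (Subgroup.zpowers ρ).map (MulAut.conj q).toMonoidHom ≤ _
      rw [MonoidHom.map_zpowers]
      show Subgroup.zpowers (q * ρ * q⁻¹) ≤ _
      rw [hc, mul_inv_cancel_right]
    · have hbN : b ∈ N := by
        refine Cfsg.Agent.Lib.LocalChar.mem_nz_of_cj_le ?_
        rw [← hz]
        show (Subgroup.zpowers ρ).map (MulAut.conj b).toMonoidHom ≤ _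
        rw [MonoidHom.map_zpowers]
        show Subgroup.zpowers (b * ρ * b⁻¹) ≤ _
        rw [hbi, Subgroup.zpowers_inv]
      exact inv_mul_eq_one.1 (hQN _ hb (mul_mem (inv_mem hbN) hn))
  constructor
  · intro b hb2 hbQ
    obtain ⟨n, hn⟩ := hfs (π b)
    have hn2 : orderOf (n : G) = 2 := by
      refine orderOf_eq_prime ?_ (fun h1 => hbQ ?_)
      · have h : n ^ 2 = 1 := hfi (by rw [map_pow, hn, map_one, ← map_pow, ← hb2, pow_orderOf_eq_one, map_one])
        simpa using congrArg Subtype.val h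
      · rw [← hπk, MonoidHom.mem_ker, ← hn]
        show π (n : G) = 1
        rw [h1, map_one]
    obtain ⟨q, hq, hqb⟩ := (main n n.2 hn2).1 b (by
      rw [← hπk, MonoidHom.mem_ker, map_mul, map_inv, ← hn]
      exact inv_mul_cancel (f n)) (hsq b hb2)
    -- conjugacy of the involutions of `N`
    have hNc : Nat.card ↥N = 2 * r := by
      rw [Nat.card_congr (MulEquiv.ofBijective f ⟨hfi, hfs⟩).toEquiv, DihedralGroup.nat_card]
    have hsyl : ∀ (u : ↥N), orderOf u = 2 → ∃ P : Sylow 2 ↥N, (P : Subgroup ↥N) = Subgroup.zpowers u := by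
      intro u hu
      refine ⟨Sylow.ofCard (Subgroup.zpowers u) ?_, rfl⟩
      rw [Nat.card_zpowers, hu, hNc, Nat.factorization_mul two_ne_zero hr'.ne_zero, Finsupp.add_apply,
        Nat.Prime.factorization_self Nat.prime_two, hr'.factorization, Finsupp.single_eq_of_ne' hr]
      rfl
    obtain ⟨P1, hP1⟩ := hsyl ⟨a, ha⟩ (by rw [Subgroup.orderOf_mk]; exact ha2)
    obtain ⟨P2, hP2⟩ := hsyl n (by rw [← Subgroup.orderOf_coe]; exact hn2)
    obtain ⟨c, hc⟩ := MulAction.exists_smul_eq ↥N P1 P2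
    have hmem : c * ⟨a, ha⟩ * c⁻¹ ∈ Subgroup.zpowers n := by
      rw [← hP2, ← hc, Sylow.coe_subgroup_smul]
      exact Subgroup.smul_mem_pointwise_smul _ _ _ (hP1 ▸ Subgroup.mem_zpowers (⟨a, ha⟩ : ↥N))
    have hca : (c : G) * a * (c : G)⁻¹ = n := by
      obtain ⟨k, hk⟩ := hmem
      have hk' : (n : G) ^ k = c * a * (c : G)⁻¹ := by simpa using congrArg Subtype.val hk
      rcases Int.even_or_odd k with ⟨l, rfl⟩ | ⟨l, rfl⟩
      · rw [← two_mul, zpow_mul, zpow_two, hsq _ hn2, one_zpow, eq_comm, mul_inv_eq_one] at hk'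
        rw [mul_eq_left] at hk'
        rw [hk', orderOf_one] at ha2
        omega
      · rw [zpow_add, zpow_mul, zpow_two, hsq _ hn2, one_zpow, one_mul, zpow_one] at hk'
        exact hk'.symm
    exact ⟨q * c, by rw [← hqb, ← hca]; group⟩
  · rw [← (main a ha ha2).2, pow_two]
    congr 1
    refine (Nat.card_congr (Equiv.subtypeEquiv (MulAut.conj x).toEquiv fun g => ?_))
    simp only [Subgroup.mem_inf, Subgroup.mem_centralizer_singleton_iff, MulAut.conj_apply,
      MulEquiv.toEquiv_eq_coe, EquivLike.coe_coe]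
    constructor
    · rintro ⟨h1, h2⟩
      refine ⟨hN.conj_mem g h1 x, ?_⟩
      calc x * g * x⁻¹ * (x * a * x⁻¹) = x * (g * a) * x⁻¹ := by group
        _ = x * (a * g) * x⁻¹ := by rw [h2]
        _ = _ := by group
    · rintro ⟨h1, h2⟩
      refine ⟨by simpa [mul_assoc] using hN.conj_mem _ h1 x⁻¹, ?_⟩
      calc g * a = x⁻¹ * (x * g * x⁻¹ * (x * a * x⁻¹)) * x := by group
        _ = x⁻¹ * (x * a * x⁻¹ * (x * g * x⁻¹)) * x := by rw [h2]
        _ = a * g := by group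

end Cfsg.Agent.S2873
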