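import Mathlib
import Cfsg.Statements.S2879
import Cfsg.Agent.Lib.Thompson.QuaternionSection
import Cfsg.Agent.Lib.LocalChar.FStar
import Cfsg.Agent.Lib.Components.Cores
import Cfsg.Agent.Lib.LocalChar.Norm
import Cfsg.Agent.Lib.LocalChar.SPE

set_option autoImplicit false

open scoped commutatorElement Pointwise

open Cfsg.Agent.Lib.LocalChar

namespace Cfsg.Agent.S2879

open Subgroup
open Cfsg.Agent.Lib.Components Cfsg.Agent.Lib.LocalChar
open Cfsg.Agent.Lib.Thompson

theorem fix_of_odd {X : Type*} [Group X] {α : MulAut X} (hα : (orderOf α).Coprime 2) {W : Subgroup X}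
    (h : W.map (α * α).toMonoidHom = W) : W.map α.toMonoidHom = W := by
  obtain ⟨l, hl⟩ := exists_pow_eq_self_of_coprime (x := α) hα.symm
  have key : ∀ j : ℕ, W.map ((α ^ 2) ^ j).toMonoidHom = W := by
    intro j
    induction j with
    | zero => ext x; simp
    | succ j ih =>
      rw [pow_succ, show ((α ^ 2) ^ j * α ^ 2).toMonoidHom = ((α ^ 2) ^ j).toMonoidHom.comp (α * α).toMonoidHom by
        ext x; simp [pow_two], ← map_map, h, ih]
  have := key l
  rwa [hl] at this

theorem cyclic_no_odd {X : Type*} [Group X] [Finite X] (hX : IsPGroup 2 X) {M : Subgroup X} [IsCyclic ↥M]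
    (hM : M.index = 2) {α : MulAut X} (hα : (orderOf α).Coprime 2) (h : M.map α.toMonoidHom = M) : α = 1 := by
  let β : MulAut ↥M := (α.subgroupMap M).trans (MulEquiv.subgroupCongr h)
  have hβ : ∀ (j : ℕ) (m : ↥M), ((β ^ j) m : X) = (α ^ j) m := by
    intro j
    induction j with
    | zero => intro m; simp
    | succ j ih => intro m; rw [pow_succ' β, pow_succ' α, MulAut.mul_apply, MulAut.mul_apply, ← ih]; rfl
  have hβ1 : β ^ orderOf α = 1 := MulEquiv.ext fun m => Subtype.ext (by rw [hβ, pow_orderOf_eq_one]; rfl)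
  have hβe : β = 1 := Quat.aut_cyclic_trivial (hX.to_subgroup M) β (hα.coprime_dvd_left (orderOf_dvd_of_pow_eq_one hβ1))
  have hfix : ∀ m ∈ M, α m = m := fun m hm => by
    have := hβ 1 ⟨m, hm⟩
    rw [pow_one, pow_one, hβe] at this
    exact this.symm
  ext f
  rw [MulAut.one_apply]
  set m := f⁻¹ * α f with hm
  have hmM : m ∈ M := by
    rw [hm, mul_mem_iff_of_index_two hM, inv_mem_iff]
    constructor
    · intro hf; rw [hfix f hf]; exact hf
    · intro hf
      by_contra hfn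
      obtain ⟨x, hx, he⟩ := h.symm ▸ hf
      exact hfn (α.injective he ▸ hx)
  have hj : ∀ j : ℕ, (α ^ j) f = f * m ^ j := by
    intro j
    induction j with
    | zero => simp
    | succ j ih =>
      have hαf : α f = f * m := by rw [hm, mul_inv_cancel_left]
      rw [pow_succ' α, MulAut.mul_apply, ih, map_mul, hfix _ (pow_mem hmM j), hαf, mul_assoc, ← pow_succ']
  have h1 := hj (orderOf α)
  rw [pow_orderOf_eq_one, MulAut.one_apply, left_eq_mul] at h1
  obtain ⟨k, hk⟩ := hX m
  have : m = 1 := orderOf_eq_one_iff.1 (Nat.eq_one_of_dvd_coprimes (hα.pow_right k)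
    (orderOf_dvd_of_pow_eq_one h1) (orderOf_dvd_of_pow_eq_one hk))
  rw [hm, inv_mul_eq_one] at this
  exact this.symm

theorem unique_invol {X : Type*} [Group X] [Finite X] (hX : IsPGroup 2 X) {M : Subgroup X} [IsCyclic ↥M]
    (hM : M.index = 2) {α : MulAut X} (hα : (orderOf α).Coprime 2) (hne : α ≠ 1) {z : X} (hz : α z = z)
    (hz2 : orderOf z = 2) {v : X} (hv : orderOf v = 2) : v = z := by
  set M1 := M.map α.toMonoidHom with hM1
  set M2 := M.map (α * α).toMonoidHom with hM2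
  have hi1 : M1.index = 2 := (index_map_equiv M α).trans hM
  have hi2 : M2.index = 2 := (index_map_equiv M (α * α)).trans hM
  have h01 : M1 ≠ M := fun h => hne (cyclic_no_odd hX hM hα h)
  have h02 : M2 ≠ M := fun h => h01 (fix_of_odd hα h)
  have h12 : M2 ≠ M1 := fun h => h01 (map_injective α.injective (by
    show M1.map α.toMonoidHom = M1
    rw [hM1, map_map]
    exact h))
  have heq : ∀ {A B : Subgroup X}, A.index = 2 → B.index = 2 → A ≤ B → A = B := fun hA hB hle => by
    rcases hle.eq_or_lt with h | h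
    · exact h
    · exact absurd (hB.trans hA.symm) (index_strictAnti h).ne
  have hD : ∀ x, x ∈ M → x ∈ M1 → x ∈ M2 := by
    intro x hx hx1
    obtain ⟨c, hc⟩ := IsCyclic.exists_generator (α := ↥M)
    obtain ⟨j, hj⟩ := hc ⟨x, hx⟩
    have hj' : (c : X) ^ j = x := congrArg Subtype.val hj
    rcases Int.even_or_odd j with ⟨i, rfl⟩ | ⟨i, rfl⟩
    · rw [← hj', zpow_add, ← pow_two]
      exact sq_mem_of_index_two hi2 _
    · exfalso
      refine h01 (heq hM hi1 fun y hy => ?_).symm
      have hc2 : (c : X) ^ (2 * i) ∈ M1 := by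
        rw [two_mul, zpow_add, ← pow_two]; exact sq_mem_of_index_two hi1 _
      have hc1 : (c : X) ∈ M1 := by
        rw [← hj', zpow_add, zpow_one] at hx1
        exact (M1.mul_mem_cancel_left hc2).1 hx1
      obtain ⟨l, hl⟩ := hc ⟨y, hy⟩
      rw [show y = (c : X) ^ l from (congrArg Subtype.val hl).symm]
      exact zpow_mem hc1 l
  obtain ⟨a, ha, ha1⟩ : ∃ a ∈ M, a ∉ M1 := by
    by_contra h; push Not at h; exact h01 (heq hM hi1 h).symm
  obtain ⟨b, hb, hb0⟩ : ∃ b ∈ M1, b ∉ M := by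
    by_contra h; push Not at h; exact h01 (heq hi1 hM h)
  have ha2 : a ∉ M2 := by
    intro h
    refine h02 (heq hM hi2 fun m hm => ?_).symm
    by_cases hm1 : m ∈ M1
    · exact hD m hm hm1
    · have h3 : m * a⁻¹ ∈ M1 := by rw [mul_mem_iff_of_index_two hi1, inv_mem_iff]; tauto
      simpa using mul_mem (hD _ (mul_mem hm (inv_mem ha)) h3) h
  have hb2 : b ∉ M2 := by
    intro h
    refine h12 (heq hi1 hi2 fun m hm => ?_).symm
    by_cases hm0 : m ∈ M
    · exact hD m hm0 hm
    · have h3 : m * b⁻¹ ∈ M := by rw [mul_mem_iff_of_index_two hM, inv_mem_iff]; tauto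
      simpa using mul_mem (hD _ h3 (mul_mem hm (inv_mem hb))) h
  have hab2 : a * b ∈ M2 := by rw [mul_mem_iff_of_index_two hi2]; tauto
  have hab0 : a * b ∉ M := by rw [mul_mem_iff_of_index_two hM]; tauto
  have hab1 : a * b ∉ M1 := by rw [mul_mem_iff_of_index_two hi1]; tauto
  have cover : ∀ f, f ∈ M ∨ f ∈ M1 ∨ f ∈ M2 := by
    intro f
    by_contra h
    push Not at h
    obtain ⟨h0, h1, h2⟩ := h
    have e0 : f * (a * b)⁻¹ ∈ M := by rw [mul_mem_iff_of_index_two hM, inv_mem_iff]; tauto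
    have e1 : f * (a * b)⁻¹ ∈ M1 := by rw [mul_mem_iff_of_index_two hi1, inv_mem_iff]; tauto
    refine h2 ?_
    have := mul_mem (hD _ e0 e1) hab2
    rwa [inv_mul_cancel_right] at this
  have pick : ∀ f, orderOf f = 2 → ∃ m ∈ M, orderOf m = 2 ∧ (f = m ∨ f = α m ∨ f = α (α m)) := by
    intro f hf
    rcases cover f with h | ⟨m, hm, rfl⟩ | ⟨m, hm, rfl⟩
    · exact ⟨f, h, hf, Or.inl rfl⟩
    · exact ⟨m, hm, by rwa [orderOf_injective _ α.injective] at hf, Or.inr (Or.inl rfl)⟩
    · exact ⟨m, hm, by rwa [orderOf_injective _ (α * α).injective] at hf, Or.inr (Or.inr rfl)⟩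
  obtain ⟨m, hm, hmo, hd⟩ := pick z hz2
  have hmz : m = z := by
    rcases hd with h | h | h
    · exact h.symm
    · exact α.injective (h.symm.trans hz.symm)
    · exact α.injective (α.injective (h.symm.trans (by rw [hz, hz])))
  obtain ⟨m', hm', hmo', hd'⟩ := pick v hv
  have heqm : m' = z := by
    rw [← hmz]
    by_contra hne'
    classical
    haveI := Fintype.ofFinite ↥M
    have h1 := IsCyclic.card_pow_eq_one_le (α := ↥M) two_pos
    have hsub : ({1, ⟨m, hm⟩, ⟨m', hm'⟩} : Finset ↥M) ⊆ Finset.univ.filter (fun a => a ^ 2 = 1) := by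
      intro a ha'
      simp only [Finset.mem_insert, Finset.mem_singleton] at ha'
      rw [Finset.mem_filter]
      refine ⟨Finset.mem_univ _, ?_⟩
      rcases ha' with rfl | rfl | rfl
      · simp
      · exact Subtype.ext (by rw [Subgroup.coe_pow, ← hmo, pow_orderOf_eq_one]; rfl)
      · exact Subtype.ext (by rw [Subgroup.coe_pow, ← hmo', pow_orderOf_eq_one]; rfl)
    have h3 : ({1, ⟨m, hm⟩, ⟨m', hm'⟩} : Finset ↥M).card = 3 := by
      refine Finset.card_eq_three.2 ⟨_, _, _, ?_, ?_, ?_, rfl⟩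
      · intro e; have e' : (1 : X) = m := congrArg Subtype.val e; rw [← e', orderOf_one] at hmo; omega
      · intro e; have e' : (1 : X) = m' := congrArg Subtype.val e; rw [← e', orderOf_one] at hmo'; omega
      · intro e; exact hne' (congrArg Subtype.val e).symm
    have := (Finset.card_le_card hsub).trans h1
    omega
  rcases hd' with h | h | h <;> rw [h, heqm] <;> simp [hz]

theorem aut_q8_card : Nat.card (MulAut (QuaternionGroup 2)) ≤ 24 := by
  classical
  set S := Finset.univ.filter fun p : QuaternionGroup 2 × QuaternionGroup 2 =>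
    p.1 ^ 2 ≠ 1 ∧ p.2 ^ 2 ≠ 1 ∧ p.2 ≠ p.1 ∧ p.2 ≠ p.1 * p.1 * p.1
  have hS : S.card = 24 := by decide
  have h0 : (QuaternionGroup.a 1 : QuaternionGroup 2) ^ 2 ≠ 1 ∧ (QuaternionGroup.xa 0 : QuaternionGroup 2) ^ 2 ≠ 1 ∧
      (QuaternionGroup.xa 0 : QuaternionGroup 2) ≠ QuaternionGroup.a 1 ∧
      (QuaternionGroup.xa 0 : QuaternionGroup 2) ≠ QuaternionGroup.a 1 * QuaternionGroup.a 1 * QuaternionGroup.a 1 := by decide
  let f : MulAut (QuaternionGroup 2) → ↥S := fun α => ⟨(α (QuaternionGroup.a 1), α (QuaternionGroup.xa 0)), by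
    simp only [S, Finset.mem_filter, Finset.mem_univ, true_and, ← map_mul, ← map_pow, Ne, map_eq_one_iff _ α.injective, α.injective.eq_iff]
    exact h0⟩
  have hf : Function.Injective f := by
    intro α β h
    simp only [f, Subtype.mk.injEq, Prod.mk.injEq] at h
    have hall : ∀ q : QuaternionGroup 2, ∃ i < 4, q = QuaternionGroup.a 1 ^ i ∨ q = QuaternionGroup.xa 0 * QuaternionGroup.a 1 ^ i := by decide
    ext q
    obtain ⟨i, -, hq | hq⟩ := hall q <;> rw [hq] <;> simp only [map_mul, map_pow, h.1, h.2]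
  have := Nat.card_le_card_of_injective f hf
  rwa [Nat.card_eq_finsetCard, hS] at this

theorem sl23_of_data {G : Type*} [Group G] [Finite G] (F : Subgroup G) [F.Normal] (e : ↥F ≃* QuaternionGroup 2)
    (hCF : centralizer (F : Set G) ≤ F) {g : G} (hg : orderOf g = 3) (hidx : Nat.card G ≤ 48) :
    ∃ U : Subgroup G, U.Normal ∧ Nonempty (↥U ≃* Matrix.SpecialLinearGroup (Fin 2) (ZMod 3)) := by
  haveI : Fact (Nat.Prime 2) := ⟨Nat.prime_two⟩
  have hFc : Nat.card ↥F = 8 := by
    rw [Nat.card_congr e.toEquiv, Nat.card_eq_fintype_card, QuaternionGroup.card]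
  set U := F ⊔ zpowers g with hU
  have hn : zpowers g ≤ normalizer (F : Set G) := fun x _ => (normalizer_eq_top (H := F)) ▸ mem_top x
  have hUc : Nat.card ↥U = 24 := by
    rw [hU, sup_comm, Cfsg.Agent.Lib.Coprime.card_sup_of_coprime hn (by
      rw [Nat.card_zpowers, hg, hFc]; norm_num), Nat.card_zpowers, hg, hFc]
  have hUn : U.Normal := by
    have hd := card_subgroup_dvd_card U
    have hmul := card_mul_index U
    rw [hUc] at hd hmul
    have : U.index ≤ 2 := by omega
    have h0 : U.index ≠ 0 := index_ne_zero_of_finite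
    rcases (show U.index = 1 ∨ U.index = 2 by omega) with h | h
    · rw [index_eq_one.1 h]; infer_instance
    · exact normal_of_index_eq_two h
  refine ⟨U, hUn, ?_⟩
  set F' := F.subgroupOf U with hF'
  have hF'c : Nat.card ↥F' = 8 := by rw [hF', Nat.card_congr (subgroupOfEquivOfLe le_sup_left).toEquiv, hFc]
  have hp : IsPGroup 2 ↥F' := IsPGroup.of_card (n := 3) (by rw [hF'c]; norm_num)
  have hi : ¬ 2 ∣ F'.index := by
    have hmul := card_mul_index F'
    rw [hF'c, hUc] at hmul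
    omega
  have hno : ¬ Cfsg.HasNormalPComplement 2 ↥U := by
    rintro ⟨P, N, hNn, hNP⟩
    obtain ⟨x, hx⟩ := MulAction.exists_smul_eq ↥U (hp.toSylow hi) P
    haveI : F'.Normal := (inferInstance : F.Normal).subgroupOf U
    have hPF : (P : Subgroup ↥U) = F' := by
      haveI : ((hp.toSylow hi : Sylow 2 ↥U) : Subgroup ↥U).Normal := ‹F'.Normal›
      rw [← hx, Sylow.smul_eq_of_normal]
      rfl
    rw [hPF] at hNP
    haveI := hNn
    have hNc : Nat.card ↥N = 3 := by
      have := hNP.card_mul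
      rw [hF'c, hUc] at this
      omega
    have hg' : (⟨g, mem_sup_right (mem_zpowers g)⟩ : ↥U) ∈ N := by
      by_contra hgn
      have hq : Nat.card (↥U ⧸ N) = 8 := by
        have := card_mul_index N
        rw [hNc, hUc, index_eq_card] at this
        omega
      set gU : ↥U := ⟨g, mem_sup_right (mem_zpowers g)⟩
      have h1 : orderOf (gU : ↥U ⧸ N) ∣ 3 := (orderOf_map_dvd (QuotientGroup.mk' N) gU).trans (by rw [Subgroup.orderOf_mk, hg])
      have h2 : orderOf (gU : ↥U ⧸ N) ∣ 8 := hq ▸ orderOf_dvd_natCard _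
      exact hgn ((QuotientGroup.eq_one_iff gU).1 (orderOf_eq_one_iff.1 (Nat.eq_one_of_dvd_coprimes (by norm_num) h1 h2)))
    have hcent : g ∈ centralizer (F : Set G) := by
      refine mem_centralizer_iff.2 fun f hf => ?_
      have h := Subgroup.commute_of_normal_of_disjoint N F' hNn inferInstance hNP.disjoint _ ⟨f, mem_sup_left hf⟩ hg' hf
      exact (congrArg Subtype.val h).symm
    have := F.orderOf_dvd_natCard (hCF hcent)
    rw [hg, hFc] at this
    omega
  rcases Quat.complement_or_section (hp.toSylow hi) 1 ⟨(subgroupOfEquivOfLe le_sup_left).trans e⟩ with h | ⟨H, K, hKn, ⟨ψ⟩⟩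
  · exact absurd h hno
  have hψ := Nat.card_congr ψ.toEquiv
  rw [Nat.card_eq_fintype_card (α := Matrix.SpecialLinearGroup (Fin 2) (ZMod 3)), Quat.sl_card] at hψ
  have h1 := card_mul_index (K.subgroupOf H)
  rw [index_eq_card, hψ] at h1
  have h2 : Nat.card ↥H ≤ 24 := hUc ▸ Nat.le_of_dvd Nat.card_pos (card_subgroup_dvd_card H)
  have hK1 : Nat.card ↥(K.subgroupOf H) = 1 := by
    have := Nat.card_pos (α := ↥(K.subgroupOf H))
    have : Nat.card ↥(K.subgroupOf H) * 24 ≤ 24 := h1.trans_le h2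
    omega
  have hH : H = ⊤ := eq_top_of_card_eq H (by rw [hUc, ← h1, hK1, one_mul])
  subst hH
  exact ⟨topEquiv.symm.trans ((QuotientGroup.quotientMulEquivOfEq (card_eq_one.1 hK1)).trans QuotientGroup.quotientBot |>.symm.trans ψ)⟩

/-- Let G be a finite solvable group with O(G) = 1 whose Sylow 2-subgroup T is dihedral of order at least 8 or semidihedral, with G ≠ T and Z(T) normal in G. Then G has a normal subgroup isomorphic to SL₂(3). -/
theorem result {G : Type*} [Group G] [Finite G] (hsol : IsSolvable G) (hO : Cfsg.oddCore G = ⊥) (T : Sylow 2 G) (hT : (∃ n : ℕ, 4 ≤ n ∧ Nonempty (↥(T : Subgroup G) ≃* DihedralGroup n)) ∨ Cfsg.IsQuasiDihedral ↥(T : Subgroup G)) (hne : (T : Subgroup G) ≠ ⊤) (hZ : ((T : Subgroup G) ⊓ Subgroup.centralizer ((T : Subgroup G) : Set G)).Normal) : ∃ U : Subgroup G, U.Normal ∧ Nonempty (↥U ≃* Matrix.SpecialLinearGroup (Fin 2) (ZMod 3)) := by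
  classical
  haveI : Fact (Nat.Prime 2) := ⟨Nat.prime_two⟩
  obtain ⟨C, hCc, hCi, hnab⟩ : ∃ C : Subgroup ↥(T : Subgroup G), IsCyclic ↥C ∧ C.index = 2 ∧
      ∃ a b : ↥(T : Subgroup G), a * b ≠ b * a := by
    rcases hT with ⟨n, hn, ⟨e⟩⟩ | ⟨n, hn, hc, x, y, hx, hy, hyx⟩
    · haveI : NeZero n := ⟨by omega⟩
      refine ⟨zpowers (e.symm (DihedralGroup.r 1)), inferInstance, ?_, e.symm (DihedralGroup.r 1), e.symm (DihedralGroup.sr 0), ?_⟩
      · have h := card_mul_index (zpowers (e.symm (DihedralGroup.r (1 : ZMod n))))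
        rw [Nat.card_zpowers, MulEquiv.orderOf_eq, DihedralGroup.orderOf_r_one,
          Nat.card_congr e.toEquiv, DihedralGroup.nat_card, mul_comm 2 n] at h
        exact Nat.eq_of_mul_eq_mul_left (by omega) h
      · rw [← map_mul, ← map_mul, Ne, e.symm.injective.eq_iff, DihedralGroup.r_mul_sr, DihedralGroup.sr_mul_r]
        intro h
        rw [DihedralGroup.sr.injEq] at h
        have h2 : ((2 : ℕ) : ZMod n) = 0 := by push_cast; linear_combination -h
        rw [ZMod.natCast_eq_zero_iff] at h2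
        have := Nat.le_of_dvd (by norm_num) h2
        omega
    · refine ⟨zpowers x, inferInstance, ?_, y, x, ?_⟩
      · have h := card_mul_index (zpowers x)
        rw [Nat.card_zpowers, hx, hc, pow_succ] at h
        exact Nat.eq_of_mul_eq_mul_left (Nat.two_pow_pos n) h
      · intro h
        rw [h, mul_inv_cancel_right] at hyx
        have hlt : 2 ^ (n - 1) - 1 < orderOf x := by
          rw [hx]
          have : 2 ^ (n - 1) ≤ 2 ^ n := Nat.pow_le_pow_right two_pos (by omega)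
          have := Nat.two_pow_pos (n - 1)
          omega
        have h1 : 1 < orderOf x := by rw [hx]; exact Nat.one_lt_two_pow (by omega)
        have := pow_injOn_Iio_orderOf (x := x) (Set.mem_Iio.2 h1) (Set.mem_Iio.2 hlt) (by simpa using hyx)
        have : 2 ^ 2 ≤ 2 ^ (n - 1) := Nat.pow_le_pow_right two_pos (by omega)
        omega
  haveI := hCc
  set Z := (T : Subgroup G) ⊓ centralizer ((T : Subgroup G) : Set G) with hZdef
  haveI := hZ
  have hZC : Z.subgroupOf (T : Subgroup G) ≤ C := by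
    intro t ht
    by_contra htC
    obtain ⟨a, b, hab⟩ := hnab
    apply hab
    obtain ⟨c, hc⟩ := IsCyclic.exists_generator (α := ↥C)
    have hgen : ∀ u : ↥(T : Subgroup G), ∃ (i : ℤ) (w : ↥(T : Subgroup G)), (w = 1 ∨ w = t) ∧ u = (c : ↥(T : Subgroup G)) ^ i * w := by
      intro u
      by_cases hu : u ∈ C
      · obtain ⟨i, hi⟩ := hc ⟨u, hu⟩
        exact ⟨i, 1, Or.inl rfl, by rw [mul_one]; exact (congrArg Subtype.val hi).symm⟩
      · have h1 : u * t⁻¹ ∈ C := by rw [mul_mem_iff_of_index_two hCi, inv_mem_iff]; tauto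
        obtain ⟨i, hi⟩ := hc ⟨_, h1⟩
        exact ⟨i, t, Or.inr rfl, by rw [show (c : ↥(T : Subgroup G)) ^ i = u * t⁻¹ from congrArg Subtype.val hi, inv_mul_cancel_right]⟩
    have htc : ∀ u : ↥(T : Subgroup G), Commute t u := fun u => Subtype.ext (mem_centralizer_iff.1 ht.2 u u.2).symm
    obtain ⟨i, w, hw, rfl⟩ := hgen a
    obtain ⟨j, w', hw', rfl⟩ := hgen b
    have hall : ∀ (w : ↥(T : Subgroup G)), (w = 1 ∨ w = t) → ∀ u, Commute w u := by
      rintro w (rfl | rfl) u
      · exact Commute.one_left u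
      · exact htc u
    exact ((((Commute.refl (c : ↥(T : Subgroup G))).zpow_zpow i j).mul_right (hall _ hw' _).symm).mul_left (hall w hw _)).eq
  haveI hZcyc : IsCyclic ↥Z := by
    have : IsCyclic ↥(Z.subgroupOf (T : Subgroup G)) := isCyclic_of_injective (inclusion hZC) (inclusion_injective _)
    exact isCyclic_of_surjective (subgroupOfEquivOfLe (inf_le_left : Z ≤ (T : Subgroup G))).toMonoidHom (MulEquiv.surjective _)
  have hTne : (T : Subgroup G) ≠ ⊥ := by
    intro h
    obtain ⟨a, b, hab⟩ := hnab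
    have ha : a = 1 := Subtype.ext (mem_bot.1 (h ▸ a.2 : (a : G) ∈ (⊥ : Subgroup G)))
    exact hab (by rw [ha, one_mul, mul_one])
  obtain ⟨z, hz, hz1, hzc⟩ := exists_fixed T.isPGroup' T.isPGroup' le_normalizer hTne
  have hzZ : z ∈ Z := ⟨hz, mem_centralizer_iff.2 fun a ha => (hzc a ha).eq⟩
  have hZp : IsPGroup 2 ↥Z := T.isPGroup'.to_le inf_le_left
  obtain ⟨z₂, hz₂, hz₂o⟩ := exists_orderOf_eq_of_ne_bot hZp (fun h => hz1 (mem_bot.1 (h ▸ hzZ)))
  have hcentZ : ∀ g : G, (orderOf g).Coprime 2 → ∀ w ∈ Z, g * w * g⁻¹ = w := by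
    intro g hg w hw
    have hgn : g ∈ normalizer (Z : Set G) := (normalizer_eq_top (H := Z)) ▸ mem_top g
    have h1 := Quat.aut_cyclic_trivial hZp (Z.normalizerMonoidHom ⟨g, hgn⟩)
      (hg.coprime_dvd_left ((orderOf_map_dvd Z.normalizerMonoidHom _).trans (by rw [Subgroup.orderOf_mk])))
    exact congrArg Subtype.val (DFunLike.congr_fun h1 ⟨w, hw⟩)
  set F := Cfsg.pCore 2 G with hFdef
  haveI : F.Normal := Cfsg.Agent.Lib.LocalChar.pCore_normal
  have hFT : F ≤ (T : Subgroup G) := pCore_le_sylow T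
  have hZF : Z ≤ F := le_pCore hZ hZp
  have hFp : IsPGroup 2 ↥F := pCore_isPGroup
  have hCF : centralizer (F : Set G) ≤ F := by
    have hfit : Cfsg.fittingSubgroup G ≤ F := (fittingSubgroup_le_sup 2).trans (by rw [show Cfsg.pPrimeCore 2 G = ⊥ from hO, sup_bot_eq])
    have hlayer : Cfsg.layer G = ⊥ := layer_eq_bot_iff.2 fun L hL => by
      refine comp_not_le_solvable hL (H := ⊤) ?_ le_top
      haveI : Group.IsSolvable G := hsol
      exact Group.isSolvable_of_isSolvable_injective (f := (⊤ : Subgroup G).subtype) (Subgroup.subtype_injective _)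
    have hgfs : Cfsg.generalizedFittingSubgroup G ≤ F := by
      rw [Cfsg.generalizedFittingSubgroup, hlayer, bot_sup_eq]; exact hfit
    exact ((centralizer_le (SetLike.coe_subset_coe.2 hgfs)).trans centralizer_gfs_le).trans hgfs
  -- an element of odd prime order
  obtain ⟨q, hq, hq2, hqd⟩ : ∃ q : ℕ, q.Prime ∧ q ≠ 2 ∧ q ∣ (T : Subgroup G).index := by
    have h1 : (T : Subgroup G).index ≠ 1 := fun h => hne (index_eq_one.1 h)
    obtain ⟨q, hq, hqd⟩ := Nat.exists_prime_and_dvd h1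
    exact ⟨q, hq, fun h => T.not_dvd_index (h ▸ hqd), hqd⟩
  have act : ∀ g : G, (orderOf g).Coprime 2 → g ≠ 1 →
      ∃ φ : MulAut ↥F, (orderOf φ).Coprime 2 ∧ φ ≠ 1 ∧ (∀ x : ↥F, (φ x : G) = g * x * g⁻¹) := by
    intro g hg hg1
    have hgn : g ∈ normalizer (F : Set G) := (normalizer_eq_top (H := F)) ▸ mem_top g
    refine ⟨F.normalizerMonoidHom ⟨g, hgn⟩, hg.coprime_dvd_left ((orderOf_map_dvd F.normalizerMonoidHom _).trans (by rw [Subgroup.orderOf_mk])), fun h => hg1 ?_, fun x => rfl⟩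
    have hc : g ∈ centralizer (F : Set G) := mem_centralizer_iff.2 fun x hx => by
      have h0 := DFunLike.congr_fun h (⟨x, hx⟩ : ↥F)
      have h1 : g * x * g⁻¹ = x := congrArg Subtype.val h0
      exact (mul_inv_eq_iff_eq_mul.1 h1).symm
    obtain ⟨k, hk⟩ := hFp ⟨g, hCF hc⟩
    exact orderOf_eq_one_iff.1 (Nat.eq_one_of_dvd_coprimes (hg.pow_right k) dvd_rfl
      (orderOf_dvd_of_pow_eq_one (by simpa using congrArg Subtype.val hk)))
  haveI := Fact.mk hq
  obtain ⟨g, hgo⟩ := exists_prime_orderOf_dvd_card' (G := G) q (hqd.trans (index_dvd_card _))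
  have hgo' : (orderOf g).Coprime 2 := hgo ▸ (Nat.coprime_primes hq Nat.prime_two).2 hq2
  obtain ⟨φ, hφo, hφ1, hφg⟩ := act g hgo' (fun h => hq.ne_one (by rw [← hgo, h, orderOf_one]))
  set M := ((C.map (T : Subgroup G).subtype)).subgroupOf F with hMdef
  haveI hMc : IsCyclic ↥M := by
    haveI : IsCyclic ↥(C.map (T : Subgroup G).subtype) := isCyclic_of_surjective _ ((T : Subgroup G).subtype.subgroupMap_surjective C)
    exact isCyclic_of_injective (F.subtype.subgroupComap (C.map (T : Subgroup G).subtype))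
      (fun a b h => Subtype.ext (Subtype.ext (congrArg (fun u : ↥(C.map (T : Subgroup G).subtype) => (u : G)) h)))
  have hFnc : ¬ IsCyclic ↥F := fun h => hφ1 (@Quat.aut_cyclic_trivial ↥F _ _ h hFp φ hφo)
  have hmemM : ∀ a : ↥F, a ∈ M ↔ (⟨(a : G), hFT a.2⟩ : ↥(T : Subgroup G)) ∈ C := fun a => by
    rw [hMdef, mem_subgroupOf]
    exact ⟨fun ⟨c, hc, he⟩ => by rwa [show (⟨(a : G), hFT a.2⟩ : ↥(T : Subgroup G)) = c from Subtype.ext he.symm], fun h => ⟨_, h, rfl⟩⟩
  have hMi : M.index = 2 := by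
    obtain ⟨a, ha⟩ : ∃ a : ↥F, a ∉ M := by
      by_contra h
      push Not at h
      exact hFnc (by
        rw [← (topEquiv : (⊤ : Subgroup ↥F) ≃* ↥F).isCyclic, ← eq_top_iff.2 (fun x _ => h x)]
        exact hMc)
    refine index_eq_two_iff.2 ⟨a, fun b => ?_⟩
    have h1 := mul_mem_iff_of_index_two hCi (a := (⟨(b : G), hFT b.2⟩ : ↥(T : Subgroup G))) (b := ⟨(a : G), hFT a.2⟩)
    rw [← hmemM, ← hmemM] at h1
    have h2 : (b * a ∈ M) ↔ (⟨(b : G), hFT b.2⟩ * ⟨(a : G), hFT a.2⟩ : ↥(T : Subgroup G)) ∈ C := hmemM _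
    rw [h1] at h2
    unfold Xor
    tauto
  have huniq : ∀ H K : Subgroup ↥F, Nat.card H = 2 → Nat.card K = 2 → H = K := by
    have key : ∀ v : ↥F, orderOf v = 2 → v = ⟨z₂, hZF hz₂⟩ := fun v hv =>
      unique_invol hFp hMi hφo hφ1 (Subtype.ext (by rw [hφg]; exact hcentZ g hgo' z₂ hz₂)) (by rwa [Subgroup.orderOf_mk]) hv
    have gen : ∀ H : Subgroup ↥F, Nat.card H = 2 → H = zpowers ⟨z₂, hZF hz₂⟩ := fun H hH => by
      obtain ⟨⟨h, hh⟩, ho⟩ := exists_prime_orderOf_dvd_card' (G := H) 2 hH.symm.dvd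
      rw [Subgroup.orderOf_mk] at ho
      rw [← key h ho]
      exact (eq_of_le_of_card_ge (zpowers_le.2 hh) (by rw [Nat.card_zpowers, ho, hH])).symm
    exact fun H K hH hK => (gen H hH).trans (gen K hK).symm
  rcases Cfsg.Agent.Lib.UniqueInvolution.isCyclic_or_quaternion hFp huniq with hcyc | ⟨-, m, hm, ⟨e⟩⟩
  · exact absurd hcyc hFnc
  obtain rfl : m = 1 := by
    by_contra hm1
    have h4 : 3 ≤ 2 ^ m := by
      have : 2 ^ 2 ≤ 2 ^ m := Nat.pow_le_pow_right two_pos (by omega)
      omega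
    haveI : NeZero (2 ^ m) := ⟨pow_ne_zero _ two_ne_zero⟩
    refine hφ1 ((MulAut.congr e).injective ((Quat.aut_big_trivial h4 (hFp.of_equiv e) _ ?_).trans (map_one _).symm))
    rwa [show orderOf (MulAut.congr e φ) = orderOf φ from MulEquiv.orderOf_eq (MulAut.congr e) φ]
  -- the order of an odd element
  have h3 : ∀ g : G, ∀ r : ℕ, r.Prime → r ≠ 2 → orderOf g = r → r = 3 := by
    intro g r hr hr2 hg
    obtain ⟨φ', h1, h2, hφ'⟩ := act g (hg ▸ (Nat.coprime_primes hr Nat.prime_two).2 hr2) (fun h => hr.ne_one (by rw [← hg, h, orderOf_one]))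
    let ψ : MulAut (QuaternionGroup (2 ^ 1)) := MulAut.congr e φ'
    have ho : orderOf ψ = orderOf φ' := MulEquiv.orderOf_eq (MulAut.congr e) φ'
    have h33 := (Quat.aut_q8 ψ (by rwa [ho]) (fun h => h2 ((MulAut.congr e).injective (h.trans (map_one _).symm)))).1
    have hd : orderOf φ' ∣ 3 := ho ▸ orderOf_dvd_of_pow_eq_one h33
    have hd' : orderOf φ' ∣ r := by
      have hgn : g ∈ normalizer (F : Set G) := (normalizer_eq_top (H := F)) ▸ mem_top g
      have : φ' = F.normalizerMonoidHom ⟨g, hgn⟩ := MulEquiv.ext fun x => Subtype.ext (hφ' x)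
      rw [this, ← hg]
      exact (orderOf_map_dvd F.normalizerMonoidHom _).trans (by rw [Subgroup.orderOf_mk])
    have hne1 : orderOf φ' ≠ 1 := fun h => h2 (orderOf_eq_one_iff.1 h)
    rw [(Nat.dvd_prime hr).1 hd' |>.resolve_left hne1] at hd
    exact (Nat.prime_dvd_prime_iff_eq hr Nat.prime_three).1 hd
  have hg3 : orderOf g = 3 := by rw [hgo]; exact h3 g q hq hq2 hgo
  refine sl23_of_data F e hCF hg3 ?_
  let χ : G →* MulAut ↥F := MulAut.conjNormal
  have hker : χ.ker ≤ centralizer (F : Set G) := fun x hx => mem_centralizer_iff.2 fun y hy => by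
    have h0 := DFunLike.congr_fun (show χ x = 1 from hx) (⟨y, hy⟩ : ↥F)
    have h1 : x * y * x⁻¹ = y := congrArg Subtype.val h0
    exact (mul_inv_eq_iff_eq_mul.1 h1).symm
  have hk2 : Nat.card ↥χ.ker ≤ 2 := by
    let f : ↥χ.ker → {w : QuaternionGroup (2 ^ 1) // ∀ v, w * v = v * w} := fun x =>
      ⟨e ⟨x, hCF (hker x.2)⟩, fun v => by
        obtain ⟨v', rfl⟩ := e.surjective v
        rw [← map_mul, ← map_mul]
        exact congrArg e (Subtype.ext (mem_centralizer_iff.1 (hker x.2) v' v'.2).symm)⟩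
    have hf : Function.Injective f := fun a b h => Subtype.ext (congrArg (fun u : ↥F => (u : G)) (e.injective (congrArg Subtype.val h)))
    refine (Nat.card_le_card_of_injective f hf).trans ?_
    rw [Nat.card_eq_fintype_card]
    decide
  have hr : Nat.card ↥χ.range ≤ 24 :=
    le_trans (Nat.card_le_card_of_injective _ (Subgroup.subtype_injective χ.range))
      ((Nat.card_congr (MulAut.congr e).toEquiv).trans_le aut_q8_card)
  have hcG := card_mul_index χ.ker
  rw [index_ker] at hcG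
  rw [← hcG]
  exact Nat.mul_le_mul hk2 hr

end Cfsg.Agent.S2879
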