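import Mathlib
import Cfsg.Statements.S2880


set_option autoImplicit false

open scoped commutatorElement Pointwise

namespace Cfsg.Agent.S2880

theorem card_sq_ne_one {E : Type*} [Group E] [Finite E] (m : ℕ) (hm : 1 ≤ m)
    (hE : Cfsg.IsExtraspecial 2 E) (hcard : Nat.card E = 2 ^ (2 * m + 1))
    (hplus : ∃ A : Subgroup E, Cfsg.IsElementaryAbelian 2 A ∧ Nat.card A = 2 ^ (m + 1)) :
    Nat.card {x : E // x ^ 2 ≠ 1} = 2 ^ (2 * m) - 2 ^ m := by
  classical
  obtain ⟨⟨hp, hfz, hcz⟩, hZ⟩ := hE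
  obtain ⟨A, ⟨hAc, hA2⟩, hA⟩ := hplus
  set Z := Subgroup.center E
  have hcomm : ∀ x y : E, ⁅x, y⁆ ∈ Z := fun x y => hcz ▸ Subgroup.commutator_mem_commutator (Subgroup.mem_top x) (Subgroup.mem_top y)
  have hzc : ∀ c ∈ Z, ∀ g : E, g * c = c * g := fun c hc g => Subgroup.mem_center_iff.1 hc g
  have hzeq : ∀ c ∈ Z, ∀ d ∈ Z, c ≠ 1 → d ≠ 1 → c = d := by
    intro c hc d hd h1 h2
    by_contra hne
    have : ({1, c, d} : Set E).ncard ≤ (Z : Set E).ncard :=
      Set.ncard_le_ncard (by rintro x (rfl | rfl | rfl) <;> [exact Z.one_mem; exact hc; exact hd]) (Set.toFinite _)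
    have h3 : ({1, c, d} : Set E).ncard = 3 := by
      rw [Set.ncard_eq_three]; exact ⟨1, c, d, Ne.symm h1, Ne.symm h2, hne, rfl⟩
    have h4 : (Z : Set E).ncard = 2 := by rw [← Nat.card_coe_set_eq]; exact hZ
    omega
  have hz2 : ∀ c ∈ Z, c ^ 2 = 1 := fun c hc => by
    have := pow_card_eq_one' (G := Z) (x := ⟨c, hc⟩)
    rw [hZ] at this; simpa using congrArg Subtype.val this
  have hhom : ∀ a b s : E, ⁅a * b, s⁆ = ⁅a, s⁆ * ⁅b, s⁆ := by
    intro a b s
    calc ⁅a * b, s⁆ = (a * ⁅b, s⁆ * a⁻¹) * ⁅a, s⁆ := by simp [commutatorElement_def, mul_assoc]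
      _ = ⁅b, s⁆ * ⁅a, s⁆ := by rw [hzc _ (hcomm b s) a]; group
      _ = _ := hzc _ (hcomm a s) _
  let cm : E → E →* E := fun s => MonoidHom.mk' (fun a => ⁅a, s⁆) (fun a b => hhom a b s)
  have hsq : ∀ x : E, x ^ 2 ∈ Z := fun x => Subgroup.mem_center_iff.2 fun g => by
    have h : cm g (x ^ 2) = 1 := by rw [map_pow]; exact hz2 _ (hcomm x g)
    exact (commutatorElement_eq_one_iff_mul_comm.1 h).symm
  -- the centralizer of `A` is `A`
  have hbound : ∀ H : Subgroup E, Subgroup.centralizer (A : Set E) ≤ H →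
      Nat.card A * Nat.card (Subgroup.centralizer (A : Set E)) ≤
        Nat.card (A ⊓ Subgroup.centralizer (H : Set E) : Subgroup E) * Nat.card H →
      Nat.card A * Nat.card (Subgroup.centralizer (A : Set E)) ≤
        Nat.card (A ⊓ Z : Subgroup E) * Nat.card E := by
    intro H
    induction H using WellFoundedGT.induction with
    | _ H ih =>
      intro hCH hle
      by_cases hH : H = ⊤
      · subst hH
        rwa [show Subgroup.centralizer ((⊤ : Subgroup E) : Set E) = Z from Subgroup.centralizer_univ,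
          Subgroup.card_top] at hle
      obtain ⟨s, -, hs⟩ := SetLike.exists_of_lt (lt_top_iff_ne_top.2 hH)
      set H' := H ⊔ Subgroup.zpowers s
      have hlt : H < H' := lt_of_le_of_ne le_sup_left fun e => hs (e ▸ le_sup_right (a := H) (Subgroup.mem_zpowers s))
      refine ih H' hlt (hCH.trans le_sup_left) (hle.trans ?_)
      have h2 : 2 * Nat.card H ≤ Nat.card H' := by
        obtain ⟨k, hk⟩ := Subgroup.card_dvd_of_le hlt.le
        have : 0 < Nat.card H' := Nat.card_pos
        rcases k with _ | _ | k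
        · simp at hk; omega
        · exfalso; exact hlt.ne (Subgroup.eq_of_le_of_card_ge hlt.le (by omega))
        · rw [hk]; nlinarith [Nat.zero_le (Nat.card H * k)]
      set B := A ⊓ Subgroup.centralizer (H : Set E)
      set f := (cm s).domRestrict B
      have hker : f.ker.map B.subtype ≤ A ⊓ Subgroup.centralizer (H' : Set E) := by
        rintro _ ⟨⟨b, hb⟩, hb', rfl⟩
        refine ⟨hb.1, ?_⟩
        have h1 : b * s = s * b := commutatorElement_eq_one_iff_mul_comm.1 (by exact hb')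
        have h2 : H' ≤ Subgroup.centralizer ({b} : Set E) :=
          sup_le (fun h hh => Subgroup.mem_centralizer_singleton_iff.2 (Subgroup.mem_centralizer_iff.1 hb.2 h hh))
            (Subgroup.zpowers_le.2 (Subgroup.mem_centralizer_singleton_iff.2 h1.symm))
        exact Subgroup.mem_centralizer_iff.2 fun h hh => Subgroup.mem_centralizer_singleton_iff.1 (h2 hh)
      have hidx : Nat.card B ≤ 2 * Nat.card f.ker := by
        have h1 : f.range ≤ Z := by rintro _ ⟨b, rfl⟩; exact hcomm _ _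
        have h3 := Subgroup.card_le_of_le h1
        rw [← f.ker.index_mul_card, Subgroup.index_ker]
        exact Nat.mul_le_mul_right _ (hZ ▸ h3)
      have hk2 : Nat.card f.ker ≤ Nat.card (A ⊓ Subgroup.centralizer (H' : Set E) : Subgroup E) := by
        rw [← Subgroup.card_subtype B f.ker]
        exact Subgroup.card_le_of_le hker
      calc Nat.card B * Nat.card H
          ≤ 2 * Nat.card (A ⊓ Subgroup.centralizer (H' : Set E) : Subgroup E) * Nat.card H :=
            Nat.mul_le_mul_right _ (hidx.trans (Nat.mul_le_mul_left 2 hk2))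
        _ = Nat.card (A ⊓ Subgroup.centralizer (H' : Set E) : Subgroup E) * (2 * Nat.card H) := by ring
        _ ≤ _ := Nat.mul_le_mul_left _ h2
  have hAA : A ≤ Subgroup.centralizer (A : Set E) := fun a ha => Subgroup.mem_centralizer_iff.2 fun b hb =>
    congrArg Subtype.val (hAc.1.1 (⟨b, hb⟩ : A) ⟨a, ha⟩)
  have hCA : Subgroup.centralizer (A : Set E) ≤ A := by
    have h1 := hbound _ le_rfl (le_of_eq (by
      rw [inf_eq_left.2 (Subgroup.le_centralizer_iff.1 le_rfl)]))
    have h2 : Nat.card (A ⊓ Z : Subgroup E) ≤ 2 := hZ ▸ Subgroup.card_le_of_le inf_le_right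
    have h3 := h1.trans (Nat.mul_le_mul_right _ h2)
    rw [hA, hcard] at h3
    have h4 : 2 * 2 ^ (2 * m + 1) = 2 ^ (m + 1) * 2 ^ (m + 1) := by ring
    rw [h4] at h3
    have h5 : Nat.card (Subgroup.centralizer (A : Set E)) ≤ Nat.card A := by
      rw [hA]; exact Nat.le_of_mul_le_mul_left h3 (by positivity)
    exact (Subgroup.eq_of_le_of_card_ge hAA h5).ge
  have hsqA : ∀ x ∈ A, x ^ 2 = 1 := hA2
  have hex : ∀ x : E, x ∉ A → ∃ a ∈ A, ⁅x⁻¹, a⁆ ≠ 1 := by
    intro x hx
    by_contra! h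
    refine hx (hCA (Subgroup.mem_centralizer_iff.2 fun a ha => ?_))
    have := commutatorElement_eq_one_iff_mul_comm.1 (h a ha)
    calc a * x = x * (x⁻¹ * a) * x := by group
      _ = x * (a * x⁻¹) * x := by rw [this]
      _ = x * a := by group
  let ch : E ⧸ A → E := fun c => if h : c.out ∈ A then 1 else (hex _ h).choose
  have hchA : ∀ c, ch c ∈ A := fun c => by
    simp only [ch]; split
    · exact A.one_mem
    · exact (hex _ ‹_›).choose_spec.1
  have hch : ∀ x : E, x ∉ A → ⁅x⁻¹, ch (x : E ⧸ A)⁆ ≠ 1 := by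
    intro x hx
    obtain ⟨⟨a, ha⟩, he⟩ := QuotientGroup.mk_out_eq_mul A x
    have hout : (x : E ⧸ A).out ∉ A := by
      rw [he]; exact fun h => hx (by simpa using A.mul_mem h (A.inv_mem ha))
    simp only [ch, dif_neg hout]
    obtain ⟨hb, hb'⟩ := (hex _ hout).choose_spec
    set b := (hex _ hout).choose
    rw [he, mul_inv_rev, hhom] at hb'
    have h0 : ⁅a⁻¹, b⁆ = 1 := commutatorElement_eq_one_iff_mul_comm.2
      (Subgroup.mem_centralizer_iff.1 (hAA (A.inv_mem ha)) b hb).symm
    simpa [h0] using hb'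
  have hflip : ∀ x : E, x ∉ A → ((x * ch (x : E ⧸ A)) ^ 2 = 1 ↔ x ^ 2 ≠ 1) := by
    intro x hx
    set a := ch (x : E ⧸ A)
    have e : (x * a) ^ 2 = x ^ 2 * ⁅x⁻¹, a⁆ := by
      have ha : a⁻¹ = a := inv_eq_of_mul_eq_one_left (by rw [← sq]; exact hsqA a (hchA _))
      calc (x * a) ^ 2 = x ^ 2 * (x⁻¹ * a * x * a⁻¹) := by rw [ha]; simp [sq, mul_assoc]
        _ = _ := by simp [commutatorElement_def, mul_assoc]
    rw [e]
    constructor
    · intro h h1
      rw [h1, one_mul] at h
      exact hch x hx h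
    · intro h
      rw [hzeq _ (hsq x) _ (hcomm _ _) h (hch x hx), ← sq]
      exact hz2 _ (hcomm _ _)
  let g : E → E := fun x => x * ch (x : E ⧸ A)
  have hgmk : ∀ x, (g x : E ⧸ A) = (x : E ⧸ A) := fun x =>
    QuotientGroup.eq.2 (by simpa [g] using A.inv_mem (hchA _))
  have hgg : ∀ x, g (g x) = x := fun x => by
    show g x * ch (g x : E ⧸ A) = x
    rw [hgmk]
    show x * ch _ * ch _ = x
    rw [mul_assoc, ← sq, hsqA _ (hchA _), mul_one]
  have hgA : ∀ x, x ∉ A → g x ∉ A := fun x hx h => hx (by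
    have := A.mul_mem h (A.inv_mem (hchA (x : E ⧸ A)))
    simpa [g] using this)
  have hTU : ({x : E | x ∉ A ∧ x ^ 2 = 1} : Set E).ncard = ({x : E | x ^ 2 ≠ 1} : Set E).ncard :=
    Set.ncard_congr (fun x _ => g x) (fun x hx h => by
        have := (hflip (g x) (hgA x hx.1))
        rw [show g x * ch ((g x : E) : E ⧸ A) = x from hgg x] at this
        exact this.1 hx.2 h)
      (fun a b _ _ h => by rw [← hgg a, ← hgg b]; exact congrArg g h)
      (fun b hb => ⟨g b, ⟨hgA b fun h => hb (hsqA b h), (hflip b fun h => hb (hsqA b h)).2 hb⟩, hgg b⟩)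
  have hsum : ({x : E | x ∉ A ∧ x ^ 2 = 1} : Set E).ncard + ({x : E | x ^ 2 ≠ 1} : Set E).ncard +
      (A : Set E).ncard = Nat.card E := by
    rw [← Set.ncard_union_eq, ← Set.ncard_union_eq, ← Set.ncard_univ]
    · congr 1
      ext x
      simp only [Set.mem_union, Set.mem_setOf_eq, SetLike.mem_coe, Set.mem_univ, iff_true]
      tauto
    · rw [Set.disjoint_left]; rintro x (⟨h, -⟩ | h) h'
      · exact h h'
      · exact h (hsqA x h')
    · rw [Set.disjoint_left]; exact fun x h h' => h' h.2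
  have hA' : (A : Set E).ncard = 2 ^ (m + 1) := by rw [← Nat.card_coe_set_eq]; exact hA
  have hpow : 2 ^ (2 * m + 1) = 2 * 2 ^ (2 * m) ∧ 2 ^ (m + 1) = 2 * 2 ^ m := ⟨by ring, by ring⟩
  show Nat.card ({x : E | x ^ 2 ≠ 1} : Set E) = _
  rw [Nat.card_coe_set_eq]
  omega


/-- Let E be an extraspecial 2-group of order 2^(2m+1) of plus type, that is, containing an elementary abelian subgroup of order 2^(m+1) (equivalently, a central product of m dihedral groups of order 8). Then E has exactly 2^(2m) − 2^m elements of order 4. -/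
theorem result {E : Type*} [Group E] [Finite E] (m : ℕ) (hm : 1 ≤ m) (hE : Cfsg.IsExtraspecial 2 E) (hcard : Nat.card E = 2 ^ (2 * m + 1)) (hplus : ∃ A : Subgroup E, Cfsg.IsElementaryAbelian 2 A ∧ Nat.card A = 2 ^ (m + 1)) : Nat.card {x : E // orderOf x = 4} = 2 ^ (2 * m) - 2 ^ m := by
  rw [← card_sq_ne_one m hm hE hcard hplus]
  obtain ⟨⟨hp, hfz, hcz⟩, hZ⟩ := hE
  refine Nat.card_congr (Equiv.subtypeEquivRight fun x => ?_)
  have h2 : x ^ 2 ∈ Subgroup.center E := Subgroup.mem_center_iff.2 fun g => by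
    have hc : ∀ y : E, ⁅x, y⁆ ∈ Subgroup.center E := fun y =>
      hcz ▸ Subgroup.commutator_mem_commutator (Subgroup.mem_top x) (Subgroup.mem_top y)
    have h := pow_card_eq_one' (G := Subgroup.center E) (x := ⟨_, hc g⟩)
    rw [hZ] at h
    have h' : ⁅x, g⁆ ^ 2 = 1 := by simpa using congrArg Subtype.val h
    refine (commutatorElement_eq_one_iff_mul_comm.1 ?_).symm
    calc ⁅x ^ 2, g⁆ = (x * ⁅x, g⁆ * x⁻¹) * ⁅x, g⁆ := by simp [commutatorElement_def, sq, mul_assoc]
      _ = ⁅x, g⁆ ^ 2 := by rw [Subgroup.mem_center_iff.1 (hc g) x, sq]; group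
      _ = 1 := h'
  constructor
  · intro h h'
    have := orderOf_dvd_of_pow_eq_one h'
    rw [h] at this; norm_num at this
  · intro h
    exact orderOf_eq_prime_pow (p := 2) (n := 1) (by simpa using h) (by
      show x ^ 4 = 1
      rw [show (4 : ℕ) = 2 * 2 by norm_num, pow_mul]
      have := pow_card_eq_one' (G := Subgroup.center E) (x := ⟨_, h2⟩)
      rw [hZ] at this; simpa using congrArg Subtype.val this)

end Cfsg.Agent.S2880
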