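import Mathlib
import Cfsg.Statements.S2881
import Cfsg.Agent.S2880

set_option autoImplicit false

open scoped commutatorElement Pointwise

namespace Cfsg.Agent.S2881

/-- Let E be an extraspecial 2-group of order 2^(2m+1) of plus type (containing an elementary abelian subgroup of order 2^(m+1)), and let ω be an automorphism of E of order 5 whose fixed points are exactly the centre of E. Then m is divisible by 4. -/
theorem result {E : Type*} [Group E] [Finite E] (m : ℕ) (hm : 1 ≤ m) (hE : Cfsg.IsExtraspecial 2 E) (hcard : Nat.card E = 2 ^ (2 * m + 1)) (hplus : ∃ A : Subgroup E, Cfsg.IsElementaryAbelian 2 A ∧ Nat.card A = 2 ^ (m + 1)) (ω : E ≃* E) (hω : orderOf ω = 5) (hfix : ∀ x : E, ω x = x ↔ x ∈ Subgroup.center E) : 4 ∣ m := by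
  classical
  have := Fintype.ofFinite E
  have hc : Nat.card {x : E // x ^ 2 ≠ 1} = 2 ^ (2 * m) - 2 ^ m :=
    Cfsg.Agent.S2880.card_sq_ne_one m hm hE hcard hplus
  have h5 : 5 ∣ 2 ^ (2 * m) - 2 ^ m := by
    rw [← hc, Nat.card_eq_fintype_card]
    haveI : Fact (Nat.Prime 5) := ⟨by norm_num⟩
    by_contra h
    let σ : Equiv.Perm {x : E // x ^ 2 ≠ 1} := Equiv.Perm.subtypePerm ω.toEquiv (fun x => by
      show (ω x) ^ 2 ≠ 1 ↔ x ^ 2 ≠ 1
      rw [← map_pow, ne_eq, ne_eq, MulEquiv.map_eq_one_iff])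
    have hσ : σ ^ 5 ^ 1 = 1 := by
      rw [Equiv.Perm.subtypePerm_pow]
      ext x
      show ((ω.toEquiv : Equiv.Perm E) ^ 5 ^ 1) x.1 = x.1
      have h1 : ω ^ 5 = 1 := hω ▸ pow_orderOf_eq_one ω
      calc ((ω.toEquiv : Equiv.Perm E) ^ 5 ^ 1) x.1 = (ω ^ 5) x.1 := rfl
        _ = _ := by rw [h1]; rfl
    obtain ⟨⟨x, hx⟩, hfx⟩ := Equiv.Perm.exists_fixed_point_of_prime h hσ
    have hxZ : x ∈ Subgroup.center E := (hfix x).1 (congrArg Subtype.val hfx)
    have := pow_card_eq_one' (G := Subgroup.center E) (x := ⟨x, hxZ⟩)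
    rw [hE.2] at this
    exact hx (by simpa using congrArg Subtype.val this)
  have h2 : 2 ^ (2 * m) - 2 ^ m = 2 ^ m * (2 ^ m - 1) := by
    rw [Nat.mul_sub, two_mul, pow_add, mul_one]
  rw [h2, Nat.Prime.dvd_mul (by norm_num)] at h5
  rcases h5 with h | h
  · exact absurd ((Nat.Prime.dvd_of_dvd_pow (by norm_num) h)) (by norm_num)
  · have h1 : 2 ^ m % 5 = 1 := by
      have := Nat.one_le_two_pow (n := m)
      omega
    rw [← Nat.div_add_mod m 4, pow_add, pow_mul, Nat.mul_mod, Nat.pow_mod] at h1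
    norm_num at h1
    have : m % 4 < 4 := Nat.mod_lt _ (by norm_num)
    interval_cases hk : m % 4 <;> simp_all [Nat.dvd_iff_mod_eq_zero]

end Cfsg.Agent.S2881
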