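import Cfsg.Agent.Lib.FpfThree.FourFixed
import Cfsg.Agent.Lib.FpfThree.Main
import Cfsg.Agent.Lib.FpfThree.UThree
import Mathlib.FieldTheory.Finite.GaloisField

set_option autoImplicit false
open Cfsg

namespace Cfsg.Agent.S2933

open Cfsg.Agent.Lib.FpfThree
open scoped commutatorElement

/-- Let T be a 2-subgroup of a finite group G, V ≤ Z(T) a four-group, and t, ρ ∈ N_G(V) ∩ N_G(T) elements of order 2 and 3 with t commuting with ρ and with V. If [V, ρ] = V and C_T(t) = V, then T is elementary abelian of order 16, or homocyclic of rank 2 (ℤ/2ⁿ × ℤ/2ⁿ for some n ≥ 1), or isomorphic to a Sylow 2-subgroup of PSL₃(4) or of PSU₃(4). -/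
theorem result {G : Type*} [Group G] [Finite G] (T V : Subgroup G) (hT : IsPGroup 2 ↥T) (hVT : V ≤ T ⊓ Subgroup.centralizer (T : Set G)) (hV : Nat.card ↥V = 4 ∧ ∀ v ∈ V, v ^ 2 = 1) (t ρ : G) (ht : orderOf t = 2) (hρ : orderOf ρ = 3) (htn : t ∈ Subgroup.normalizer (V : Set G) ⊓ Subgroup.normalizer (T : Set G)) (hρn : ρ ∈ Subgroup.normalizer (V : Set G) ⊓ Subgroup.normalizer (T : Set G)) (htρ : t * ρ = ρ * t) (htV : t ∈ Subgroup.centralizer (V : Set G)) (hVρ : ⁅V, Subgroup.zpowers ρ⁆ = V) (hCt : T ⊓ Subgroup.centralizer ({t} : Set G) = V) : (Nat.card ↥T = 16 ∧ ∀ x ∈ T, x ^ 2 = 1) ∨ (∃ n : ℕ, 1 ≤ n ∧ Nonempty (↥T ≃* Multiplicative (ZMod (2 ^ n)) × Multiplicative (ZMod (2 ^ n)))) ∨ (∃ (F : Type) (_ : Field F) (_ : Fintype F), Fintype.card F = 4 ∧ ∀ P : Sylow 2 (Matrix.ProjectiveSpecialLinearGroup (Fin 3) F), Nonempty (↥T ≃* ↥(P : Subgroup (Matrix.ProjectiveSpecialLinearGroup (Fin 3) F)))) ∨ (∃ (F : Type) (_ : Field F) (_ : Fintype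 F), Fintype.card F = 16 ∧ ∀ P : Sylow 2 (Cfsg.PSU 3 F 4), Nonempty (↥T ≃* ↥(P : Subgroup (Cfsg.PSU 3 F 4)))) := by
  classical
  haveI : Fact (Nat.Prime 2) := ⟨Nat.prime_two⟩
  have ht2 : t * t = 1 := by rw [← pow_two]; exact orderOf_dvd_iff_pow_eq_one.1 ht.dvd
  have hρ3 : ρ ^ 3 = 1 := orderOf_dvd_iff_pow_eq_one.1 hρ.dvd
  let τ : MulAut ↥T := T.normalizerMonoidHom ⟨t, htn.2⟩
  let σ : MulAut ↥T := T.normalizerMonoidHom ⟨ρ, hρn.2⟩
  have hτv : ∀ x : T, ((τ x : T) : G) = t * x * t⁻¹ := fun x => rfl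
  have hσv : ∀ x : T, ((σ x : T) : G) = ρ * x * ρ⁻¹ := fun x => rfl
  set V' : Subgroup T := V.subgroupOf T with hV'
  have hVle : V ≤ T := fun v hv => (hVT hv).1
  have hV4 : Nat.card V' = 4 := by
    rw [Nat.card_congr (Subgroup.subgroupOfEquivOfLe hVle).toEquiv]; exact hV.1
  have hfixed : ∀ x : T, τ x = x ↔ x ∈ V' := fun x => by
    rw [hV', Subgroup.mem_subgroupOf, Subtype.ext_iff, hτv, ← hCt, Subgroup.mem_inf,
      Subgroup.mem_centralizer_singleton_iff, mul_inv_eq_iff_eq_mul]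
    exact ⟨fun h => ⟨x.2, h.symm⟩, fun h => h.2.symm⟩
  have hcomm : ∀ x : T, τ (σ x) = σ (τ x) := fun x => Subtype.ext (by
    rw [hτv, hσv, hσv, hτv]
    calc t * (ρ * x * ρ⁻¹) * t⁻¹ = (t * ρ) * x * (t * ρ)⁻¹ := by group
      _ = _ := by rw [htρ]; group)
  have hinvol : ∀ x : T, τ (τ x) = x := fun x => Subtype.ext (by
    rw [hτv, hτv]
    calc t * (t * x * t⁻¹) * t⁻¹ = (t * t) * x * (t * t)⁻¹ := by group
      _ = x := by rw [ht2]; group)
  have hcube : ∀ x : T, σ (σ (σ x)) = x := fun x => Subtype.ext (by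
    rw [hσv, hσv, hσv]
    calc ρ * (ρ * (ρ * x * ρ⁻¹) * ρ⁻¹) * ρ⁻¹ = ρ ^ 3 * x * (ρ ^ 3)⁻¹ := by
          simp only [pow_succ, pow_zero, one_mul]; group
      _ = x := by rw [hρ3]; group)
  -- `ρ` moves every involution of `V`
  have hσV : ∀ v ∈ V', σ v = v → v = 1 := by
    intro v hv hfix
    by_contra hv1
    have hvG : ρ * v * ρ⁻¹ = (v : G) := by rw [← hσv, hfix]
    have hvV : (v : G) ∈ V := hv
    have hcent : ∀ w ∈ V, ρ * w * ρ⁻¹ = w := by
      intro w hw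
      let e : V → V := fun u => ⟨ρ * u * ρ⁻¹, (Subgroup.mem_normalizer_iff.1 hρn.1 _).1 u.2⟩
      let f : Function.End V := e
      have hf : f ^ 3 ^ 1 = 1 := funext fun u => Subtype.ext (by
        show ρ * (ρ * (ρ * (u : G) * ρ⁻¹) * ρ⁻¹) * ρ⁻¹ = u
        calc ρ * (ρ * (ρ * (u : G) * ρ⁻¹) * ρ⁻¹) * ρ⁻¹ = ρ ^ 3 * u * (ρ ^ 3)⁻¹ := by
              simp only [pow_succ, pow_zero, one_mul]; group
          _ = u := by rw [hρ3]; group)
      haveI : Fact (Nat.Prime 3) := ⟨Nat.prime_three⟩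
      letI := Fintype.ofFinite V
      have hmod := Equiv.Perm.card_fixedPoints_modEq (p := 3) (n := 1) hf
      rw [← Nat.card_eq_fintype_card, ← Nat.card_eq_fintype_card, hV.1, Nat.ModEq] at hmod
      by_contra hne
      have hlt : Nat.card (Function.fixedPoints f) < 4 := by
        rw [← hV.1]
        exact Finite.card_subtype_lt (x := (⟨w, hw⟩ : V)) fun h => hne (congrArg Subtype.val h)
      have h2 : 2 ≤ Nat.card (Function.fixedPoints f) := by
        refine Finite.one_lt_card_iff_nontrivial.2 ⟨⟨⟨1, Subtype.ext (by show ρ * 1 * ρ⁻¹ = 1; group)⟩,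
          ⟨⟨v, hvV⟩, Subtype.ext hvG⟩, fun h => hv1 (Subtype.ext ?_)⟩⟩
        exact (congrArg (fun p : Function.fixedPoints f => ((p : V) : G)) h).symm
      omega
    have hbot : ⁅V, Subgroup.zpowers ρ⁆ = ⊥ := by
      rw [Subgroup.commutator_eq_bot_iff_le_centralizer]
      intro w hw
      rw [Subgroup.mem_centralizer_iff]
      rintro _ ⟨k, rfl⟩
      exact ((show Commute ρ w from mul_inv_eq_iff_eq_mul.1 (hcent w hw)).zpow_left k).eq
    rw [hbot] at hVρ
    have h4 := hV.1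
    rw [← hVρ, Subgroup.card_bot] at h4
    omega
  have hfix : ∀ y : T, σ y = y → y = 1 := by
    intro y hy
    by_contra hy1
    let C : Subgroup T :=
      { carrier := {z | σ z = z}
        mul_mem' := fun {a b} ha hb => by
          show σ (a * b) = a * b
          rw [map_mul, show σ a = a from ha, show σ b = b from hb]
        one_mem' := map_one σ
        inv_mem' := fun {a} ha => by
          show σ a⁻¹ = a⁻¹
          rw [map_inv, show σ a = a from ha] }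
    haveI : Nontrivial C := ⟨⟨⟨y, hy⟩, 1, fun h => hy1 (congrArg Subtype.val h)⟩⟩
    have hC : ∀ z : C, τ (z : T) ∈ C := fun z => by
      show σ (τ (z : T)) = τ (z : T)
      rw [← hcomm, show σ (z : T) = z from z.2]
    let τC : MulAut C :=
      { toFun := fun z => ⟨τ z, hC z⟩
        invFun := fun z => ⟨τ z, hC z⟩
        left_inv := fun z => Subtype.ext (hinvol _)
        right_inv := fun z => Subtype.ext (hinvol _)
        map_mul' := fun a b => Subtype.ext (map_mul τ _ _) }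
    obtain ⟨z, hz1, hz⟩ := exists_fixed (hT.to_subgroup C) τC fun z => Subtype.ext (hinvol _)
    have hzV : (z : T) ∈ V' := (hfixed _).1 (congrArg Subtype.val hz)
    exact hz1 (Subtype.ext (hσV _ hzV z.2))
  have H : Four T σ τ V' := ⟨hT, ⟨hcube, hfix⟩, hinvol, hcomm, hfixed, hV4⟩
  have hVc : V' ≤ Subgroup.center T := fun v hv => Subgroup.mem_center_iff.2 fun x =>
    Subtype.ext (Subgroup.mem_centralizer_iff.1 (hVT hv).2 (x : G) x.2)
  by_cases hc : ∀ a b : T, Commute a b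
  · rcases H.abelian hc with ⟨h16, hexp⟩ | ⟨n, hn, x, -, he⟩
    · left
      refine ⟨h16, fun x hx => ?_⟩
      have := congrArg Subtype.val (hexp ⟨x, hx⟩)
      rw [pow_two]; exact this
    · exact Or.inr (Or.inl ⟨n, hn, he⟩)
  right; right
  have hne : ∃ a b : T, a * b ≠ b * a := by
    by_contra! h
    exact hc h
  obtain ⟨h64, hZ, -, hinv⟩ := H.nonabelian hVc hne
  by_cases honly : ∀ y : T, y * y = 1 → y ∈ Subgroup.center T
  · right
    haveI : Fact (Nat.Prime 2) := ⟨Nat.prime_two⟩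
    letI : Fintype (GaloisField 2 4) := Fintype.ofFinite _
    have hF : Fintype.card (GaloisField 2 4) = 16 := by
      rw [← Nat.card_eq_fintype_card, GaloisField.card 2 4 (by norm_num)]; norm_num
    exact ⟨GaloisField 2 4, inferInstance, inferInstance, hF, fun P =>
      u3_iso h64 hne H.fpf honly hF P⟩
  · left
    push Not at honly
    obtain ⟨A, hA, hAZ⟩ := honly
    obtain ⟨F, hFf, hFt, hF4, S, ⟨e⟩⟩ := Lib.FpfThree.param h64 hne H.fpf (A := A) (B := τ A) hA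
      (by rw [← map_mul, hA, map_one]) (hinv A hA (hZ ▸ hAZ))
    exact ⟨F, hFf, hFt, hF4, fun P => ⟨e.trans (S.equiv P)⟩⟩

end Cfsg.Agent.S2933
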