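import Cfsg.Statements.S2945
import Cfsg.Agent.Lib.LocalChar.JSubnormal
-- import your own Cfsg.Agent.* helpers here

set_option autoImplicit false
open Cfsg

namespace Cfsg.Agent.S2945

/-- Let G be a finite group of characteristic 2 type in which every 2-local subgroup is solvable and the centralizer of Ω₁(Z(S)) lies in N_G(S) for every Sylow 2-subgroup S, and let T be a nontrivial 2-subgroup (below, J is the Thompson subgroup generated by the elementary abelian 2-subgroups of largest order), L a subgroup in which T is a Sylow 2-subgroup with J(T) not contained in O₂(L) and C_G(O₂(L)) ≤ O₂(L), and K ≤ L a subgroup that is subnormal in ⟨K, J(T)⟩. If for some conjugate Tᵍ of T, K is a J(Tᵍ)-component with J(Tᵍ) the Thompson subgroup of every Sylow 2-subgroup of N_G(W_K) containing J(Tᵍ) (W_K = [Ω₁(Z(O₂(K))), K]), then K is a J(T)-component. -/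
theorem result {G : Type*} [Group G] [Finite G] (hL : Cfsg.IsCharacteristicTwoType G) (hN : ∀ N : Subgroup G, Cfsg.IsTwoLocal N → Group.IsSolvable ↥N)
    (hZ : ∀ S : Sylow 2 G, Subgroup.centralizer (Cfsg.omegaCenterOf (S : Subgroup G) : Set G) ≤ Subgroup.normalizer ((S : Subgroup G) : Set G)) (T : Subgroup G) (hT : IsPGroup 2 ↥T) (hT1 : T ≠ ⊥) (L : Subgroup G) (hLT : L ∈ Cfsg.jOvergroups T)
    (K : Subgroup G) (hKL : K ≤ L) (hKsn : (K.subgroupOf (K ⊔ Cfsg.thompsonSubgroupOf 2 T)).IsSubnormal)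
    (g : G) (hKg : K ∈ Cfsg.jComponentsZero (T.map (MulAut.conj g).toMonoidHom)) : Cfsg.IsJComponent T K := by
  have am : Cfsg.Agent.Lib.LocalChar.JComp.Amb G := ⟨hL, hN, hZ⟩
  have hTs := Cfsg.Agent.Lib.LocalChar.JComp.isSylowTwoIn_iff.1 hLT.1
  set H := K ⊔ Cfsg.thompsonSubgroupOf 2 T with hH
  have hHL : H ≤ L := sup_le hKL ((Cfsg.Agent.Lib.LocalChar.JComp.thompsonOf_le T).trans hTs.1)
  have hsol : Group.IsSolvable ↥H :=
    Cfsg.Agent.Lib.Coprime.isSolvable_of_le hHL (Cfsg.Agent.Lib.LocalChar.JComp.solvable_L am hLT)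
  have hJW : Cfsg.thompsonSubgroupOf 2 T ≤ Subgroup.normalizer (Cfsg.wOf K : Set G) := by
    rw [Cfsg.Agent.Lib.LocalChar.JComp.thompsonOf_eq T]
    refine sSup_le fun A hA => Cfsg.Agent.Lib.LocalChar.JComp.offender_le_nzW hKg.1 le_sup_left hKsn hsol ?_
    exact ⟨hA.1, (Cfsg.Agent.Lib.LocalChar.JComp.jset_le hA).trans le_sup_right, fun B hB hBH =>
      (Cfsg.Agent.Lib.LocalChar.JComp.jset_T_L am hLT hA).2.2 B hB (hBH.trans hHL)⟩
  have hTg : IsPGroup 2 ↥(T.map (MulAut.conj g).toMonoidHom) := hT.map _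
  have e : Cfsg.Agent.Lib.LocalChar.cj g⁻¹ (T.map (MulAut.conj g).toMonoidHom) = T :=
    Cfsg.Agent.Lib.LocalChar.JComp.cj_inv_cj g T
  have h := Cfsg.Agent.Lib.LocalChar.JComp.component_of_conj am hTg hKg g⁻¹ (by rw [e]; exact hJW)
  rwa [e] at h

end Cfsg.Agent.S2945
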