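import Cfsg.Statements.S2953
import Cfsg.Agent.Lib.LocalChar.JTwo
-- import your own Cfsg.Agent.* helpers here

set_option autoImplicit false
open Cfsg

namespace Cfsg.Agent.S2953

/-- Let G be a finite group of characteristic 2 type in which every 2-local subgroup is solvable and the centralizer of Ω₁(Z(S)) lies in N_G(S) for every Sylow 2-subgroup S; suppose O₂(G) = 1, fix a Sylow 2-subgroup S and a 2-local subgroup M containing N_G(J(S)) (J the Thompson subgroup generated by the elementary abelian 2-subgroups of largest order). Let T be maximal (for the order of a largest elementary abelian subgroup, then the order of J(T), then the order of T) among the nontrivial 2-subgroups of M lying in a 2-local subgroup not inside M. Then there are two distinct J(T)-components K₁, K₂ such that, with Pᵢ = ⟨Kᵢ, T⟩: C_G(O₂(Pᵢ)) ≤ O₂(Pᵢ), T is a Sylow 2-subgroup of Pᵢ, O₂(Pᵢ) has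 index 6 in Pᵢ with Pᵢ/O₂(Pᵢ) non-abelian, [Ω₁(Z(T)), Pᵢ] ≠ 1, O₂(⟨P₁, P₂⟩) = 1, and each Pᵢ lies in exactly one maximal 2-local subgroup Lᵢ of G, in which T is a Sylow 2-subgroup. -/
theorem result {G : Type*} [Group G] [Finite G] (hL : Cfsg.IsCharacteristicTwoType G) (hN : ∀ N : Subgroup G, Cfsg.IsTwoLocal N → Group.IsSolvable ↥N)
    (hZ : ∀ S : Sylow 2 G, Subgroup.centralizer (Cfsg.omegaCenterOf (S : Subgroup G) : Set G) ≤ Subgroup.normalizer ((S : Subgroup G) : Set G)) (hO : Cfsg.pCore 2 G = ⊥) (S : Sylow 2 G) (M : Subgroup G) (hM : Cfsg.IsTwoLocal M)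
    (hMJ : Subgroup.normalizer (Cfsg.thompsonSubgroupOf 2 (S : Subgroup G) : Set G) ≤ M) (T : Subgroup G) (hT : T ∈ Cfsg.maxStraddlingTwoSubgroups M) :
    ∃ K₁ K₂ : Subgroup G, K₁ ≠ K₂ ∧ Cfsg.IsJComponent T K₁ ∧ Cfsg.IsJComponent T K₂ ∧
      Cfsg.pCoreOf 2 ((K₁ ⊔ T) ⊔ (K₂ ⊔ T)) = ⊥ ∧
      ∀ P ∈ [K₁ ⊔ T, K₂ ⊔ T],
        Subgroup.centralizer (Cfsg.pCoreOf 2 P : Set G) ≤ Cfsg.pCoreOf 2 P ∧ Cfsg.IsSylowTwoIn T P ∧
        (Cfsg.pCoreOf 2 P).relIndex P = 6 ∧ ¬ ⁅P, P⁆ ≤ Cfsg.pCoreOf 2 P ∧ ⁅Cfsg.omegaCenterOf T, P⁆ ≠ ⊥ ∧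
        ∃ L : Subgroup G, Cfsg.IsMaximalTwoLocal L ∧ P ≤ L ∧ Cfsg.IsSylowTwoIn T L ∧
          ∀ L' : Subgroup G, Cfsg.IsMaximalTwoLocal L' → P ≤ L' → L' = L := by
  have am : Agent.Lib.LocalChar.JComp.Amb G := ⟨hL, hN, hZ⟩
  obtain ⟨K₁, K₂, h₁, h₂, hs, hn⟩ := Agent.Lib.LocalChar.JComp.exists_two am hO S hMJ hT
  have hJ : Cfsg.thompsonSubgroupOf 2 T ≤ T := Agent.Lib.LocalChar.JComp.thompsonOf_le T
  have hne : K₁ ≠ K₂ := fun e => hn (e ▸ Subgroup.le_normalizer)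
  refine ⟨K₁, K₂, hne, h₁.comp, h₂.comp, ?_, ?_⟩
  · have hN' := Agent.Lib.LocalChar.le_nz_pCoreOf (p := 2) ((K₁ ⊔ T) ⊔ (K₂ ⊔ T))
    exact Agent.Lib.LocalChar.JComp.Good.no_common am h₁.p2 h₁.good h₂.comp hn
      (Agent.Lib.LocalChar.isPGroup_pCoreOf _) ((hJ.trans (le_sup_right.trans le_sup_left)).trans hN')
      ((le_sup_left.trans le_sup_left).trans hN') ((le_sup_left.trans le_sup_right).trans hN')
  have key : ∀ K : Subgroup G, Agent.Lib.LocalChar.JComp.Adm T K →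
      Subgroup.centralizer (Cfsg.pCoreOf 2 (K ⊔ T) : Set G) ≤ Cfsg.pCoreOf 2 (K ⊔ T) ∧
        Cfsg.IsSylowTwoIn T (K ⊔ T) ∧ (Cfsg.pCoreOf 2 (K ⊔ T)).relIndex (K ⊔ T) = 6 ∧
        ¬ ⁅K ⊔ T, K ⊔ T⁆ ≤ Cfsg.pCoreOf 2 (K ⊔ T) ∧ ⁅Cfsg.omegaCenterOf T, K ⊔ T⁆ ≠ ⊥ ∧
        ∃ L : Subgroup G, Cfsg.IsMaximalTwoLocal L ∧ K ⊔ T ≤ L ∧ Cfsg.IsSylowTwoIn T L ∧
          ∀ L' : Subgroup G, Cfsg.IsMaximalTwoLocal L' → K ⊔ T ≤ L' → L' = L := by
    intro K h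
    have hsyl := Agent.Lib.LocalChar.JComp.isSylowTwoIn_iff.2 (h.syl _ (h.join_local am hs) le_rfl)
    refine ⟨?_, hsyl, h.relIndex_six am hs, h.not_comm am hs, h.comm_omZ_ne am hs, K ⊔ T,
      h.join_maximal am hs, le_rfl, hsyl, fun L' hL' hle => (hL'.2 _ (h.join_local am hs)
        (h.join_unique am hs hL'.1 ((sup_le_sup_left hJ K).trans hle))).symm⟩
    rw [h.core_join am hs]
    exact h.cent_Q am hs
  intro P hP
  simp only [List.mem_cons, List.not_mem_nil, or_false] at hP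
  rcases hP with rfl | rfl
  · exact key K₁ h₁
  · exact key K₂ h₂

end Cfsg.Agent.S2953
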