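import Cfsg.Statements.S2954
import Cfsg.Agent.Lib.LocalChar.JSymFour
-- import your own Cfsg.Agent.* helpers here

set_option autoImplicit false
open Cfsg

namespace Cfsg.Agent.S2954

/-- Let G be a finite group of characteristic 2 type in which every 2-local subgroup is solvable and the centralizer of Ω₁(Z(S)) lies in N_G(S) for every Sylow 2-subgroup S; suppose O₂(G) = 1, fix a Sylow 2-subgroup S and a 2-local subgroup M containing N_G(J(S)) (J the Thompson subgroup generated by the elementary abelian 2-subgroups of largest order). If T is maximal (for the order of a largest elementary abelian subgroup, then the order of J(T), then the order of T) among the nontrivial 2-subgroups of M lying in a 2-local subgroup not inside M, then there are two distinct maximal 2-local subgroups P₁, P₂ of G, each having T as a Sylow 2-subgroup, that are both isomorphic to the symmetric group on four letters or both isomorphic to its direct product with a group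 of order 2. -/
theorem result {G : Type*} [Group G] [Finite G] (hL : Cfsg.IsCharacteristicTwoType G) (hN : ∀ N : Subgroup G, Cfsg.IsTwoLocal N → Group.IsSolvable ↥N)
    (hZ : ∀ S : Sylow 2 G, Subgroup.centralizer (Cfsg.omegaCenterOf (S : Subgroup G) : Set G) ≤ Subgroup.normalizer ((S : Subgroup G) : Set G)) (hO : Cfsg.pCore 2 G = ⊥) (S : Sylow 2 G) (M : Subgroup G) (hM : Cfsg.IsTwoLocal M)
    (hMJ : Subgroup.normalizer (Cfsg.thompsonSubgroupOf 2 (S : Subgroup G) : Set G) ≤ M) (T : Subgroup G) (hT : T ∈ Cfsg.maxStraddlingTwoSubgroups M) :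
    ∃ P₁ P₂ : Subgroup G, P₁ ≠ P₂ ∧ Cfsg.IsMaximalTwoLocal P₁ ∧ Cfsg.IsMaximalTwoLocal P₂ ∧
      Cfsg.IsSylowTwoIn T P₁ ∧ Cfsg.IsSylowTwoIn T P₂ ∧
      ((Nonempty (↥P₁ ≃* Equiv.Perm (Fin 4)) ∧ Nonempty (↥P₂ ≃* Equiv.Perm (Fin 4))) ∨
        (Nonempty (↥P₁ ≃* Equiv.Perm (Fin 4) × Multiplicative (ZMod 2)) ∧
          Nonempty (↥P₂ ≃* Equiv.Perm (Fin 4) × Multiplicative (ZMod 2)))) := by
  have am : Agent.Lib.LocalChar.JComp.Amb G := ⟨hL, hN, hZ⟩
  obtain ⟨K₁, K₂, h₁, h₂, hs, hn⟩ := Agent.Lib.LocalChar.JComp.exists_two am hO S hMJ hT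
  have hJ : Cfsg.thompsonSubgroupOf 2 T ≤ T := Agent.Lib.LocalChar.JComp.thompsonOf_le T
  refine ⟨K₁ ⊔ T, K₂ ⊔ T, fun e => hn ?_, h₁.join_maximal am hs, h₂.join_maximal am hs,
    Agent.Lib.LocalChar.JComp.isSylowTwoIn_iff.2 (h₁.syl _ (h₁.join_local am hs) le_rfl),
    Agent.Lib.LocalChar.JComp.isSylowTwoIn_iff.2 (h₂.syl _ (h₂.join_local am hs) le_rfl), ?_⟩
  · rw [h₁.nzK_eq_join am hs, e]
    exact le_sup_left
  have e₁ := Agent.Lib.LocalChar.JComp.card_zJ h₁.comp h₁.p2
  have e₂ := Agent.Lib.LocalChar.JComp.card_zJ h₂.comp h₂.p2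
  rcases h₁.equiv_join am hs with ⟨c₁, i₁⟩ | ⟨c₁, i₁⟩ <;>
    rcases h₂.equiv_join am hs with ⟨c₂, i₂⟩ | ⟨c₂, i₂⟩
  · exact Or.inl ⟨i₁, i₂⟩
  · omega
  · omega
  · exact Or.inr ⟨i₁, i₂⟩

end Cfsg.Agent.S2954
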