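import Cfsg.Statements.S2968
import Cfsg.Agent.Lib.LocalP2.Isolated
-- import your own Cfsg.Agent.* helpers here

set_option autoImplicit false
open Cfsg Cfsg.Agent.Lib.LocalP2

namespace Cfsg.Agent.S2968

/-- Let G be a finite group, p a prime, P a Sylow p-subgroup of G and x ∈ P an element of p-power order which is isolated in G (the only conjugate of x commuting with x is x itself). Then x lies in the centre of P, and the subgroup generated by x is both strongly closed and weakly closed in P with respect to G. -/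
theorem result {G : Type*} [Group G] [Finite G] {p : ℕ} [Fact p.Prime] (P : Sylow p G) (x : G) (hxP : x ∈ (P : Subgroup G)) (hx : ∃ k : ℕ, orderOf x = p ^ k) (hiso : Cfsg.IsIsolated x) : x ∈ (P : Subgroup G) ⊓ Subgroup.centralizer ((P : Subgroup G) : Set G) ∧ Cfsg.IsStronglyClosed (Subgroup.zpowers x) (P : Subgroup G) ∧ Cfsg.IsWeaklyClosed (Subgroup.zpowers x) (P : Subgroup G) := by
  have hcent : ∀ r ∈ (P : Subgroup G), r * x * r⁻¹ = x := fun r hr =>
    isolated_comm_of_pGroup hiso P.2 hxP hr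
  have hcomm : ∀ r ∈ (P : Subgroup G), r * x = x * r := fun r hr => mul_inv_eq_iff_eq_mul.1 (hcent r hr)
  have hsc : Cfsg.IsStronglyClosed (Subgroup.zpowers x) (P : Subgroup G) := by
    refine ⟨Subgroup.zpowers_le.2 hxP, ?_⟩
    intro w hw g hy
    obtain ⟨i, rfl⟩ := Subgroup.mem_zpowers_iff.1 hw
    -- both `x` and its conjugate by `g` centralize `y`
    have hxC : x ∈ Subgroup.centralizer {g * x ^ i * g⁻¹} := by
      rw [Subgroup.mem_centralizer_singleton_iff]; exact (hcomm _ hy).symm
    have hgC : g * x * g⁻¹ ∈ Subgroup.centralizer {g * x ^ i * g⁻¹} := by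
      rw [Subgroup.mem_centralizer_singleton_iff, conj_mul, conj_mul,
        ((Commute.refl x).zpow_right i).eq]
    obtain ⟨c, hc, hcx⟩ := isolated_conj_in_subgroup hx hiso _ hxC hgC
    rw [Subgroup.mem_centralizer_singleton_iff] at hc
    have h2 : c * (g * x ^ i * g⁻¹) * c⁻¹ = x ^ i := by
      have : (c * (g * x * g⁻¹) * c⁻¹) ^ i = x ^ i := by rw [hcx]
      rwa [conj_zpow, conj_zpow] at this
    have h3 : g * x ^ i * g⁻¹ = x ^ i := by
      rw [hc] at h2; rw [mul_inv_cancel_right] at h2; exact h2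
    rw [h3]; exact Subgroup.zpow_mem_zpowers x i
  refine ⟨⟨hxP, Subgroup.mem_centralizer_iff.2 hcomm⟩, hsc, hsc.1, ?_⟩
  intro g hg
  apply le_antisymm
  · rintro _ ⟨w, hw, rfl⟩
    exact hsc.2 w hw g (hg ⟨w, hw, rfl⟩)
  · have h := isolated_unique hiso P.2 hxP (g := g) (hg ⟨x, Subgroup.mem_zpowers x, rfl⟩)
    exact Subgroup.zpowers_le.2 ⟨x, Subgroup.mem_zpowers x, h⟩

end Cfsg.Agent.S2968
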