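import Cfsg.Statements.S2970
import Cfsg.Agent.Lib.LocalP2.Isolated
import Cfsg.Agent.Lib.LocalP2.CyclicSylow
-- import your own Cfsg.Agent.* helpers here

set_option autoImplicit false
open Cfsg Cfsg.Agent.Lib.LocalP2

namespace Cfsg.Agent.S2970

/-- Let G be a finite group, p a prime and x ∈ G an element of p-power order which is isolated in G. Then the image of x in any quotient G ⧸ N is isolated in G ⧸ N; and if x ≠ 1 and the Sylow p-subgroups of G are cyclic, then G has a normal p-complement. -/
theorem result {G : Type*} [Group G] [Finite G] {p : ℕ} [Fact p.Prime] (x : G) (hx : ∃ k : ℕ, orderOf x = p ^ k) (hiso : Cfsg.IsIsolated x) : (∀ (N : Subgroup G) [N.Normal], Cfsg.IsIsolated (QuotientGroup.mk x : G ⧸ N)) ∧ (x ≠ 1 → (∀ P : Sylow p G, IsCyclic ↥(P : Subgroup G)) → Cfsg.HasNormalPComplement p G) := by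
  constructor
  · intro N hN gb hcomm
    obtain ⟨g, rfl⟩ := QuotientGroup.mk_surjective gb
    set f := QuotientGroup.mk' N with hf
    set y := g * x * g⁻¹ with hy
    let A : Subgroup (G ⧸ N) := Subgroup.closure {f x, f y}
    have hcA : ∀ a ∈ A, Commute (f x) a := by
      intro a ha
      have hle : A ≤ Subgroup.centralizer {f x} := by
        refine (Subgroup.closure_le _).2 ?_
        rintro b (rfl | rfl)
        · exact Subgroup.mem_centralizer_singleton_iff.2 rfl
        · refine Subgroup.mem_centralizer_singleton_iff.2 ?_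
          exact (show Commute (f x) (f y) from by simpa [hf, hy] using hcomm).eq.symm
      exact (Subgroup.mem_centralizer_singleton_iff.1 (hle ha)).symm
    obtain ⟨c, hc, hcx⟩ := isolated_conj_in_subgroup hx hiso (A.comap f) (g := g)
      (show x ∈ A.comap f from Subgroup.subset_closure (Or.inl rfl))
      (show g * x * g⁻¹ ∈ A.comap f from Subgroup.subset_closure (Or.inr rfl))
    have h2 : f c * f y * (f c)⁻¹ = f x := by rw [← map_inv, ← map_mul, ← map_mul]; rw [hcx]
    have h3 : f y = (f c)⁻¹ * f x * f c := by rw [← h2]; group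
    have h4 : (f c)⁻¹ * f x * f c = f x := by
      rw [mul_assoc, (hcA _ hc).eq, inv_mul_cancel_left]
    show f g * f x * (f g)⁻¹ = f x
    rw [← map_inv, ← map_mul, ← map_mul, ← hy, h3, h4]
  · intro hx1 hcyc
    obtain ⟨P, hP⟩ := (isPGroup_zpowers_of_orderOf hx).exists_le_sylow
    have hxP : x ∈ (P : Subgroup G) := hP (Subgroup.mem_zpowers x)
    have hC : Subgroup.normalizer ((P : Subgroup G) : Set G) ≤
        Subgroup.centralizer ((P : Subgroup G) : Set G) :=
      normalizer_le_centralizer_of_fixed P (hcyc P) hxP hx1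
        (fun n hn => isolated_unique hiso P.2 hxP ((Subgroup.mem_normalizer_iff.1 hn x).1 hxP))
    exact ⟨P, (MonoidHom.transferSylow P hC).ker, MonoidHom.normal_ker _,
      MonoidHom.ker_transferSylow_isComplement' P hC⟩

end Cfsg.Agent.S2970
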