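import Cfsg.Statements.S2971
import Mathlib
import Cfsg.Agent.Lib.LocalChar.YL
import Cfsg.Agent.Lib.LocalP2.CoatomFixed
import Cfsg.Agent.Lib.LocalP2.CyclicSylow
import Cfsg.Agent.Lib.UniqueInvolution
import Cfsg.Agent.Lib.Hall.Basic
-- import your own Cfsg.Agent.* helpers here

set_option autoImplicit false
open Cfsg Cfsg.Agent Cfsg.Agent.Lib.LocalChar

namespace Cfsg.Agent.S2971

/-- Let G be a finite group and p an odd prime such that G has p-rank at most 1 (no elementary abelian subgroup of order p²). If x ∈ G is an isolated element of order p, then x is central modulo the largest normal subgroup of G of order prime to p. -/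
theorem result {G : Type*} [Group G] [Finite G] {p : ℕ} [Fact p.Prime] (hp : p ≠ 2) (hrk : Cfsg.PRankLE p 1 G) (x : G) (hx : orderOf x = p) (hiso : Cfsg.IsIsolated x) : Cfsg.InZStar p x := by
  have hp' : p.Prime := Fact.out
  obtain ⟨P, hP⟩ := (IsPGroup.of_card (n := 1) (by rw [Nat.card_zpowers, hx, pow_one]) :
    IsPGroup p (Subgroup.zpowers x)).exists_le_sylow
  have hxP : x ∈ (P : Subgroup G) := hP (Subgroup.mem_zpowers x)
  -- a `p`-group of rank one has one subgroup of order `p`
  have hprime : ∀ H : Subgroup ↥(P : Subgroup G), Nat.card H = p →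
      ∀ z : ↥(P : Subgroup G), z ∈ Subgroup.center ↥(P : Subgroup G) → orderOf z = p →
        H = Subgroup.zpowers z := by
    intro H hH z hz hzp
    by_contra hne
    have hbot : H ⊓ Subgroup.zpowers z = ⊥ := by
      refine (Lib.LocalP2.eq_bot_or_eq_of_prime_card (K := H) (by rw [hH]; exact hp') inf_le_left).resolve_right
        fun e => hne (Subgroup.eq_of_le_of_card_ge (e.ge.trans inf_le_right) ?_)
      rw [Nat.card_zpowers, hzp, hH]
    have hcomm : ∀ a ∈ H, ∀ b ∈ Subgroup.zpowers z, a * b = b * a := fun a _ b hb =>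
      Subgroup.mem_center_iff.1 (Subgroup.zpowers_le.2 hz hb) a
    haveI : IsCyclic H := isCyclic_of_prime_card hH
    set E := H ⊔ Subgroup.zpowers z with hEdef
    have hform : ∀ e ∈ E, ∃ a ∈ H, ∃ b ∈ Subgroup.zpowers z, e = a * b := fun e he =>
      (mem_sup_iff_of_nz' (A := H) (B := Subgroup.zpowers z) fun b hb => mem_nz_of_cj_le (cj_le_iff.2
        fun a ha => by rw [← hcomm a ha b hb, mul_inv_cancel_right]; exact ha)).1 he
    have hHc : ∀ a ∈ H, ∀ c ∈ H, a * c = c * a := fun a ha c hc =>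
      congrArg Subtype.val ((IsCyclic.commGroup (α := H)).mul_comm ⟨a, ha⟩ ⟨c, hc⟩)
    have hab : IsMulCommutative ↥(E.map (P : Subgroup G).subtype) := by
      refine ⟨⟨?_⟩⟩
      rintro ⟨_, a, ha, rfl⟩ ⟨_, b, hb, rfl⟩
      apply Subtype.ext
      show (a : G) * (b : G) = (b : G) * (a : G)
      suffices e : a * b = b * a from congrArg Subtype.val e
      obtain ⟨a1, ha1, a2, ha2, rfl⟩ := hform a ha
      obtain ⟨b1, hb1, b2, hb2, rfl⟩ := hform b hb
      have c1 : Commute a1 b1 := hHc a1 ha1 b1 hb1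
      have c2 : Commute a1 b2 := hcomm a1 ha1 b2 hb2
      have c3 : Commute a2 b1 := (hcomm b1 hb1 a2 ha2).symm
      have c4 : Commute a2 b2 := (Subgroup.mem_center_iff.1 (Subgroup.zpowers_le.2 hz hb2) a2)
      exact ((c1.mul_right c2).mul_left (c3.mul_right c4)).eq
    have hexp : ∀ a ∈ E.map (P : Subgroup G).subtype, a ^ p = 1 := by
      rintro _ ⟨a, ha, rfl⟩
      obtain ⟨a1, ha1, a2, ha2, rfl⟩ := hform a ha
      obtain ⟨j, rfl⟩ := ha2
      have h1 : a1 ^ p = 1 := by
        have := pow_card_eq_one' (x := (⟨a1, ha1⟩ : H))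
        rw [hH] at this
        exact congrArg Subtype.val this
      rw [← map_pow, (show Commute a1 (z ^ j) from hcomm a1 ha1 _ ⟨j, rfl⟩).mul_pow, h1, one_mul,
        ← zpow_natCast, ← zpow_mul, mul_comm, zpow_mul, zpow_natCast]
      have hz' : z ^ p = 1 := orderOf_dvd_iff_pow_eq_one.1 (by rw [hzp])
      rw [hz', one_zpow, map_one]
    have h := hrk _ hab hexp
    rw [Subgroup.card_map_of_injective (P : Subgroup G).subtype_injective, hEdef,
      Lib.LocalP2.card_sup_of_inf_bot _ _ hcomm hbot, hH, Nat.card_zpowers, hzp, pow_one] at h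
    nlinarith [hp'.two_le]
  haveI hnt : Nontrivial ↥(P : Subgroup G) :=
    ⟨⟨⟨x, hxP⟩, 1, fun e => by rw [show x = 1 from congrArg Subtype.val e, orderOf_one] at hx; exact hp'.one_lt.ne hx⟩⟩
  have hcyc : IsCyclic ↥(P : Subgroup G) := by
    haveI := P.isPGroup'.center_nontrivial
    obtain ⟨z, hz⟩ := exists_prime_orderOf_dvd_card' (G := Subgroup.center ↥(P : Subgroup G)) p
      (((P.isPGroup'.to_subgroup _).card_eq_or_dvd).resolve_left (Finite.one_lt_card.ne'))
    refine (Lib.UniqueInvolution.isCyclic_or_quaternion P.isPGroup' fun H K hH hK => ?_).resolve_right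
      fun h => hp h.1
    have hzc : orderOf (z : ↥(P : Subgroup G)) = p := by rw [Subgroup.orderOf_coe]; exact hz
    rw [hprime H hH _ z.2 hzc, hprime K hK _ z.2 hzc]
  have hx1 : x ≠ 1 := fun e => by rw [e, orderOf_one] at hx; exact hp'.one_lt.ne hx
  have hPc : ∀ a ∈ (P : Subgroup G), Commute a x := fun a ha =>
    congrArg Subtype.val ((IsCyclic.commGroup (α := ↥(P : Subgroup G))).mul_comm ⟨a, ha⟩ ⟨x, hxP⟩)
  have hN := Lib.LocalP2.normalizer_le_centralizer_of_fixed P hcyc hxP hx1 fun n hn => by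
    refine hiso n ?_
    exact (hPc _ ((Subgroup.mem_normalizer_iff.1 hn x).1 hxP)).symm
  set K := (MonoidHom.transferSylow P hN).ker
  have hcomp := MonoidHom.ker_transferSylow_isComplement' P hN
  have hKO : K ≤ pPrimeCore p G := Lib.Hall.le_pPrimeCore
    ((Nat.Prime.coprime_iff_not_dvd hp').2 (MonoidHom.not_dvd_card_ker_transferSylow P hN)).symm
  intro g
  have hKn : K.Normal := MonoidHom.normal_ker _
  obtain ⟨k, hk, q, hq, rfl⟩ := (mem_sup_iff_of_nz' (A := K) (B := (P : Subgroup G))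
    (by rw [Subgroup.normalizer_eq_top]; exact le_top)).1 (hcomp.sup_eq_top.ge (Subgroup.mem_top g))
  apply hKO
  rw [show k * q * x * (k * q)⁻¹ * x⁻¹ = k * (q * x * q⁻¹) * k⁻¹ * x⁻¹ by group, (hPc q hq).eq,
    mul_inv_cancel_right, show k * x * k⁻¹ * x⁻¹ = k * (x * k⁻¹ * x⁻¹) by group]
  exact K.mul_mem hk (hKn.conj_mem _ (K.inv_mem hk) x)

end Cfsg.Agent.S2971
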