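import Cfsg.Statements.S2972
import Mathlib
import Cfsg.Agent.Lib.LocalP2.ZStar
import Cfsg.Agent.Lib.Char2.Basic
-- import your own Cfsg.Agent.* helpers here

set_option autoImplicit false
open Cfsg Cfsg.Agent Cfsg.Agent.Lib.LocalChar
open scoped commutatorElement Pointwise

namespace Cfsg.Agent.S2972

/-- Let G be a finite group, p a prime and x ∈ G an isolated element of order p (the only conjugate of x commuting with x is x) which is not central modulo the largest normal subgroup of order prime to p, while x is central modulo the largest normal subgroup of order prime to p in every proper subgroup containing x, and the image of x is so in every quotient of G by a nontrivial normal subgroup (a minimal counterexample to the Z*_p statement). Then the derived subgroup G' is a non-abelian simple group and G = G'⟨x⟩. -/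
theorem result {G : Type*} [Group G] [Finite G] {p : ℕ} [Fact p.Prime] (x : G) (hx : orderOf x = p) (hiso : Cfsg.IsIsolated x) (hnz : ¬ Cfsg.InZStar p x) (hmin : ∀ (H : Subgroup G) (hxH : x ∈ H), H ≠ ⊤ → Cfsg.InZStar p (⟨x, hxH⟩ : ↥H)) (hquot : ∀ (N : Subgroup G) [N.Normal], N ≠ ⊥ → Cfsg.InZStar p (QuotientGroup.mk x : G ⧸ N)) : IsSimpleGroup ↥(commutator G) ∧ ¬ IsMulCommutative ↥(commutator G) ∧ commutator G ⊔ Subgroup.zpowers x = ⊤ := by
  classical
  have hp' : p.Prime := Fact.out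
  have hcore := Lib.LocalP2.pPrimeCore_eq_bot_of_minimal hnz hquot
  have hsub : ∀ A : Subgroup G, A.IsSubnormal → (Nat.card ↥A).Coprime p → A = ⊥ := fun A hA hc =>
    le_bot_iff.1 (hcore ▸ Lib.Char2.subnormal_le_pPrimeCore hA hc)
  have hxp : ∃ k : ℕ, orderOf x = p ^ k := ⟨1, by rw [hx, pow_one]⟩
  obtain ⟨g₀, hg₀⟩ : ∃ g : G, g * x * g⁻¹ ≠ x := by
    by_contra h
    push Not at h
    exact hnz fun g => by rw [h g, mul_inv_cancel]; exact Subgroup.one_mem _
  -- `x` centralises proper normal subgroups not supplementing it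
  have hcent : ∀ N : Subgroup G, N.Normal → N ⊔ Subgroup.zpowers x ≠ ⊤ →
      ∀ n ∈ N, n * x * n⁻¹ = x := by
    intro N hN htop n hn
    set H := N ⊔ Subgroup.zpowers x with hH
    have hxH : x ∈ H := Subgroup.mem_sup_right (Subgroup.mem_zpowers x)
    have hnH : n ∈ H := Subgroup.mem_sup_left hn
    set A := (pPrimeCore p ↥H).map H.subtype ⊓ N
    have hAn : (A.subgroupOf N).Normal := normal_subgroupOf (le_nz_inf (fun m hm =>
      mem_nz_of_cj_le (cj_le_iff.2 (by
        rintro _ ⟨y, hy, rfl⟩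
        exact ⟨_, Subgroup.Normal.conj_mem inferInstance y hy ⟨m, Subgroup.mem_sup_left hm⟩, rfl⟩)))
      Subgroup.le_normalizer)
    have hA : A = ⊥ := hsub A (Subgroup.IsSubnormal.trans inf_le_right hAn.isSubnormal hN.isSubnormal)
      (by
        refine Nat.Coprime.coprime_dvd_left (Subgroup.card_dvd_of_le inf_le_left) ?_
        rw [Subgroup.card_map_of_injective H.subtype_injective]
        exact Lib.Hall.coprime_card_pPrimeCore p)
    have hmem : n * x * n⁻¹ * x⁻¹ ∈ A := ⟨⟨_, hmin H hxH htop ⟨n, hnH⟩, rfl⟩, by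
      have := N.mul_mem hn (hN.conj_mem _ (N.inv_mem hn) x)
      simpa [mul_assoc] using this⟩
    rw [hA, Subgroup.mem_bot] at hmem
    exact mul_inv_eq_one.1 hmem
  -- no normal subgroup other than `⊤` contains `x`
  have hnox : ∀ N : Subgroup G, N.Normal → x ∈ N → N = ⊤ := by
    intro N hN hxN
    by_contra h
    have hs : N ⊔ Subgroup.zpowers x ≠ ⊤ := by rwa [sup_eq_left.2 (Subgroup.zpowers_le.2 hxN)]
    exact hg₀ (hiso g₀ (mul_inv_eq_iff_eq_mul.1 (hcent N hN hs _ (hN.conj_mem x hxN g₀))).symm)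
  have hminsup : ∀ N : Subgroup G, N.Normal → N ≠ ⊥ →
      (∀ M : Subgroup G, M.Normal → M ≠ ⊥ → M ≤ N → M = N) → N ⊔ Subgroup.zpowers x = ⊤ := by
    intro N hN hne hm
    by_contra htop
    have hC : Subgroup.centralizer (N : Set G) = ⊤ := by
      refine hnox _ (Subgroup.normalizer_eq_top_iff.1 (top_le_iff.1
        (le_nz_centralizer (by rw [Subgroup.normalizer_eq_top])))) ?_
      exact Subgroup.mem_centralizer_iff.2 fun n hn => mul_inv_eq_iff_eq_mul.1 (hcent N hN htop n hn)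
    have hcomm : ∀ n ∈ N, ∀ g : G, Commute n g := fun n hn g =>
      Subgroup.mem_centralizer_iff.1 (hC.ge (Subgroup.mem_top g)) n hn
    obtain ⟨r, hr, hrd⟩ := Nat.exists_prime_and_dvd (fun h => hne (Subgroup.eq_bot_of_card_eq N h))
    haveI : Fact r.Prime := ⟨hr⟩
    obtain ⟨a, ha⟩ := exists_prime_orderOf_dvd_card' r hrd
    have haN : Subgroup.zpowers (a : G) = N := by
      refine hm _ ⟨fun y hy g => ?_⟩ (fun e => ?_) (Subgroup.zpowers_le.2 a.2)
      · rwa [← (hcomm y (Subgroup.zpowers_le.2 a.2 hy) g).eq, mul_inv_cancel_right]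
      · rw [Subgroup.zpowers_eq_bot] at e
        rw [← Subgroup.orderOf_coe, e, orderOf_one] at ha
        exact hr.one_lt.ne ha
    have hNcard : Nat.card ↥N = r := by rw [← haN, Nat.card_zpowers, Subgroup.orderOf_coe, ha]
    rcases eq_or_ne r p with rfl | hrp
    swap
    · exact hne (hsub N hN.isSubnormal (hNcard ▸ (Nat.coprime_primes hr hp').2 hrp))
    haveI := hN
    set f := QuotientGroup.mk' N
    set K := (pPrimeCore r (G ⧸ N)).comap f with hK
    have hKn : K.Normal := Subgroup.Normal.comap inferInstance f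
    have hNK : N ≤ K := fun n hn => by
      rw [hK, Subgroup.mem_comap, QuotientGroup.mk'_apply, (QuotientGroup.eq_one_iff n).2 hn]
      exact Subgroup.one_mem _
    have hidx : (N.relIndex K).Coprime r := by
      have h1 : N.relIndex K = Nat.card ↥(pPrimeCore r (G ⧸ N)) := by
        have h2 := Subgroup.relIndex_ker (K := K) f
        rw [QuotientGroup.ker_mk'] at h2
        rw [h2, hK, Subgroup.map_comap_eq_self_of_surjective (QuotientGroup.mk'_surjective N)]
      rw [h1]
      exact Lib.Hall.coprime_card_pPrimeCore r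
    obtain ⟨L, hL⟩ := Subgroup.exists_right_complement'_of_coprime (N := N.subgroupOf K) (by
      rw [Nat.card_congr (Subgroup.subgroupOfEquivOfLe hNK).toEquiv, hNcard]
      exact hidx.symm)
    have hLn : L.Normal := ⟨fun l hl k => by
      obtain ⟨u, hu, v, hv, rfl⟩ := Set.mem_mul.1 (hL.mul_eq ▸ Set.mem_univ k :
        k ∈ ((N.subgroupOf K : Subgroup ↥K) : Set ↥K) * (L : Set ↥K))
      have hu' : Commute u (v * l * v⁻¹) := Subtype.ext (hcomm _ hu _).eq
      rw [show u * v * l * (u * v)⁻¹ = u * (v * l * v⁻¹) * u⁻¹ by group, hu'.eq, mul_inv_cancel_right]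
      exact L.mul_mem (L.mul_mem hv hl) (L.inv_mem hv)⟩
    have hLbot : L = ⊥ := by
      have hs : (L.map K.subtype).IsSubnormal := Subgroup.IsSubnormal.trans
        (Subgroup.map_subtype_le L) (by
          rw [Subgroup.subgroupOf, Subgroup.comap_map_eq_self_of_injective K.subtype_injective]
          exact hLn.isSubnormal) hKn.isSubnormal
      have := hsub _ hs (by
        rw [Subgroup.card_map_of_injective K.subtype_injective, ← hL.symm.index_eq_card]
        exact hidx)
      rwa [Subgroup.map_eq_bot_iff_of_injective _ K.subtype_injective] at this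
    have hKN : K ≤ N := by
      intro k hk
      obtain ⟨u, hu, v, hv, he⟩ := Set.mem_mul.1 (hL.mul_eq ▸ Set.mem_univ (⟨k, hk⟩ : ↥K) :
        (⟨k, hk⟩ : ↥K) ∈ ((N.subgroupOf K : Subgroup ↥K) : Set ↥K) * (L : Set ↥K))
      rw [SetLike.mem_coe, hLbot, Subgroup.mem_bot] at hv
      rw [hv, mul_one] at he
      have he' : (u : G) = k := congrArg Subtype.val he
      have hu' : (u : G) ∈ N := hu
      rwa [he'] at hu'
    refine hg₀ (hiso g₀ ?_)
    have hz : g₀ * x * g₀⁻¹ * x⁻¹ ∈ N := hKN (by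
      show f (g₀ * x * g₀⁻¹ * x⁻¹) ∈ pPrimeCore r (G ⧸ N)
      simpa [f] using hquot N hne (g₀ : G ⧸ N))
    have h1 := ((hcomm _ hz x).symm.mul_right (Commute.refl x))
    simpa [mul_assoc] using h1
  have htopne : (⊤ : Subgroup G) ≠ ⊥ := fun h => hg₀ (by
    have : ∀ y : G, y = 1 := fun y => Subgroup.mem_bot.1 (h.le (Subgroup.mem_top y))
    rw [this (g₀ * x * g₀⁻¹), this x])
  obtain ⟨N, ⟨hNn, hNne⟩, hNmin⟩ := (Set.toFinite {N : Subgroup G | N.Normal ∧ N ≠ ⊥}).exists_minimal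
    ⟨⊤, inferInstance, htopne⟩
  have hmin' : ∀ M : Subgroup G, M.Normal → M ≠ ⊥ → M ≤ N → M = N := fun M h1 h2 h3 =>
    le_antisymm h3 (hNmin ⟨h1, h2⟩ h3)
  have hG := hminsup N hNn hNne hmin'
  have hdec : ∀ g : G, ∃ n ∈ N, ∃ y ∈ Subgroup.zpowers x, g = n * y := fun g =>
    (mem_sup_iff_of_nz' (A := N) (B := Subgroup.zpowers x)
      (by rw [Subgroup.normalizer_eq_top]; exact le_top)).1 (hG.ge (Subgroup.mem_top g))
  have hGN : commutator G = N := by
    refine hmin' _ inferInstance (fun h => hg₀ ?_) ?_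
    · have h1 : ⁅g₀, x⁆ ∈ (⊥ : Subgroup G) :=
        h ▸ Subgroup.commutator_mem_commutator (Subgroup.mem_top g₀) (Subgroup.mem_top x)
      exact mul_inv_eq_one.1 (Subgroup.mem_bot.1 h1)
    · rw [commutator_def, Subgroup.commutator_le]
      intro a _ b _
      obtain ⟨n, hn, y, ⟨i, rfl⟩, rfl⟩ := hdec a
      obtain ⟨m, hm, z, ⟨j, rfl⟩, rfl⟩ := hdec b
      haveI := hNn
      rw [← QuotientGroup.eq_one_iff (N := N), ← QuotientGroup.mk'_apply, map_commutatorElement,
        map_mul, map_mul, QuotientGroup.mk'_apply N n, (QuotientGroup.eq_one_iff n).2 hn,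
        QuotientGroup.mk'_apply N m, (QuotientGroup.eq_one_iff m).2 hm, one_mul, one_mul,
        commutatorElement_eq_one_iff_commute]
      exact ((Commute.refl x).zpow_zpow i j).map (QuotientGroup.mk' N)
  rw [hGN]
  have hNab : ¬ IsMulCommutative ↥N := by
    intro hab
    obtain ⟨r, hr, hrd⟩ := Nat.exists_prime_and_dvd (fun h => hNne (Subgroup.eq_bot_of_card_eq N h))
    haveI : Fact r.Prime := ⟨hr⟩
    obtain ⟨a, ha⟩ := exists_prime_orderOf_dvd_card' r hrd
    let E : Subgroup G :=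
      { carrier := {u | u ∈ N ∧ u ^ r = 1}
        one_mem' := ⟨N.one_mem, one_pow _⟩
        mul_mem' := fun {u v} hu hv => ⟨N.mul_mem hu.1 hv.1, by
          rw [(show Commute u v from comm_of_isMulCommutative hab hu.1 hv.1).mul_pow, hu.2, hv.2, one_mul]⟩
        inv_mem' := fun {u} hu => ⟨N.inv_mem hu.1, by rw [inv_pow, hu.2, inv_one]⟩ }
    have hEN : E = N := by
      refine hmin' E ⟨fun u hu g => ⟨hNn.conj_mem u hu.1 g, by rw [conj_pow, hu.2, mul_one, mul_inv_cancel]⟩⟩
        (fun e => ?_) (fun u hu => hu.1)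
      have ha' : (a : G) ∈ E :=
        ⟨a.2, orderOf_dvd_iff_pow_eq_one.1 (by rw [Subgroup.orderOf_coe, ha])⟩
      rw [e, Subgroup.mem_bot] at ha'
      rw [← Subgroup.orderOf_coe, ha', orderOf_one] at ha
      exact hr.one_lt.ne ha
    have hNr : IsPGroup r ↥N := fun u => ⟨1, Subtype.ext (by simpa using (hEN.ge u.2).2)⟩
    rcases eq_or_ne r p with rfl | hrp
    · have hP : IsPGroup r ↥(N ⊔ Subgroup.zpowers x) :=
        hNr.to_sup_of_normal_left' (Lib.LocalP2.isPGroup_zpowers_of_orderOf hxp)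
          (by rw [Subgroup.normalizer_eq_top]; exact le_top)
      rw [hG] at hP
      exact hg₀ (Lib.LocalP2.isolated_comm_of_pGroup hiso hP (Subgroup.mem_top x) (Subgroup.mem_top g₀))
    · obtain ⟨k, hk⟩ := IsPGroup.iff_card.1 hNr
      exact hNne (hsub N hNn.isSubnormal (hk ▸ ((Nat.coprime_primes hr hp').2 hrp).pow_left k))
  refine ⟨?_, hNab, hG⟩
  haveI : Nontrivial ↥N := (Subgroup.nontrivial_iff_ne_bot N).2 hNne
  obtain ⟨S, ⟨hSN, hSne, hSn⟩, hSmin⟩ := (Set.toFinite {S : Subgroup G |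
    S ≤ N ∧ S ≠ ⊥ ∧ N ≤ Subgroup.normalizer (S : Set G)}).exists_minimal
    ⟨N, le_rfl, hNne, Subgroup.le_normalizer⟩
  have hSmin' : ∀ T : Subgroup G, T ≤ S → T ≠ ⊥ → N ≤ Subgroup.normalizer (T : Set G) → T = S :=
    fun T h1 h2 h3 => le_antisymm h1 (hSmin ⟨h1.trans hSN, h2, h3⟩ h1)
  suffices hSeq : S = N by
    refine ⟨fun X hX => or_iff_not_imp_left.2 fun hXne => ?_⟩
    have h1 : X.map N.subtype = S := hSmin' (X.map N.subtype)
      ((Subgroup.map_subtype_le X).trans hSeq.ge)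
      (fun e => hXne (by rwa [Subgroup.map_eq_bot_iff_of_injective _ N.subtype_injective] at e))
      (fun n hn => mem_nz_of_cj_le (cj_le_iff.2 (by
        rintro _ ⟨y, hy, rfl⟩
        exact ⟨_, hX.conj_mem y hy ⟨n, hn⟩, rfl⟩)))
    rw [hSeq] at h1
    rw [eq_top_iff]
    intro y _
    obtain ⟨z, hz, hze⟩ := h1.ge y.2
    rwa [← N.subtype_injective hze]
  by_contra hSne'
  have hcjn : ∀ i : ℤ, cj (x ^ i) S ≤ N ∧ N ≤ Subgroup.normalizer (cj (x ^ i) S : Set G) := fun i => by
    refine ⟨cj_le_iff.2 fun s hs => hNn.conj_mem s (hSN hs) _, le_nz_of_cj fun n hn => ?_⟩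
    have hn' : (x ^ i)⁻¹ * n * x ^ i ∈ N := by simpa using hNn.conj_mem n hn (x ^ i)⁻¹
    rw [cj_cj, show n * x ^ i = x ^ i * ((x ^ i)⁻¹ * n * x ^ i) by group, ← cj_cj,
      cj_eq_of_mem_nz (hSn hn')]
  have hxS : x ∉ Subgroup.normalizer (S : Set G) := fun h => hSne' (by
    refine hmin' S ⟨fun s hs g => ?_⟩ hSne hSN
    obtain ⟨n, hn, y, hy, rfl⟩ := hdec g
    exact conj_mem_of_nz (Subgroup.mul_mem _ (hSn hn) (Subgroup.zpowers_le.2 h hy)) hs)
  have hdisj : ∀ i : ℤ, ¬ (p : ℤ) ∣ i → S ⊓ cj (x ^ i) S = ⊥ := by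
    intro i hi
    by_contra hne
    have h1 := hSmin' _ inf_le_left hne (le_nz_inf hSn (hcjn i).2)
    have h2 : x ^ i ∈ Subgroup.normalizer (S : Set G) :=
      mem_nz_of_cj_eq (Subgroup.eq_of_le_of_card_ge (inf_eq_left.1 h1) (card_cj _ S).le).symm
    refine hxS ?_
    have hco : IsCoprime (i : ℤ) (p : ℤ) :=
      ((Nat.prime_iff_prime_int.1 hp').coprime_iff_not_dvd.2 hi).symm
    obtain ⟨a, b, hab⟩ := hco
    have : x = (x ^ i) ^ a := by
      rw [← zpow_mul]
      calc x = x ^ (a * i + b * p) := by rw [hab, zpow_one]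
        _ = x ^ (i * a) * (x ^ (p : ℤ)) ^ b := by rw [← zpow_mul, ← zpow_add]; ring_nf
        _ = x ^ (i * a) := by rw [zpow_natCast, ← hx, pow_orderOf_eq_one, one_zpow, mul_one]
    rw [this]
    exact Subgroup.zpow_mem _ h2 a
  have hcomm0 : ∀ i : ℤ, ¬ (p : ℤ) ∣ i → ∀ a ∈ S, ∀ b ∈ cj (x ^ i) S, Commute a b := by
    intro i hi a ha b hb
    have h1 : ⁅a, b⁆ ∈ S ⊓ cj (x ^ i) S := ⟨by
      have := S.mul_mem ha (conj_mem_of_nz (hSn ((hcjn i).1 hb)) (S.inv_mem ha))
      simpa [commutatorElement_def, mul_assoc] using this,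
      (cj (x ^ i) S).mul_mem (conj_mem_of_nz ((hcjn i).2 (hSN ha)) hb) (Subgroup.inv_mem _ hb)⟩
    rw [hdisj i hi, Subgroup.mem_bot] at h1
    exact commutatorElement_eq_one_iff_commute.1 h1
  obtain ⟨s, hsS, hsp⟩ : ∃ s ∈ S, orderOf s = p := by
    by_cases hd : p ∣ Nat.card ↥S
    · obtain ⟨s, hs⟩ := exists_prime_orderOf_dvd_card' p hd
      exact ⟨s, s.2, by rw [Subgroup.orderOf_coe, hs]⟩
    · exact absurd (hsub S (Subgroup.IsSubnormal.trans hSN (normal_subgroupOf hSn).isSubnormal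
        hNn.isSubnormal) (coprime_of_not_dvd hd)) hSne
  let c : ℕ → G := fun i => x ^ i * s * (x ^ i)⁻¹
  have hcS : ∀ i : ℕ, c i ∈ cj (x ^ (i : ℤ)) S := fun i => by
    rw [zpow_natCast]; exact conj_mem_cj hsS
  have hper : ∀ i j : ℤ, (p : ℤ) ∣ i - j → x ^ i = x ^ j := by
    intro i j hd
    have h := orderOf_dvd_iff_zpow_eq_one.1 (show (orderOf x : ℤ) ∣ i - j by rwa [hx])
    rwa [zpow_sub, mul_inv_eq_one] at h
  have hcc : ∀ i j : ℕ, Commute (c i) (c j) := by
    intro i j
    by_cases hd : (p : ℤ) ∣ (j : ℤ) - i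
    · have := hper j i hd
      rw [zpow_natCast, zpow_natCast] at this
      simp only [c, this]
      exact Commute.refl _
    · have h0 := hcomm0 _ hd s hsS (x ^ ((j : ℤ) - i) * s * (x ^ ((j : ℤ) - i))⁻¹) (conj_mem_cj hsS)
      have h1 := h0.map (MulAut.conj (x ^ i)).toMonoidHom
      have e : (MulAut.conj (x ^ i)).toMonoidHom (x ^ ((j : ℤ) - i) * s * (x ^ ((j : ℤ) - i))⁻¹) = c j := by
        simp only [c, MulEquiv.coe_toMonoidHom, MulAut.conj_apply]
        rw [zpow_sub, zpow_natCast, zpow_natCast]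
        group
      rw [e] at h1
      exact h1
  set A := Subgroup.closure (Set.range c)
  haveI : IsMulCommutative ↥A := Subgroup.isMulCommutative_closure (by
    rintro _ ⟨i, rfl⟩ _ ⟨j, rfl⟩; exact hcc i j)
  letI : CommGroup ↥A :=
    { A.toGroup with mul_comm := fun a b => mul_comm' a b }
  let c' : ℕ → ↥A := fun i => ⟨c i, Subgroup.subset_closure ⟨i, rfl⟩⟩
  set W := ∏ i ∈ Finset.range p, (c' i) ^ i with hWdef
  set W' := ∏ i ∈ Finset.range p, (c' (i + 1)) ^ i with hW'def
  set D := ∏ i ∈ Finset.range p, c' i with hDdef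
  set D' := ∏ i ∈ Finset.range p, c' (i + 1) with hD'def
  have hcp : c' p = c' 0 := Subtype.ext (show c p = c 0 by
    simp only [c]; rw [show x ^ p = 1 from hx ▸ pow_orderOf_eq_one x, pow_zero])
  have hsp1 : s ^ p = 1 := hsp ▸ pow_orderOf_eq_one s
  have hcpp : c' p ^ p = 1 := Subtype.ext (show c p ^ p = 1 by
    simp only [c]; rw [conj_pow, hsp1, mul_one, mul_inv_cancel])
  have hDD : D' = D := by
    have h1 := Finset.prod_range_succ' c' p
    rw [Finset.prod_range_succ, hcp] at h1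
    exact (mul_right_cancel h1).symm
  have hWW : W' * D = W := by
    have h1 := Finset.prod_range_succ' (fun i => (c' i) ^ i) p
    rw [Finset.prod_range_succ] at h1
    simp only [hcpp, pow_zero, mul_one] at h1
    rw [hWdef, h1, ← hDD, hW'def, hD'def, ← Finset.prod_mul_distrib]
    simp only [pow_succ]
  have hshift : ∀ i : ℕ, x * c i * x⁻¹ = c (i + 1) := fun i => by
    simp only [c, pow_succ']; group
  have hAn : x ∈ Subgroup.normalizer (A : Set G) :=
    le_nz_closure (N := Subgroup.zpowers x) (by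
      rintro _ ⟨k, rfl⟩ _ ⟨i, rfl⟩
      obtain ⟨m, hm⟩ : ∃ m : ℕ, x ^ k * c i * (x ^ k)⁻¹ = c m := by
        obtain ⟨t, ht⟩ : ∃ t : ℕ, x ^ k = x ^ t :=
          ⟨_, ((mem_powers_iff_mem_zpowers.2 (⟨k, rfl⟩ : x ^ k ∈ Subgroup.zpowers x)).choose_spec).symm⟩
        exact ⟨t + i, by simp only [c, ht, pow_add]; group⟩
      show x ^ k * c i * (x ^ k)⁻¹ ∈ _
      rw [hm]
      exact Subgroup.subset_closure ⟨m, rfl⟩) (Subgroup.mem_zpowers x)
  let σ : ↥A →* ↥A :=
    { toFun := fun a => ⟨x * a * x⁻¹, conj_mem_of_nz hAn a.2⟩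
      map_one' := Subtype.ext (by simp)
      map_mul' := fun a b => Subtype.ext (by simp [mul_assoc]) }
  have hσW : x * (W : G) * x⁻¹ = (W' : G) := by
    show ((σ W : ↥A) : G) = _
    congr 1
    rw [hWdef, hW'def, map_prod]
    refine Finset.prod_congr rfl fun i _ => Subtype.ext ?_
    show x * (c i) ^ i * x⁻¹ = c (i + 1) ^ i
    rw [← conj_pow, hshift]
  have hσD : x * (D : G) * x⁻¹ = (D : G) := by
    conv_rhs => rw [← hDD]
    show ((σ D : ↥A) : G) = _
    congr 1
    rw [hDdef, hD'def, map_prod]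
    exact Finset.prod_congr rfl fun i _ => Subtype.ext (hshift i)
  have hconj : (W : G) * x * (W : G)⁻¹ = (D : G) * x := by
    calc (W : G) * x * (W : G)⁻¹ = (W : G) * (x * (W : G) * x⁻¹)⁻¹ * x := by group
      _ = ((W' * D * W'⁻¹ : ↥A) : G) * x := by rw [hσW, hWW]; rfl
      _ = _ := by rw [mul_comm W' D, mul_inv_cancel_right]
  have hD1 : (D : G) = 1 := by
    have hxD : Commute x (D : G) := mul_inv_eq_iff_eq_mul.1 hσD
    have h := hiso (W : G) (by rw [hconj]; exact hxD.mul_right (Commute.refl x))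
    rw [hconj] at h
    exact mul_eq_right.1 h
  -- so `s` lies in the centre of `S`
  have hZ : S ⊓ Subgroup.centralizer (S : Set G) = ⊥ := by
    by_contra hne
    have h1 := hSmin' _ inf_le_left hne (le_nz_inf hSn (le_nz_centralizer hSn))
    apply hNab
    have hSc : ∀ a ∈ S, ∀ b ∈ S, Commute a b := fun a ha b hb =>
      (Subgroup.mem_centralizer_iff.1 (inf_eq_left.1 h1 ha) b hb).symm
    set U := Subgroup.closure {u : G | ∃ i : ℤ, u ∈ cj (x ^ i) S}
    have hpair : ∀ u v : G, (∃ i : ℤ, u ∈ cj (x ^ i) S) → (∃ i : ℤ, v ∈ cj (x ^ i) S) → Commute u v := by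
      rintro u v ⟨i, hu⟩ ⟨j, hv⟩
      have hu0 : (x ^ i)⁻¹ * u * x ^ i ∈ S := mem_cj.1 hu
      have h2 : Commute ((x ^ i)⁻¹ * u * x ^ i) ((x ^ i)⁻¹ * v * x ^ i) := by
        have hv0 : (x ^ i)⁻¹ * v * x ^ i ∈ cj (x ^ (j - i)) S := by
          rw [mem_cj] at hv ⊢
          convert hv using 1
          rw [zpow_sub]; group
        by_cases hd : (p : ℤ) ∣ j - i
        · have hone : x ^ (j - i) = 1 := (hper (j - i) 0 (by simpa using hd)).trans (zpow_zero x)
          rw [hone, cj_eq_of_mem_nz (Subgroup.one_mem _)] at hv0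
          exact hSc _ hu0 _ hv0
        · exact hcomm0 _ hd _ hu0 _ hv0
      have h3 := h2.map (MulAut.conj (x ^ i)).toMonoidHom
      simp only [MulEquiv.coe_toMonoidHom, MulAut.conj_apply, mul_assoc, mul_inv_cancel, mul_one] at h3
      simpa [← mul_assoc] using h3
    have hUN : U = N := by
      refine hmin' U ⟨fun u hu g => ?_⟩ (fun e => hSne (le_bot_iff.1 ?_)) ?_
      · suffices hg : g ∈ Subgroup.normalizer (U : Set G) from conj_mem_of_nz hg hu
        obtain ⟨n, hn, y, hy, rfl⟩ := hdec g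
        refine Subgroup.mul_mem _ ((le_nz_closure (N := N) (by
          rintro m hm v ⟨i, hv⟩
          exact Subgroup.subset_closure ⟨i, conj_mem_of_nz ((hcjn i).2 hm) hv⟩)) hn) ?_
        refine (le_nz_closure (N := Subgroup.zpowers x) ?_) hy
        rintro _ ⟨k, rfl⟩ v ⟨i, hv⟩
        refine Subgroup.subset_closure ⟨k + i, ?_⟩
        rw [zpow_add, ← cj_cj]
        exact conj_mem_cj hv
      · rw [← e]
        exact fun a ha => Subgroup.subset_closure ⟨0, by
          rwa [zpow_zero, cj_eq_of_mem_nz (Subgroup.one_mem _)]⟩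
      · rw [Subgroup.closure_le]
        rintro u ⟨i, hu⟩
        exact (hcjn i).1 hu
    rw [← hUN]
    exact Subgroup.isMulCommutative_closure fun u hu v hv => hpair u v hu hv
  have hs1 : s ∈ S ⊓ Subgroup.centralizer (S : Set G) := by
    refine ⟨hsS, Subgroup.mem_centralizer_iff.2 fun a ha => ?_⟩
    have h0 : c' 0 = (∏ i ∈ (Finset.range p).erase 0, c' i)⁻¹ := by
      rw [eq_inv_iff_mul_eq_one, Finset.mul_prod_erase _ _ (Finset.mem_range.2 hp'.pos)]
      exact Subtype.ext hD1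
    have hs0 : s = ((∏ i ∈ (Finset.range p).erase 0, c' i)⁻¹ : ↥A) := by
      rw [← h0]; show s = c 0; simp [c]
    have hmem : ∏ i ∈ (Finset.range p).erase 0, c' i ∈
        (Subgroup.centralizer ({a} : Set G)).comap A.subtype := by
      refine Subgroup.prod_mem _ fun i hi => ?_
      rw [Finset.mem_erase, Finset.mem_range] at hi
      refine Subgroup.mem_centralizer_singleton_iff.2 (hcomm0 i ?_ a ha _ (hcS i)).eq.symm
      exact_mod_cast fun hd => hi.1 (Nat.eq_zero_of_dvd_of_lt hd hi.2)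
    rw [hs0]
    exact (Subgroup.mem_centralizer_singleton_iff.1 (Subgroup.inv_mem _ hmem)).symm
  rw [hZ, Subgroup.mem_bot] at hs1
  rw [hs1, orderOf_one] at hsp
  exact hp'.one_lt.ne hsp

end Cfsg.Agent.S2972
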