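import Cfsg.Statements.S2975
import Mathlib
import Cfsg.Agent.Lib.LocalP2.ZStar
import Cfsg.Agent.Lib.Coprime.Action
import Cfsg.Agent.Lib.LocalChar.Subnormal
-- import your own Cfsg.Agent.* helpers here

set_option autoImplicit false
open Cfsg Cfsg.Agent Cfsg.Agent.Lib.LocalChar

namespace Cfsg.Agent.S2975

/-- Let G be a finite group, p a prime and x ∈ G an isolated element of order p (the only conjugate of x commuting with x is x) which is not central modulo the largest normal subgroup of order prime to p, while x is central modulo the largest normal subgroup of order prime to p in every proper subgroup containing x, and the image of x is so in every quotient of G by a nontrivial normal subgroup (a minimal counterexample to the Z*_p statement). Then for every prime q, every q-subgroup of G that is normalized by x and maximal among the q-subgroups normalized by x is either trivial or a Sylow q-subgroup of G; and C_G(x)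 permutes the x-invariant Sylow q-subgroups of G transitively by conjugation. -/
theorem result {G : Type*} [Group G] [Finite G] {p : ℕ} [Fact p.Prime] (x : G) (hx : orderOf x = p) (hiso : Cfsg.IsIsolated x) (hnz : ¬ Cfsg.InZStar p x) (hmin : ∀ (H : Subgroup G) (hxH : x ∈ H), H ≠ ⊤ → Cfsg.InZStar p (⟨x, hxH⟩ : ↥H)) (hquot : ∀ (N : Subgroup G) [N.Normal], N ≠ ⊥ → Cfsg.InZStar p (QuotientGroup.mk x : G ⧸ N)) (q : ℕ) [Fact q.Prime] : (∀ Q : Subgroup G, IsPGroup q ↥Q → x ∈ Subgroup.normalizer (Q : Set G) → (∀ R : Subgroup G, IsPGroup q ↥R → x ∈ Subgroup.normalizer (R : Set G) → Q ≤ R → R = Q) → Q = ⊥ ∨ ∃ S : Sylow q G, (S : Subgroup G) = Q) ∧ (∀ S₁ S₂ : Sylow q G, x ∈ Subgroup.normalizer ((S₁ : Subgroup G) : Set G) → x ∈ Subgroup.normalizer ((S₂ : Subgroup G) : Set G) → ∃ c ∈ Subgroup.centralizer ({x} : Set G), (S₁ : Subgroup G).map (MulAut.conj c).toMonoidHom = (S₂ : Subgroup G)) := by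
  have hxp : ∃ k : ℕ, orderOf x = p ^ k := ⟨1, by rw [hx, pow_one]⟩
  refine ⟨fun Q hQ hxQ hmax => ?_, fun S₁ S₂ h₁ h₂ => ?_⟩
  swap
  · obtain ⟨g, hg⟩ := MulAction.exists_smul_eq G S₁ S₂
    have hS : (S₂ : Subgroup G) = cj g (S₁ : Subgroup G) := by rw [← hg]; rfl
    have hgx : g⁻¹ * x * g⁻¹⁻¹ ∈ Subgroup.normalizer ((S₁ : Subgroup G) : Set G) := by
      refine mem_nz_of_cj_eq ?_
      rw [inv_inv, ← cj_cj, ← cj_cj, ← hS, cj_eq_of_mem_nz h₂, hS, cj_cj, inv_mul_cancel,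
        cj_eq_of_mem_nz (Subgroup.one_mem _)]
    obtain ⟨n, hn, hne⟩ := Lib.LocalP2.isolated_conj_in_subgroup hxp hiso _ h₁ hgx
    refine ⟨g * n⁻¹, Subgroup.mem_centralizer_singleton_iff.2 ?_, ?_⟩
    · calc g * n⁻¹ * x = g * n⁻¹ * (n * (g⁻¹ * x * g⁻¹⁻¹) * n⁻¹) := by rw [hne]
        _ = x * (g * n⁻¹) := by group
    · show cj (g * n⁻¹) (S₁ : Subgroup G) = _
      rw [← cj_cj, cj_eq_of_mem_nz (Subgroup.inv_mem _ hn), ← hS]
  by_cases hQb : Q = ⊥
  · exact Or.inl hQb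
  right
  have hxQ' : Subgroup.zpowers x ≤ Subgroup.normalizer (Q : Set G) := Subgroup.zpowers_le.2 hxQ
  obtain ⟨S, hS⟩ : ∃ S : Sylow q G, Q ≤ (S : Subgroup G) := hQ.exists_le_sylow
  by_cases hqp : q = p
  · subst hqp
    have hR : IsPGroup q ↥(Q ⊔ Subgroup.zpowers x) :=
      hQ.to_sup_of_normal_left' (Lib.LocalP2.isPGroup_zpowers_of_orderOf hxp) hxQ'
    obtain ⟨T, hT⟩ := hR.exists_le_sylow
    exact ⟨T, hmax T T.isPGroup' (Subgroup.le_normalizer (hT (Subgroup.mem_sup_right (Subgroup.mem_zpowers x))))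
      (le_sup_left.trans hT)⟩
  have hqcop : q.Coprime p := (Nat.coprime_primes Fact.out Fact.out).2 hqp
  set H := Subgroup.normalizer (Q : Set G) with hH
  have hHtop : H ≠ ⊤ := fun h => by
    haveI : Q.Normal := Subgroup.normalizer_eq_top_iff.1 h
    obtain ⟨k, hk⟩ := IsPGroup.iff_card.1 hQ
    exact hnz (Lib.LocalP2.inZStar_of_quotient (hk ▸ hqcop.pow_left k) (hquot Q hQb))
  set K := (pPrimeCore p ↥H).map H.subtype with hKdef
  have hKcop : (Nat.card ↥K).Coprime p := by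
    rw [hKdef, Subgroup.card_map_of_injective H.subtype_injective]
    exact Lib.Hall.coprime_card_pPrimeCore p
  obtain ⟨T₀, hT₀, hQT₀⟩ := exists_isSylowIn_ge hQ (Subgroup.le_normalizer : Q ≤ H)
  have hHK : H ≤ Subgroup.normalizer (K : Set G) := fun h hh => mem_nz_of_cj_le (cj_le_iff.2 (by
    rintro _ ⟨y, hy, rfl⟩
    exact ⟨_, Subgroup.Normal.conj_mem inferInstance y hy ⟨h, hh⟩, rfl⟩))
  set M := K ⊔ T₀ with hMdef
  have hMH : M ≤ H := sup_le (Subgroup.map_subtype_le _) hT₀.1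
  have hdec : ∀ m ∈ M, ∃ a ∈ K, ∃ b ∈ T₀, m = a * b := fun m hm =>
    (mem_sup_iff_of_nz' (A := K) (B := T₀) (hT₀.1.trans hHK)).1 hm
  have hxM : Subgroup.zpowers x ≤ Subgroup.normalizer (M : Set G) := by
    rw [Subgroup.zpowers_le]
    refine mem_nz_of_cj_le (cj_le_iff.2 fun m hm => ?_)
    obtain ⟨⟨u, hu⟩, hu', hue⟩ : m * x * m⁻¹ * x⁻¹ ∈ K :=
      ⟨_, hmin H hxQ hHtop ⟨m, hMH hm⟩, rfl⟩
    have e : x * m * x⁻¹ = (m * x * m⁻¹ * x⁻¹)⁻¹ * m := by group
    rw [e]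
    exact Subgroup.mul_mem _ (Subgroup.mem_sup_left (K.inv_mem ⟨⟨u, hu⟩, hu', hue⟩)) hm
  have hMcop : (Nat.card ↥(Subgroup.zpowers x)).Coprime (Nat.card ↥M) := by
    rw [Nat.card_zpowers, hx, Nat.Prime.coprime_iff_not_dvd Fact.out]
    intro hd
    obtain ⟨m, hm⟩ := exists_prime_orderOf_dvd_card' p hd
    obtain ⟨a, ha, b, hb, hab⟩ := hdec m m.2
    obtain ⟨c, hc, hce⟩ := mul_pow_mem (A := K) (u := b) (a := b⁻¹ * a * b)
      (hHK (hT₀.1 hb)) (by simpa using conj_mem_of_nz (hHK (H.inv_mem (hT₀.1 hb))) ha) p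
    have hmp : (m : G) ^ p = 1 := orderOf_dvd_iff_pow_eq_one.1 (by rw [Subgroup.orderOf_coe, hm])
    rw [show b * (b⁻¹ * a * b) = (m : G) by rw [hab]; group, hmp] at hce
    obtain ⟨j, hj⟩ := IsPGroup.iff_orderOf.1 hT₀.2.1 ⟨b, hb⟩
    rw [Subgroup.orderOf_mk] at hj
    have hbp : b ^ p = c⁻¹ := eq_inv_of_mul_eq_one_left hce.symm
    have hb1 : b ∈ K := mem_of_pow_coprime (p := p) (n := q ^ j) (hqcop.pow_left j)
      ⟨1, by rw [pow_one, hbp]; exact K.inv_mem hc⟩ (by rw [← hj, pow_orderOf_eq_one]; exact K.one_mem)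
    have hmK : (m : G) ∈ K := hab ▸ K.mul_mem ha hb1
    have h1 := hKcop.coprime_dvd_left (Subgroup.orderOf_dvd_natCard K hmK)
    rw [Subgroup.orderOf_coe, hm, Nat.coprime_self] at h1
    exact (Fact.out : p.Prime).ne_one h1
  obtain ⟨T, hQT, hxT⟩ := Lib.Coprime.exists_invariant_sylow_ge hxM hMcop
    (Or.inl (Group.isSolvable_of_comm fun a b => (IsCyclic.commGroup (α := Subgroup.zpowers x)).mul_comm a b))
    (hQT₀.trans le_sup_right) hQ hxQ'
  set T' := (T : Subgroup ↥M).map M.subtype with hT'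
  have hTQ : T' = Q := hmax T' (T.isPGroup'.map _) (hxT (Subgroup.mem_zpowers x)) hQT
  refine ⟨S, le_antisymm ?_ hS⟩
  by_contra hlt
  obtain ⟨u, hu, huQ, hun⟩ := exists_mem_nz_of_lt S.isPGroup' (lt_of_le_of_ne hS fun e => hlt e.ge)
  have hT₀Q : T₀ ≤ Q := by
    refine (Subgroup.eq_of_le_of_card_ge (hQT₀) ?_).ge
    have hTs : IsSylowIn q T' M := IsSylowIn.ofSylow T
    rw [← hTQ]
    exact hTs.card_le hT₀.2.1 le_sup_right
  obtain ⟨y, hy, hyle⟩ := hT₀.conj_le (S.isPGroup'.to_le (inf_le_left (b := H))) inf_le_right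
  have h2 := cj_mono (g := y⁻¹) (hyle.trans hT₀Q)
  rw [cj_cj, inv_mul_cancel, cj_eq_of_mem_nz (Subgroup.one_mem _), cj_eq_of_mem_nz (H.inv_mem hy)] at h2
  exact huQ (h2 ⟨hu, hun⟩)

end Cfsg.Agent.S2975
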