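import Mathlib
import Cfsg.Statements.S2990
import Cfsg.Agent.Lib.LocalChar.PushingUpCLNormal

set_option autoImplicit false

open scoped commutatorElement Pointwise

open Cfsg.Agent.Lib.LocalChar

namespace Cfsg.Agent.S2990

/-- An automorphism maps minimal centrally large subgroups to such. -/
theorem minimal_map {P : Type*} [Group P] [Finite P] (φ : P ≃* P) {Q : Subgroup P}
    (hQ : Cfsg.IsMinimalCentrallyLarge Q) : Cfsg.IsMinimalCentrallyLarge (Q.map φ.toMonoidHom) := by
  have hcl : ∀ (f : P ≃* P) (X : Subgroup P), Cfsg.IsCentrallyLarge X → Cfsg.IsCentrallyLarge (X.map f.toMonoidHom) := by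
    intro f X hX
    unfold Cfsg.IsCentrallyLarge at *
    rw [Lib.LocalP2.card_center_eq, ← Lib.LocalChar.PushingUpCLNormal.map_inf_centralizer _ f.injective,
      Subgroup.card_map_of_injective f.injective, Subgroup.card_map_of_injective f.injective,
      ← Lib.LocalP2.card_center_eq, hX]
  refine ⟨hcl φ Q hQ.1, fun X hX hXCL => ?_⟩
  have hle : X.map φ.symm.toMonoidHom ≤ Q := by
    rintro _ ⟨x, hx, rfl⟩
    obtain ⟨q, hq, rfl⟩ := hX hx
    simpa using hq
  have h := hQ.2 _ hle (hcl φ.symm X hXCL)
  refine Lib.LocalP2.eq_of_card hX ?_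
  rw [Subgroup.card_map_of_injective φ.injective, ← h, Subgroup.card_map_of_injective φ.symm.injective]


/-- Let G be a finite group and S a Sylow p-subgroup of G in the basic pushing-up situation (G ≠ 1, C_G(O_p(G)) ≤ O_p(G), S lies in a unique maximal subgroup of G, and some quotient of G is isomorphic to PSL₂ over a field of order a power of p), and suppose that S centralizes Z(J(S)), where J(S) is generated by the abelian subgroups of S of largest order (that is, J̃(S) = C_S(Z(J(S))) = S). Call a subgroup R of S centrally large if |R|·|Z(R)| is as large as possible among subgroups of S, let Q be a minimal centrally large subgroup of S and let S_MCL be the subgroup generated by all minimal centrally large subgroups of S. Then the derived subgroup [Q, Q] is characteristic in S; Z(S) ∩ [Q, Q] or S_MCL is normal in G; and if [Q, Q] = 1, the minimal centrally large subgroups of S are exactly the abelian subgroups of S of largest order. -/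
theorem result {G : Type*} [Group G] [Finite G] {p : ℕ} [Fact p.Prime] (S : Subgroup G) (hE : Cfsg.IsPushingUpSituation p S) (hJ : S ≤ Subgroup.centralizer (Cfsg.centerThompsonAOf S : Set G)) (Q : Subgroup ↥S) (hQ : Cfsg.IsMinimalCentrallyLarge Q) : (⁅Q, Q⁆).Characteristic ∧ (((S ⊓ Subgroup.centralizer (S : Set G)) ⊓ (⁅Q, Q⁆).map S.subtype).Normal ∨ ((Cfsg.minimalCentrallyLargeJoin ↥S).map S.subtype).Normal) ∧ (⁅Q, Q⁆ = ⊥ → ∀ R : Subgroup ↥S, Cfsg.IsMinimalCentrallyLarge R ↔ R ∈ Cfsg.maxAbelianSubgroups ↥S) := by
  have hS := Lib.LocalChar.PushingUpCL.isPGroup_of_situation hE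
  refine ⟨Subgroup.characteristic_iff_map_le.2 fun φ => ?_, Lib.LocalChar.PushingUpCLNormal.derived_or hE hQ,
    fun h R => ?_⟩
  · rw [Subgroup.map_commutator]
    exact (Lib.LocalChar.PushingUpCLNormal.derived_eq hS (minimal_map φ hQ) hQ).le
  · exact (Cfsg.Agent.S3007.result ↥S hS Q Q hQ hQ).2.2.2.2
      (Subgroup.le_centralizer_iff_isMulCommutative.1 (Subgroup.commutator_eq_bot_iff_le_centralizer.1 h)) R

end Cfsg.Agent.S2990
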