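import Cfsg.Statements.S3011
import Cfsg.Agent.S0200
import Cfsg.Agent.Lib.Hall.Basic

set_option autoImplicit false
open Cfsg

namespace Cfsg.Agent.S3011

section
variable {G : Type*} [Group G]

theorem inv_of_sq {v : G} (h : v * v = 1) : v⁻¹ = v := inv_eq_of_mul_eq_one_left h

theorem eq_one_of_odd_sq {h : G} (ho : Odd (orderOf h)) (h2 : h = h⁻¹) : h = 1 := by
  have h1 : h ^ 2 = 1 := by rw [pow_two]; nth_rw 2 [h2]; exact mul_inv_cancel h
  have hd := orderOf_dvd_of_pow_eq_one h1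
  rcases (Nat.dvd_prime Nat.prime_two).1 hd with e | e
  · exact orderOf_eq_one_iff.1 e
  · rw [e] at ho; exact absurd ho (by decide)

/-- the key configuration is impossible -/
theorem no_config (V : Subgroup G) (hS : Cfsg.IsSidkiPair V) (q r : G) (hq : q ∈ V) (hr : r ∈ V)
    (hq2 : q * q = 1) (hr2 : r * r = 1) (hqr : q * r = r * q)
    (hV : ∀ w ∈ V, w ≠ 1 → w = q ∨ w = r ∨ w = q * r)
    (h k : G) (hh1 : h ≠ 1) (hk1 : k ≠ 1) (hho : Odd (orderOf h)) (hko : Odd (orderOf k))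
    (hhq : Commute q h) (hhr : r * h * r⁻¹ = h⁻¹)
    (hkp : Commute (q * r) k) (hkq : q * k * q⁻¹ = k⁻¹) : False := by
  have hqi := inv_of_sq hq2
  have hri := inv_of_sq hr2
  have hkr : r * k * r⁻¹ = k⁻¹ := by
    have e : (q * r) * k * (q * r)⁻¹ = k := by rw [hkp.eq, mul_inv_cancel_right]
    calc r * k * r⁻¹ = q⁻¹ * ((q * r) * k * (q * r)⁻¹) * q := by group
      _ = q * k * q⁻¹ := by rw [e, hqi]
      _ = k⁻¹ := hkq
  have hhp : (q * r) * h * (q * r)⁻¹ = h⁻¹ := by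
    calc (q * r) * h * (q * r)⁻¹ = q * (r * h * r⁻¹) * q⁻¹ := by group
      _ = h⁻¹ := by rw [hhr, (hhq.inv_right).eq, mul_inv_cancel_right]
  -- conjugating `k` by `h`
  have hk'o : Odd (orderOf (h * k * h⁻¹)) := by rw [show h * k * h⁻¹ = MulAut.conj h k from rfl, MulEquiv.orderOf_eq]; exact hko
  have hk'q : q * (h * k * h⁻¹) * q⁻¹ = (h * k * h⁻¹)⁻¹ := by
    calc q * (h * k * h⁻¹) * q⁻¹ = (q * h * q⁻¹) * (q * k * q⁻¹) * (q * h * q⁻¹)⁻¹ := by group
      _ = h * k⁻¹ * h⁻¹ := by rw [hkq, hhq.eq, mul_inv_cancel_right]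
      _ = (h * k * h⁻¹)⁻¹ := by group
  have h4 : Commute (h ^ 4) k := by
    obtain ⟨w, hwV, hw1, hw⟩ := hS _ q hq hk'o hk'q
    have hwc : w * (h * k * h⁻¹) * w⁻¹ = h * k * h⁻¹ := by rw [hw, mul_inv_cancel_right]
    rcases hV w hwV hw1 with rfl | rfl | rfl
    · rw [hwc] at hk'q
      have hh := eq_one_of_odd_sq hk'o hk'q
      exact absurd (conj_eq_one_iff.1 hh) hk1
    · -- r : h⁻¹ k⁻¹ h = h k h⁻¹
      have e : h⁻¹ * k⁻¹ * h = h * k * h⁻¹ := by
        calc h⁻¹ * k⁻¹ * h = (w * h * w⁻¹) * (w * k * w⁻¹) * (w * h * w⁻¹)⁻¹ := by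
              rw [hhr, hkr, inv_inv]
          _ = h * k * h⁻¹ := by rw [← hwc]; group
      have e2 : h ^ 2 * k * (h ^ 2)⁻¹ = k⁻¹ := by
        calc h ^ 2 * k * (h ^ 2)⁻¹ = h * (h * k * h⁻¹) * h⁻¹ := by rw [pow_two, mul_inv_rev]; group
          _ = k⁻¹ := by rw [← e]; group
      have e3 : h ^ 2 * k⁻¹ * (h ^ 2)⁻¹ = k := by
        rw [← conj_inv, e2, inv_inv]
      have e4 : h ^ 4 * k * (h ^ 4)⁻¹ = k := by
        calc h ^ 4 * k * (h ^ 4)⁻¹ = h ^ 2 * (h ^ 2 * k * (h ^ 2)⁻¹) * (h ^ 2)⁻¹ := by group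
          _ = k := by rw [e2, e3]
      exact mul_inv_eq_iff_eq_mul.1 e4
    · -- q r : h⁻¹ k h = h k h⁻¹
      have ek : (q * r) * k * (q * r)⁻¹ = k := by rw [hkp.eq, mul_inv_cancel_right]
      have e : h⁻¹ * k * h = h * k * h⁻¹ := by
        calc h⁻¹ * k * h
            = ((q * r) * h * (q * r)⁻¹) * ((q * r) * k * (q * r)⁻¹) * ((q * r) * h * (q * r)⁻¹)⁻¹ := by
              rw [hhp, ek, inv_inv]
          _ = h * k * h⁻¹ := by rw [← hwc]; group
      have e2 : h ^ 2 * k * (h ^ 2)⁻¹ = k := by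
        calc h ^ 2 * k * (h ^ 2)⁻¹ = h * (h * k * h⁻¹) * h⁻¹ := by rw [pow_two, mul_inv_rev]; group
          _ = k := by rw [← e]; group
      have : Commute (h ^ 2) k := mul_inv_eq_iff_eq_mul.1 e2
      simpa [← pow_mul] using this.pow_left 2
  -- odd order: `h` commutes with `k`
  have hhk : Commute h k := by
    obtain ⟨m, hm⟩ := exists_pow_eq_self_of_coprime (x := h) (n := 4)
      (by simpa using (Nat.coprime_two_left.2 hho).pow_left 2)
    have := h4.pow_left m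
    rwa [hm] at this
  have hprod : Odd (orderOf (h * k)) :=
    Odd.of_dvd_nat (hho.mul hko) (hhk.orderOf_mul_dvd_mul_orderOf)
  have hprodr : r * (h * k) * r⁻¹ = (h * k)⁻¹ := by
    calc r * (h * k) * r⁻¹ = (r * h * r⁻¹) * (r * k * r⁻¹) := by group
      _ = h⁻¹ * k⁻¹ := by rw [hhr, hkr]
      _ = (h * k)⁻¹ := by rw [mul_inv_rev]; exact hhk.inv_inv.eq
  obtain ⟨w, hwV, hw1, hw⟩ := hS _ r hr hprod hprodr
  have hwc : w * (h * k) * w⁻¹ = h * k := by rw [hw, mul_inv_cancel_right]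
  rcases hV w hwV hw1 with rfl | rfl | rfl
  · apply hk1
    refine eq_one_of_odd_sq hko ?_
    have : h * k = h * k⁻¹ := by
      calc h * k = w * (h * k) * w⁻¹ := hwc.symm
        _ = (w * h * w⁻¹) * (w * k * w⁻¹) := by group
        _ = h * k⁻¹ := by rw [hhq.eq, hkq, mul_inv_cancel_right]
    exact mul_left_cancel this
  · have : h * k = (h * k)⁻¹ := hwc.symm.trans hprodr
    have h1 := eq_one_of_odd_sq hprod this
    have hkh : k = h⁻¹ := eq_inv_of_mul_eq_one_right h1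
    apply hh1
    have : h = h⁻¹ := by
      have e : q * h⁻¹ * q⁻¹ = h⁻¹⁻¹ := hkh ▸ hkq
      rw [hhq.inv_right.eq, mul_inv_cancel_right, inv_inv] at e
      exact e.symm
    exact eq_one_of_odd_sq hho this
  · apply hh1
    refine eq_one_of_odd_sq hho ?_
    have ek : (q * r) * k * (q * r)⁻¹ = k := by rw [hkp.eq, mul_inv_cancel_right]
    have : h⁻¹ * k = h * k := by
      calc h⁻¹ * k = ((q * r) * h * (q * r)⁻¹) * ((q * r) * k * (q * r)⁻¹) := by rw [hhp, ek]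
        _ = h * k := by rw [← hwc]; group
    exact (mul_right_cancel this).symm

end


/-- Let G be a finite group and V a nontrivial elementary abelian 2-subgroup of G of order at most 4 such that, whenever an element of V inverts an element h of G of odd order, some nontrivial element of V commutes with h. Then V meets O₂(G) nontrivially. (The case of order at most 4 has a short argument from the Baer–Suzuki theorem.) -/
theorem result {G : Type*} [Group G] [Finite G] (V : Subgroup G) (hV : Cfsg.IsElementaryAbelian 2 V) (hV1 : V ≠ ⊥) (hS : Cfsg.IsSidkiPair V) (h4 : Nat.card V ≤ 4) : V ⊓ Cfsg.pCore 2 G ≠ ⊥ := by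
  obtain ⟨hcomm, hexp⟩ := hV
  by_contra hbot
  have hno : ∀ v ∈ V, v ≠ 1 → v ∉ Cfsg.pCore 2 G := fun v hv hv1 hvO => hv1 (by
    have : v ∈ V ⊓ Cfsg.pCore 2 G := ⟨hv, hvO⟩
    rw [hbot] at this
    simpa using this)
  have hsq : ∀ v ∈ V, v * v = 1 := fun v hv => by rw [← pow_two]; exact hexp v hv
  have hinv : ∀ v ∈ V, v ≠ 1 → ∃ h : G, h ≠ 1 ∧ Odd (orderOf h) ∧ v * h * v⁻¹ = h⁻¹ := fun v hv hv1 => by
    refine Cfsg.Agent.S0200.result v ?_ fun N hN hN2 hvN =>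
      hno v hv hv1 (Cfsg.Agent.Lib.Hall.le_pCore hN2 hvN)
    have : Fact (Nat.Prime 2) := ⟨Nat.prime_two⟩
    exact orderOf_eq_prime (by rw [pow_two]; exact hsq v hv) hv1
  have hcm : ∀ v ∈ V, ∀ w ∈ V, v * w = w * v := fun v hv w hw =>
    congrArg Subtype.val (hcomm.is_comm.comm (⟨v, hv⟩ : V) ⟨w, hw⟩)
  have hcover : ∀ q ∈ V, ∀ r ∈ V, q ≠ 1 → r ≠ 1 → q ≠ r →
      ∀ w ∈ V, w ≠ 1 → w = q ∨ w = r ∨ w = q * r := by
    intro q hq r hr hq1 hr1 hqr w hw hw1
    by_contra! hc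
    classical
    have : Fintype V := Fintype.ofFinite V
    have hqr1 : q * r ≠ 1 := fun e => hqr (by rw [eq_inv_of_mul_eq_one_left e, inv_of_sq (hsq r hr)])
    have hqrq : q * r ≠ q := fun e => hr1 (mul_eq_left.1 e)
    have hqrr : q * r ≠ r := fun e => hq1 (mul_eq_right.1 e)
    let f : Fin 5 → V := ![1, ⟨q, hq⟩, ⟨r, hr⟩, ⟨q * r, V.mul_mem hq hr⟩, ⟨w, hw⟩]
    have hf : Function.Injective f := by
      intro i j hij
      obtain ⟨hc1, hc2, hc3⟩ := hc
      fin_cases i <;> fin_cases j <;>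
        simp_all [f, Subtype.ext_iff, eq_comm]
    have := Nat.card_le_card_of_injective f hf
    rw [Nat.card_eq_fintype_card, Fintype.card_fin] at this
    omega
  obtain ⟨a, ha, ha1⟩ : ∃ a ∈ V, a ≠ 1 := by
    obtain ⟨⟨a, ha⟩, ha1⟩ := Subgroup.ne_bot_iff_exists_ne_one.1 hV1
    exact ⟨a, ha, fun e => ha1 (Subtype.ext e)⟩
  obtain ⟨h, hh1, hho, hha⟩ := hinv a ha ha1
  obtain ⟨b, hb, hb1, hhb⟩ := hS h a ha hho hha
  have hab : a ≠ b := by
    rintro rfl
    rw [hhb, mul_inv_cancel_right] at hha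
    exact hh1 (eq_one_of_odd_sq hho hha)
  obtain ⟨k, hk1, hko, hkb⟩ := hinv b hb hb1
  obtain ⟨w, hw, hw1, hkw⟩ := hS k b hb hko hkb
  have hbh : Commute b h := hhb
  rcases hcover a ha b hb ha1 hb1 hab w hw hw1 with rfl | rfl | rfl
  · -- `a` centralises `k`; put `r = a * b`
    refine no_config V hS b (w * b) hb (V.mul_mem ha hb) (hsq b hb) (hsq _ (V.mul_mem ha hb))
      (hcm b hb _ (V.mul_mem ha hb)) ?_ h k hh1 hk1 hho hko hbh ?_ ?_ hkb
    · intro v hv hv1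
      refine hcover b hb _ (V.mul_mem ha hb) hb1 ?_ ?_ v hv hv1
      · exact fun e => hab (by rw [eq_inv_of_mul_eq_one_left e, inv_of_sq (hsq b hb)])
      · exact fun e => ha1 (mul_eq_right.1 e.symm)
    · calc w * b * h * (w * b)⁻¹ = w * (b * h * b⁻¹) * w⁻¹ := by group
        _ = h⁻¹ := by rw [hhb, mul_inv_cancel_right, hha]
    · rw [hcm w ha b hb, ← mul_assoc, hsq b hb, one_mul]
      exact hkw
  · rw [hkw, mul_inv_cancel_right] at hkb
    exact hk1 (eq_one_of_odd_sq hko hkb)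
  · refine no_config V hS b a hb ha (hsq b hb) (hsq a ha) (hcm b hb a ha)
      (fun v hv hv1 => hcover b hb a ha hb1 ha1 hab.symm v hv hv1)
      h k hh1 hk1 hho hko hbh hha ?_ hkb
    rw [hcm b hb a ha]
    exact hkw

end Cfsg.Agent.S3011
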