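import Mathlib
import Cfsg.Statements.S3070
import Cfsg.Agent.Lib.KInf.ThompsonFive

set_option autoImplicit false

open scoped commutatorElement Pointwise

namespace Cfsg.Agent.S3070

open Cfsg.Agent.Lib.KInf in
/-- The forward reduction: a normal complement in the normalizer of the Thompson subgroup. -/
theorem normalizer_npc {G : Type*} [Group G] [Finite G] {p : ℕ} [Fact p.Prime] (S : Sylow p G)
    (h : ∀ g ∈ Subgroup.normalizer (Cfsg.thompsonSubgroupAOf (S : Subgroup G) : Set G), (orderOf g).Coprime p →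
      g ∈ Subgroup.centralizer (Cfsg.thompsonSubgroupAOf (S : Subgroup G) : Set G)) :
    Cfsg.HasNormalPComplement p
      ↥(Subgroup.normalizer (Cfsg.thompsonSubgroupAOf (S : Subgroup G) : Set G)) := by
  set J := Cfsg.thompsonSubgroupAOf (S : Subgroup G) with hJ
  set N := Subgroup.normalizer (J : Set G) with hN
  have hSN : (S : Subgroup G) ≤ N := fun s hs => Subgroup.mem_normalizer_iff.2 fun x => by
    have hs' : (S : Subgroup G) ≤ Subgroup.normalizer (J : Set G) :=
      Subgroup.le_normalizer.trans (Cfsg.Agent.Lib.LocalFusion.normalizer_le_normalizer_functor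
        (isConjugacyFunctor_induced (isCharPFunctor_thompsonA (p := p))) S.2)
    exact Subgroup.mem_normalizer_iff.1 (hs' hs) x
  set C : Subgroup ↥N := (Subgroup.centralizer (J : Set G)).subgroupOf N with hC
  haveI hCn : C.Normal := by
    rw [hC]
    exact ⟨fun c hc n => by
      rw [Subgroup.mem_subgroupOf] at hc ⊢
      refine Subgroup.mem_centralizer_iff.2 fun x hx => ?_
      have hx' : (n : G)⁻¹ * x * n ∈ J := (Subgroup.mem_normalizer_iff''.1 n.2 x).1 hx
      have h1 := Subgroup.mem_centralizer_iff.1 hc _ hx'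
      simp only [Subgroup.coe_mul, Subgroup.coe_inv]
      calc x * ((n : G) * (c : G) * (n : G)⁻¹) = n * (((n : G)⁻¹ * x * n) * c) * (n : G)⁻¹ := by group
        _ = n * ((c : G) * ((n : G)⁻¹ * x * n)) * (n : G)⁻¹ := by rw [h1]
        _ = _ := by group⟩
  obtain ⟨T, hT⟩ := Cfsg.Agent.Lib.Transfer.exists_sylow_inf (S.subtype hSN) C
  -- `S ∩ C(J)` is central in `C(J)`
  have hSC : ∀ x ∈ (S : Subgroup G), x ∈ Subgroup.centralizer (J : Set G) → x ∈ J := by
    intro x hxS hxC
    obtain ⟨A, hA⟩ := Set.exists_max_image {A : Subgroup G | A ≤ (S : Subgroup G) ∧ ∀ a ∈ A, ∀ b ∈ A, a * b = b * a}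
      (fun A => Nat.card ↥A) (Set.toFinite _) ⟨⊥, bot_le, fun a ha b hb => by
        rw [Subgroup.mem_bot.1 ha, Subgroup.mem_bot.1 hb]⟩
    have hM : MaxAb (S : Subgroup G) A := ⟨hA.1.1, hA.1.2, fun B hB hBc => hA.2 B ⟨hB, hBc⟩⟩
    have hAJ : A ≤ J := hM.le_thompsonSubgroupAOf
    have hstab : A ⊔ Subgroup.zpowers x ≤ Subgroup.centralizer ((A ⊔ Subgroup.zpowers x : Subgroup G) : Set G) := by
      refine sup_le (Subgroup.le_centralizer_iff.1 (sup_le ?_ ?_)) (Subgroup.le_centralizer_iff.1 (sup_le ?_ ?_))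
      · exact fun a ha b hb => hA.1.2 b hb a ha
      · exact Subgroup.zpowers_le.2 (Subgroup.centralizer_le (SetLike.coe_subset_coe.2 hAJ) hxC)
      · exact Subgroup.le_centralizer_iff.1 (Subgroup.zpowers_le.2
          (Subgroup.centralizer_le (SetLike.coe_subset_coe.2 hAJ) hxC))
      · exact Subgroup.le_centralizer_iff_isMulCommutative.2 inferInstance
    have h2 := hM.max _ (sup_le hM.le (Subgroup.zpowers_le.2 hxS)) fun a ha b hb => hstab hb a ha
    have h3 : A ⊔ Subgroup.zpowers x = A := (Subgroup.eq_of_le_of_card_ge le_sup_left h2).symm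
    exact hAJ (h3 ▸ Subgroup.mem_sup_right (Subgroup.mem_zpowers x))
  have hCnpc : Cfsg.HasNormalPComplement p ↥C := by
    refine Cfsg.Agent.Lib.Transfer.hasNormalPComplement_of_normalizer_le_centralizer T fun c _ => ?_
    refine Subgroup.mem_centralizer_iff.2 fun t ht => ?_
    have ht' : t ∈ (T : Subgroup ↥C) := ht
    rw [hT, Subgroup.mem_subgroupOf] at ht'
    have htS : ((t : ↥N) : G) ∈ (S : Subgroup G) := by simpa [Sylow.coe_subtype, Subgroup.mem_subgroupOf] using ht'
    have htJ : ((t : ↥N) : G) ∈ J := hSC _ htS t.2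
    exact Subtype.ext (Subtype.ext (Subgroup.mem_centralizer_iff.1 c.2 _ htJ))
  rw [Cfsg.Agent.Lib.Transfer.hasNormalPComplement_iff] at hCnpc ⊢
  intro hd
  apply hCnpc
  rw [← Subgroup.card_map_of_injective C.subtype_injective]
  refine hd.trans (Subgroup.card_dvd_of_le ?_)
  rw [Cfsg.pResidual, Subgroup.closure_le]
  intro g hg
  have hgC : g ∈ C := by
    rw [hC, Subgroup.mem_subgroupOf]
    exact h g g.2 (by rw [Subgroup.orderOf_coe]; exact hg)
  exact ⟨⟨g, hgC⟩, Cfsg.Agent.Lib.Transfer.mem_pResidual (by rw [Subgroup.orderOf_mk]; exact hg), rfl⟩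

/-- Let p ≥ 5 be a prime, S a Sylow p-subgroup of the finite group G and J(S) the subgroup generated by the abelian subgroups of S of largest order. Then G has a normal p-complement if and only if N_G(J(S))/C_G(J(S)) is a p-group (every element of N_G(J(S)) of order prime to p centralizes J(S)). -/
theorem result {G : Type*} [Group G] [Finite G] {p : ℕ} [Fact p.Prime]
    (hp : 5 ≤ p) (S : Sylow p G) :
    Cfsg.HasNormalPComplement p G ↔
      ∀ g ∈ Subgroup.normalizer (Cfsg.thompsonSubgroupAOf (S : Subgroup G) : Set G), (orderOf g).Coprime p →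
        g ∈ Subgroup.centralizer (Cfsg.thompsonSubgroupAOf (S : Subgroup G) : Set G) := by
  constructor
  · intro hG g hg hgo
    set J := Cfsg.thompsonSubgroupAOf (S : Subgroup G) with hJ
    have hJp : IsPGroup p ↥J := S.2.to_le (Subgroup.map_subtype_le _)
    have hK := Cfsg.Agent.Lib.Transfer.hasNormalPComplement_iff.1 hG
    have hgK : g ∈ Cfsg.pResidual p G := Cfsg.Agent.Lib.Transfer.mem_pResidual hgo
    refine Subgroup.mem_centralizer_iff.2 fun x hx => ?_
    have h1 : x * g * x⁻¹ * g⁻¹ ∈ Cfsg.pResidual p G ⊓ J :=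
      ⟨(Cfsg.pResidual p G).mul_mem ((inferInstance : (Cfsg.pResidual p G).Normal).conj_mem g hgK x) ((Cfsg.pResidual p G).inv_mem hgK), by
        rw [show x * g * x⁻¹ * g⁻¹ = x * (g * x⁻¹ * g⁻¹) by group]
        exact J.mul_mem hx ((Subgroup.mem_normalizer_iff.1 hg _).1 (J.inv_mem hx))⟩
    rw [Cfsg.Agent.Lib.Transfer.inf_eq_bot_of_not_dvd hK hJp, Subgroup.mem_bot] at h1
    exact commutatorElement_eq_one_iff_mul_comm.1 h1
  · intro h
    refine Cfsg.Agent.Lib.KInf.npc_of_maximal_sylow (W₀ := @Cfsg.thompsonSubgroupA)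
      Cfsg.Agent.Lib.KInf.isCharPFunctor_thompsonA (G₀ := G) ?_ _ G Cfsg.Agent.Lib.KInf.IsSec.refl S rfl
      (normalizer_npc S h)
    intro X _ _ _ hC hq T hT
    exact Cfsg.Agent.Lib.KInf.thompsonSubgroupAOf_normal hp hC hq T hT

end Cfsg.Agent.S3070
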