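import Cfsg.Statements.S3071
import Cfsg.Agent.Lib.LocalP2.ZJFunctor
import Cfsg.Agent.Lib.Fusion.LocalGroup
import Cfsg.Agent.Lib.Fusion.Involves
import Cfsg.Agent.Lib.PStab.QdSection
import Cfsg.Agent.S2795
import Cfsg.Agent.S5206

set_option autoImplicit false
open Cfsg

namespace Cfsg.Agent.S3071


/-- Let p be an odd prime and S a Sylow p-subgroup of the finite group G such that, for every subgroup P with Z(S) ≤ P ≤ S, the normalizer N_G(P) has no section isomorphic to SL₂(p). Let J(S) be the subgroup generated by the abelian subgroups of S of largest order. Then two elements of S are conjugate in G if and only if they are conjugate in N_G(Z(J(S))). -/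
theorem result {G : Type*} [Group G] [Finite G] {p : ℕ} [Fact p.Prime]
    (hp : p ≠ 2) (S : Sylow p G)
    (hfree : ∀ P : Subgroup G, (S : Subgroup G) ⊓ Subgroup.centralizer ((S : Subgroup G) : Set G) ≤ P → P ≤ S →
      ¬ ∃ (H K : Subgroup G) (hK : (K.subgroupOf H).Normal), H ≤ Subgroup.normalizer (P : Set G) ∧
        Nonempty ((H ⧸ K.subgroupOf H) ≃* Matrix.SpecialLinearGroup (Fin 2) (ZMod p))) :
    ∀ x ∈ S, ∀ y ∈ S, (∃ g : G, g * x * g⁻¹ = y) ↔
      ∃ n ∈ Subgroup.normalizer (Cfsg.centerThompsonAOf (S : Subgroup G) : Set G), n * x * n⁻¹ = y := by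
  have hfreeQd : ¬ Cfsg.Involves ↥(Cfsg.qd p) G := by
    refine (Cfsg.Agent.S5206.result hp S).1 fun Q hn hc N hN L _ ι hL hinv => ?_
    obtain ⟨f, hf, -⟩ := Lib.Fusion.exists_group_model_hom S hn hc hN hL
    obtain ⟨K, h, hh⟩ := Lib.Fusion.exists_surjective_of_involves hinv
    refine hfree Q ?_ hc.1 ?_
    · intro z hz
      refine hc.2 Q (Lib.Fusion.isConj_refl hc.1) ⟨hz.1, ?_⟩
      exact Subgroup.centralizer_le hc.1 hz.2
    · set π : K.comap f →* Matrix.SpecialLinearGroup (Fin 2) (ZMod p) :=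
        (Lib.PStab.linPart.comp h).comp (f.subgroupComap K)
      have hπ : Function.Surjective π := (Lib.PStab.linPart_surjective.comp hh).comp
        (MonoidHom.subgroupComap_surjective_of_surjective f K hf)
      let e := (K.comap f).equivMapOfInjective _ (Subgroup.subtype_injective (Subgroup.normalizer (Q : Set G)))
      obtain ⟨M, hM, hiso⟩ := Lib.PStab.exists_quotient_equiv (π.comp e.symm.toMonoidHom) (hπ.comp e.symm.surjective)
      exact ⟨_, M, hM, Subgroup.map_subtype_le _, hiso⟩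
  have hst := (Cfsg.Agent.S2795.result hp).1 hfreeQd
  intro x hx y hy
  constructor
  · rintro ⟨g, hg⟩
    have hA : ({x} : Set G) ⊆ (S : Subgroup G) := Set.singleton_subset_iff.2 hx
    have hgA : Lib.LocalFusion.imgL g ({x} : Set G) ⊆ (S : Subgroup G) := by
      rintro _ ⟨a, ha, rfl⟩
      rw [Set.mem_singleton_iff.1 ha]
      show g * x * g⁻¹ ∈ (S : Subgroup G)
      rw [hg]; exact hy
    have hc : Lib.LocalFusion.LChain ((Subgroup.normalizer ((Cfsg.centerThompsonAOf (S : Subgroup G) : Subgroup G) : Set G) : Subgroup G) : Set G)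
        (S : Subgroup G) {x} g :=
      Lib.KInf.chain_steps ((Lib.LocalP2.sf_zj hp hst) G Lib.KInf.IsSec.refl S {x} g hA hgA) fun z ⟨_, ⟨_, hV, hV'⟩, _, hz⟩ => by
        subst hV'
        rw [Set.mem_singleton_iff.1 hV] at hz
        rw [← Lib.LocalP2.inducedFunctor_zjW]
        exact hz
    obtain ⟨n, hn, he⟩ := hc.collapse
    exact ⟨n, hn, (he x rfl).trans hg⟩
  · rintro ⟨n, -, h⟩
    exact ⟨n, h⟩

end Cfsg.Agent.S3071
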