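import Cfsg.Statements.S3225
import Mathlib
import Cfsg.Agent.Lib.Involution.IndexTwo

set_option autoImplicit false
open Cfsg

namespace Cfsg.Agent.S3225

theorem two_facts : (Multiplicative.ofAdd (1 : ZMod 2) * Multiplicative.ofAdd 1 = 1) ∧
    (Multiplicative.ofAdd (1 : ZMod 2) ≠ 1) := by decide

/-- Let G be a finite group of even order with no subgroup of index 2, S a Sylow 2-subgroup of G and M a subgroup of index 2 in S such that, for some n ≥ 1, every element of S outside M has order greater than 2^(n−1). Then every element of S of order 2ⁿ is conjugate in G to an element of M. -/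
theorem result {G : Type*} [Group G] [Finite G] (hev : Even (Nat.card G))
    (hG : ∀ H : Subgroup G, H.index ≠ 2) (S : Sylow 2 G) (M : Subgroup G) (hMS : M ≤ (S : Subgroup G)) (hM : M.relIndex (S : Subgroup G) = 2)
    (n : ℕ) (hn : 1 ≤ n) (hord : ∀ y ∈ (S : Subgroup G), y ∉ M → 2 ^ (n - 1) < orderOf y)
    (x : G) (hx : x ∈ (S : Subgroup G)) (hxn : orderOf x = 2 ^ n) :
    ∃ g : G, g * x * g⁻¹ ∈ M := by
  by_contra hcon
  push Not at hcon
  haveI : Fact (Nat.Prime 2) := ⟨Nat.prime_two⟩
  classical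
  set P : Subgroup G := (S : Subgroup G)
  set M' := M.subgroupOf P with hM'
  have hM2 : M'.index = 2 := hM
  let φ : ↥P →* Multiplicative (ZMod 2) :=
    MonoidHom.mk' (fun s => if s ∈ M' then 1 else Multiplicative.ofAdd 1) (by
      intro s t
      have h := Subgroup.mul_mem_iff_of_index_two hM2 (a := s) (b := t)
      by_cases h1 : s ∈ M' <;> by_cases h2 : t ∈ M' <;> simp_all <;> exact two_facts.1.symm)
  haveI : P.FiniteIndex := inferInstance
  letI : Fintype (Quotient (MulAction.orbitRel (Subgroup.zpowers x) (G ⧸ P))) := Fintype.ofFinite _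
  have hval := MonoidHom.transfer_eq_prod_quotient_orbitRel_zpowers_quot φ x
  have hterm : ∀ q : Quotient (MulAction.orbitRel (Subgroup.zpowers x) (G ⧸ P)),
      φ ⟨q.out.out⁻¹ * x ^ Function.minimalPeriod (x • ·) q.out * q.out.out,
        QuotientGroup.out_conj_pow_minimalPeriod_mem P x q.out⟩ =
      Multiplicative.ofAdd ((Function.minimalPeriod (x • ·) q.out : ℕ) : ZMod 2) := by
    intro q
    set r := Function.minimalPeriod (x • ·) q.out with hr
    have hmem : q.out.out⁻¹ * x ^ r * q.out.out ∈ P :=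
      QuotientGroup.out_conj_pow_minimalPeriod_mem P x q.out
    have hdvd : r ∣ 2 ^ n := by
      apply Function.IsPeriodicPt.minimalPeriod_dvd
      show (x • ·)^[2 ^ n] q.out = q.out
      simp only [smul_iterate, ← hxn, pow_orderOf_eq_one, one_smul]
    obtain ⟨i, hi, hri⟩ := (Nat.dvd_prime_pow Nat.prime_two).1 hdvd
    show (if _ then _ else _) = _
    rcases Nat.eq_zero_or_pos i with rfl | hi0
    · rw [if_neg, ← hr, hri]
      · rfl
      intro h
      have h' := hcon q.out.out⁻¹
      apply h'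
      rw [inv_inv]
      have h'' : q.out.out⁻¹ * x ^ r * q.out.out ∈ M := h
      rwa [hri, pow_zero, pow_one] at h''
    · rw [if_pos]
      · rw [← hr, hri]
        obtain ⟨k, rfl⟩ : ∃ k, i = k + 1 := ⟨i - 1, by omega⟩
        rw [pow_succ, Nat.cast_mul, show ((2 : ℕ) : ZMod 2) = 0 from rfl, mul_zero]
        rfl
      · by_contra hnot
        have hlt := hord _ hmem hnot
        have hle : orderOf (q.out.out⁻¹ * x ^ r * q.out.out) ∣ 2 ^ (n - 1) := by
          apply orderOf_dvd_of_pow_eq_one
          have : (x ^ r) ^ (2 ^ (n - 1)) = 1 := by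
            rw [← pow_mul, hri, ← pow_add]
            obtain ⟨d, hd⟩ : ∃ d, i + (n - 1) = n + d := ⟨i - 1, by omega⟩
            rw [hd, pow_add, pow_mul, ← hxn, pow_orderOf_eq_one, one_pow]
          calc (q.out.out⁻¹ * x ^ r * q.out.out) ^ (2 ^ (n - 1))
              = (q.out.out⁻¹ * x ^ r * (q.out.out⁻¹)⁻¹) ^ (2 ^ (n - 1)) := by rw [inv_inv]
            _ = q.out.out⁻¹ * (x ^ r) ^ (2 ^ (n - 1)) * (q.out.out⁻¹)⁻¹ := conj_pow
            _ = 1 := by rw [this]; group
        have := Nat.le_of_dvd (pow_pos two_pos _) hle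
        omega
  rw [Finset.prod_congr rfl fun q _ => hterm q, ← ofAdd_sum, ← Nat.cast_sum,
    ← Subgroup.index_eq_sum_minimalPeriod] at hval
  have hodd : (P.index : ZMod 2) = 1 :=
    ZMod.natCast_eq_one_iff_odd.2 (Nat.not_even_iff_odd.1 fun h => S.not_dvd_index h.two_dvd)
  rw [hodd] at hval
  obtain ⟨H, hH⟩ := Lib.Involution.exists_index_two_of_hom
    (A := Multiplicative (ZMod 2)) (IsPGroup.of_card (n := 1) (by simp)) (MonoidHom.transfer φ) (g := x)
    (by rw [hval]; exact two_facts.2)
  exact hG H hH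

end Cfsg.Agent.S3225
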