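import Cfsg.Statements.S3178
import Mathlib
import Cfsg.Agent.S3225
import Cfsg.Agent.Lib.Transfer.Local

set_option autoImplicit false
open Cfsg

namespace Cfsg.Agent.S3178

/-- An automorphism of odd order of an abelian 2-group fixing all involutions is trivial. -/
theorem fix_of_omega {P : Type*} [Group P] [IsMulCommutative P] (hP : IsPGroup 2 P) (f : MulAut P)
    (hf : Odd (orderOf f)) (h : ∀ x : P, x ^ 2 = 1 → f x = x) : ∀ x : P, f x = x := by
  intro x
  obtain ⟨k, hk⟩ := hP x
  induction k generalizing x with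
  | zero =>
    rw [pow_zero, pow_one] at hk
    rw [hk, map_one]
  | succ k ih =>
    have hx2 : f (x ^ 2) = x ^ 2 := ih (x ^ 2) (by rw [← pow_mul, ← pow_succ']; exact hk)
    obtain ⟨d, hd⟩ : ∃ d, d = f x * x⁻¹ := ⟨_, rfl⟩
    have hd2 : d ^ 2 = 1 := by
      have hc : Commute (f x) x⁻¹ := mul_comm' _ _
      rw [hd, hc.mul_pow, ← map_pow, hx2, inv_pow, mul_inv_cancel]
    have hfd : f d = d := h d hd2
    have hfx : f x = d * x := by rw [hd, inv_mul_cancel_right]
    have hiter : ∀ m : ℕ, (f ^ m) x = d ^ m * x := by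
      intro m
      induction m with
      | zero => simp
      | succ m ihm => rw [pow_succ' f, MulAut.mul_apply, ihm, map_mul, map_pow, hfd, hfx, pow_succ, mul_assoc]
    obtain ⟨r, hr⟩ := hf
    have h1 := hiter (2 * r + 1)
    rw [← hr, pow_orderOf_eq_one, MulAut.one_apply, hr, pow_succ, pow_mul, hd2, one_pow, one_mul] at h1
    rw [hfx, ← h1]

theorem card_le_four {S : Type*} [Group S] [Finite S] (a b : S) (n : ℕ) (hn : 3 ≤ n) (hao : orderOf a = 2 ^ n)
    (hb2 : b * b = 1) (hrel : b * a * b⁻¹ = a ^ (2 ^ (n - 1) + 1))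
    (hidx : (Subgroup.zpowers a).index = 2) (hbn : b ∉ Subgroup.zpowers a) :
    {x : S | x ^ 2 = 1}.ncard ≤ 4 := by
  have hh : (2 : ℤ) ^ n = 2 * 2 ^ (n - 1) := by
    conv_lhs => rw [show n = n - 1 + 1 by omega, pow_succ']
  have hroot : ∀ i : ℤ, (2 : ℤ) ^ n ∣ 2 * i → a ^ i = 1 ∨ a ^ i = a ^ ((2 : ℤ) ^ (n - 1)) := by
    intro i hi
    rw [hh] at hi
    obtain ⟨t, rfl⟩ := Int.dvd_of_mul_dvd_mul_left two_ne_zero hi
    have h1 : a ^ ((2 : ℤ) ^ n) = 1 := by
      rw [show (2 : ℤ) ^ n = ((2 ^ n : ℕ) : ℤ) by push_cast; rfl, zpow_natCast, ← hao, pow_orderOf_eq_one]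
    rcases Int.even_or_odd' t with ⟨s, rfl | rfl⟩
    · left
      rw [show (2 : ℤ) ^ (n - 1) * (2 * s) = 2 ^ n * s by rw [hh]; ring, zpow_mul, h1, one_zpow]
    · right
      rw [show (2 : ℤ) ^ (n - 1) * (2 * s + 1) = 2 ^ n * s + 2 ^ (n - 1) by rw [hh]; ring, zpow_add, zpow_mul, h1,
        one_zpow, one_mul]
  refine le_trans (Set.ncard_le_ncard (t := {1, a ^ ((2 : ℤ) ^ (n - 1)), b, a ^ ((2 : ℤ) ^ (n - 1)) * b})
    (fun x hx => ?_)) ?_
  · change x ^ 2 = 1 at hx
    simp only [Set.mem_insert_iff, Set.mem_singleton_iff]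
    by_cases hxa : x ∈ Subgroup.zpowers a
    · obtain ⟨i, rfl⟩ := Subgroup.mem_zpowers_iff.1 hxa
      rw [← zpow_natCast, ← zpow_mul, ← orderOf_dvd_iff_zpow_eq_one, hao] at hx
      push_cast at hx
      rcases hroot i (by rwa [mul_comm]) with h | h
      · exact Or.inl h
      · exact Or.inr (Or.inl h)
    · obtain ⟨i, hi⟩ := Subgroup.mem_zpowers_iff.1
        ((Subgroup.mul_mem_iff_of_index_two hidx).2 (iff_of_false hxa hbn) : x * b ∈ Subgroup.zpowers a)
      have hx' : x = a ^ i * b := by rw [hi, mul_assoc, hb2, mul_one]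
      subst hx'
      have hc : b * a ^ i * b⁻¹ = a ^ ((((2 : ℕ) ^ (n - 1) + 1 : ℕ) : ℤ) * i) := by
        rw [← conj_zpow, hrel, ← zpow_natCast, ← zpow_mul]
      have e : a ^ i * b * (a ^ i * b) = a ^ i * (b * a ^ i * b⁻¹) * (b * b) := by group
      rw [sq, e, hc, hb2, mul_one, ← zpow_add, ← orderOf_dvd_iff_zpow_eq_one, hao] at hx
      push_cast at hx
      have hcop : IsCoprime ((2 : ℤ) ^ n) (1 + 2 ^ (n - 2)) := by
        refine IsCoprime.pow_left ?_
        exact ⟨-(2 ^ (n - 3)), 1, by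
          rw [show (2 : ℤ) ^ (n - 2) = 2 ^ (n - 3) * 2 by rw [← pow_succ]; congr 1; omega]
          ring⟩
      have e2 : i + ((2 : ℤ) ^ (n - 1) + 1) * i = (2 * i) * (1 + 2 ^ (n - 2)) := by
        rw [show (2 : ℤ) ^ (n - 1) = 2 ^ (n - 2) * 2 by rw [← pow_succ]; congr 1; omega]
        ring
      rw [e2] at hx
      rcases hroot i (hcop.dvd_of_dvd_mul_right hx) with h | h
      · exact Or.inr (Or.inr (Or.inl (by rw [h, one_mul])))
      · exact Or.inr (Or.inr (Or.inr (by rw [h])))
  · refine (Set.ncard_insert_le _ _).trans (Nat.succ_le_succ ?_)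
    refine (Set.ncard_insert_le _ _).trans (Nat.succ_le_succ ?_)
    exact (Set.ncard_insert_le _ _).trans (Nat.succ_le_succ (le_of_eq (Set.ncard_singleton _)))

/-- Groups with a modular Sylow 2-subgroup have a normal 2-complement. Let S, of order 2^(n+1) with n ≥ 3, be a Sylow 2-subgroup of a finite group G, and suppose S contains an element a of order 2^n and an involution b with b a b⁻¹ = a^(2^(n-1) + 1); so S is the non-abelian 2-group with a cyclic subgroup of index 2 that is neither dihedral, semidihedral nor generalized quaternion. Then G has a normal 2-complement. -/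
theorem result {G : Type*} [Group G] [Finite G]
    (S : Sylow 2 G) (n : ℕ) (hn : 3 ≤ n) (hS : Nat.card ↥(S : Subgroup G) = 2 ^ (n + 1))
    (a b : G) (ha : a ∈ (S : Subgroup G)) (hb : b ∈ (S : Subgroup G))
    (hao : orderOf a = 2 ^ n) (hbo : orderOf b = 2) (hrel : b * a * b⁻¹ = a ^ (2 ^ (n - 1) + 1)) :
    Cfsg.HasNormalPComplement 2 G := by
  haveI : Fact (Nat.Prime 2) := ⟨Nat.prime_two⟩
  set P : Subgroup G := (S : Subgroup G) with hPdef
  have hb2 : b * b = 1 := by rw [← sq, ← hbo, pow_orderOf_eq_one]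
  -- work inside `S`
  let a' : ↥P := ⟨a, ha⟩
  let b' : ↥P := ⟨b, hb⟩
  have hao' : orderOf a' = 2 ^ n := by rw [← hao, ← Subgroup.orderOf_coe]
  have hb2' : b' * b' = 1 := Subtype.ext hb2
  have hrel' : b' * a' * b'⁻¹ = a' ^ (2 ^ (n - 1) + 1) := Subtype.ext (by simpa using hrel)
  have hidx : (Subgroup.zpowers a').index = 2 := by
    have hc := (Subgroup.zpowers a').card_mul_index
    rw [Nat.card_zpowers, hao', show Nat.card ↥P = _ from hS, pow_succ] at hc
    exact Nat.eq_of_mul_eq_mul_left (by positivity) hc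
  have hpow : a' ^ (2 ^ n) = 1 := by rw [← hao', pow_orderOf_eq_one]
  have hn1 : 2 ^ (n - 1) * 2 = 2 ^ n := by rw [← pow_succ]; congr 1; omega
  have hbn : b' ∉ Subgroup.zpowers a' := by
    intro h
    obtain ⟨i, hi⟩ := Subgroup.mem_zpowers_iff.1 h
    have h1 : b' * a' * b'⁻¹ = a' := by rw [← hi]; group
    rw [h1, pow_succ, right_eq_mul] at hrel'
    have h2 := Nat.le_of_dvd (pow_pos two_pos _) (hao' ▸ orderOf_dvd_of_pow_eq_one hrel')
    have h3 : 0 < 2 ^ (n - 1) := pow_pos two_pos _
    omega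
  have hca : Commute (a' ^ 2) b' := by
    have h1 : b' * a' ^ 2 * b'⁻¹ = a' ^ 2 := by
      rw [← conj_pow, hrel', ← pow_mul, add_mul, one_mul, pow_add, hn1, hpow, one_mul]
    show a' ^ 2 * b' = b' * a' ^ 2
    calc a' ^ 2 * b' = b' * a' ^ 2 * b'⁻¹ * b' := by rw [h1]
      _ = _ := by group
  have hdec : ∀ x : ↥P, x ∈ Subgroup.zpowers a' ∨ x * b' ∈ Subgroup.zpowers a' := fun x => by
    by_cases h : x ∈ Subgroup.zpowers a'
    · exact Or.inl h
    · exact Or.inr ((Subgroup.mul_mem_iff_of_index_two hidx).2 (iff_of_false h hbn))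
  have hcent : a' ^ 2 ∈ Subgroup.center ↥P := by
    rw [Subgroup.mem_center_iff]
    intro x
    rcases hdec x with h | h
    · obtain ⟨i, rfl⟩ := Subgroup.mem_zpowers_iff.1 h
      exact (((Commute.refl a').pow_right 2).zpow_left i).eq
    · obtain ⟨i, hi⟩ := Subgroup.mem_zpowers_iff.1 h
      have hx : x = a' ^ i * b' := by rw [hi, mul_assoc, hb2', mul_one]
      rw [hx]
      exact ((((Commute.refl a').pow_right 2).zpow_left i).mul_left hca.symm).eq
  -- an index two subgroup of `G`
  have hindex : ∃ H : Subgroup G, H.index = 2 := by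
    by_contra hcon
    push Not at hcon
    let M : Subgroup G := (Subgroup.zpowers (a' ^ 2) ⊔ Subgroup.zpowers b').map P.subtype
    haveI hZn : (Subgroup.zpowers (a' ^ 2)).Normal := ⟨fun v hv g => by
      have hvc : v ∈ Subgroup.center ↥P := (Subgroup.zpowers_le.2 hcent) hv
      rwa [Subgroup.mem_center_iff.1 hvc g, mul_inv_cancel_right]⟩
    set M' := Subgroup.zpowers (a' ^ 2) ⊔ Subgroup.zpowers b'
    have hM'exp : ∀ v ∈ M', v ^ (2 ^ (n - 1)) = 1 := by
      intro v hv
      obtain ⟨u, hu, w, hw, rfl⟩ := (Subgroup.mem_sup_of_normal_left).1 hv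
      obtain ⟨i, rfl⟩ := Subgroup.mem_zpowers_iff.1 hu
      obtain ⟨j, rfl⟩ := Subgroup.mem_zpowers_iff.1 hw
      rw [((hca.zpow_left i).zpow_right j).mul_pow, ← zpow_natCast, ← zpow_mul,
        mul_comm i, zpow_mul, zpow_natCast, ← pow_mul, mul_comm 2, hn1, hpow, one_zpow, one_mul,
        ← zpow_natCast, ← zpow_mul, mul_comm j, zpow_mul, zpow_natCast]
      rw [show 2 ^ (n - 1) = 2 * 2 ^ (n - 2) by rw [← pow_succ']; congr 1; omega, pow_mul, sq, hb2', one_pow, one_zpow]
    have hmem' : ∀ x : ↥P, x ∉ M' → orderOf x = 2 ^ n ∨ 2 ^ (n - 1) < orderOf x := by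
      intro x hx
      right
      by_contra hle
      push Not at hle
      apply hx
      rcases hdec x with h | h
      · obtain ⟨i, rfl⟩ := Subgroup.mem_zpowers_iff.1 h
        rcases Int.even_or_odd' i with ⟨s, rfl | rfl⟩
        · rw [zpow_mul]
          exact Subgroup.mem_sup_left (zpow_mem (by rw [zpow_ofNat]; exact Subgroup.mem_zpowers _) s)
        · exfalso
          obtain ⟨k, hk⟩ := S.2 (a' ^ (2 * s + 1))
          obtain ⟨l, hl, hl'⟩ := (Nat.dvd_prime_pow Nat.prime_two).1 (orderOf_dvd_of_pow_eq_one hk)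
          have hl1 : l ≤ n - 1 := by
            rw [hl'] at hle
            exact (Nat.pow_le_pow_iff_right one_lt_two).1 hle
          have hz : (a' ^ (2 * s + 1)) ^ (2 ^ (n - 1)) = 1 :=
            orderOf_dvd_iff_pow_eq_one.1 (hl' ▸ pow_dvd_pow 2 hl1)
          rw [← zpow_natCast, ← zpow_mul, ← orderOf_dvd_iff_zpow_eq_one, hao'] at hz
          push_cast at hz
          rw [show (2 : ℤ) ^ n = 2 * 2 ^ (n - 1) by rw [← pow_succ']; congr 1; omega] at hz
          have := Int.dvd_of_mul_dvd_mul_right (pow_ne_zero _ two_ne_zero) hz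
          omega
      · obtain ⟨i, hi⟩ := Subgroup.mem_zpowers_iff.1 h
        have hx' : x = a' ^ i * b' := by rw [hi, mul_assoc, hb2', mul_one]
        rcases Int.even_or_odd' i with ⟨s, rfl | rfl⟩
        · rw [hx', zpow_mul]
          exact mul_mem (Subgroup.mem_sup_left (zpow_mem (by rw [zpow_ofNat]; exact Subgroup.mem_zpowers _) s))
            (Subgroup.mem_sup_right (Subgroup.mem_zpowers b'))
        · exfalso
          have hsq : x ^ 2 = a' ^ ((2 * s + 1) * ((2 : ℤ) ^ (n - 1) + 2)) := by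
            rw [hx', sq]
            have hc : b' * a' ^ (2 * s + 1) * b'⁻¹ = a' ^ (((2 ^ (n - 1) + 1 : ℕ) : ℤ) * (2 * s + 1)) := by
              rw [← conj_zpow, hrel', ← zpow_natCast, ← zpow_mul]
            calc a' ^ (2 * s + 1) * b' * (a' ^ (2 * s + 1) * b')
                = a' ^ (2 * s + 1) * (b' * a' ^ (2 * s + 1) * b'⁻¹) * (b' * b') := by group
              _ = _ := by rw [hc, hb2', mul_one, ← zpow_add]; congr 1; push_cast; ring
          obtain ⟨k, hk⟩ := S.2 x
          obtain ⟨l, hl, hl'⟩ := (Nat.dvd_prime_pow Nat.prime_two).1 (orderOf_dvd_of_pow_eq_one hk)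
          have hl1 : l ≤ n - 1 := by
            rw [hl'] at hle
            exact (Nat.pow_le_pow_iff_right one_lt_two).1 hle
          have hz : x ^ (2 ^ (n - 1)) = 1 := orderOf_dvd_iff_pow_eq_one.1 (hl' ▸ pow_dvd_pow 2 hl1)
          rw [show 2 ^ (n - 1) = 2 * 2 ^ (n - 2) by rw [← pow_succ']; congr 1; omega, pow_mul, hsq,
            ← zpow_natCast, ← zpow_mul, ← orderOf_dvd_iff_zpow_eq_one, hao'] at hz
          push_cast at hz
          rw [show (2 : ℤ) ^ n = 2 * (2 * 2 ^ (n - 2)) by rw [← pow_succ', ← pow_succ']; congr 1; omega,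
            show (2 * s + 1) * ((2 : ℤ) ^ (n - 1) + 2) * 2 ^ (n - 2) =
              ((2 * s + 1) * (2 ^ (n - 2) + 1)) * (2 * 2 ^ (n - 2)) by
              rw [show (2 : ℤ) ^ (n - 1) = 2 * 2 ^ (n - 2) by rw [← pow_succ']; congr 1; omega]
              ring] at hz
          have h2 : (2 : ℤ) ∣ (2 * s + 1) * (2 ^ (n - 2) + 1) :=
            Int.dvd_of_mul_dvd_mul_right (by positivity) hz
          rcases Int.prime_two.dvd_mul.1 h2 with h3 | h3
          · omega
          · rw [show (2 : ℤ) ^ (n - 2) = 2 * 2 ^ (n - 3) by rw [← pow_succ']; congr 1; omega] at h3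
            omega
    have hMidx : M.relIndex P = 2 := by
      show (M.subgroupOf P).index = 2
      rw [show M.subgroupOf P = M' from Subgroup.comap_map_eq_self_of_injective (Subgroup.subtype_injective P) M']
      refine Subgroup.index_eq_two_iff.2 ⟨a', fun x => ?_⟩
      have ha2 : a' ^ 2 ∈ M' := Subgroup.mem_sup_left (Subgroup.mem_zpowers _)
      have hb' : b' ∈ M' := Subgroup.mem_sup_right (Subgroup.mem_zpowers _)
      have haM : a' ∉ M' := fun h => by
        have h2 := Nat.le_of_dvd (pow_pos two_pos _) (hao' ▸ orderOf_dvd_of_pow_eq_one (hM'exp _ h))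
        have h3 : 0 < 2 ^ (n - 1) := pow_pos two_pos _
        omega
      have hev : ∀ s : ℤ, a' ^ (2 * s) ∈ M' := fun s => by
        rw [zpow_mul, zpow_ofNat]; exact zpow_mem ha2 s
      by_cases hxM : x ∈ M'
      · exact Or.inr ⟨hxM, fun h => haM (by simpa using mul_mem (inv_mem hxM) h)⟩
      · refine Or.inl ⟨?_, hxM⟩
        rcases hdec x with h | h
        · obtain ⟨i, rfl⟩ := Subgroup.mem_zpowers_iff.1 h
          rcases Int.even_or_odd' i with ⟨s, rfl | rfl⟩
          · exact absurd (hev s) hxM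
          · rw [← zpow_add_one, show 2 * s + 1 + 1 = 2 * (s + 1) by ring]; exact hev _
        · obtain ⟨i, hi⟩ := Subgroup.mem_zpowers_iff.1 h
          have hx' : x = a' ^ i * b' := by rw [hi, mul_assoc, hb2', mul_one]
          rcases Int.even_or_odd' i with ⟨s, rfl | rfl⟩
          · exact absurd (hx' ▸ mul_mem (hev s) hb') hxM
          · have e : x * a' = a' ^ (2 * s + 1) * (b' * a' * b'⁻¹) * b' := by rw [hx']; group
            rw [e, hrel', show 2 ^ (n - 1) + 1 = 2 * 2 ^ (n - 2) + 1 by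
              rw [← pow_succ']; congr 2; omega, ← zpow_natCast, ← zpow_add]
            refine mul_mem ?_ hb'
            rw [show 2 * s + 1 + ((2 * 2 ^ (n - 2) + 1 : ℕ) : ℤ) = 2 * (s + 1 + (2 : ℤ) ^ (n - 2)) by push_cast; ring]
            exact hev _
    obtain ⟨g, hg⟩ := S3225.result (by
        refine even_iff_two_dvd.2 (hbo ▸ orderOf_dvd_natCard b)) hcon S M (Subgroup.map_subtype_le _) hMidx n (by omega)
      (fun y hy hyM => by
        rcases hmem' ⟨y, hy⟩ (fun h => hyM ⟨_, h, rfl⟩) with h | h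
        · rw [← Subgroup.orderOf_coe] at h
          change orderOf y = 2 ^ n at h
          rw [h]; exact Nat.pow_lt_pow_right one_lt_two (by omega)
        · rwa [← Subgroup.orderOf_coe] at h)
      a ha hao
    obtain ⟨v, hv, hvg⟩ := hg
    have h1 : orderOf (g * a * g⁻¹) = 2 ^ n := by rw [← hao]; exact (MulAut.conj g).orderOf_eq a
    rw [← hvg, Subgroup.subtype_apply, Subgroup.orderOf_coe] at h1
    have h2 := Nat.le_of_dvd (pow_pos two_pos _) (h1 ▸ orderOf_dvd_of_pow_eq_one (hM'exp v hv))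
    have h3 : 0 < 2 ^ (n - 1) := pow_pos two_pos _
    omega
  obtain ⟨H, hH⟩ := hindex
  haveI hHn : H.Normal := Subgroup.normal_of_index_eq_two hH
  -- the Sylow subgroup of `H`
  set Q : Subgroup ↥P := H.subgroupOf P with hQ
  have hQidx : Q.index = 2 := by
    have hd : H.relIndex P ∣ 2 := hH ▸ Subgroup.relIndex_dvd_index_of_normal H P
    rcases (Nat.dvd_prime Nat.prime_two).1 hd with h | h
    · exfalso
      apply S.not_dvd_index
      rw [← Subgroup.relIndex_mul_index (Subgroup.relIndex_eq_one.1 h), hH]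
      exact dvd_mul_left 2 _
    · exact h
  have hQ2 : a' ^ 2 ∈ Q := Subgroup.sq_mem_of_index_two hQidx a'
  have hQc : IsMulCommutative ↥Q := by
    have hQcard : Nat.card ↥Q = 2 ^ n := by
      have hc := Q.card_mul_index
      rw [hQidx, show Nat.card ↥P = _ from hS, pow_succ] at hc
      omega
    have hZidx : ((Subgroup.zpowers (a' ^ 2)).subgroupOf Q).index = 2 := by
      have hc := ((Subgroup.zpowers (a' ^ 2)).subgroupOf Q).card_mul_index
      have hle : Subgroup.zpowers (a' ^ 2) ≤ Q := Subgroup.zpowers_le.2 hQ2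
      rw [Nat.card_congr (Subgroup.subgroupOfEquivOfLe hle).toEquiv, Nat.card_zpowers,
        orderOf_pow' _ two_ne_zero, hao', Nat.gcd_eq_right (dvd_pow_self 2 (by omega)), hQcard] at hc
      rw [← hn1, Nat.mul_div_cancel _ two_pos] at hc
      exact Nat.eq_of_mul_eq_mul_left (pow_pos two_pos _) hc
    refine ⟨⟨fun u v => ?_⟩⟩
    have hzc : ∀ z : ↥Q, z ∈ (Subgroup.zpowers (a' ^ 2)).subgroupOf Q → ∀ w : ↥Q, Commute z w := by
      intro z hz w
      apply Subtype.ext
      exact (Subgroup.mem_center_iff.1 ((Subgroup.zpowers_le.2 hcent) hz) w).symm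
    by_cases hu : u ∈ (Subgroup.zpowers (a' ^ 2)).subgroupOf Q
    · exact hzc u hu v
    by_cases hv : v ∈ (Subgroup.zpowers (a' ^ 2)).subgroupOf Q
    · exact (hzc v hv u).symm
    have hz : u * v⁻¹ ∈ (Subgroup.zpowers (a' ^ 2)).subgroupOf Q :=
      (Subgroup.mul_mem_iff_of_index_two hZidx).2 (iff_of_false hu (fun h => hv (inv_mem_iff.1 h)))
    have h := hzc _ hz v
    have : u = u * v⁻¹ * v := by group
    rw [this]
    exact (h.mul_left (Commute.refl v)).eq
  -- the transported Sylow subgroup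
  let QH : Subgroup ↥H := P.subgroupOf H
  have hQH : IsPGroup 2 ↥QH := S.2.comap_of_injective _ (Subgroup.subtype_injective H)
  have hQHidx : ¬ 2 ∣ QH.index := by
    intro h
    apply S.not_dvd_index
    have h1 := Subgroup.relIndex_mul_index (inf_le_left : P ⊓ H ≤ P)
    have h2 := Subgroup.relIndex_mul_index (inf_le_right : P ⊓ H ≤ H)
    rw [Subgroup.inf_relIndex_left, show H.relIndex P = 2 from hQidx] at h1
    rw [Subgroup.inf_relIndex_right, hH, ← h1, mul_comm _ 2] at h2
    have h3 : P.relIndex H = P.index := Nat.eq_of_mul_eq_mul_left two_pos (by rw [← h2, mul_comm])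
    rw [← h3]; exact h
  let T : Sylow 2 ↥H := hQH.toSylow hQHidx
  let emb : ↥(T : Subgroup ↥H) →* ↥P :=
    MonoidHom.mk' (fun t => ⟨((t : ↥H) : G), t.2⟩) (fun _ _ => rfl)
  have hinj : Function.Injective emb := fun u v h => Subtype.ext (Subtype.ext (congrArg (fun w : ↥P => (w : G)) h))
  have hembQ : ∀ t, emb t ∈ Q := fun t => (t : ↥H).2
  haveI := hQc
  have hTc : IsMulCommutative ↥(T : Subgroup ↥H) := ⟨⟨fun u v => hinj (by
    rw [map_mul, map_mul]
    exact congrArg (fun w : ↥Q => (w : ↥P)) (mul_comm' (⟨emb u, hembQ u⟩ : ↥Q) ⟨emb v, hembQ v⟩))⟩⟩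
  haveI := hTc
  have hAut : Lib.Transfer.AutPGroup 2 (T : Subgroup ↥H) := by
    intro g hg hgo
    let f : MulAut ↥(T : Subgroup ↥H) := (T : Subgroup ↥H).normalizerMonoidHom ⟨g, hg⟩
    have hodd : Odd (orderOf f) := by
      have hd : orderOf f ∣ orderOf g := by
        simpa using orderOf_map_dvd (T : Subgroup ↥H).normalizerMonoidHom (⟨g, hg⟩ : Subgroup.normalizer _)
      exact Odd.of_dvd_nat (Nat.coprime_two_right.1 hgo) hd
    have hkey : ∀ t : ↥(T : Subgroup ↥H), t ^ 2 = 1 → f t = t := by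
      classical
      have hfour : {t : ↥(T : Subgroup ↥H) | t ^ 2 = 1}.ncard ≤ 4 := by
        refine le_trans (Set.ncard_le_ncard_of_injOn (t := {x : ↥P | x ^ 2 = 1}) emb (fun t ht => ?_) hinj.injOn)
          (card_le_four a' b' n hn hao' hb2' hrel' hidx hbn)
        show emb t ^ 2 = 1
        rw [← map_pow, show t ^ 2 = 1 from ht, map_one]
      -- the distinguished involution
      have haT : (⟨a ^ 2, hQ2⟩ : ↥H) ∈ (T : Subgroup ↥H) := pow_mem ha 2
      let z : ↥(T : Subgroup ↥H) := (⟨_, haT⟩ : ↥(T : Subgroup ↥H)) ^ (2 ^ (n - 2))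
      have hz2 : z ^ 2 = 1 := by
        apply hinj
        rw [map_pow, map_pow, map_one, ← pow_mul]
        apply Subtype.ext
        show (a ^ 2) ^ (2 ^ (n - 2) * 2) = 1
        rw [← pow_mul, show 2 * (2 ^ (n - 2) * 2) = 2 ^ n by rw [← pow_succ, ← pow_succ']; congr 1; omega, ← hao, pow_orderOf_eq_one]
      have hz1 : z ≠ 1 := by
        intro h
        have h1 : (a ^ 2) ^ (2 ^ (n - 2)) = 1 := congrArg (fun w : ↥(T : Subgroup ↥H) => ((w : ↥H) : G)) h
        rw [← pow_mul, ← pow_succ', show n - 2 + 1 = n - 1 by omega] at h1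
        have h2 := Nat.le_of_dvd (pow_pos two_pos _) (hao ▸ orderOf_dvd_of_pow_eq_one h1)
        have h3 : 0 < 2 ^ (n - 1) := pow_pos two_pos _
        omega
      -- involutions which are squares
      have hsqz : ∀ w : ↥(T : Subgroup ↥H), (w ^ 2) ^ 2 = 1 → w ^ 2 ≠ 1 → w ^ 2 = z := by
        intro w h4 h2
        have hsa : emb w ^ 2 ∈ Subgroup.zpowers a' := Subgroup.sq_mem_of_index_two hidx _
        have h4' : (emb w ^ 2) ^ 2 = 1 := by rw [← map_pow, ← map_pow, h4, map_one]
        have h2' : emb w ^ 2 ≠ 1 := by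
          rw [← map_pow]; exact fun h => h2 (hinj (h.trans (map_one _).symm))
        obtain ⟨i, hi⟩ := Subgroup.mem_zpowers_iff.1 hsa
        rw [← hi] at h4' h2'
        rw [← zpow_natCast, ← zpow_mul, ← orderOf_dvd_iff_zpow_eq_one, hao'] at h4'
        push_cast at h4'
        rw [show (2 : ℤ) ^ n = 2 ^ (n - 1) * 2 by rw [← pow_succ]; congr 1; omega] at h4'
        obtain ⟨s, rfl⟩ := Int.dvd_of_mul_dvd_mul_right two_ne_zero h4'
        have hpz : a' ^ ((2 : ℤ) ^ n) = 1 := by
          rw [show (2 : ℤ) ^ n = ((2 ^ n : ℕ) : ℤ) by push_cast; rfl, zpow_natCast, hpow]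
        apply hinj
        rw [map_pow, ← hi]
        rcases Int.even_or_odd' s with ⟨r, rfl | rfl⟩
        · exfalso
          apply h2'
          rw [← mul_assoc, show (2 : ℤ) ^ (n - 1) * 2 = 2 ^ n by rw [← pow_succ]; congr 1; omega, zpow_mul, hpz, one_zpow]
        · rw [mul_add, mul_one, ← mul_assoc, show (2 : ℤ) ^ (n - 1) * 2 = 2 ^ n by rw [← pow_succ]; congr 1; omega,
            zpow_add, zpow_mul, hpz, one_zpow, one_mul, show (2 : ℤ) ^ (n - 1) = ((2 ^ (n - 1) : ℕ) : ℤ) by push_cast; rfl,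
            zpow_natCast]
          apply Subtype.ext
          show a ^ (2 ^ (n - 1)) = (a ^ 2) ^ (2 ^ (n - 2))
          rw [← pow_mul, ← pow_succ']
          congr 2; omega
      have hzsq : ∃ w : ↥(T : Subgroup ↥H), z = w ^ 2 :=
        ⟨(⟨_, haT⟩ : ↥(T : Subgroup ↥H)) ^ (2 ^ (n - 3)), by
          rw [← pow_mul, ← pow_succ, show n - 3 + 1 = n - 2 by omega]⟩
      obtain ⟨w, hw⟩ := hzsq
      have hfz : f z = z := by
        rw [hw, map_pow]
        rw [← hw]
        refine hsqz (f w) ?_ ?_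
        · rw [← map_pow, ← map_pow, ← hw, hz2, map_one]
        · rw [← map_pow, ← hw]
          intro h
          exact hz1 (f.injective (h.trans (map_one f).symm))
      intro t ht
      by_cases ht1 : t = 1
      · subst ht1; exact map_one f
      by_cases htz : t = z
      · subst htz; exact hfz
      by_contra hmoved
      -- the orbit of `t` has two members
      set t' := f t with ht'
      have ht'2 : t' ^ 2 = 1 := by rw [ht', ← map_pow, ht, map_one]
      have hset : {s : ↥(T : Subgroup ↥H) | s ^ 2 = 1} = {1, z, t, t'} := by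
        symm
        refine Set.eq_of_subset_of_ncard_le ?_ (hfour.trans (le_of_eq ?_))
        · rintro s (rfl | rfl | rfl | rfl)
          · exact one_pow 2
          · exact hz2
          · exact ht
          · exact ht'2
        · symm
          have e1 : t' ≠ 1 := fun h => ht1 (f.injective (h.trans (map_one f).symm))
          have e2 : t' ≠ z := fun h => htz (f.injective (h.trans hfz.symm))
          rw [Set.ncard_insert_of_notMem (by simp [Ne.symm hz1, Ne.symm ht1, e1.symm]),
            Set.ncard_insert_of_notMem (by simp [Ne.symm htz, e2.symm]),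
            Set.ncard_pair (fun h => hmoved h.symm)]
      have hft' : f t' = t := by
        have hm : f t' ∈ {s : ↥(T : Subgroup ↥H) | s ^ 2 = 1} := by
          show f t' ^ 2 = 1
          rw [← map_pow, ht'2, map_one]
        rw [hset] at hm
        rcases hm with h | h | h | h
        · exact absurd (f.injective (h.trans (map_one f).symm)) (fun e => ht1 (f.injective (e.trans (map_one f).symm)))
        · exact absurd (f.injective (h.trans hfz.symm)) (fun e => htz (f.injective (e.trans hfz.symm)))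
        · exact h
        · exact absurd (f.injective h) hmoved
      obtain ⟨r, hr⟩ := hodd
      have hp : ∀ m : ℕ, (f ^ (2 * m)) t = t := by
        intro m
        induction m with
        | zero => rfl
        | succ m ih => rw [show 2 * (m + 1) = 2 + 2 * m by ring, pow_add, MulAut.mul_apply, ih, sq, MulAut.mul_apply, ← ht', hft']
      have h1 := congrArg (fun φ : MulAut ↥(T : Subgroup ↥H) => φ t) (pow_orderOf_eq_one f)
      simp only [hr, pow_succ', MulAut.mul_apply, hp, MulAut.one_apply] at h1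
      exact hmoved h1
    rw [Subgroup.mem_centralizer_iff]
    intro t ht
    have h := congrArg (fun w : ↥(T : Subgroup ↥H) => (w : ↥H)) (fix_of_omega T.2 f hodd hkey ⟨t, ht⟩)
    have h' : g * t * g⁻¹ = t := h
    calc t * g = g * t * g⁻¹ * g := by rw [h']
      _ = g * t := by group
  have hH' : HasNormalPComplement 2 ↥H :=
    Lib.Transfer.hasNormalPComplement_of_normalizer_le_centralizer T
      (Lib.Transfer.normalizer_le_centralizer_of_coprime T hTc hAut)
  rw [Lib.Transfer.hasNormalPComplement_iff] at hH' ⊢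
  intro hd
  apply hH'
  rw [← Subgroup.card_map_of_injective (Subgroup.subtype_injective H)]
  refine hd.trans (Subgroup.card_dvd_of_le ?_)
  rw [pResidual, Subgroup.closure_le]
  intro g hg
  have hgH : g ∈ H := by
    obtain ⟨r, hr⟩ := Nat.coprime_two_right.1 hg
    have h2 : (g ^ 2) ^ (r + 1) = g := by
      rw [← pow_mul, show 2 * (r + 1) = (2 * r + 1) + 1 by ring, pow_succ, ← hr, pow_orderOf_eq_one, one_mul]
    rw [← h2]
    exact pow_mem (Subgroup.sq_mem_of_index_two hH g) _
  refine ⟨⟨g, hgH⟩, Lib.Transfer.mem_pResidual ?_, rfl⟩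
  rw [← Subgroup.orderOf_coe]
  exact hg

end Cfsg.Agent.S3178
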