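import Cfsg.Statements.S3195
import Cfsg.Agent.S3011

set_option autoImplicit false
open Cfsg

namespace Cfsg.Agent.S3195

/-- Let A be a Klein four-subgroup of a finite group G. If every G-conjugate of every involution of A commutes with some involution of A (its centralizer meets A nontrivially), then A meets the largest normal 2-subgroup O₂(G) nontrivially. -/
theorem result {G : Type*} [Group G] [Finite G]
    (A : Subgroup G) (hA : IsKleinFour ↥A)
    (h : ∀ a ∈ A, a ≠ 1 → ∀ g : G, A ⊓ Subgroup.centralizer ({g * a * g⁻¹} : Set G) ≠ ⊥) :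
    A ⊓ Cfsg.pCore 2 G ≠ ⊥ := by
  have hcard : Nat.card A = 4 := hA.card_four
  have hsq : ∀ v ∈ A, v * v = 1 := fun v hv =>
    congrArg Subtype.val (IsKleinFour.mul_self (⟨v, hv⟩ : A))
  have hcm : ∀ v ∈ A, ∀ w ∈ A, v * w = w * v := fun v hv w hw => by
    have hi : ∀ u ∈ A, u⁻¹ = u := fun u hu => inv_eq_of_mul_eq_one_left (hsq u hu)
    rw [← hi (v * w) (A.mul_mem hv hw), mul_inv_rev, hi v hv, hi w hw]
  refine Cfsg.Agent.S3011.result A
    ⟨⟨⟨fun a b => Subtype.ext (hcm a a.2 b b.2)⟩⟩, fun a ha => by rw [pow_two]; exact hsq a ha⟩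
    (fun e => by rw [e, Subgroup.card_bot] at hcard; omega) ?_ hcard.le
  intro x v hv hodd hinv
  by_cases hv1 : v = 1
  · subst hv1
    have hx : x = 1 := Cfsg.Agent.S3011.eq_one_of_odd_sq hodd (by simpa using hinv)
    obtain ⟨⟨w, hw⟩, hw1⟩ := (Subgroup.ne_bot_iff_exists_ne_one (H := A)).1
      (fun e => by rw [e, Subgroup.card_bot] at hcard; omega)
    exact ⟨w, hw, fun e => hw1 (Subtype.ext e), by simp [hx]⟩
  obtain ⟨m, hm⟩ := hodd
  -- a conjugate of `v` equal to `x * v`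
  have hs : x ^ (m + 1) * x ^ (m + 1) = x := by
    rw [← pow_add, show m + 1 + (m + 1) = (2 * m + 1) + 1 by omega, pow_succ, ← hm, pow_orderOf_eq_one, one_mul]
  have hconj : x ^ (m + 1) * v * (x ^ (m + 1))⁻¹ = x * v := by
    have e : v * (x ^ (m + 1))⁻¹ = x ^ (m + 1) * v := by
      have : v * x ^ (m + 1) * v⁻¹ = (x ^ (m + 1))⁻¹ := by rw [← conj_pow, hinv, inv_pow]
      rw [← this, inv_eq_of_mul_eq_one_left (hsq v hv)]
      calc v * (v * x ^ (m + 1) * v) = (v * v) * (x ^ (m + 1) * v) := by group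
        _ = x ^ (m + 1) * v := by rw [hsq v hv, one_mul]
    rw [mul_assoc, e, ← mul_assoc, hs]
  obtain ⟨⟨w, hwA, hwc⟩, hw1⟩ := Subgroup.ne_bot_iff_exists_ne_one.1 (h v hv hv1 (x ^ (m + 1)))
  refine ⟨w, hwA, fun e => hw1 (Subtype.ext e), ?_⟩
  replace hwc : w ∈ Subgroup.centralizer ({x * v} : Set G) := by rw [← hconj]; exact hwc
  rw [Subgroup.mem_centralizer_singleton_iff] at hwc
  have hwv := hcm w hwA v hv
  calc w * x = w * (x * v) * v⁻¹ := by group
    _ = x * (v * w * v⁻¹) := by rw [hwc]; group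
    _ = x * w := by rw [← hwv, mul_inv_cancel_right]

end Cfsg.Agent.S3195
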