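import Cfsg.Statements.S3224
import Cfsg.Agent.Lib.Thompson.MaxClassTwo
import Cfsg.Agent.Lib.LocalChar.Dihedral

set_option autoImplicit false
open Cfsg

namespace Cfsg.Agent.S3224

open Subgroup
open scoped commutatorElement

theorem index_commutator {S : Type*} [Group S] [Finite S] (x : S) (hC : Nat.card ↥(centralizer ({x} : Set S)) = 4) :
    (commutator S).index ≤ 4 := by
  let f : S ⧸ centralizer ({x} : Set S) → commutator S :=
    Quotient.lift (fun g => (⟨⁅g, x⁆, commutator_mem_commutator (mem_top g) (mem_top x)⟩ : commutator S))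
      fun g h hgh => by
        have hgh := mem_centralizer_singleton_iff.1 (QuotientGroup.leftRel_apply.1 hgh)
        apply Subtype.ext
        show ⁅g, x⁆ = ⁅h, x⁆
        have h1 : g⁻¹ * h * x * (g⁻¹ * h)⁻¹ = x := by rw [hgh, mul_inv_cancel_right]
        rw [commutatorElement_def, commutatorElement_def]
        have h2 : g * x * g⁻¹ = h * x * h⁻¹ := by
          calc g * x * g⁻¹ = g * (g⁻¹ * h * x * (g⁻¹ * h)⁻¹) * g⁻¹ := by rw [h1]
            _ = h * x * h⁻¹ := by group
        rw [h2]
  have hf : Function.Injective f := by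
    intro u v
    induction u using QuotientGroup.induction_on with
    | H g =>
      induction v using QuotientGroup.induction_on with
      | H h =>
        intro hgh
        refine QuotientGroup.eq.2 (mem_centralizer_singleton_iff.2 ?_)
        have h1 : ⁅g, x⁆ = ⁅h, x⁆ := congrArg Subtype.val hgh
        rw [commutatorElement_def, commutatorElement_def] at h1
        have h2 : g * x * g⁻¹ = h * x * h⁻¹ := mul_right_cancel h1
        calc g⁻¹ * h * x = g⁻¹ * (h * x * h⁻¹) * h := by group
          _ = x * (g⁻¹ * h) := by rw [← h2]; group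
  have h1 := Nat.card_le_card_of_injective f hf
  rw [← index_eq_card] at h1
  have h2 := (centralizer ({x} : Set S)).card_mul_index
  have h3 := (commutator S).card_mul_index
  rw [hC] at h2
  have h4 : Nat.card (commutator S) * (commutator S).index ≤ Nat.card (commutator S) * 4 := by
    rw [h3, ← h2, mul_comm 4]; exact Nat.mul_le_mul_right 4 h1
  exact Nat.le_of_mul_le_mul_left h4 Nat.card_pos


/-- A finite 2-group containing an involution whose centralizer has order 4 is dihedral, quasi-dihedral (semidihedral), or of order 4. -/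
theorem result {S : Type*} [Group S] [Finite S] (hS : IsPGroup 2 S)
    (x : S) (hx : orderOf x = 2) (hC : Nat.card ↥(Subgroup.centralizer ({x} : Set S)) = 4) :
    (∃ n : ℕ, Nonempty (S ≃* DihedralGroup n)) ∨ Cfsg.IsQuasiDihedral S ∨ Nat.card S = 4 := by
  classical
  haveI : Fact (Nat.Prime 2) := ⟨Nat.prime_two⟩
  obtain ⟨k, hk⟩ := IsPGroup.iff_card.1 hS
  by_cases hk2 : k ≤ 2
  · refine Or.inr (Or.inr ?_)
    have h1 := (centralizer ({x} : Set S)).card_subgroup_dvd_card
    rw [hC, hk] at h1
    have h2 : 4 ≤ 2 ^ k := Nat.le_of_dvd (by positivity) h1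
    have h3 : 2 ^ k ≤ 2 ^ 2 := Nat.pow_le_pow_right (by norm_num) hk2
    rw [hk]; omega
  obtain ⟨m, rfl⟩ : ∃ m, k = m + 1 := ⟨k - 1, by omega⟩
  have hnb : commutator S ≠ ⊥ := by
    intro h
    have h1 := index_commutator x hC
    rw [h, index_bot, hk] at h1
    have : 2 ^ 3 ≤ 2 ^ (m + 1) := Nat.pow_le_pow_right (by norm_num) (by omega)
    omega
  have h4 : (commutator S).index = 4 :=
    le_antisymm (index_commutator x hC) (Lib.Thompson.sq_le_index_commutator hS hnb)
  obtain ⟨a, b, r, ha, hb, hb2, hr, hr1, hidx, h4r⟩ := Lib.Thompson.maxClassTwo_structure (by omega) hk h4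
  set z := a ^ 2 ^ (m - 1) with hzdef
  have hm2 : (2 : ℤ) ^ m = 2 * 2 ^ (m - 1) := by rw [← pow_succ']; congr 1; omega
  have hd : ∀ i : ℤ, a ^ i = 1 ↔ (2 : ℤ) ^ m ∣ i := fun i => by
    rw [← orderOf_dvd_iff_zpow_eq_one, ha]; norm_num
  have hz2 : z * z = 1 := by
    rw [hzdef, ← pow_add, ← two_mul, ← pow_succ', show m - 1 + 1 = m by omega, ← ha, pow_orderOf_eq_one]
  have hb2' : b ^ 2 = 1 ∨ b ^ 2 = z := by
    obtain ⟨i, hi⟩ := mem_zpowers_iff.1 hb2
    rcases Int.even_or_odd i with ⟨j, rfl⟩ | ⟨j, rfl⟩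
    · left; rw [← hi, ← two_mul, zpow_mul, zpow_two, hz2, one_zpow]
    · right; rw [← hi, zpow_add, zpow_mul, zpow_two, hz2, one_zpow, one_mul, zpow_one]
  have hgen : ∀ g : S, ∃ i : ℤ, g = a ^ i ∨ g = b * a ^ i := fun g => by
    rcases em (g ∈ zpowers a) with ⟨i, hi⟩ | hg
    · exact ⟨i, Or.inl hi.symm⟩
    · obtain ⟨i, hi⟩ : b⁻¹ * g ∈ zpowers a := (mul_mem_iff_of_index_two hidx).mpr (by simp [hb, hg])
      exact ⟨i, Or.inr (by rw [show a ^ i = b⁻¹ * g from hi, mul_inv_cancel_left])⟩
  obtain ⟨t, ht⟩ := hr1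
  rcases Int.even_or_odd t with ⟨j, rfl⟩ | ⟨j, rfl⟩
  · have hinv : b * a * b⁻¹ = a⁻¹ := by
      rw [hr, ← mul_inv_eq_one, inv_inv, ← zpow_add_one, hd]
      exact ⟨j, by rw [ht, hm2]; ring⟩
    rcases hb2' with hb1 | hbz
    · -- dihedral
      left
      refine ⟨2 ^ m, ?_⟩
      let φ := Lib.LocalChar.Dihedral.lift (n := 2 ^ m) a b (by rw [← ha, pow_orderOf_eq_one]) hb1 hinv
      have hsurj : Function.Surjective φ := fun g => by
        obtain ⟨i, rfl | rfl⟩ := hgen g
        · exact ⟨DihedralGroup.r (i : ZMod (2 ^ m)), Lib.LocalChar.Dihedral.lift_r a b _ hb1 hinv i⟩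
        · exact ⟨DihedralGroup.sr (i : ZMod (2 ^ m)), Lib.LocalChar.Dihedral.lift_sr a b _ hb1 hinv i⟩
      haveI : NeZero (2 ^ m) := ⟨by positivity⟩
      refine ⟨(MulEquiv.ofBijective φ ⟨(hsurj.bijective_of_nat_card_le ?_).1, hsurj⟩).symm⟩
      rw [DihedralGroup.nat_card, hk, pow_succ, mul_comm]
    · -- quaternion: the involution is central
      exfalso
      have hbz' : b * z * b⁻¹ = z := by rw [← hbz]; group
      have hxz : ∃ i : ℤ, x = z ^ i := by
        obtain ⟨i, rfl | rfl⟩ := hgen x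
        · have h1 : a ^ (i * 2) = 1 := by rw [zpow_mul, zpow_two, ← pow_two, ← hx, pow_orderOf_eq_one]
          obtain ⟨c, hc⟩ := (hd _).1 h1
          refine ⟨c, ?_⟩
          rw [hzdef, ← zpow_natCast, ← zpow_mul]
          congr 1
          rw [hm2] at hc
          push_cast
          linarith
        · exfalso
          have h1 : (b * a ^ i) ^ 2 = 1 := by rw [← hx, pow_orderOf_eq_one]
          have h2 : (b * a ^ i) ^ 2 = z := by
            rw [pow_two, show b * a ^ i * (b * a ^ i) = (b * a ^ i * b⁻¹) * (b * b) * a ^ i by group,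
              ← pow_two, hbz, ← conj_zpow, hinv, inv_zpow, hzdef, ← zpow_natCast, ← zpow_neg, ← zpow_add, ← zpow_add]
            congr 1
            ring
          rw [h2] at h1
          rw [hzdef, ← orderOf_dvd_iff_pow_eq_one, ha] at h1
          have := (Nat.pow_dvd_pow_iff_le_right (by norm_num)).1 h1
          omega
      obtain ⟨i, hi⟩ := hxz
      have htop : centralizer ({x} : Set S) = ⊤ := by
        rw [eq_top_iff]
        intro g _
        rw [mem_centralizer_singleton_iff, hi]
        refine ((?_ : Commute g z).zpow_right i).eq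
        have hcb : Commute b z := by
          show b * z = z * b
          rw [← mul_inv_eq_iff_eq_mul]; exact hbz'
        have hca : Commute a z := Commute.pow_right (Commute.refl a) _
        obtain ⟨j, rfl | rfl⟩ := hgen g
        · exact hca.zpow_left j
        · exact hcb.mul_left (hca.zpow_left j)
      rw [htop, card_top, hk] at hC
      have : 2 ^ 3 ≤ 2 ^ (m + 1) := Nat.pow_le_pow_right (by norm_num) (by omega)
      omega
  · -- quasi-dihedral
    have hm3 : 3 ≤ m := by
      by_contra h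
      obtain rfl : m = 2 := by omega
      obtain ⟨c, hc⟩ := h4r
      norm_num at ht
      omega
    have hr2 : a ^ r = a ^ (2 ^ (m - 1) - 1) := by
      rw [← zpow_natCast a (2 ^ (m - 1) - 1), ← mul_inv_eq_one, ← zpow_neg, ← zpow_add, hd]
      refine ⟨j, ?_⟩
      rw [Nat.cast_sub Nat.one_le_two_pow, hm2]
      push_cast
      linear_combination ht
    right; left
    have hor : ∀ y : S, y ∉ zpowers a → y ^ 2 = 1 → orderOf y = 2 := fun y hy h2 =>
      orderOf_eq_prime_iff.2 ⟨h2, fun h => hy (h ▸ one_mem _)⟩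
    rcases hb2' with hb1 | hbz
    · exact ⟨m, hm3, hk, a, b, ha, hor b hb hb1, by rw [hr, hr2]⟩
    · have hba : b * a ∉ zpowers a := fun h => hb ((mul_mem_cancel_right (mem_zpowers a)).1 h)
      refine ⟨m, hm3, hk, a, b * a, ha, hor _ hba ?_, ?_⟩
      · rw [pow_two, show b * a * (b * a) = b * a * b⁻¹ * (b * b) * a by group, hr, ← pow_two, hbz, hr2, hzdef,
          mul_assoc, ← pow_succ, ← pow_add,
          show 2 ^ (m - 1) - 1 + (2 ^ (m - 1) + 1) = 2 ^ m by
            have h1 : 2 ^ m = 2 * 2 ^ (m - 1) := by rw [← pow_succ']; congr 1; omega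
            have h2 : 1 ≤ 2 ^ (m - 1) := Nat.one_le_two_pow
            omega,
          ← ha, pow_orderOf_eq_one]
      · rw [show b * a * a * (b * a)⁻¹ = b * a * b⁻¹ by group, hr, hr2]

end Cfsg.Agent.S3224
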