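import Cfsg.Statements.S3374

import Cfsg.Agent.Lib.Struct4.SLEmbed
set_option autoImplicit false
open Cfsg

namespace Cfsg.Agent.S3374


/-- Images. -/
def imgs : List (ℕ × ℕ × ℕ × ℕ × ℕ) := [(45, 0, 1, 10, 0), (46, 8, 1, 9, 4), (47, 2, 2, 6, 1), (48, 9, 5, 9, 10), (49, 3, 2, 10, 7), (60, 8, 10, 10, 3), (61, 5, 1, 1, 7), (62, 5, 8, 8, 2), (63, 8, 0, 0, 7), (64, 7, 3, 3, 3), (90, 3, 1, 1, 8), (91, 4, 8, 8, 8), (92, 3, 0, 0, 4), (93, 6, 3, 3, 9), (94, 6, 10, 10, 4), (105, 0, 10, 1, 0), (106, 8, 9, 1, 4), (107, 2, 6, 2, 1), (108, 9, 9, 5, 10), (109, 3, 10, 2, 7), (126, 1, 0, 0, 1), (131, 1, 3, 4, 2), (136, 2, 9, 1, 5), (141, 5, 2, 10, 2), (146, 2, 8, 7, 1), (151, 1, 4, 3, 2), (157, 10, 10, 10, 9), (163, 7, 4, 5, 3), (169, 0, 2, 5, 0), (170, 4, 2, 10, 8), (176, 2, 1, 9, 5), (183, 7, 5, 4, 3), (185, 8, 3, 3, 4), (192, 6, 4, 5, 9), (199, 10, 9, 1, 1), (201, 5, 10, 2, 2), (209, 0, 5, 2, 0), (212, 6, 5, 4, 9), (215, 7, 10, 10, 5), (223, 4, 3, 4, 6), (226, 2, 7, 8, 1), (230, 4, 10, 2, 8), (239, 10, 1, 9, 1), (243, 4, 4, 3, 6), (247, 2, 0, 0, 6), (253, 10, 3, 3, 1), (258, 1, 6, 7, 10), (263, 8, 6, 2, 3), (268, 0, 3, 7, 0), (273, 3, 4, 3, 8), (278, 1, 7, 6, 10), (281, 6, 0, 0, 2), (289,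 8, 4, 5, 4), (292, 6, 6, 2, 4), (295, 1, 5, 9, 2), (303, 8, 2, 6, 3), (309, 8, 5, 4, 4), (310, 4, 0, 0, 3), (316, 9, 6, 7, 6), (322, 4, 9, 5, 6), (328, 0, 7, 3, 0), (332, 6, 2, 6, 4), (336, 9, 7, 6, 6), (340, 2, 3, 3, 5), (349, 5, 3, 4, 7), (353, 3, 3, 4, 8), (355, 1, 9, 5, 2), (362, 4, 5, 9, 6), (369, 5, 4, 3, 7), (371, 9, 1, 1, 10), (377, 1, 8, 8, 10), (382, 8, 7, 8, 3), (387, 0, 8, 4, 0), (392, 3, 5, 9, 8), (397, 10, 5, 4, 1), (402, 8, 8, 7, 3), (409, 2, 10, 10, 1), (411, 6, 7, 8, 4), (418, 7, 6, 2, 5), (420, 10, 2, 6, 9), (427, 0, 4, 8, 0), (431, 6, 8, 7, 4), (435, 9, 8, 8, 6), (444, 2, 4, 5, 5), (448, 5, 9, 5, 7), (452, 3, 9, 5, 8), (458, 7, 2, 6, 5), (464, 2, 5, 4, 5), (465, 7, 0, 0, 8), (471, 3, 6, 7, 7), (477, 10, 4, 5, 1), (480, 10, 6, 2, 9), (488, 5, 5, 9, 7), (491, 3, 7, 6, 7), (499, 5, 0, 0, 9), (504, 10, 0, 0, 10), (509, 9, 3, 4, 10), (514, 6, 9, 1, 9), (519, 9, 2, 10, 6), (524, 10, 8, 7, 9), (529, 9, 4, 3, 10), (533, 9, 0, 0, 5), (537, 7, 7, 8, 5), (541, 1, 10, 2, 10), (545, 7, 1, 9, 3), (554, 6, 1, 9, 9), (557, 7, 8, 7, 5), (560, 4, 1, 1, 6), (568, 5, 6, 7, 2), (571, 0, 6, 9, 0), (579, 9, 10, 2, 6), (581, 1, 2, 10, 10), (588, 5, 7, 6, 2), (590, 3, 8, 8, 7), (597,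 4, 6, 7, 8), (604, 10, 7, 8, 9), (605, 7, 9, 1, 3), (611, 0, 9, 6, 0), (617, 4, 7, 6, 8), (623, 1, 1, 1, 2)]

/-- Words in the two generators. -/
def wrds : List (ℕ × List Bool) := [(45, [false, false, false]), (46, [false, false, true, false, true, false]), (47, [false, false, false, true, true, true]), (48, [false, false, false, true, true]), (49, [false, false, false, true]), (60, [true, true, true, false, true, true, false, true, true, true]), (61, [true, true, true, false, true, true, false, true]), (62, [true, true, true, false, true, true, true, false, true, false]), (63, [true, true, true, false, true, true, false, true, true]), (64, [true, true, true, false, true, true, false]), (90, [true, true, false, true, true, true, false, true, true]), (91, [false, false, true, true, true, false, true, true, false]), (92, [true, true, false, true, true, true, false, true]), (93, [false, true, false, true, true, true, false, true, true, false]), (94, [true, true, false, true, true, true, false]), (105, [false]), (106, [false, true]), (107, [false, true, true]), (108, [false, true, true, true]), (109, [true, false, true, false]), (126, []), (131, [true, false, true]), (136, [true,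 false, true, true, false, true]), (141, [false, false, false, true, true, false]), (146, [false, false, false, true, false]), (151, [true]), (157, [true, false, true, true]), (163, [true, false, true, true, false, true, true]), (169, [false, false, false, true, true, false, true]), (170, [false, false, false, true, false, true]), (176, [true, true]), (183, [true, false, true, true, true]), (185, [true, false, true, true, false, true, true, true]), (192, [false, false, false, true, true, false, true, true]), (199, [false, false, false, true, false, true, true]), (201, [true, true, true]), (209, [true, true, false, true, false]), (212, [true, false, true, true, true, false, true, false]), (215, [false, false, false, true, true, false, true, true, true]), (223, [false, false, false, true, false, true, true, true]), (226, [true, true, true, true]), (230, [true, false]), (239, [true, false, true, true, false]), (243, [true, false, true, true, false, true, true, false]), (247, [false, false, false, true, true, false, true, false]), (253, [false, true, true, false, true, true, true, false, true, true]), (258, [true, true, false, true, true, true]), (263, [false, true, false, true, true,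 true, false, true, true]), (268, [true, false, true, true, true, false, true, true, true]), (273, [false, false, true, true, true, false, true, true]), (278, [false, true, true, false, true, true, true, false]), (281, [true, true, false, true]), (289, [false, true, false, true, true, true, false]), (292, [true, false, true, true, true, false, true]), (295, [false, false, true, true, true, false]), (303, [true, true, false, true, true, false, true, true, true, false]), (309, [true, true, true, false, true, false]), (310, [false, true, false, true, true, true, false, true, true, true]), (316, [false, false, true, true, false, true, true, false]), (322, [false, false, true, true, true, false, true, true, true]), (328, [false, true, true, false, true, true, true, false, true]), (332, [true, true, false, true, true]), (336, [false, true, false, true, true, true, false, true]), (340, [true, false, true, true, true, false, true, true]), (349, [false, false, true, true, true, false, true]), (353, [true, false, true, true, false, true, true, true, false]), (355, [true, true, false]), (362, [false, false, false, true, true, false, true, true, false]), (369, [true, false, true, true, true,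 false]), (371, [false, false, false, true, false, true, true, false]), (377, [true, true, false, true, true, true, false, true, true, false]), (382, [true, true, true, false, true, true]), (387, [true, true, false, true, true, true, false, true, false]), (392, [true, true, true, false, true, true, true, false, true]), (397, [false, false, true, true, false, true, true, true]), (402, [false, true, true, true, false, true, true, false]), (409, [false, true, false, true, true, false]), (411, [true, true, false, true, true, false, true]), (418, [false, true, true, false, true, true, false]), (420, [false, false, true, true, false]), (427, [false, true, true, true, false, true, true, false, true, true]), (431, [true, true, true, false, true]), (435, [true, true, false, true, true, false, true, true, true]), (444, [true, true, true, false, true, true, true, false]), (448, [false, false, true, true, false, true, true]), (452, [true, false, true, true, true, false, true, true, false]), (458, [true, true, true, false, true, true, true]), (464, [true, true, false, true, true, false]), (465, [false, true, true, false, true, true, true, false, true, false]), (471, [false, false, true, true,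 true, false, true, false]), (477, [false, true, true, true, false, true, true, false, true]), (480, [true, true, true, false]), (488, [true, true, false, true, true, false, true, true]), (491, [false, true, true, false, true, true, false, true]), (499, [false, false, true, true, false, true]), (504, [false, false]), (509, [false, true, false]), (514, [false, true, true, false]), (519, [false, true, true, true, false]), (524, [false, false, true, false, true]), (529, [false, true, false, true, false]), (533, [false, true, true, false, true, false]), (537, [false, true, true, true, false, true, false]), (541, [false, false, true, false, true, true, false]), (545, [false, false, true, false]), (554, [false, false, true, true, true]), (557, [false, true, false, true, true, true]), (560, [false, true, true, false, true, true, true]), (568, [false, true, true, true, false, true, true, true]), (571, [false, false, true, true, false, true, false]), (579, [false, false, true, true]), (581, [false, true, false, true, true]), (588, [false, true, true, false, true, true]), (590, [false, true, true, true, false, true, true]), (597, [false, false, true, false, true, true, true]), (604, [false,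 false, true]), (605, [false, true, false, true]), (611, [false, true, true, false, true]), (617, [false, true, true, true, false, true]), (623, [false, false, true, false, true, true])]

/-- The embedding. -/
def f0 (M : Matrix (Fin 2) (Fin 2) (ZMod 5)) : Matrix (Fin 2) (Fin 2) (ZMod 11) :=
  Struct4.tableMat 11 imgs (Struct4.matKey M)

/-- The generators. -/
def gens : List (Matrix (Fin 2) (Fin 2) (ZMod 5)) := [!![0, -1; 1, 0], !![1, 1; 0, 1]]

/-- The word of a matrix. -/
def word (M : Matrix (Fin 2) (Fin 2) (ZMod 5)) : List (Matrix (Fin 2) (Fin 2) (ZMod 5)) :=
  Struct4.tableWord wrds (Struct4.matKey M)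

set_option synthInstance.maxSize 4000 in
set_option synthInstance.maxHeartbeats 200000 in
set_option maxRecDepth 20000 in
theorem check : ∀ a b c d : ZMod 5, a * d - b * c = 1 →
    (f0 !![a, b; c, d]).det = 1 ∧ (∀ s ∈ gens, f0 (!![a, b; c, d] * s) = f0 !![a, b; c, d] * f0 s) ∧
    ((∀ s ∈ word !![a, b; c, d], s ∈ gens) ∧ (word !![a, b; c, d]).prod = !![a, b; c, d]) ∧
    (f0 !![a, b; c, d] = 1 → !![a, b; c, d] = 1) ∧
    (!![a, b; c, d] ^ 11 = 1 → !![a, b; c, d] = 1) := by
  decide +kernel
theorem gens_det : ∀ s ∈ gens, s.det = 1 := by decide +kernel

theorem f0_one : f0 1 = 1 := by decide +kernel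

/-- SL(2,5) occurs as a Frobenius complement: there is a finite group L with a subgroup H isomorphic to SL(2,5) which is a non-trivial proper subgroup meeting each conjugate gHg⁻¹ with g outside H trivially. -/
theorem result :
    ∃ (L : Type) (_ : Group L) (_ : Finite L) (H : Subgroup L),
      Cfsg.IsFrobeniusComplement H ∧ Nonempty (H ≃* Matrix.SpecialLinearGroup (Fin 2) (ZMod 5)) := by
  have : Fact (Nat.Prime 5) := ⟨by norm_num⟩
  have : Fact (Nat.Prime 11) := ⟨by norm_num⟩
  obtain ⟨L, i1, i2, H, hH, ⟨e⟩⟩ := Struct4.isFC_sl2_of_table 5 11 f0 gens word
    gens_det f0_one check
  exact ⟨L, i1, i2, H, hH, ⟨e.symm⟩⟩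

end Cfsg.Agent.S3374
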