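import Cfsg.Statements.S3390
import Cfsg.Agent.S3224
import Cfsg.Agent.Lib.Transfer.Basic
import Cfsg.Agent.Lib.Transfer.Hall

set_option autoImplicit false
open Cfsg
open scoped commutatorElement IsMulCommutative

namespace Cfsg.Agent.S3390

open MulAction

section
variable {G : Type*} [Group G] [Finite G] {Ω : Type*} [Fintype Ω] [MulAction G Ω]

theorem three_fixed (hfix : ∀ g : G, g ≠ 1 → Nat.card (fixedBy Ω g) ≤ 2) {g : G} {a b c : Ω}
    (ha : g • a = a) (hb : g • b = b) (hc : g • c = c) (hab : a ≠ b) (hac : a ≠ c) (hbc : b ≠ c) : g = 1 := by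
  by_contra hg
  have h := hfix g hg
  have hsub : ({a, b, c} : Set Ω) ⊆ fixedBy Ω g := by
    rintro x (rfl | rfl | rfl) <;> assumption
  have h2 := Set.ncard_le_ncard hsub (Set.toFinite _)
  rw [Set.ncard_eq_three.2 ⟨a, b, c, hab, hac, hbc, rfl⟩, ← Nat.card_coe_set_eq] at h2
  omega

omit [Fintype Ω] in
theorem card_eq_orbit_mul (K : Subgroup G) (a : Ω) :
    Nat.card K = Nat.card (orbit K a) * Nat.card ↥(K ⊓ stabilizer G a : Subgroup G) := by
  haveI := Fintype.ofFinite K
  rw [Nat.card_congr (orbitEquivQuotientStabilizer K a),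
    show Nat.card ↥(K ⊓ stabilizer G a : Subgroup G) = Nat.card (stabilizer K a) from ?_]
  · rw [← Subgroup.index_eq_card, mul_comm, Subgroup.card_mul_index]
  · have e : stabilizer K a = (K ⊓ stabilizer G a).subgroupOf K := by
      ext x
      simp only [Subgroup.mem_subgroupOf, Subgroup.mem_inf, SetLike.coe_mem, true_and]
      exact Iff.rfl
    rw [e, Nat.card_congr (Subgroup.subgroupOfEquivOfLe inf_le_left).toEquiv]

theorem klein_dihedral {K : Type*} [Group K] [Finite K] (h4 : Nat.card K = 4) (h2 : ∀ x : K, x * x = 1) :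
    Nonempty (K ≃* DihedralGroup 2) := by
  haveI : IsKleinFour K := ⟨h4, by
    refine Nat.dvd_antisymm ((Monoid.exponent_dvd_iff_forall_pow_eq_one).2 fun x => by rw [pow_two, h2]) ?_
    obtain ⟨x, hx⟩ := exists_prime_orderOf_dvd_card' 2 (h4 ▸ (by norm_num) : 2 ∣ Nat.card K)
    exact hx ▸ Monoid.order_dvd_exponent x⟩
  exact IsKleinFour.nonempty_mulEquiv

end

/-- Let G be a finite group acting faithfully and transitively on a finite set Ω with fixity 2 (every non-identity element fixes at most two points, and some fixes exactly two). Let α ∈ Ω and S a Sylow 2-subgroup of G. Then one of the following holds: the stabilizer S_α of α in S is trivial; S is dihedral or semidihedral and either |S_α| = 2 or |S : S_α| = 2; |S| ≥ 4, S has exactly one orbit of size 2 on Ω, every other S-orbit is regular, and G has a normal subgroup of index 2 or of index |S| which is a Frobenius group; or S ≤ G_α. -/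
theorem result {G : Type*} [Group G] [Finite G] {Ω : Type*} [Fintype Ω] [MulAction G Ω] [FaithfulSMul G Ω] (htr : MulAction.IsPretransitive G Ω)
    (hfix : ∀ g : G, g ≠ 1 → Nat.card (MulAction.fixedBy Ω g) ≤ 2) (hex : ∃ g : G, g ≠ 1 ∧ Nat.card (MulAction.fixedBy Ω g) = 2) (α : Ω) (S : Sylow 2 G) :
    (S : Subgroup G) ⊓ MulAction.stabilizer G α = ⊥ ∨
    (((∃ n : ℕ, Nonempty (↥(S : Subgroup G) ≃* DihedralGroup n)) ∨ Cfsg.IsQuasiDihedral ↥(S : Subgroup G)) ∧
       (Nat.card ↥((S : Subgroup G) ⊓ MulAction.stabilizer G α) = 2 ∨ ((S : Subgroup G) ⊓ MulAction.stabilizer G α).relIndex (S : Subgroup G) = 2)) ∨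
    (4 ≤ Nat.card (S : Subgroup G) ∧
       (∃ ω : Ω, Nat.card (MulAction.orbit ↥(S : Subgroup G) ω) = 2 ∧
          ∀ ω' : Ω, ω' ∉ MulAction.orbit ↥(S : Subgroup G) ω → Nat.card (MulAction.orbit ↥(S : Subgroup G) ω') = Nat.card (S : Subgroup G)) ∧
       ∃ N : Subgroup G, N.Normal ∧ (N.index = 2 ∨ N.index = Nat.card (S : Subgroup G)) ∧ (∃ H : Subgroup ↥N, Cfsg.IsFrobeniusComplement H)) ∨
    (S : Subgroup G) ≤ MulAction.stabilizer G α := by
  classical
  haveI := htr
  haveI : Fact (Nat.Prime 2) := ⟨Nat.prime_two⟩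
  set H := stabilizer G α with hHdef
  set T := (S : Subgroup G) ⊓ H with hTdef
  by_cases hT : T = ⊥
  · exact Or.inl hT
  by_cases hSH : (S : Subgroup G) ≤ H
  · exact Or.inr (Or.inr (Or.inr hSH))
  haveI : Group.IsNilpotent ↥(S : Subgroup G) := S.2.isNilpotent
  -- the second fixed point
  have hTlt : T.subgroupOf (S : Subgroup G) < ⊤ := by
    rw [lt_top_iff_ne_top, Ne, Subgroup.subgroupOf_eq_top]
    exact fun h => hSH (h.trans inf_le_right)
  obtain ⟨⟨n, hnS⟩, hn, hn'⟩ := SetLike.exists_of_lt ((Group.normalizerCondition_of_isNilpotent) _ hTlt)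
  have hnN : ∀ t ∈ T, n⁻¹ * t * n ∈ T := by
    intro t ht
    have hinv := inv_mem hn
    exact (show (⟨n⁻¹, inv_mem hnS⟩ : ↥(S : Subgroup G)) * ⟨t, ht.1⟩ * (⟨n⁻¹, inv_mem hnS⟩ : ↥(S : Subgroup G))⁻¹ ∈
      T.subgroupOf (S : Subgroup G) from (Subgroup.mem_normalizer_iff.1 hinv ⟨t, ht.1⟩).1 ht) |> fun h => by
        simpa [Subgroup.mem_subgroupOf] using h
  set β := n • α with hβ
  have hαβ : α ≠ β := fun e => hn' ⟨hnS, e.symm⟩
  have hTβ : ∀ t ∈ T, t • β = β := by
    intro t ht
    have h : (n⁻¹ * t * n) • α = α := (hnN t ht).2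
    rw [mul_smul, mul_smul, inv_smul_eq_iff] at h
    exact h
  have hTα : ∀ t ∈ T, t • α = α := fun t ht => ht.2
  have hpair : ∀ t ∈ T, t ≠ 1 → ∀ x : Ω, t • x = x → x = α ∨ x = β := by
    intro t ht h1 x hx
    by_contra hcon
    push Not at hcon
    exact h1 (three_fixed hfix (hTα t ht) (hTβ t ht) hx hαβ hcon.1.symm hcon.2.symm)
  obtain ⟨t₀, ht₀, ht₀1⟩ := (T.ne_bot_iff_exists_ne_one).1 hT |> fun ⟨⟨t, ht⟩, h1⟩ =>
    (⟨t, ht, fun e => h1 (Subtype.ext e)⟩ : ∃ t, t ∈ T ∧ t ≠ 1)
  by_cases hA : ∀ s ∈ (S : Subgroup G), s • α = α ∨ s • α = β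
  · -- the pair is an orbit
    have horb : orbit ↥(S : Subgroup G) α = {α, β} := by
      ext x
      constructor
      · rintro ⟨s, rfl⟩
        exact hA s s.2
      · rintro (h | h) <;> rw [h]
        · exact mem_orbit_self α
        · exact ⟨⟨n, hnS⟩, rfl⟩
    have horb2 : Nat.card (orbit ↥(S : Subgroup G) α) = 2 := by
      rw [horb, Nat.card_coe_set_eq, Set.ncard_pair hαβ]
    have hcardS := card_eq_orbit_mul (S : Subgroup G) α
    rw [horb2] at hcardS
    have hTpos : 2 ≤ Nat.card T := Subgroup.one_lt_card_iff_ne_bot _ |>.2 hT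
    have hrel : T.relIndex (S : Subgroup G) = 2 := by
      have := Subgroup.card_mul_index (T.subgroupOf (S : Subgroup G))
      rw [Nat.card_congr (Subgroup.subgroupOfEquivOfLe (inf_le_left : T ≤ (S : Subgroup G))).toEquiv, hcardS,
        mul_comm 2] at this
      exact Nat.eq_of_mul_eq_mul_left (show 0 < Nat.card T by omega) this
    have houtβ : ∀ s ∈ (S : Subgroup G), s ∉ T → s • α = β :=
      fun s hs h => (hA s hs).resolve_left fun e => h ⟨hs, e⟩
    have hswap : ∀ s ∈ (S : Subgroup G), s ∉ T → s • β = α := by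
      intro s hs h
      have := (hA (s * n) (mul_mem hs hnS))
      rw [mul_smul] at this
      refine this.resolve_right fun e => hαβ ?_
      have h1 := houtβ s hs h
      exact (MulAction.injective s (e.trans h1.symm)).symm
    by_cases hA1 : ∃ u ∈ (S : Subgroup G), u ∉ T ∧ ∃ γ : Ω, u • γ = γ
    · obtain ⟨u, huS, huT, γ, hγ⟩ := hA1
      refine Or.inr (Or.inl ⟨?_, Or.inr hrel⟩)
      have hγα : γ ≠ α := fun e => huT ⟨huS, show u • α = α from e ▸ hγ⟩
      have hγβ : γ ≠ β := fun e => hαβ ((hswap u huS huT).symm.trans (e ▸ hγ))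
      have hu2 : u * u = 1 := by
        refine three_fixed hfix (a := α) (b := β) (c := γ) ?_ ?_ ?_ hαβ hγα.symm hγβ.symm
        · rw [mul_smul, houtβ u huS huT, hswap u huS huT]
        · rw [mul_smul, hswap u huS huT, houtβ u huS huT]
        · rw [mul_smul, hγ, hγ]
      have hu1 : u ≠ 1 := fun e => huT (e ▸ one_mem T)
      let u' : ↥(S : Subgroup G) := ⟨u, huS⟩
      have hu' : orderOf u' = 2 := orderOf_eq_prime (Subtype.ext (by simpa [pow_two] using hu2))
        (fun e => hu1 (congrArg Subtype.val e))
      have hfix1 : ∀ w ∈ (S : Subgroup G), w • α = α → w • γ = γ → w = 1 := by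
        intro w hw h1 h2
        exact three_fixed hfix h1 (hTβ w ⟨hw, h1⟩) h2 hαβ hγα.symm hγβ.symm
      have hle : Nat.card ↥(Subgroup.centralizer ({u'} : Set ↥(S : Subgroup G))) ≤ 4 := by
        let f : ↥(Subgroup.centralizer ({u'} : Set ↥(S : Subgroup G))) → fixedBy Ω u × ({α, β} : Set Ω) :=
          fun c => (⟨((c : ↥(S : Subgroup G)) : G) • γ, by
            have := congrArg (fun x : ↥(S : Subgroup G) => ((x : G)) • γ)
              (Subgroup.mem_centralizer_singleton_iff.1 c.2)
            simp only [Subgroup.coe_mul, mul_smul] at this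
            rw [mem_fixedBy]
            calc u • (((c : ↥(S : Subgroup G)) : G) • γ) = ((c : ↥(S : Subgroup G)) : G) • (u • γ) := this.symm
              _ = _ := by rw [hγ]⟩,
            ⟨((c : ↥(S : Subgroup G)) : G) • α, hA _ (c : ↥(S : Subgroup G)).2⟩)
        have hf : Function.Injective f := by
          intro c d h
          simp only [f, Prod.mk.injEq, Subtype.mk.injEq] at h
          refine Subtype.ext (Subtype.ext ?_)
          have := hfix1 (((d : ↥(S : Subgroup G)) : G)⁻¹ * ((c : ↥(S : Subgroup G)) : G))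
            (mul_mem (inv_mem (d : ↥(S : Subgroup G)).2) (c : ↥(S : Subgroup G)).2)
            (by rw [mul_smul, show ((c : ↥(S : Subgroup G)) : G) • α = ((d : ↥(S : Subgroup G)) : G) • α from
              congrArg Subtype.val h.2, inv_smul_smul]) (by rw [mul_smul, h.1, inv_smul_smul])
          exact (eq_of_inv_mul_eq_one this).symm
        refine (Nat.card_le_card_of_injective f hf).trans ?_
        rw [Nat.card_prod, Nat.card_coe_set_eq ({α, β} : Set Ω), Set.ncard_pair hαβ]
        have := hfix u hu1
        omega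
      have hge : 2 < Nat.card ↥(Subgroup.centralizer ({u'} : Set ↥(S : Subgroup G))) := by
        by_contra hlt
        push Not at hlt
        have hz : Subgroup.zpowers u' = Subgroup.centralizer ({u'} : Set ↥(S : Subgroup G)) :=
          Subgroup.eq_of_le_of_card_ge
            (Subgroup.zpowers_le.2 (Subgroup.mem_centralizer_singleton_iff.2 rfl))
            (by rw [Nat.card_zpowers, hu']; exact hlt)
        haveI : Nontrivial ↥(S : Subgroup G) := ⟨u', 1, fun e => hu1 (congrArg Subtype.val e)⟩
        have hne := (S.2).center_nontrivial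
        obtain ⟨⟨z, hz1⟩, hzne⟩ := exists_ne (1 : ↥(Subgroup.center ↥(S : Subgroup G)))
        have hzu : z ∈ Subgroup.zpowers u' := hz ▸ Subgroup.mem_centralizer_singleton_iff.2
          (Subgroup.mem_center_iff.1 hz1 u').symm
        have hzu' : z = u' := by
          rcases (mem_zpowers_iff_mem_range_orderOf.1 hzu) |> Finset.mem_image.1 with ⟨k, hk, rfl⟩
          rw [Finset.mem_range, hu'] at hk
          interval_cases k
          · exact absurd (Subtype.ext (pow_zero _)) hzne
          · exact pow_one _
        have : (⟨t₀, ht₀.1⟩ : ↥(S : Subgroup G)) ∈ Subgroup.zpowers u' := hz ▸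
          Subgroup.mem_centralizer_singleton_iff.2 (hzu' ▸ Subgroup.mem_center_iff.1 hz1 _)
        rcases (mem_zpowers_iff_mem_range_orderOf.1 this) |> Finset.mem_image.1 with ⟨k, hk, hk'⟩
        rw [Finset.mem_range, hu'] at hk
        interval_cases k
        · exact ht₀1 (by simpa using (congrArg Subtype.val hk').symm)
        · exact huT ((show t₀ = u by simpa using (congrArg Subtype.val hk').symm) ▸ ht₀)
      have h4 : Nat.card ↥(Subgroup.centralizer ({u'} : Set ↥(S : Subgroup G))) = 4 := by
        obtain ⟨k, hk⟩ := IsPGroup.iff_card.1 (S.2.to_subgroup (Subgroup.centralizer ({u'} : Set ↥(S : Subgroup G))))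
        rw [hk] at hle hge ⊢
        have : k < 3 := (Nat.pow_lt_pow_iff_right (by norm_num : 1 < 2)).1 (lt_of_le_of_lt hle (by norm_num))
        interval_cases k <;> simp_all
      have hcardS' : Nat.card (S : Subgroup G) = 2 * Nat.card T := hcardS
      rcases S3224.result S.2 u' hu' h4 with h | h | h
      · exact Or.inl h
      · exact Or.inr h
      · refine Or.inl ⟨2, klein_dihedral h fun x => ?_⟩
        have hT2 : Nat.card T = 2 := by omega
        by_cases hx : (x : G) ∈ T
        · have := pow_card_eq_one' (x := (⟨x, hx⟩ : T))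
          rw [hT2, pow_two] at this
          exact Subtype.ext (congrArg (fun w : T => (w : G)) this)
        · have hc : ∀ y : ↥(S : Subgroup G), Commute u' y := by
            intro y
            haveI := IsPGroup.isMulCommutative_of_card_eq_prime_sq (p := 2) (G := ↥(S : Subgroup G)) (by rw [h]; norm_num)
            exact mul_comm' u' y
          have hux : u * x ∈ T := by
            refine ⟨mul_mem huS x.2, ?_⟩
            show (u * (x : G)) • α = α
            rw [mul_smul, houtβ _ x.2 hx, hswap u huS huT]
          have := pow_card_eq_one' (x := (⟨_, hux⟩ : T))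
          rw [hT2, pow_two] at this
          have h5 : (u' * x) * (u' * x) = 1 := Subtype.ext (congrArg (fun w : T => (w : G)) this)
          rw [(hc x).symm.mul_mul_mul_comm, show u' * u' = 1 from Subtype.ext hu2, one_mul] at h5
          exact h5
    · push Not at hA1
      have hcardS' : Nat.card (S : Subgroup G) = 2 * Nat.card T := hcardS
      refine Or.inr (Or.inr (Or.inl ⟨by omega, ⟨α, horb2, fun ω hω => ?_⟩, ?_⟩))
      · have h := card_eq_orbit_mul (S : Subgroup G) ω
        suffices (S : Subgroup G) ⊓ stabilizer G ω = ⊥ by rw [this, Subgroup.card_bot, mul_one] at h; exact h.symm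
        rw [Subgroup.eq_bot_iff_forall]
        rintro w ⟨hwS, hw⟩
        by_cases hwT : w ∈ T
        · by_contra h1
          apply hω
          rw [horb]
          exact hpair w hwT h1 ω hw
        · exact absurd hw (hA1 w hwS hwT ω)
      · -- transfer
        have hiff : ∀ x ∈ (S : Subgroup G), (x ∈ T ↔ ∃ ω : Ω, x • ω = ω) :=
          fun x hx => ⟨fun h => ⟨α, hTα x h⟩, fun ⟨ω, h⟩ => by_contra fun hn => hA1 x hx hn ω h⟩
        have hidx2 : (T.subgroupOf (S : Subgroup G)).index = 2 := hrel
        have hmul : ∀ a b : G, a ∈ (S : Subgroup G) → b ∈ (S : Subgroup G) → (a * b ∈ T ↔ (a ∈ T ↔ b ∈ T)) :=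
          fun a b ha hb => Subgroup.mul_mem_iff_of_index_two hidx2 (a := ⟨a, ha⟩) (b := ⟨b, hb⟩)
        have hfoc : (S : Subgroup G).focalSubgroup ≤ T := by
          rw [Subgroup.focalSubgroup_def, Subgroup.closure_le]
          rintro y ⟨hy, x, hx, u, rfl⟩
          have hxu : u * x⁻¹ * u⁻¹ ∈ (S : Subgroup G) := by
            have e : u * x⁻¹ * u⁻¹ = x⁻¹ * ⁅x, u⁆ := by rw [commutatorElement_def]; group
            rw [e]; exact mul_mem (inv_mem hx) hy
          rw [SetLike.mem_coe, show ⁅x, u⁆ = x * (u * x⁻¹ * u⁻¹) by rw [commutatorElement_def]; group,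
            hmul x _ hx hxu, hiff x hx, hiff _ hxu]
          constructor
          · rintro ⟨ω, h⟩
            exact ⟨u • ω, by rw [mul_smul, mul_smul, inv_smul_smul, inv_smul_eq_iff.2 h.symm]⟩
          · rintro ⟨ω, h⟩
            refine ⟨u⁻¹ • ω, ?_⟩
            rw [mul_smul, mul_smul] at h
            have h' : x⁻¹ • u⁻¹ • ω = u⁻¹ • ω := by
              conv_rhs => rw [← h]
              rw [inv_smul_smul]
            exact (inv_smul_eq_iff.1 h').symm
        have hcop : Nat.Coprime (S : Subgroup G).index
            (⁅(S : Subgroup G), (S : Subgroup G)⁆.relIndex (S : Subgroup G)) := by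
          have h1 : ⁅(S : Subgroup G), (S : Subgroup G)⁆.relIndex (S : Subgroup G) ∣ Nat.card (S : Subgroup G) :=
            Subgroup.index_dvd_card _
          refine Nat.Coprime.coprime_dvd_right h1 ?_
          obtain ⟨k, hk⟩ := IsPGroup.iff_card.1 S.2
          rw [hk]
          exact Nat.Coprime.pow_right k ((Nat.prime_two.coprime_iff_not_dvd.2 S.not_dvd_index).symm)
        obtain ⟨-, hker, hsup⟩ := Lib.Transfer.focal_theorem (S : Subgroup G) hcop
        have hTS : ∀ t ∈ T, t ∈ (S : Subgroup G) := fun t ht => ht.1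
        set N := (S : Subgroup G).transferFocal.ker ⊔ T with hN
        haveI hNn : N.Normal := ⟨fun a ha g => by
          have hc : ⁅g, a⁆ ∈ N := Subgroup.mem_sup_left (Abelianization.commutator_subset_ker _
            (Subgroup.commutator_mem_commutator (Subgroup.mem_top g) (Subgroup.mem_top a)))
          have := mul_mem hc ha
          rwa [commutatorElement_def, inv_mul_cancel_right] at this⟩
        have hNS : N ⊓ (S : Subgroup G) = T := by
          refine le_antisymm ?_ (le_inf le_sup_right inf_le_left)
          rintro x ⟨hxN, hxS⟩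
          obtain ⟨k, hk, t, ht, rfl⟩ := Subgroup.mem_sup_of_normal_left.1 hxN
          have hkS : k ∈ (S : Subgroup G) := by
            have := mul_mem (show k * t ∈ (S : Subgroup G) from hxS) (inv_mem (hTS _ ht))
            rwa [mul_inv_cancel_right] at this
          exact mul_mem (hfoc (hker ▸ ⟨hk, hkS⟩)) ht
        have hNidx : N.index = 2 := by
          have htop : (S : Subgroup G) ⊔ N = ⊤ := by
            rw [eq_top_iff, ← hsup, sup_comm]
            exact sup_le_sup le_rfl le_sup_left
          have := Subgroup.relIndex_sup_right (S : Subgroup G) N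
          rw [htop, Subgroup.relIndex_top_right, ← Subgroup.inf_relIndex_right, hNS, hrel] at this
          exact this
        refine ⟨N, hNn, Or.inl hNidx, ?_⟩
        -- conjugates of elements with fixed points inside `S`
        have hconjT : ∀ g y : G, g * y * g⁻¹ ∈ (S : Subgroup G) → ∀ ω, y • ω = ω → g * y * g⁻¹ ∈ T :=
          fun g y hy ω hω => (hiff _ hy).2 ⟨g • ω, by rw [mul_smul, mul_smul, inv_smul_smul, hω]⟩
        have hHN : ∀ ω : Ω, stabilizer G ω ≤ N := by
          intro ω x hx
          obtain ⟨k, m, hm, hkm⟩ := Nat.exists_eq_pow_mul_and_not_dvd (orderOf_pos x).ne' 2 (by norm_num)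
          have hmodd : Odd m := Nat.not_even_iff_odd.1 fun h => hm h.two_dvd
          set y := x ^ m with hy
          have hy2 : IsPGroup 2 ↥(Subgroup.zpowers y) := IsPGroup.of_card (n := k) (by
            rw [Nat.card_zpowers, hy, orderOf_pow' _ (fun h => by simp [h] at hm), hkm, Nat.gcd_mul_left_left,
              Nat.mul_div_cancel _ hmodd.pos])
          obtain ⟨Q, hQ⟩ := hy2.exists_le_sylow
          obtain ⟨g, hg⟩ := MulAction.exists_smul_eq G Q S
          have hgy : g * y * g⁻¹ ∈ (S : Subgroup G) := by
            rw [← hg]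
            exact ⟨y, hQ (Subgroup.mem_zpowers y), rfl⟩
          have hyN : y ∈ N := by
            have := hNn.conj_mem _ (show g * y * g⁻¹ ∈ N from
              Subgroup.mem_sup_right (hconjT g y hgy ω (pow_mem hx m))) g⁻¹
            simpa [mul_assoc] using this
          obtain ⟨j, hj⟩ := hmodd
          have h2 : x * x ∈ N := Subgroup.mul_self_mem_of_index_two hNidx x
          rw [hy, hj, pow_succ, pow_mul, pow_two] at hyN
          exact (Subgroup.mul_mem_cancel_left N (pow_mem h2 j)).1 hyN
        have hnN' : n ∉ N := fun h => hn' (hNS ▸ ⟨h, hnS⟩ : n ∈ T)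
        have hβΔ : ∀ g ∈ N, g • α ≠ β := by
          intro g hg e
          apply hnN'
          have : n⁻¹ * g ∈ N := hHN α (by rw [mem_stabilizer_iff, mul_smul, e, hβ, inv_smul_smul])
          exact inv_mem_iff.1 ((Subgroup.mul_mem_cancel_right N hg).1 this)
        refine ⟨H.subgroupOf N, ?_, ?_, ?_⟩
        · intro h
          rw [Subgroup.subgroupOf_eq_bot, disjoint_iff, Subgroup.eq_bot_iff_forall] at h
          exact ht₀1 (h t₀ ⟨ht₀.2, Subgroup.mem_sup_right ht₀⟩)
        · intro h
          rw [Subgroup.subgroupOf_eq_top] at h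
          have hHN' : N = H := le_antisymm h (hHN α)
          apply ht₀1
          refine FaithfulSMul.eq_of_smul_eq_smul (α := Ω) fun ω => ?_
          obtain ⟨g, rfl⟩ := MulAction.exists_smul_eq G α ω
          have := hHN' ▸ hNn.conj_mem t₀ (Subgroup.mem_sup_right ht₀) g⁻¹
          rw [inv_inv, hHdef, mem_stabilizer_iff, mul_smul, mul_smul, inv_smul_eq_iff] at this
          rw [one_smul]
          exact this
        · rintro ⟨g, hg⟩ hgH
          rw [Subgroup.eq_bot_iff_forall]
          rintro ⟨x, hxN⟩ ⟨hxH, hxg⟩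
          set γ := g • α with hγ
          have hxγ : x • γ = γ := by
            obtain ⟨w, hw, hwx⟩ := hxg
            have hw' : (w : G) • α = α := hw
            have hwx' : g * (w : G) * g⁻¹ = x := congrArg Subtype.val hwx
            rw [hγ, ← hwx', mul_smul, mul_smul, inv_smul_smul, hw']
          have hαγ : α ≠ γ := fun e => hgH (show g • α = α from e.symm)
          by_contra hx1
          have hx1' : x ≠ 1 := fun e => hx1 (Subtype.ext e)
          set K := H ⊓ stabilizer G γ with hK
          haveI : Nontrivial ↥K := ⟨⟨x, hxH, hxγ⟩, 1, fun e => hx1' (congrArg Subtype.val e)⟩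
          obtain ⟨r, hr, hrK⟩ := Nat.exists_prime_and_dvd (Finite.one_lt_card (α := ↥K)).ne'
          haveI : Fact r.Prime := ⟨hr⟩
          obtain ⟨R⟩ : Nonempty (Sylow r ↥K) := inferInstance
          set R' := (R : Subgroup ↥K).map K.subtype with hR'
          have hR'p : IsPGroup r ↥R' := R.2.map _
          have hR'1 : R' ≠ ⊥ := fun e => by
            rw [hR', Subgroup.map_eq_bot_iff, Subgroup.ker_subtype, le_bot_iff] at e
            exact R.ne_bot_of_dvd_card hrK e
          have hR'K : R' ≤ K := Subgroup.map_subtype_le _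
          have hfixR : ∀ y ∈ R', y ≠ 1 → ∀ ω : Ω, y • ω = ω → ω = α ∨ ω = γ := by
            intro y hy h1 ω hω
            by_contra hcon
            push Not at hcon
            exact h1 (three_fixed hfix (hR'K hy).1 (hR'K hy).2 hω hαγ hcon.1.symm hcon.2.symm)
          obtain ⟨y₀, hy₀, hy₀1⟩ := (R'.ne_bot_iff_exists_ne_one).1 hR'1 |> fun ⟨⟨t, ht⟩, h1⟩ =>
            (⟨t, ht, fun e => h1 (Subtype.ext e)⟩ : ∃ t, t ∈ R' ∧ t ≠ 1)
          by_cases hr2 : r = 2
          · subst hr2
            obtain ⟨Q, hQ⟩ := hR'p.exists_le_sylow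
            obtain ⟨h, hh⟩ := MulAction.exists_smul_eq G Q S
            have hhy : h * y₀ * h⁻¹ ∈ (S : Subgroup G) := by
              rw [← hh]
              exact ⟨y₀, hQ hy₀, rfl⟩
            have hhT := hconjT h y₀ hhy α (hR'K hy₀).1
            have hhy1 : h * y₀ * h⁻¹ ≠ 1 := fun e => hy₀1 (conj_eq_one_iff.1 e)
            have c1 := hpair _ hhT hhy1 (h • α) (by rw [mul_smul, mul_smul, inv_smul_smul, (hR'K hy₀).1])
            have c2 := hpair _ hhT hhy1 (h • γ) (by rw [mul_smul, mul_smul, inv_smul_smul, (hR'K hy₀).2])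
            have hne : h • α ≠ h • γ := fun e => hαγ (MulAction.injective h e)
            have hgn : h * g * h⁻¹ ∈ N := hNn.conj_mem g hg h
            have e1 : (h * g * h⁻¹) • (h • α) = h • γ := by rw [mul_smul, mul_smul, inv_smul_smul]
            rcases c1 with e | e <;> rcases c2 with e' | e'
            · exact hne (e.trans e'.symm)
            · rw [e, e'] at e1; exact hβΔ _ hgn e1
            · rw [e, e'] at e1
              exact hβΔ _ (inv_mem hgn) (by rw [inv_smul_eq_iff, e1])
            · exact hne (e.trans e'.symm)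
          · -- `r` odd
            have hR'N : R' ≤ N := fun y hy => hHN α (hR'K hy).1
            have hcard : Nat.card (orbit ↥N β) * Nat.card H ∣ Nat.card G := by
              have h := card_eq_orbit_mul N β
              have e : (N ⊓ stabilizer G β : Subgroup G) = stabilizer G β := inf_eq_right.2 (hHN β)
              rw [e, show Nat.card ↥(stabilizer G β) = Nat.card H from
                Nat.card_congr ((stabilizerEquivStabilizer (g := n) (a := α) (b := β) hβ).symm.toEquiv)] at h
              exact h ▸ Subgroup.card_subgroup_dvd_card N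
            have hdvd : r ∣ Nat.card (orbit ↥N β) := by
              letI : MulAction ↥R' (orbit ↥N β) := MulAction.compHom _ (Subgroup.inclusion hR'N)
              have h := hR'p.card_modEq_card_fixedPoints (orbit ↥N β)
              haveI hemp : IsEmpty ↥(fixedPoints ↥R' (orbit ↥N β)) := ⟨fun w => by
                obtain ⟨⟨ω, hω⟩, hf⟩ := w
                obtain ⟨m, rfl⟩ := hω
                have hy : y₀ • ((m : G) • β) = (m : G) • β := congrArg Subtype.val (hf ⟨y₀, hy₀⟩)
                rcases hfixR y₀ hy₀ hy₀1 _ hy with e | e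
                · exact hβΔ _ (inv_mem m.2) (by rw [inv_smul_eq_iff, e])
                · exact hβΔ _ (mul_mem (inv_mem m.2) hg) (by rw [mul_smul, ← hγ, inv_smul_eq_iff, e])⟩
              rw [Nat.card_of_isEmpty (α := ↥(fixedPoints ↥R' (orbit ↥N β)))] at h
              exact Nat.modEq_zero_iff_dvd.1 h
            obtain ⟨P, hP⟩ := hR'p.exists_le_sylow
            have hlt : R' < (P : Subgroup G) := by
              refine lt_of_le_of_ne hP fun e => ?_
              apply P.not_dvd_index
              have h1 : Nat.card ↥(P : Subgroup G) ∣ Nat.card H :=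
                e ▸ Subgroup.card_dvd_of_le (hR'K.trans inf_le_left)
              have h2 := (Nat.mul_dvd_mul hdvd h1).trans hcard
              rw [← Subgroup.card_mul_index (P : Subgroup G), mul_comm r] at h2
              exact Nat.dvd_of_mul_dvd_mul_left Nat.card_pos h2
            haveI : Group.IsNilpotent ↥(P : Subgroup G) := P.2.isNilpotent
            have hlt' : R'.subgroupOf (P : Subgroup G) < ⊤ := by
              rw [lt_top_iff_ne_top, Ne, Subgroup.subgroupOf_eq_top]
              exact not_le_of_gt hlt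
            obtain ⟨⟨q, hqP⟩, hq, hq'⟩ :=
              SetLike.exists_of_lt ((Group.normalizerCondition_of_isNilpotent) _ hlt')
            have hqn : ∀ y, y ∈ R' → q⁻¹ * y * q ∈ R' := by
              intro y hy
              have h := (Subgroup.mem_normalizer_iff.1 (inv_mem hq) ⟨y, hP hy⟩).1 hy
              simpa [Subgroup.mem_subgroupOf] using h
            have hqfix : ∀ ω, (ω = α ∨ ω = γ) → q • ω = α ∨ q • ω = γ := by
              intro ω hω
              refine hfixR y₀ hy₀ hy₀1 _ ?_
              have h : (q⁻¹ * y₀ * q) • ω = ω := by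
                rcases hω with rfl | rfl
                exacts [(hR'K (hqn _ hy₀)).1, (hR'K (hqn _ hy₀)).2]
              rwa [mul_smul, mul_smul, inv_smul_eq_iff] at h
            have hodd : Odd (orderOf q) := by
              obtain ⟨k, hk⟩ := P.2 ⟨q, hqP⟩
              exact ((hr.odd_of_ne_two hr2).pow).of_dvd_nat
                (orderOf_dvd_of_pow_eq_one (congrArg Subtype.val hk))
            have hsq : ∀ ω, (ω = α ∨ ω = γ) → (q ^ 2) • ω = ω := by
              intro ω hω
              rw [pow_two, mul_smul]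
              rcases hqfix α (Or.inl rfl) with e1 | e1 <;> rcases hqfix γ (Or.inr rfl) with e2 | e2
              · exact absurd (MulAction.injective q (e1.trans e2.symm)) hαγ
              · rcases hω with rfl | rfl <;> simp only [e1, e2]
              · rcases hω with rfl | rfl <;> simp only [e1, e2]
              · exact absurd (MulAction.injective q (e1.trans e2.symm)) hαγ
            obtain ⟨j, hj⟩ := hodd
            have hqpow : q = (q ^ 2) ^ (j + 1) := by
              rw [← pow_mul, show 2 * (j + 1) = orderOf q + 1 by omega, pow_succ, pow_orderOf_eq_one, one_mul]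
            have hqK : q ∈ K := by
              rw [hqpow]
              exact pow_mem (show q ^ 2 ∈ K from ⟨hsq α (Or.inl rfl), hsq γ (Or.inr rfl)⟩) _
            apply hq'
            have hle : (R : Subgroup ↥K) ≤ (P : Subgroup G).subgroupOf K := fun y hy => hP ⟨y, hy, rfl⟩
            have := R.3 (P.2.comap_of_injective K.subtype K.subtype_injective) hle
            exact ⟨⟨q, hqK⟩, this ▸ hqP, rfl⟩
  · -- the pair is moved
    push Not at hA
    obtain ⟨s, hsS, hsα, hsβ⟩ := hA
    refine Or.inr (Or.inl ?_)
    set N₁ := (S : Subgroup G) ⊓ Subgroup.normalizer (T : Set G) with hN₁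
    have hN₁le : N₁ ≤ (S : Subgroup G) := inf_le_left
    have hTN₁ : T ≤ N₁ := le_inf inf_le_left T.le_normalizer
    have hN₁α : ∀ m ∈ N₁, m • α = α ∨ m • α = β := by
      intro m hm
      refine hpair t₀ ht₀ ht₀1 _ ?_
      have h : (m⁻¹ * t₀ * m⁻¹⁻¹) • α = α := ((Subgroup.mem_normalizer_iff.1 (inv_mem hm.2) t₀).1 ht₀).2
      rw [inv_inv, mul_smul, mul_smul, inv_smul_eq_iff] at h
      exact h
    have hcardN : Nat.card N₁ ≤ 2 * Nat.card T := by
      rw [card_eq_orbit_mul N₁ α]
      refine Nat.mul_le_mul ?_ (Subgroup.card_le_of_le fun x hx => ⟨hx.1.1, hx.2⟩)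
      rw [Nat.card_coe_set_eq, ← Set.ncard_pair hαβ]
      refine Set.ncard_le_ncard ?_ (Set.toFinite _)
      rintro _ ⟨m, rfl⟩
      exact hN₁α m m.2
    have hN₁S : N₁.subgroupOf (S : Subgroup G) < ⊤ := by
      rw [lt_top_iff_ne_top, Ne, Subgroup.subgroupOf_eq_top]
      intro h
      rcases hN₁α s (h hsS) with e | e
      exacts [hsα e, hsβ e]
    obtain ⟨⟨m, hmS⟩, hm, hm'⟩ := SetLike.exists_of_lt ((Group.normalizerCondition_of_isNilpotent) _ hN₁S)
    have hmN : ∀ t ∈ T, m * t * m⁻¹ ∈ N₁ := by
      intro t ht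
      have h := (Subgroup.mem_normalizer_iff.1 hm ⟨t, ht.1⟩).1 (hTN₁ ht)
      simpa [Subgroup.mem_subgroupOf] using h
    have hdisj : ∀ t ∈ T, m * t * m⁻¹ ∈ T → t = 1 := by
      intro t ht ht'
      by_contra h1
      apply hm'
      -- `m` preserves the pair, hence normalizes `T`
      have h1' : m * t * m⁻¹ ≠ 1 := fun e => h1 (conj_eq_one_iff.1 e)
      have a1 := hpair _ ht' h1' (m • α) (by rw [mul_smul, mul_smul, inv_smul_smul, hTα t ht])
      have a2 := hpair _ ht' h1' (m • β) (by rw [mul_smul, mul_smul, inv_smul_smul, hTβ t ht])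
      have hmem : ∀ w ∈ T, m * w * m⁻¹ ∈ T := by
        intro w hw
        refine Subgroup.mem_inf.2 ⟨mul_mem (mul_mem hmS (show w ∈ (S : Subgroup G) from hw.1)) (inv_mem hmS), ?_⟩
        show (m * w * m⁻¹) • α = α
        rcases a1 with e | e
        · calc (m * w * m⁻¹) • α = m • w • m⁻¹ • (m • α) := by rw [mul_smul, mul_smul, e]
            _ = α := by rw [inv_smul_smul, hTα w hw, e]
        · rcases a2 with e' | e'
          · calc (m * w * m⁻¹) • α = m • w • m⁻¹ • (m • β) := by rw [mul_smul, mul_smul, e']
              _ = α := by rw [inv_smul_smul, hTβ w hw, e']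
          · exact absurd (MulAction.injective m (e.trans e'.symm)) hαβ
      refine ⟨hmS, Subgroup.mem_normalizer_iff.2 fun w => ⟨hmem w, fun hw => ?_⟩⟩
      have hle : T.map (MulAut.conj m).toMonoidHom ≤ T := by rintro _ ⟨v, hv, rfl⟩; exact hmem v hv
      have heq : T.map (MulAut.conj m).toMonoidHom = T := Subgroup.eq_of_le_of_card_ge hle
        (le_of_eq (Nat.card_congr (Subgroup.equivMapOfInjective T _ (MulAut.conj m).injective).toEquiv))
      have hw' : m * w * m⁻¹ ∈ T.map (MulAut.conj m).toMonoidHom := heq.symm ▸ hw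
      obtain ⟨v, hv, hvw⟩ := hw'
      have : v = w := (MulAut.conj m).injective hvw
      exact this ▸ hv
    have hT2 : Nat.card T = 2 := by
      let f : T × T → N₁ := fun p => ⟨p.1 * (m * p.2 * m⁻¹), mul_mem (hTN₁ p.1.2) (hmN _ p.2.2)⟩
      have hf : Function.Injective f := by
        rintro ⟨a, b⟩ ⟨c, d⟩ h
        have h' : (a : G) * (m * b * m⁻¹) = c * (m * d * m⁻¹) := congrArg Subtype.val h
        have key : m * ((d : G) * (b : G)⁻¹) * m⁻¹ = (c : G)⁻¹ * a := by
          calc m * ((d : G) * (b : G)⁻¹) * m⁻¹ = (c : G)⁻¹ * (c * (m * d * m⁻¹)) * (m * b * m⁻¹)⁻¹ := by group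
            _ = (c : G)⁻¹ * a := by rw [← h']; group
        have hdb := hdisj _ (mul_mem d.2 (inv_mem b.2)) (key ▸ mul_mem (inv_mem c.2) a.2)
        have hbd : (d : G) = b := mul_inv_eq_one.1 hdb
        rw [hbd] at h'
        exact Prod.ext (Subtype.ext (mul_right_cancel h')) (Subtype.ext hbd.symm)
      have := Nat.card_le_card_of_injective f hf
      rw [Nat.card_prod] at this
      have h2 : 2 ≤ Nat.card T := Subgroup.one_lt_card_iff_ne_bot _ |>.2 hT
      nlinarith
    refine ⟨?_, Or.inl hT2⟩
    obtain ⟨w, hw, hwuniq⟩ := (Nat.card_eq_two_iff' (1 : T)).1 hT2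
    have hw2 : orderOf (⟨w, w.2.1⟩ : ↥(S : Subgroup G)) = 2 := by
      rw [Subgroup.orderOf_mk, Subgroup.orderOf_coe]
      refine orderOf_eq_prime ?_ hw
      have := pow_card_eq_one' (x := w)
      rwa [hT2] at this
    have hall : ∀ v ∈ T, v = 1 ∨ v = (w : G) := by
      intro v hv
      by_cases h1 : v = 1
      · exact Or.inl h1
      · exact Or.inr (congrArg Subtype.val (hwuniq ⟨v, hv⟩ fun e => h1 (congrArg Subtype.val e)))
    have hC4 : Nat.card ↥(Subgroup.centralizer ({⟨w, w.2.1⟩} : Set ↥(S : Subgroup G))) = 4 := by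
      have e : Subgroup.centralizer ({⟨w, w.2.1⟩} : Set ↥(S : Subgroup G)) = N₁.subgroupOf (S : Subgroup G) := by
        ext c
        rw [Subgroup.mem_centralizer_singleton_iff, Subgroup.mem_subgroupOf]
        constructor
        · intro hc
          have hc' : (c : G) * w = w * c := congrArg Subtype.val hc
          refine ⟨c.2, Subgroup.mem_normalizer_iff.2 fun v => ?_⟩
          have hcw : (c : G) * w * (c : G)⁻¹ = w := by rw [hc', mul_inv_cancel_right]
          constructor
          · intro hv
            rcases hall v hv with rfl | rfl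
            · simp [one_mem]
            · rw [hcw]; exact w.2
          · intro hv
            rcases hall _ hv with e | e
            · rw [conj_eq_one_iff.1 e]; exact one_mem T
            · have : v = w := by
                rw [← hcw] at e
                exact mul_left_cancel (mul_right_cancel e)
              rw [this]; exact w.2
        · intro hc
          apply Subtype.ext
          show (c : G) * w = w * c
          rcases hall _ ((Subgroup.mem_normalizer_iff.1 hc.2 w).1 w.2) with e | e
          · exact absurd (Subtype.ext (conj_eq_one_iff.1 e)) hw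
          · exact mul_inv_eq_iff_eq_mul.1 e
      rw [e, Nat.card_congr (Subgroup.subgroupOfEquivOfLe hN₁le).toEquiv]
      refine le_antisymm (by omega) ?_
      have hn1 : n ∈ N₁ := ⟨hnS, Subgroup.mem_normalizer_iff.2 fun v => by
        have hnw : n⁻¹ * w * n = w := by
          rcases hall _ (hnN w w.2) with e | e
          · exact absurd (Subtype.ext (conj_eq_one_iff.1 (by rw [inv_inv]; exact e))) hw
          · exact e
        have hnw' : n * (w : G) * n⁻¹ = w := by
          conv_lhs => rw [← hnw]
          group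
        constructor
        · intro hv
          rcases hall v hv with rfl | rfl
          · simp [one_mem]
          · rw [hnw']; exact w.2
        · intro hv
          rcases hall _ hv with e | e
          · rw [conj_eq_one_iff.1 e]; exact one_mem T
          · have : v = w := by
              rw [← hnw'] at e
              exact mul_left_cancel (mul_right_cancel e)
            rw [this]; exact w.2⟩
      have hlt : T < N₁ := lt_of_le_of_ne hTN₁ fun e => hn' (e ▸ hn1 : n ∈ T)
      obtain ⟨k, hk⟩ := IsPGroup.iff_card.1 (S.2.to_le hN₁le)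
      have hgt := Set.ncard_lt_ncard (SetLike.coe_ssubset_coe.2 hlt) (Set.toFinite _)
      rw [← Nat.card_coe_set_eq, ← Nat.card_coe_set_eq] at hgt
      change Nat.card T < Nat.card N₁ at hgt
      rw [hk, hT2] at hgt
      rw [hk]
      have : 1 < k := (Nat.pow_lt_pow_iff_right (by norm_num : 1 < 2)).1 (by simpa using hgt)
      calc 4 = 2 ^ 2 := by norm_num
        _ ≤ 2 ^ k := Nat.pow_le_pow_right (by norm_num) this
    rcases S3224.result S.2 _ hw2 hC4 with h | h | h
    · exact Or.inl h
    · exact Or.inr h
    · exfalso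
      have e := Subgroup.eq_of_le_of_card_ge hN₁le (by
        rw [Nat.card_congr (Subgroup.subgroupOfEquivOfLe hN₁le).toEquiv.symm]
        have : Nat.card ↥(N₁.subgroupOf (S : Subgroup G)) ≥ 4 := by
          rw [Nat.card_congr (Subgroup.subgroupOfEquivOfLe hN₁le).toEquiv]
          by_contra hlt
          push Not at hlt
          have := Subgroup.card_le_of_le hTN₁
          obtain ⟨k, hk⟩ := IsPGroup.iff_card.1 (S.2.to_le hN₁le)
          have hk4 : k ≤ 1 := by
            by_contra hk1
            push Not at hk1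
            have : 2 ^ 2 ≤ 2 ^ k := Nat.pow_le_pow_right (by norm_num) hk1
            omega
          have hle2 : Nat.card N₁ ≤ 2 := hk ▸ (Nat.pow_le_pow_right (by norm_num) hk4).trans (by norm_num)
          have heq : T = N₁ := Subgroup.eq_of_le_of_card_ge hTN₁ (by omega)
          apply hm'
          rw [Subgroup.mem_subgroupOf, ← heq]
          exfalso
          obtain ⟨v, hv, hv1⟩ : ∃ v ∈ T, v ≠ 1 := ⟨t₀, ht₀, ht₀1⟩
          exact hv1 (hdisj v hv (heq ▸ hmN v hv))
        omega)
      rcases hN₁α s (e ▸ hsS) with e' | e'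
      exacts [hsα e', hsβ e']

end Cfsg.Agent.S3390
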