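import Cfsg.Statements.S3494
import Mathlib

set_option autoImplicit false
open Cfsg

namespace Cfsg.Agent.S3494

open MulAction
open scoped Pointwise

variable {G : Type*} [Group G] {Ω : Type*} [MulAction G Ω]

/-- The suborbit of `x` at `a`. -/
abbrev O (G : Type*) [Group G] {Ω : Type*} [MulAction G Ω] (a x : Ω) : Set Ω := orbit (stabilizer G a) x

theorem mem_O {a x y : Ω} : y ∈ O G a x ↔ ∃ g : G, g • a = a ∧ g • x = y := by
  constructor
  · rintro ⟨⟨g, hg⟩, rfl⟩; exact ⟨g, hg, rfl⟩
  · rintro ⟨g, hg, rfl⟩; exact ⟨⟨g, hg⟩, rfl⟩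

theorem smul_O (g : G) (a x : Ω) : g • O G a x = O G (g • a) (g • x) := by
  ext y
  rw [Set.mem_smul_set_iff_inv_smul_mem, mem_O, mem_O]
  constructor
  · rintro ⟨k, hk, hk'⟩
    exact ⟨g * k * g⁻¹, by simp [mul_smul, hk], by simp [mul_smul, hk']⟩
  · rintro ⟨k, hk, hk'⟩
    exact ⟨g⁻¹ * k * g, by simp [mul_smul, hk], by simp [mul_smul, hk']⟩

theorem self_mem_O (a x : Ω) : x ∈ O G a x := mem_orbit_self x

theorem notMem_O {a x : Ω} (h : x ≠ a) : a ∉ O G a x := fun h' => by
  obtain ⟨g, hg, hg'⟩ := mem_O.1 h'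
  exact h (smul_left_cancel g (hg'.trans hg.symm))

variable [Finite G] [Finite Ω]

/-- A set invariant under a stabilizer and under an element moving the base point is everything. -/
theorem eq_univ_of_inv [IsPretransitive G Ω] {a : Ω} (hco : IsCoatom (stabilizer G a)) {S : Set Ω}
    (hS : S.Nonempty) (h : stabilizer G a ≤ stabilizer G S) {g : G} (hg : g • S = S) (hga : g • a ≠ a) : a ∈ S := by
  have htop : stabilizer G S = ⊤ := hco.2 _ (lt_of_le_of_ne h fun e => hga (by
    have : g ∈ stabilizer G S := hg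
    rw [← e] at this; exact this))
  obtain ⟨s, hs⟩ := hS
  obtain ⟨k, rfl⟩ := exists_smul_eq G s a
  have : k ∈ stabilizer G S := htop ▸ Subgroup.mem_top k
  rw [← mem_stabilizer_iff.1 this]
  exact Set.smul_mem_smul_set hs

/-- Two different points have different stabilizers. -/
theorem stab_ne [IsPretransitive G Ω] [FaithfulSMul G Ω] {a : Ω} (hco : IsCoatom (stabilizer G a))
    (hne : stabilizer G a ≠ ⊥) {c : Ω} (hc : c ≠ a) : ¬ stabilizer G a ≤ stabilizer G c := by
  intro hle
  have heq : stabilizer G a = stabilizer G c := by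
    refine Subgroup.eq_of_le_of_card_ge hle ?_
    obtain ⟨g, rfl⟩ := exists_smul_eq G a c
    rw [stabilizer_smul_eq_stabilizer_map_conj, Subgroup.card_map_of_injective (MulAut.conj g).injective]
  obtain ⟨g, rfl⟩ := exists_smul_eq G a c
  have hN : g ∈ Subgroup.normalizer (stabilizer G a : Set G) := by
    rw [Subgroup.mem_normalizer_iff]
    intro k
    constructor
    · intro hk
      rw [heq, mem_stabilizer_iff, mul_smul, mul_smul, inv_smul_smul, mem_stabilizer_iff.1 hk]
    · intro hk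
      rw [heq, mem_stabilizer_iff, mul_smul, mul_smul, inv_smul_smul] at hk
      exact mem_stabilizer_iff.2 (smul_left_cancel g hk)
  have htop : Subgroup.normalizer (stabilizer G a : Set G) = ⊤ := hco.2 _ (lt_of_le_of_ne
    Subgroup.le_normalizer fun e => hc (by rw [← e] at hN; exact hN))
  haveI : (stabilizer G a).Normal := Subgroup.normalizer_eq_top_iff.1 htop
  refine hne ((Subgroup.eq_bot_iff_forall _).2 fun k hk => ?_)
  refine eq_of_smul_eq_smul (α := Ω) fun x => ?_
  obtain ⟨u, rfl⟩ := exists_smul_eq G a x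
  have h1 : u⁻¹ * k * u ∈ stabilizer G a := by
    simpa using (inferInstance : (stabilizer G a).Normal).conj_mem k hk u⁻¹
  rw [mem_stabilizer_iff, mul_smul, mul_smul] at h1
  rw [one_smul]
  exact inv_smul_eq_iff.1 h1

/-- A normal subgroup of a stabilizer which is primitive on a suborbit fixes it or is transitive on it. -/
theorem fix_or_transitive {a x : Ω} (hep : IsPreprimitive (stabilizer G a) (O G a x)) (K : Subgroup G)
    (hKn : (K.subgroupOf (stabilizer G a)).Normal) (hK : K ≤ stabilizer G a) :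
    (∀ k ∈ K, ∀ y ∈ O G a x, k • y = y) ∨ ∀ y ∈ O G a x, ∀ z ∈ O G a x, ∃ k ∈ K, k • y = z := by
  haveI := hep
  haveI := hKn
  by_cases hf : fixedPoints (K.subgroupOf (stabilizer G a)) (O G a x) = Set.univ
  · left
    intro k hk y hy
    have h1 : (⟨y, hy⟩ : O G a x) ∈ fixedPoints (K.subgroupOf (stabilizer G a)) (O G a x) :=
      hf ▸ Set.mem_univ _
    exact congrArg Subtype.val (h1 ⟨⟨k, hK hk⟩, hk⟩)
  · right
    intro y hy z hz
    have := IsQuasiPreprimitive.isPretransitive_of_normal (N := K.subgroupOf (stabilizer G a)) (X := O G a x) hf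
    obtain ⟨⟨⟨k, _⟩, hk⟩, hk'⟩ := exists_smul_eq (K.subgroupOf (stabilizer G a)) (⟨y, hy⟩ : O G a x) ⟨z, hz⟩
    exact ⟨k, hk, congrArg Subtype.val hk'⟩

/-- The pointwise fixer of a suborbit. -/
def T (G : Type*) [Group G] {Ω : Type*} [MulAction G Ω] (a x : Ω) : Subgroup G :=
  stabilizer G a ⊓ fixingSubgroup G (O G a x)

theorem mem_T {a x : Ω} {k : G} : k ∈ T G a x ↔ k • a = a ∧ ∀ y ∈ O G a x, k • y = y := by
  rw [T, Subgroup.mem_inf, mem_stabilizer_iff, mem_fixingSubgroup_iff]

theorem T_normal (a x : Ω) : ((T G a x).subgroupOf (stabilizer G a)).Normal := ⟨fun k hk g => by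
  rw [Subgroup.mem_subgroupOf, mem_T] at hk ⊢
  have hg : (g : G) • a = a := g.2
  refine ⟨((g * k * g⁻¹ : stabilizer G a)).2, fun y hy => ?_⟩
  show ((g : G) * k * (g : G)⁻¹) • y = y
  have hy' : (g : G)⁻¹ • y ∈ O G a x := by
    obtain ⟨u, hu, rfl⟩ := mem_O.1 hy
    exact mem_O.2 ⟨(g : G)⁻¹ * u, by rw [mul_smul, hu, inv_smul_eq_iff, hg], mul_smul _ _ _⟩
  rw [mul_smul, mul_smul, hk.2 _ hy', smul_inv_smul]⟩

/-- Manning's Theorem on extremely primitive groups. Let a finite group G act faithfully and primitively on a finite set Ω with non-trivial point stabilizers, and suppose every point stabilizer G_α acts primitively on each of its orbits. Then G_α acts faithfully on each of its orbits other than {α}: an element of G_α fixing every point of one such orbit is the identity. -/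
theorem result {G : Type*} [Group G] [Finite G] {Ω : Type*} [Fintype Ω] [MulAction G Ω] [FaithfulSMul G Ω] (hprim : MulAction.IsPreprimitive G Ω) (hH : ∀ α : Ω, MulAction.stabilizer G α ≠ ⊥) (hep : ∀ (α : Ω) (ω : Ω), MulAction.IsPreprimitive (MulAction.stabilizer G α) (MulAction.orbit (MulAction.stabilizer G α) ω))
    (α ω : Ω) (hω : ω ≠ α) (h : MulAction.stabilizer G α) (hfix : ∀ x ∈ MulAction.orbit (MulAction.stabilizer G α) ω, h • x = x) : h = 1 := by
  classical
  haveI := hprim
  haveI : Nontrivial Ω := ⟨⟨ω, α, hω⟩⟩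
  have hco : ∀ a : Ω, IsCoatom (stabilizer G a) := fun a => IsPreprimitive.isCoatom_stabilizer_of_isPreprimitive G a
  -- a largest suborbit at `α`
  obtain ⟨δ, hδ, hmax0⟩ : ∃ δ, δ ≠ α ∧ ∀ x, x ≠ α → (O G α x).ncard ≤ (O G α δ).ncard := by
    obtain ⟨δ, hδ, h'⟩ := Finset.exists_max_image (Finset.univ.filter fun x : Ω => x ≠ α) (fun x => (O G α x).ncard)
      ⟨ω, by simp [hω]⟩
    exact ⟨δ, (Finset.mem_filter.1 hδ).2, fun x hx => h' x (by simp [hx])⟩
  have hmax : ∀ a x : Ω, x ≠ a → (O G a x).ncard ≤ (O G α δ).ncard := by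
    intro a x hx
    obtain ⟨g, rfl⟩ := exists_smul_eq G α a
    have h1 : x = g • (g⁻¹ • x) := (smul_inv_smul g x).symm
    rw [h1, ← smul_O, Set.ncard_smul_set]
    exact hmax0 _ fun e => hx (by rw [h1, e])
  -- kernels of all suborbits fix the largest ones
  have step1 : ∀ a x y : Ω, x ≠ a → y ≠ a → (O G a y).ncard = (O G α δ).ncard → ∀ k ∈ T G a x, ∀ z ∈ O G a y, k • z = z := by
    intro a x y hx hy hm
    rcases fix_or_transitive (hep a y) (T G a x) (T_normal a x) inf_le_left with h' | h'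
    · exact h'
    exfalso
    by_cases hyx : y ∈ O G a x
    · -- fixed by definition
      apply stab_ne (hco a) (hH a) hy
      intro g hg
      obtain ⟨k, hk, hk'⟩ := h' y (self_mem_O a y) (g • y) (mem_O.2 ⟨g, hg, rfl⟩)
      rw [mem_stabilizer_iff, ← hk', (mem_T.1 hk).2 y hyx]
    have hyx' : y ≠ x := fun e => hyx (by rw [e]; exact self_mem_O a x)
    have hsub : O G a y ⊆ O G x y := fun z hz => by
      obtain ⟨k, hk, rfl⟩ := h' y (self_mem_O a y) z hz
      exact mem_O.2 ⟨k, (mem_T.1 hk).2 x (self_mem_O a x), rfl⟩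
    have heq : O G a y = O G x y := Set.eq_of_subset_of_ncard_le hsub (hm.symm ▸ hmax x y hyx') (Set.toFinite _)
    obtain ⟨g, hg, hga⟩ := SetLike.not_le_iff_exists.1 (stab_ne (hco x) (hH x) hx.symm)
    refine notMem_O (G := G) hy (eq_univ_of_inv (hco a) ⟨y, self_mem_O a y⟩ (fun k hk => ?_) (g := g) ?_ hga)
    · rw [mem_stabilizer_iff]; exact smul_orbit (⟨k, hk⟩ : stabilizer G a) y
    · rw [heq]; exact smul_orbit (⟨g, hg⟩ : stabilizer G x) y
  -- the kernel at `a` fixes the paired orbit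
  have step2 : ∀ a b : Ω, b ≠ a → (O G a b).ncard = (O G α δ).ncard → (O G b a).ncard = (O G α δ).ncard →
      T G a b ≤ T G b a := by
    intro a b hb hm hm' k hk
    refine mem_T.2 ⟨(mem_T.1 hk).2 b (self_mem_O a b), ?_⟩
    by_contra hcon
    push Not at hcon
    obtain ⟨c, hc, hck⟩ := hcon
    have hca : c ≠ a := fun e => hck (by rw [e]; exact (mem_T.1 hk).1)
    rcases fix_or_transitive (hep a c) (T G a b) (T_normal a b) inf_le_left with h' | h'
    · exact hck (h' k hk c (self_mem_O a c))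
    have hsub : O G a c ⊆ O G b a := fun z hz => by
      obtain ⟨u, hu, rfl⟩ := h' c (self_mem_O a c) z hz
      obtain ⟨v, hv, rfl⟩ := mem_O.1 hc
      exact mem_O.2 ⟨u * v, by rw [mul_smul, hv]; exact (mem_T.1 hu).2 b (self_mem_O a b), mul_smul _ _ _⟩
    obtain ⟨g, rfl⟩ := exists_smul_eq G a c
    have hout : O G a b ⊆ g • O G a b := by
      intro b' hb'
      obtain ⟨u, hu, rfl⟩ := mem_O.1 hb'
      have h1 : u⁻¹ • g • a ∈ O G b a := hsub (mem_O.2 ⟨u⁻¹, inv_smul_eq_iff.2 hu.symm, rfl⟩)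
      obtain ⟨v, hv, hv'⟩ := mem_O.1 h1
      rw [Set.mem_smul_set_iff_inv_smul_mem]
      refine mem_O.2 ⟨g⁻¹ * u * v, ?_, ?_⟩
      · rw [mul_smul, mul_smul, hv', smul_inv_smul, inv_smul_smul]
      · rw [mul_smul, mul_smul, hv]
    have heq : O G a b = g • O G a b := Set.eq_of_subset_of_ncard_le hout
      (by rw [Set.ncard_smul_set]) (Set.toFinite _)
    refine notMem_O (G := G) hb (eq_univ_of_inv (hco a) ⟨b, self_mem_O a b⟩ (fun u hu => ?_) heq.symm hca)
    rw [mem_stabilizer_iff]; exact smul_orbit (⟨u, hu⟩ : stabilizer G a) b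
  have hpair : (O G δ α).ncard = (O G α δ).ncard := by
    have key : ∀ a b : Ω, (O G a b).ncard * Nat.card ↥(stabilizer G a ⊓ stabilizer G b : Subgroup G) = Nat.card (stabilizer G a) := by
      intro a b
      have h1 := Subgroup.card_mul_index (stabilizer (stabilizer G a) b)
      rw [index_stabilizer] at h1
      rw [← h1, mul_comm]
      congr 1
      rw [inf_comm, ← Nat.card_congr (Subgroup.subgroupOfEquivOfLe (inf_le_right : stabilizer G b ⊓ stabilizer G a ≤ stabilizer G a)).toEquiv, Subgroup.inf_subgroupOf_right]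
      rfl
    have h1 := key δ α
    have h2 := key α δ
    rw [inf_comm] at h1
    have h3 : Nat.card (stabilizer G δ) = Nat.card (stabilizer G α) := by
      obtain ⟨g, rfl⟩ := exists_smul_eq G α δ
      rw [stabilizer_smul_eq_stabilizer_map_conj, Subgroup.card_map_of_injective (MulAut.conj g).injective]
    rw [h3, ← h2] at h1
    exact Nat.eq_of_mul_eq_mul_right Nat.card_pos h1
  have hTeq : T G α δ = T G δ α := le_antisymm (step2 α δ hδ rfl hpair) (step2 δ α hδ.symm hpair rfl)
  have hbot : T G α δ = ⊥ := by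
    have hn : ∀ a b : Ω, stabilizer G a ≤ Subgroup.normalizer (T G a b : Set G) := fun a b =>
      (Subgroup.normal_subgroupOf_iff_le_normalizer inf_le_left).1 (T_normal a b)
    have htop : Subgroup.normalizer (T G α δ : Set G) = ⊤ := by
      refine (hco α).2 _ (lt_of_le_of_ne (hn α δ) fun e => stab_ne (hco δ) (hH δ) hδ.symm ?_)
      rw [e, hTeq]; exact hn δ α
    haveI : (T G α δ).Normal := Subgroup.normalizer_eq_top_iff.1 htop
    refine (Subgroup.eq_bot_iff_forall _).2 fun k hk => eq_of_smul_eq_smul (α := Ω) fun x => ?_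
    obtain ⟨u, rfl⟩ := exists_smul_eq G α x
    have h1 := (mem_T.1 ((inferInstance : (T G α δ).Normal).conj_mem k hk u⁻¹)).1
    rw [inv_inv, mul_smul, mul_smul] at h1
    rw [one_smul]
    exact inv_smul_eq_iff.1 h1
  have hh : (h : G) ∈ T G α δ := mem_T.2 ⟨h.2, step1 α ω δ hω hδ rfl h (mem_T.2 ⟨h.2, hfix⟩)⟩
  rw [hbot, Subgroup.mem_bot] at hh
  exact Subtype.ext hh

end Cfsg.Agent.S3494
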