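import Cfsg.Statements.S3497
import Cfsg.Agent.S3494
import Cfsg.Agent.Lib.Hall.Basic
import Mathlib

set_option autoImplicit false
set_option linter.style.haveILetI false
open Cfsg

namespace Cfsg.Agent.S3497

open MulAction Subgroup

section Faithful

variable {H : Type*} [Group H] {Δ : Type*} [MulAction H Δ] [FaithfulSMul H Δ] [IsPreprimitive H Δ]

/-- A nontrivial abelian normal subgroup of a primitive group is transitive, semiregular and self-centralizing. -/
theorem abelian_normal (N : Subgroup H) [N.Normal] (hab : ∀ x ∈ N, ∀ y ∈ N, Commute x y) (hN : N ≠ ⊥) :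
    IsPretransitive N Δ ∧ (∀ c : H, (∀ n ∈ N, Commute c n) → c ∈ N) ∧ ∀ n ∈ N, ∀ x : Δ, n • x = x → n = 1 := by
  have htr : IsPretransitive N Δ := IsQuasiPreprimitive.isPretransitive_of_normal fun e => hN <| by
    refine (Subgroup.eq_bot_iff_forall _).2 fun n hn => eq_of_smul_eq_smul (α := Δ) fun x => ?_
    rw [one_smul]
    exact (e.symm ▸ Set.mem_univ x : x ∈ fixedPoints N Δ) ⟨n, hn⟩
  have key : ∀ c : H, (∀ n ∈ N, Commute c n) → ∀ x : Δ, c • x = x → c = 1 := by
    intro c hc x hx
    refine eq_of_smul_eq_smul (α := Δ) fun y => ?_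
    obtain ⟨⟨n, hn⟩, rfl⟩ := exists_smul_eq N x y
    rw [one_smul]
    show c • n • x = n • x
    rw [← mul_smul, (hc n hn).eq, mul_smul, hx]
  refine ⟨htr, fun c hc => ?_, fun n hn => key n (hab n hn)⟩
  rcases isEmpty_or_nonempty Δ with h | ⟨⟨x⟩⟩
  · rw [show c = 1 from eq_of_smul_eq_smul (α := Δ) fun y => isEmptyElim y]; exact one_mem _
  obtain ⟨⟨n, hn⟩, hnx⟩ := exists_smul_eq N x (c • x)
  have h1 : n⁻¹ * c = 1 := key _ (fun m hm => ((hab n hn m hm).inv_left.mul_left (hc m hm))) x
    (by rw [mul_smul, inv_smul_eq_iff]; exact hnx.symm)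
  rwa [← inv_mul_eq_one.1 h1]

theorem card_eq (N : Subgroup H) [N.Normal] (hab : ∀ x ∈ N, ∀ y ∈ N, Commute x y) (hN : N ≠ ⊥) (x : Δ) :
    Nat.card N = Nat.card Δ := by
  obtain ⟨htr, -, hsr⟩ := abelian_normal (Δ := Δ) N hab hN
  refine Nat.card_eq_of_bijective (fun n : N => n • x) ⟨fun a b e => ?_, exists_smul_eq N x⟩
  have e' : (a : H) • x = (b : H) • x := e
  exact Subtype.ext (inv_mul_eq_one.1 (hsr _ (mul_mem (inv_mem b.2) a.2) x (by rw [mul_smul, inv_smul_eq_iff, e']))).symm

end Faithful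

/-- Automorphisms of an elementary abelian group are matrices. -/
theorem exists_linear {H Q : Type*} [Group H] [CommGroup Q] [Finite Q] {p e : ℕ} [Fact p.Prime]
    (hexp : ∀ a : Q, a ^ p = 1) (he : Nat.card Q = p ^ e) (f : H →* MulAut Q) :
    ∃ φ : H →* GL (Fin e) (ZMod p), φ.ker = f.ker := by
  haveI : Module (ZMod p) (Additive Q) := AddCommGroup.zmodModule fun x => by
    exact congrArg Additive.ofMul (hexp (Additive.toMul x))
  have hdim : Module.finrank (ZMod p) (Additive Q) = e := by
    have h1 := Module.natCard_eq_pow_finrank (K := ZMod p) (V := Additive Q)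
    rw [show Nat.card (Additive Q) = p ^ e from he, Nat.card_zmod] at h1
    exact (Nat.pow_right_injective (Fact.out : p.Prime).two_le h1).symm
  haveI : Module.Finite (ZMod p) (Additive Q) := Module.Finite.of_finite
  let b : Module.Basis (Fin e) (ZMod p) (Additive Q) := Module.finBasisOfFinrankEq (ZMod p) (Additive Q) hdim
  let L : H → (Additive Q →ₗ[ZMod p] Additive Q) := fun h =>
    (MonoidHom.toAdditive (f h).toMonoidHom).toZModLinearMap p
  have hL : ∀ (h : H) (x : Additive Q), L h x = Additive.ofMul (f h (Additive.toMul x)) := fun h x => rfl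
  let ψ : H →* Module.End (ZMod p) (Additive Q) :=
    { toFun := L
      map_one' := LinearMap.ext fun x => by rw [hL, map_one]; rfl
      map_mul' := fun g h => LinearMap.ext fun x => by rw [hL, map_mul]; rfl }
  refine ⟨((LinearMap.toMatrixAlgEquiv b).toAlgHom.toRingHom.toMonoidHom.comp ψ).toHomUnits, ?_⟩
  ext h
  rw [MonoidHom.mem_ker, MonoidHom.mem_ker]
  constructor
  · intro hh
    have h1 : (LinearMap.toMatrixAlgEquiv b) (ψ h) = 1 := congrArg Units.val hh
    rw [← map_one (LinearMap.toMatrixAlgEquiv b)] at h1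
    exact MulEquiv.ext fun a => Additive.ofMul.injective
      (LinearMap.congr_fun ((LinearMap.toMatrixAlgEquiv b).injective h1) (Additive.ofMul a))
  · intro hh
    refine Units.ext ?_
    show (LinearMap.toMatrixAlgEquiv b) (ψ h) = 1
    rw [← map_one (LinearMap.toMatrixAlgEquiv b)]
    congr 1
    exact LinearMap.ext fun x => by show L h x = x; rw [hL, hh]; rfl

/-- Restrictions on the point stabilizer of an extremely primitive group. Let a finite group G act faithfully and primitively on a finite set Ω with point stabilizers H = G_α whose order is neither 1 nor a prime, each acting primitively on every one of its orbits. Then H has trivial center, the Fitting subgroup F(H) is an elementary abelian p-group for some prime p, and if F(H) ≠ 1 has order p ^ e then p ^ e divides the number of points minus one and H / F(H) embeds in GL_e(p) (there is a homomorphism from H to GL_e(p) with kernel exactly F(H)). -/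
theorem result {G : Type*} [Group G] [Finite G] {Ω : Type*} [Fintype Ω] [MulAction G Ω] [FaithfulSMul G Ω] (hprim : MulAction.IsPreprimitive G Ω) (hep : ∀ (α : Ω) (ω : Ω), MulAction.IsPreprimitive (MulAction.stabilizer G α) (MulAction.orbit (MulAction.stabilizer G α) ω)) (α : Ω)
    (hH1 : MulAction.stabilizer G α ≠ ⊥) (hHp : ¬ (Nat.card (MulAction.stabilizer G α)).Prime) :
    Subgroup.center (MulAction.stabilizer G α) = ⊥ ∧
    IsMulCommutative (Cfsg.fittingSubgroup (MulAction.stabilizer G α)) ∧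
    ∃ p e : ℕ, p.Prime ∧ Nat.card (Cfsg.fittingSubgroup (MulAction.stabilizer G α)) = p ^ e ∧
      (∀ x ∈ Cfsg.fittingSubgroup (MulAction.stabilizer G α), x ^ p = 1) ∧
      (Cfsg.fittingSubgroup (MulAction.stabilizer G α) ≠ ⊥ →
        p ^ e ∣ Fintype.card Ω - 1 ∧
        ∃ φ : MulAction.stabilizer G α →* GL (Fin e) (ZMod p), φ.ker = Cfsg.fittingSubgroup (MulAction.stabilizer G α)) := by
  classical
  haveI := hprim
  have hH : ∀ a : Ω, stabilizer G a ≠ ⊥ := fun a => by
    obtain ⟨g, rfl⟩ := exists_smul_eq G α a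
    rw [stabilizer_smul_eq_stabilizer_map_conj, Ne, map_eq_bot_iff_of_injective _ (MulAut.conj g).injective]
    exact hH1
  set H := stabilizer G α
  -- every suborbit is a faithful primitive action
  have hfaith : ∀ ω : Ω, ω ≠ α → FaithfulSMul H (orbit H ω) := fun ω hω => ⟨fun {a b} hab => by
    refine (inv_mul_eq_one.1 (Cfsg.Agent.S3494.result hprim hH hep α ω hω (b⁻¹ * a) fun x hx => ?_)).symm
    have := congrArg Subtype.val (hab ⟨x, hx⟩)
    simp only [orbit.coe_smul] at this
    rw [mul_smul, inv_smul_eq_iff, this]⟩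
  obtain ⟨ω, hω⟩ : ∃ ω, ω ≠ α := by
    by_contra h; push Not at h
    refine hH1 ((Subgroup.eq_bot_iff_forall _).2 fun g _ => eq_of_smul_eq_smul (α := Ω) fun x => ?_)
    rw [h (g • x), h ((1 : G) • x)]
  haveI := hfaith ω hω
  haveI := hep α ω
  let x0 : orbit H ω := ⟨ω, mem_orbit_self ω⟩
  have hcent : Subgroup.center H = ⊥ := by
    by_contra hz
    obtain ⟨-, hC, -⟩ := abelian_normal (Δ := orbit H ω) (Subgroup.center H)
      (fun x hx y _ => (mem_center_iff.1 hx y).symm) hz
    have htop : Subgroup.center H = ⊤ := eq_top_iff.2 fun c _ => hC c fun n hn => mem_center_iff.1 hn c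
    have hall : ∀ a b : H, Commute a b := fun a b => mem_center_iff.1 (htop ▸ mem_top b : b ∈ Subgroup.center H) a
    haveI : Nontrivial H := (Subgroup.nontrivial_iff_ne_bot _).2 hH1
    obtain ⟨r, hr, hrd⟩ := Nat.exists_prime_and_dvd (Finite.one_lt_card (α := H)).ne'
    haveI := Fact.mk hr
    obtain ⟨z, hzr⟩ := exists_prime_orderOf_dvd_card' r hrd
    haveI : (zpowers z).Normal := ⟨fun n hn g => by rw [(hall g n).eq, mul_inv_cancel_right]; exact hn⟩
    have hne : zpowers z ≠ ⊥ := by rw [Ne, zpowers_eq_bot]; intro e; rw [e, orderOf_one] at hzr; exact hr.one_lt.ne hzr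
    obtain ⟨-, hC', -⟩ := abelian_normal (Δ := orbit H ω) (zpowers z) (fun a _ b _ => hall a b) hne
    have : zpowers z = ⊤ := eq_top_iff.2 fun c _ => hC' c fun n _ => hall c n
    exact hHp (by rw [← card_top (G := H), ← this, Nat.card_zpowers, hzr]; exact hr)
  refine ⟨hcent, ?_⟩
  set F := Cfsg.fittingSubgroup H
  haveI : F.Normal := Lib.Hall.fittingSubgroup_normal
  by_cases hF : F = ⊥
  · refine ⟨hF ▸ inferInstance, 2, 0, Nat.prime_two, by rw [hF]; simp, fun x hx => ?_, fun h => absurd hF h⟩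
    rw [hF, mem_bot] at hx; simp [hx]
  haveI : Group.IsNilpotent F := Lib.Hall.fittingSubgroup_isNilpotent
  haveI : Nontrivial F := (Subgroup.nontrivial_iff_ne_bot _).2 hF
  have hab : ∀ x ∈ F, ∀ y ∈ F, Commute x y := by
    have hne : (Subgroup.center F).map F.subtype ≠ ⊥ := by
      rw [Ne, map_eq_bot_iff_of_injective _ F.subtype_injective]
      exact Group.IsNilpotent.center_ne_bot _
    haveI : ((Subgroup.center F).map F.subtype).Normal := ConjAct.normal_of_characteristic_of_normal
    obtain ⟨-, hC, -⟩ := abelian_normal (Δ := orbit H ω) ((Subgroup.center F).map F.subtype) (by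
      rintro _ ⟨u, hu, rfl⟩ _ ⟨v, -, rfl⟩
      exact congrArg Subtype.val (mem_center_iff.1 hu v).symm) hne
    intro x hx y hy
    obtain ⟨u, hu, rfl⟩ := hC x (fun n hn => by
      obtain ⟨v, hv, rfl⟩ := hn
      exact congrArg Subtype.val (mem_center_iff.1 hv ⟨x, hx⟩))
    exact (congrArg Subtype.val (mem_center_iff.1 hu ⟨y, hy⟩)).symm
  obtain ⟨-, hCF, hsrF⟩ := abelian_normal (Δ := orbit H ω) F hab hF
  refine ⟨⟨⟨fun a b => Subtype.ext (hab a a.2 b b.2)⟩⟩, ?_⟩
  obtain ⟨p, hp, hpd⟩ := Nat.exists_prime_and_dvd (Finite.one_lt_card (α := F)).ne'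
  haveI := Fact.mk hp
  -- elementary
  let E : Subgroup H :=
    { carrier := {x | x ∈ F ∧ x ^ p = 1}
      mul_mem' := fun {a b} ha hb => ⟨mul_mem ha.1 hb.1, by rw [(hab a ha.1 b hb.1).mul_pow, ha.2, hb.2, one_mul]⟩
      one_mem' := ⟨one_mem _, one_pow p⟩
      inv_mem' := fun {a} ha => ⟨inv_mem ha.1, by rw [inv_pow, ha.2, inv_one]⟩ }
  haveI : E.Normal := ⟨fun n hn g => ⟨(inferInstance : F.Normal).conj_mem n hn.1 g, by rw [← MulAut.conj_apply, ← map_pow, hn.2, map_one]⟩⟩
  have hE : E ≠ ⊥ := fun e => by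
    obtain ⟨z, hz⟩ := exists_prime_orderOf_dvd_card' (G := F) p hpd
    have h1 : (z : H) ∈ E := ⟨z.2, by rw [← hz, ← Subgroup.orderOf_coe, pow_orderOf_eq_one]⟩
    rw [e, mem_bot] at h1
    rw [← Subgroup.orderOf_coe, h1, orderOf_one] at hz
    exact hp.one_lt.ne hz
  have hEF : E = F := Subgroup.eq_of_le_of_card_ge (fun x hx => hx.1) (by
    rw [card_eq (Δ := orbit H ω) F hab hF x0, card_eq (Δ := orbit H ω) E (fun a ha b hb => hab a ha.1 b hb.1) hE x0])
  have hexp : ∀ x ∈ F, x ^ p = 1 := fun x hx => (hEF.symm ▸ hx : x ∈ E).2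
  have hFp : IsPGroup p F := fun x => ⟨1, Subtype.ext (by rw [pow_one]; exact hexp x x.2)⟩
  obtain ⟨e, he⟩ := IsPGroup.iff_card.1 hFp
  refine ⟨p, e, hp, he, hexp, fun _ => ⟨?_, ?_⟩⟩
  · have hS : ∀ y : SubMulAction.ofStabilizer G α, Nat.card (orbit H y) = p ^ e := by
      intro y
      have hy : (y : Ω) ≠ α := (SubMulAction.mem_ofStabilizer_iff G α).1 y.2
      haveI := hfaith _ hy
      haveI := hep α (y : Ω)
      rw [← he, card_eq (Δ := orbit H (y : Ω)) F hab hF ⟨_, mem_orbit_self _⟩, Nat.card_coe_set_eq, Nat.card_coe_set_eq,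
        ← SubMulAction.val_image_orbit, Set.ncard_image_of_injective _ Subtype.val_injective]
    have h1 : Nat.card (SubMulAction.ofStabilizer G α) = Fintype.card Ω - 1 := by
      show Nat.card ↥({α}ᶜ : Set Ω) = _
      rw [Nat.card_coe_set_eq, Set.ncard_compl, Set.ncard_singleton, Nat.card_eq_fintype_card]
    rw [← h1, Nat.card_congr (MulAction.selfEquivSigmaOrbits H (SubMulAction.ofStabilizer G α)), Nat.card_sigma]
    exact Finset.dvd_sum fun q _ => dvd_of_eq (hS _).symm
  · letI : CommGroup F := { (inferInstance : Group F) with mul_comm := fun a b => Subtype.ext (hab a a.2 b b.2) }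
    obtain ⟨φ, hφ⟩ := exists_linear (Q := F) (fun a => Subtype.ext (hexp a a.2)) he (MulAut.conjNormal : H →* MulAut F)
    refine ⟨φ, hφ.trans ?_⟩
    ext h
    rw [MonoidHom.mem_ker]
    constructor
    · intro hh
      refine hCF h fun n hn => ?_
      have h3 : h * n * h⁻¹ = n := by
        rw [← MulAut.conjNormal_apply h (⟨n, hn⟩ : F), hh]; rfl
      exact mul_inv_eq_iff_eq_mul.1 h3
    · intro hh
      refine MulEquiv.ext fun x => Subtype.ext ?_
      rw [MulAut.conjNormal_apply, (hab h hh x x.2).eq, mul_inv_cancel_right]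
      rfl

end Cfsg.Agent.S3497
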