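import Cfsg.Statements.S3496
import Cfsg.Agent.S3494
import Cfsg.Agent.S3497
import Cfsg.Agent.Lib.Hall.Solvable
import Cfsg.Agent.Lib.Components.Signalizer
import Mathlib

set_option autoImplicit false
set_option linter.style.haveILetI false
open Cfsg

namespace Cfsg.Agent.S3496

open MulAction Subgroup

/-- An automorphism of prime order `q` without fixed points gives `q ∣ |W| - 1` on each invariant subgroup. -/
theorem dvd_card_sub_one {Q : Type*} [Group Q] [Finite Q] {q : ℕ} [Fact q.Prime] (x : MulAut Q) (hx : x ^ q = 1)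
    (hfix : ∀ w : Q, x w = w → w = 1) (W : Subgroup Q) (hW : ∀ w ∈ W, x w ∈ W) : q ∣ Nat.card W - 1 := by
  classical
  haveI := Fintype.ofFinite W
  let f : Function.End W := fun w => ⟨x w, hW w w.2⟩
  have hpow : ∀ (k : ℕ) (w : W), (((f ^ k : Function.End W) w : W) : Q) = (x ^ k) (w : Q) := by
    intro k
    induction k with
    | zero => intro w; rfl
    | succ k ih =>
      intro w
      rw [pow_succ', pow_succ']
      show x (((f ^ k : Function.End W) w : W) : Q) = x ((x ^ k) (w : Q))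
      rw [ih]
  have hf : f ^ (q ^ 1) = 1 := by
    funext w
    apply Subtype.ext
    rw [hpow, pow_one, hx]
    rfl
  have h1 := Equiv.Perm.card_fixedPoints_modEq hf
  have h2 : Fintype.card (Function.fixedPoints f) = 1 := by
    rw [Fintype.card_eq_one_iff]
    exact ⟨⟨1, Subtype.ext (map_one x)⟩, fun ⟨w, hw⟩ => Subtype.ext (Subtype.ext
      (hfix w (congrArg Subtype.val hw)))⟩
  rw [h2] at h1
  rw [Nat.card_eq_fintype_card]
  exact (Nat.modEq_iff_dvd' Fintype.card_pos).1 h1.symm

/-- An irreducible automorphism of prime order generates a field; its normalizer acts by field automorphisms. -/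
theorem field_part {Q : Type*} [CommGroup Q] [Finite Q] {p d q : ℕ} [Fact p.Prime] (hq : q.Prime)
    (hexp : ∀ a : Q, a ^ p = 1) (hcard : Nat.card Q = p ^ d) (hd : d ≠ 0) (x : MulAut Q) (hxq : orderOf x = q)
    (hirr : ∀ W : Subgroup Q, (∀ w ∈ W, x w ∈ W) → W = ⊥ ∨ W = ⊤)
    {C : Type*} [Group C] [Finite C] (f : C →* MulAut Q) (hf : ∀ c, ∃ k : ℕ, f c * x = x ^ k * f c)
    (hinj : ∀ c, f c * x = x * f c → c = 1) :
    (∀ i, 0 < i → i < d → ¬ q ∣ p ^ i - 1) ∧ Nat.card C ∣ d := by
  classical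
  have hp : p.Prime := Fact.out
  let toE : MulAut Q →* AddMonoid.End (Additive Q) :=
    { toFun := fun g => MonoidHom.toAdditive g.toMonoidHom
      map_one' := rfl
      map_mul' := fun _ _ => rfl }
  have toE_inj : Function.Injective toE := fun g g' e => MulEquiv.ext fun a =>
    Additive.ofMul.injective (DFunLike.congr_fun e (Additive.ofMul a))
  haveI : Finite (AddMonoid.End (Additive Q)) := Finite.of_injective (fun g a => g a) DFunLike.coe_injective
  set X := toE x with hX
  let S : Subring (AddMonoid.End (Additive Q)) := Subring.closure {X}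
  have hXS : X ∈ S := Subring.subset_closure rfl
  have hScomm : ∀ a ∈ S, ∀ b ∈ S, a * b = b * a := fun a ha b hb => by
    have h1 : S ≤ Subring.centralizer {X} := Subring.closure_le.2 (by
      rintro _ rfl; rw [SetLike.mem_coe, Subring.mem_centralizer_iff]; rintro _ rfl; rfl)
    have h2 : S ≤ Subring.centralizer (S : Set (AddMonoid.End (Additive Q))) := Subring.closure_le.2 (by
      rintro _ rfl; rw [SetLike.mem_coe, Subring.mem_centralizer_iff]
      exact fun g hg => (Subring.mem_centralizer_iff.1 (h1 hg) X rfl).symm)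
    exact Subring.mem_centralizer_iff.1 (h2 hb) a ha
  obtain ⟨v₀, hv₀⟩ : ∃ v : Additive Q, v ≠ 0 := by
    haveI : Nontrivial Q := Finite.one_lt_card_iff_nontrivial.1 (hcard ▸ Nat.one_lt_pow hd hp.one_lt)
    exact exists_ne 0
  have horbit : ∀ v : Additive Q, v ≠ 0 → ∀ u : Additive Q, ∃ a ∈ S, a v = u := by
    intro v hv u
    let W : Subgroup Q :=
      { carrier := {w | ∃ a ∈ S, a v = Additive.ofMul w}
        one_mem' := ⟨0, zero_mem S, rfl⟩
        mul_mem' := fun {w w'} ⟨a, ha, e⟩ ⟨b, hb, e'⟩ => ⟨a + b, add_mem ha hb, by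
          show a v + b v = _; rw [e, e']; rfl⟩
        inv_mem' := fun {w} ⟨a, ha, e⟩ => ⟨-a, neg_mem ha, by show -(a v) = _; rw [e]; rfl⟩ }
    rcases hirr W (fun w ⟨a, ha, e⟩ => ⟨X * a, mul_mem hXS ha, by show X (a v) = _; rw [e]; rfl⟩) with h | h
    · exfalso
      have h1 : Additive.toMul v ∈ W := ⟨1, one_mem S, rfl⟩
      rw [h, mem_bot] at h1
      exact hv (Additive.toMul.injective h1)
    · exact (h ▸ mem_top _ : Additive.toMul u ∈ W)
  letI : CommRing S := { (inferInstance : Ring S) with mul_comm := fun a b => Subtype.ext (hScomm a a.2 b b.2) }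
  have hker : ∀ a : S, ∀ v : Additive Q, v ≠ 0 → (a : AddMonoid.End (Additive Q)) v = 0 → a = 0 := by
    intro a v hv hav
    refine Subtype.ext (AddMonoidHom.ext fun u => ?_)
    obtain ⟨b, hb, rfl⟩ := horbit v hv u
    show ((a : AddMonoid.End (Additive Q)) * b) v = 0
    rw [hScomm a a.2 b hb]
    show b ((a : AddMonoid.End (Additive Q)) v) = 0
    rw [hav, map_zero]
  haveI : Nontrivial S := ⟨⟨1, 0, fun e => hv₀ (DFunLike.congr_fun (congrArg Subtype.val e) v₀)⟩⟩
  haveI : NoZeroDivisors S := ⟨fun {a b} hab => by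
    by_cases hb : (b : AddMonoid.End (Additive Q)) v₀ = 0
    · exact Or.inr (hker b v₀ hv₀ hb)
    · exact Or.inl (hker a _ hb (DFunLike.congr_fun (congrArg Subtype.val hab) v₀))⟩
  haveI : IsDomain S := NoZeroDivisors.to_isDomain S
  haveI : Fintype S := Fintype.ofFinite S
  have hbij : Function.Bijective fun a : S => (a : AddMonoid.End (Additive Q)) v₀ := by
    refine ⟨fun a b e => sub_eq_zero.1 (hker _ v₀ hv₀ ?_), fun u => ?_⟩
    · show (a : AddMonoid.End (Additive Q)) v₀ - (b : AddMonoid.End (Additive Q)) v₀ = 0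
      exact sub_eq_zero.2 e
    · obtain ⟨a, ha, e⟩ := horbit v₀ hv₀ u
      exact ⟨⟨a, ha⟩, e⟩
  have hSc : Fintype.card S = p ^ d := by
    rw [← Nat.card_eq_fintype_card, Nat.card_eq_of_bijective _ hbij]; exact hcard
  letI : Field S := Fintype.fieldOfDomain S
  haveI : CharP S p := by
    refine (CharP.charP_iff_prime_eq_zero hp).2 (hker _ v₀ hv₀ ?_)
    have h1 : ∀ k : ℕ, ((k : S) : AddMonoid.End (Additive Q)) v₀ = k • v₀ := by
      intro k
      induction k with
      | zero => simp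
      | succ k ih => rw [Nat.cast_succ, succ_nsmul]; show ((k : S) : AddMonoid.End (Additive Q)) v₀ + v₀ = _; rw [ih]
    rw [h1]
    exact congrArg Additive.ofMul (hexp (Additive.toMul v₀))
  refine ⟨fun i hi hid hdvd => ?_, ?_⟩
  · have hXi : (⟨X, hXS⟩ : S) ^ (p ^ i) = ⟨X, hXS⟩ := by
      apply Subtype.ext
      show X ^ (p ^ i) = X
      rw [hX, ← map_pow]
      congr 1
      obtain ⟨t, ht⟩ := hdvd
      have : p ^ i = q * t + 1 := by have := Nat.one_le_pow i p hp.pos; omega
      rw [this, pow_succ, pow_mul, ← hxq, pow_orderOf_eq_one, one_pow, one_mul]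
    let T : Subring S := RingHom.eqLocus (iterateFrobenius S p i) (RingHom.id S)
    have hall : ∀ a : S, a ^ (p ^ i) = a := by
      intro a
      have hle : S ≤ T.map S.subtype := Subring.closure_le.2 (by
        rintro _ rfl
        exact ⟨⟨X, hXS⟩, by show iterateFrobenius S p i _ = _; rw [iterateFrobenius_def]; exact hXi, rfl⟩)
      obtain ⟨b, hb, hba⟩ := hle a.2
      have hb' : iterateFrobenius S p i b = b := hb
      rw [iterateFrobenius_def] at hb'
      rwa [show a = b from (Subtype.ext hba).symm]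
    obtain ⟨g, hg⟩ := IsCyclic.exists_generator (α := Sˣ)
    have h1 : g ^ (p ^ i - 1) = 1 := by
      have h2 : g ^ (p ^ i) = g := Units.ext (by rw [Units.val_pow_eq_pow_val]; exact hall g)
      rw [← mul_left_inj g, ← pow_succ, Nat.sub_add_cancel (Nat.one_le_pow i p hp.pos), h2, one_mul]
    have h3 := orderOf_le_of_pow_eq_one (by have := Nat.one_lt_pow hi.ne' hp.one_lt; omega) h1
    rw [orderOf_eq_card_of_forall_mem_zpowers hg, Nat.card_eq_fintype_card, Fintype.card_units, hSc] at h3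
    have h4 := Nat.pow_lt_pow_right hp.one_lt hid
    have := Nat.one_le_pow i p hp.pos
    omega
  · letI : Algebra (ZMod p) S := ZMod.algebra S p
    have hconj : ∀ (c : C), ∀ a ∈ S, toE (f c) * a * toE (f c)⁻¹ ∈ S := by
      intro c a ha
      let φ : AddMonoid.End (Additive Q) →+* AddMonoid.End (Additive Q) :=
        { toFun := fun a => toE (f c) * a * toE (f c)⁻¹
          map_one' := by rw [mul_one, ← map_mul, mul_inv_cancel, map_one]
          map_mul' := fun a b => by
            have e : toE (f c)⁻¹ * toE (f c) = 1 := by rw [← map_mul, inv_mul_cancel, map_one]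
            calc toE (f c) * (a * b) * toE (f c)⁻¹ = toE (f c) * a * (toE (f c)⁻¹ * toE (f c)) * b * toE (f c)⁻¹ := by
                  rw [e]; simp [mul_assoc]
              _ = _ := by simp [mul_assoc]
          map_zero' := by rw [mul_zero, zero_mul]
          map_add' := fun a b => by rw [mul_add, add_mul] }
      have : S ≤ S.comap φ := Subring.closure_le.2 (by
        rintro _ rfl
        obtain ⟨k, hk⟩ := hf c
        show toE (f c) * toE x * toE (f c)⁻¹ ∈ S
        rw [← map_mul, ← map_mul, hk, mul_inv_cancel_right, map_pow]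
        exact pow_mem hXS k)
      exact this ha
    let σ : C → (S ≃ₐ[ZMod p] S) := fun c =>
      AlgEquiv.ofRingEquiv (f := ({
        toFun := fun a => ⟨toE (f c) * a * toE (f c)⁻¹, hconj c a a.2⟩
        invFun := fun a => ⟨toE (f c⁻¹) * a * toE (f c⁻¹)⁻¹, hconj c⁻¹ a a.2⟩
        left_inv := fun a => by
          apply Subtype.ext
          show toE (f c⁻¹) * (toE (f c) * (a : AddMonoid.End (Additive Q)) * toE (f c)⁻¹) * toE (f c⁻¹)⁻¹ = a
          rw [map_inv f, inv_inv, ← mul_assoc, ← mul_assoc, ← map_mul, inv_mul_cancel, map_one, one_mul, mul_assoc,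
            ← map_mul, inv_mul_cancel, map_one, mul_one]
        right_inv := fun a => by
          apply Subtype.ext
          show toE (f c) * (toE (f c⁻¹) * (a : AddMonoid.End (Additive Q)) * toE (f c⁻¹)⁻¹) * toE (f c)⁻¹ = a
          rw [map_inv f, inv_inv, ← mul_assoc, ← mul_assoc, ← map_mul, mul_inv_cancel, map_one, one_mul, mul_assoc,
            ← map_mul, mul_inv_cancel, map_one, mul_one]
        map_mul' := fun a b => by
          apply Subtype.ext
          have e : toE (f c)⁻¹ * toE (f c) = 1 := by rw [← map_mul, inv_mul_cancel, map_one]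
          show toE (f c) * ((a : AddMonoid.End (Additive Q)) * b) * toE (f c)⁻¹ =
            (toE (f c) * a * toE (f c)⁻¹) * (toE (f c) * b * toE (f c)⁻¹)
          calc toE (f c) * ((a : AddMonoid.End (Additive Q)) * b) * toE (f c)⁻¹
              = toE (f c) * a * (toE (f c)⁻¹ * toE (f c)) * b * toE (f c)⁻¹ := by rw [e]; simp [mul_assoc]
            _ = _ := by simp [mul_assoc]
        map_add' := fun a b => by
          apply Subtype.ext
          show toE (f c) * ((a : AddMonoid.End (Additive Q)) + b) * toE (f c)⁻¹ = _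
          rw [mul_add, add_mul]; rfl } : S ≃+* S))
        (fun r => by
          obtain ⟨k, rfl⟩ := ZMod.natCast_zmod_surjective r
          rw [map_natCast, map_natCast])
    let σh : C →* (S ≃ₐ[ZMod p] S) := MonoidHom.mk' σ fun c c' => AlgEquiv.ext fun a => Subtype.ext (by
      show toE (f (c * c')) * (a : AddMonoid.End (Additive Q)) * toE (f (c * c'))⁻¹ =
        toE (f c) * (toE (f c') * a * toE (f c')⁻¹) * toE (f c)⁻¹
      rw [map_mul f, mul_inv_rev, map_mul, map_mul]
      simp [mul_assoc])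
    have hσinj : Function.Injective σh := (injective_iff_map_eq_one σh).2 fun c hc => hinj c (by
      have h1 : toE (f c) * X * toE (f c)⁻¹ = X :=
        congrArg Subtype.val (AlgEquiv.congr_fun hc (⟨X, hXS⟩ : S))
      apply toE_inj
      rw [map_mul, map_mul]
      have e : toE (f c)⁻¹ * toE (f c) = 1 := by rw [← map_mul, inv_mul_cancel, map_one]
      calc toE (f c) * toE x = toE (f c) * toE x * (toE (f c)⁻¹ * toE (f c)) := by rw [e, mul_one]
        _ = toE (f c) * X * toE (f c)⁻¹ * toE (f c) := by simp [X, mul_assoc]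
        _ = _ := by rw [h1])
    have h1 := Subgroup.card_dvd_of_injective σh hσinj
    have h2 : Module.finrank (ZMod p) S = d := by
      have h3 := Module.natCard_eq_pow_finrank (K := ZMod p) (V := S)
      rw [Nat.card_zmod, Nat.card_eq_fintype_card, hSc] at h3
      exact (Nat.pow_right_injective hp.two_le h3).symm
    rwa [IsGalois.card_aut_eq_finrank, h2] at h1

/-- The soluble extremely primitive groups. Let a finite solvable group G act faithfully and primitively on a finite set Ω with p ^ d points (p prime), with non-trivial point stabilizers each acting primitively on every one of its orbits. Then there is a prime q such that every orbit of a point stabilizer G_α other than {α} has exactly q points, q divides p ^ d − 1 but no p ^ i − 1 with 0 < i < d, and G_α has a normal subgroup T of order q with G_α generated by T and one further element and the order of G_α dividing q·d (so G_α is cyclic of order q, or an extension of T by a cyclic group of order dividing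 d). -/
theorem result {G : Type*} [Group G] [Finite G] {Ω : Type*} [Fintype Ω] [MulAction G Ω] [FaithfulSMul G Ω] [Group.IsSolvable G] (p d : ℕ) (hp : p.Prime) (hcard : Fintype.card Ω = p ^ d)
    (hprim : MulAction.IsPreprimitive G Ω) (hH : ∀ α : Ω, MulAction.stabilizer G α ≠ ⊥) (hep : ∀ (α : Ω) (ω : Ω), MulAction.IsPreprimitive (MulAction.stabilizer G α) (MulAction.orbit (MulAction.stabilizer G α) ω)) (α : Ω) :
    ∃ q : ℕ, q.Prime ∧ (∀ ω : Ω, ω ≠ α → Nat.card (MulAction.orbit (MulAction.stabilizer G α) ω) = q) ∧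
      q ∣ p ^ d - 1 ∧ (∀ i : ℕ, 0 < i → i < d → ¬ q ∣ p ^ i - 1) ∧
      ∃ T : Subgroup G, T ≤ MulAction.stabilizer G α ∧ MulAction.stabilizer G α ≤ Subgroup.normalizer (T : Set G) ∧ Nat.card T = q ∧
        (∃ h : G, MulAction.stabilizer G α = T ⊔ Subgroup.zpowers h) ∧ Nat.card (MulAction.stabilizer G α) ∣ q * d := by
  classical
  haveI := hprim
  haveI := Fact.mk hp
  set H := stabilizer G α
  obtain ⟨ω0, hω0⟩ : ∃ ω, ω ≠ α := by
    by_contra h; push Not at h
    refine hH α ((Subgroup.eq_bot_iff_forall _).2 fun g _ => eq_of_smul_eq_smul (α := Ω) fun x => ?_)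
    rw [h (g • x), h ((1 : G) • x)]
  have hd : d ≠ 0 := by
    intro e
    rw [e, pow_zero] at hcard
    haveI : Subsingleton Ω := Fintype.card_le_one_iff_subsingleton.1 hcard.le
    exact hω0 (Subsingleton.elim _ _)
  -- the regular normal subgroup
  haveI : Nontrivial H := (Subgroup.nontrivial_iff_ne_bot _).2 (hH α)
  haveI : Nontrivial G := H.subtype_injective.nontrivial
  obtain ⟨V, pv, hVn, hV1, hpv, -, hVc, hVmin⟩ := Lib.Hall.exists_normal_pgroup (G := G)
  haveI := hVn
  have hVab : ∀ x ∈ V, ∀ y ∈ V, Commute x y := fun x hx y hy =>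
    congrArg Subtype.val (hVc.is_comm.comm ⟨x, hx⟩ ⟨y, hy⟩)
  obtain ⟨hVtr, -, hVsr⟩ := S3497.abelian_normal (Δ := Ω) V hVab hV1
  have hVcard : Nat.card V = p ^ d := by
    rw [S3497.card_eq (Δ := Ω) V hVab hV1 α, Nat.card_eq_fintype_card, hcard]
  have hVexp : ∀ v ∈ V, v ^ p = 1 := by
    obtain ⟨-, r, hr, hrpow⟩ := Lib.Hall.minimal_normal_solvable V hV1 hVmin
    haveI := Fact.mk hp
    obtain ⟨v, hv⟩ := exists_prime_orderOf_dvd_card' (G := V) p (by rw [hVcard]; exact dvd_pow_self p hd)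
    have h1 : p ∣ r := by
      rw [← hv]; exact orderOf_dvd_of_pow_eq_one (Subtype.ext (hrpow v v.2))
    rwa [(Nat.prime_dvd_prime_iff_eq hp hr).1 h1]
  have hequiv : ∀ (h : H) (v : G), (h : G) • (v • α) = ((h : G) * v * (h : G)⁻¹) • α := fun h v => by
    rw [mul_smul, mul_smul, inv_smul_eq_iff.2 (h.2 : (h : G) • α = α).symm]
  -- the normal subgroup of `H`
  obtain ⟨N, r, hNn, hN1, hr, hNr, hNc, hNmin⟩ := Lib.Hall.exists_normal_pgroup (G := H)
  haveI := hNn
  haveI := Fact.mk hr
  have hNab : ∀ x ∈ N, ∀ y ∈ N, Commute x y := fun x hx y hy =>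
    congrArg Subtype.val (hNc.is_comm.comm ⟨x, hx⟩ ⟨y, hy⟩)
  have hfaith : ∀ ω : Ω, ω ≠ α → FaithfulSMul H (orbit H ω) := fun ω hω => ⟨fun {a b} hab => by
    refine (inv_mul_eq_one.1 (S3494.result hprim hH hep α ω hω (b⁻¹ * a) fun x hx => ?_)).symm
    have := congrArg Subtype.val (hab ⟨x, hx⟩)
    simp only [orbit.coe_smul] at this
    rw [mul_smul, inv_smul_eq_iff, this]⟩
  have hsub : ∀ ω : Ω, ω ≠ α → Nat.card (orbit H ω) = Nat.card N ∧ (∀ n ∈ N, n • ω = ω → n = 1) ∧
      ∀ c : H, (∀ n ∈ N, Commute c n) → c ∈ N := by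
    intro ω hω
    haveI := hfaith ω hω
    haveI := hep α ω
    obtain ⟨-, hC, hsr⟩ := S3497.abelian_normal (Δ := orbit H ω) N hNab hN1
    exact ⟨(S3497.card_eq (Δ := orbit H ω) N hNab hN1 ⟨ω, mem_orbit_self ω⟩).symm,
      fun n hn h => hsr n hn ⟨ω, mem_orbit_self ω⟩ (Subtype.ext h), hC⟩
  have hfpf : ∀ n : H, n ∈ N → n ≠ 1 → ∀ v ∈ V, (n : G) * v * (n : G)⁻¹ = v → v = 1 := by
    intro n hn hn1 v hv hcomm
    by_contra hv1
    have hω : v • α ≠ α := fun e => hv1 (hVsr v hv α e)
    refine hn1 ((hsub _ hω).2.1 n hn ?_)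
    show (n : G) • (v • α) = v • α
    rw [hequiv, hcomm]
  have hdvd : Nat.card N ∣ p ^ d - 1 := by
    have h1 : Nat.card (SubMulAction.ofStabilizer G α) = p ^ d - 1 := by
      show Nat.card ↥({α}ᶜ : Set Ω) = _
      rw [Nat.card_coe_set_eq, Set.ncard_compl, Set.ncard_singleton, Nat.card_eq_fintype_card, hcard]
    rw [← h1, Nat.card_congr (MulAction.selfEquivSigmaOrbits H (SubMulAction.ofStabilizer G α)), Nat.card_sigma]
    refine Finset.dvd_sum fun w _ => ?_
    have hy : ((w.out : SubMulAction.ofStabilizer G α) : Ω) ≠ α :=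
      (SubMulAction.mem_ofStabilizer_iff G α).1 (w.out).2
    rw [← (hsub _ hy).1, Nat.card_coe_set_eq, Nat.card_coe_set_eq, ← SubMulAction.val_image_orbit,
      Set.ncard_image_of_injective _ Subtype.val_injective]
  have hNexp : ∀ x ∈ N, x ^ r = 1 := by
    obtain ⟨-, s, hs, hspow⟩ := Lib.Hall.minimal_normal_solvable N hN1 hNmin
    haveI : Nontrivial N := (Subgroup.nontrivial_iff_ne_bot _).2 hN1
    haveI := Fact.mk hs
    obtain ⟨z, hz⟩ := exists_ne (1 : N)
    intro x hx
    obtain ⟨k, hk⟩ := IsPGroup.iff_orderOf.1 hNr z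
    have h1 : orderOf z = s := orderOf_eq_prime (Subtype.ext (hspow z z.2)) hz
    rw [hk] at h1
    have : r = s := by
      have hk0 : k ≠ 0 := fun e => by rw [e, pow_zero] at h1; exact hs.one_lt.ne h1
      exact (Nat.prime_dvd_prime_iff_eq hr hs).1 (h1 ▸ dvd_pow_self r hk0)
    rw [this]; exact hspow x hx
  have hNp : IsPGroup r N := fun x => ⟨1, Subtype.ext (by rw [pow_one]; exact hNexp x x.2)⟩
  obtain ⟨e, he⟩ := IsPGroup.iff_card.1 hNp
  have he0 : e ≠ 0 := fun h0 => hN1 (Subgroup.card_eq_one.1 (by rw [he, h0, pow_zero]))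
  have hcop : (Nat.card N).Coprime (p ^ d) := by
    refine Nat.coprime_of_dvd' fun k hk h1 h2 => ?_
    have h3 := Nat.dvd_sub h2 (h1.trans hdvd)
    have h4 := Nat.one_le_pow d p hp.pos
    rwa [show p ^ d - (p ^ d - 1) = 1 by omega] at h3
  have he1 : e = 1 := by
    by_contra he1
    set A := N.map H.subtype with hA'
    have hA : Cfsg.IsElementaryAbelian r A := by
      refine ⟨⟨⟨fun a b => ?_⟩⟩, ?_⟩
      · obtain ⟨_, a', ha', rfl⟩ := a
        obtain ⟨_, b', hb', rfl⟩ := b
        exact Subtype.ext (congrArg H.subtype (hNab a' ha' b' hb'))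
      · rintro _ ⟨a, ha, rfl⟩
        rw [← map_pow, hNexp a ha, map_one]
    have hAc : Nat.card A = r ^ e := (card_map_of_injective H.subtype_injective).trans he
    have hgen := Lib.Components.Sig.gen_hyperplane (p := r) hA (by rw [hAc]; exact Nat.pow_le_pow_right hr.pos (by omega))
      (X := V) (by rw [hAc, ← he, hVcard]; exact hcop) (by rw [normalizer_eq_top]; exact le_top)
    refine hV1 (le_bot_iff.1 (hgen.trans (iSup_le fun B => fun v hv => ?_)))
    rw [mem_bot]
    have hB : ((B : {B : Subgroup G // B ≤ A ∧ B.relIndex A ≤ r}) : Subgroup G) ≠ ⊥ := fun e' => by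
      have h1 := B.2.2
      rw [e', relIndex_bot_left, hAc] at h1
      have := Nat.pow_lt_pow_right hr.one_lt (show 1 < e by omega)
      rw [pow_one] at this
      omega
    obtain ⟨b, hb, hb1⟩ := (Subgroup.nontrivial_iff_exists_ne_one _).1 ((Subgroup.nontrivial_iff_ne_bot _).2 hB)
    obtain ⟨b', hb', rfl⟩ := B.2.1 hb
    refine hfpf b' hb' (fun e' => hb1 (by rw [e']; rfl)) v hv.1 ?_
    have h := mem_centralizer_iff.1 hv.2 _ hb
    show (b' : G) * v * (b' : G)⁻¹ = v
    rw [show (b' : G) * v = v * b' from h, mul_inv_cancel_right]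
  rw [he1, pow_one] at he
  obtain ⟨n₀, hn₀⟩ : ∃ n : N, n ≠ 1 := by
    haveI : Nontrivial N := (Subgroup.nontrivial_iff_ne_bot _).2 hN1
    exact exists_ne 1
  have hgenN : ∀ z ∈ N, z ≠ 1 → zpowers z = N := fun z hz hz1 => by
    refine Subgroup.eq_of_le_of_card_ge (zpowers_le.2 hz) ?_
    rw [Nat.card_zpowers, he, orderOf_eq_prime (hNexp z hz) hz1]
  -- a complement
  set C := stabilizer H ω0
  have hCN : ∀ c ∈ C, c ∈ N → c = 1 := fun c hc hcN => (hsub ω0 hω0).2.1 c hcN hc
  have hCcard : Nat.card H = r * Nat.card C := by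
    have h1 := C.card_mul_index
    rw [index_stabilizer, ← Nat.card_coe_set_eq, (hsub ω0 hω0).1, he] at h1
    rw [← h1, mul_comm]
  have hcentN : ∀ c : H, c * n₀ = n₀ * c → c ∈ N := fun c hc => (hsub ω0 hω0).2.2 c fun n hn => by
    obtain ⟨k, rfl⟩ := mem_zpowers_iff.1 ((hgenN n₀ n₀.2 fun e' => hn₀ (Subtype.ext e')).symm ▸ hn : n ∈ zpowers (n₀ : H))
    exact (show Commute c (n₀ : H) from hc).zpow_right k
  let ρ : C →* MulAut N := (MulAut.conjNormal : H →* MulAut N).comp C.subtype
  have hρ : Function.Injective ρ := (injective_iff_map_eq_one ρ).2 fun c hc => by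
    refine Subtype.ext (hCN c c.2 (hcentN c ?_))
    have h1 := congrArg Subtype.val (DFunLike.congr_fun hc n₀)
    exact mul_inv_eq_iff_eq_mul.1 ((MulAut.conjNormal_apply (c : H) n₀).symm.trans h1)
  haveI : IsCyclic N := isCyclic_of_prime_card he
  haveI : IsCyclic (MulAut N) := by
    rw [(IsCyclic.mulAutMulEquiv N).isCyclic, he]; infer_instance
  haveI : IsCyclic C := isCyclic_of_injective ρ hρ
  obtain ⟨⟨c₀, hc₀C⟩, hc₀⟩ := IsCyclic.exists_generator (α := C)
  have hCz : C = zpowers c₀ := le_antisymm (fun c hc => by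
    obtain ⟨k, hk⟩ := mem_zpowers_iff.1 (hc₀ ⟨c, hc⟩)
    exact mem_zpowers_iff.2 ⟨k, congrArg Subtype.val hk⟩) (zpowers_le.2 hc₀C)
  have hsup : N ⊔ C = ⊤ := by
    refine Subgroup.eq_top_of_card_eq _ ?_
    have h1 : Nat.card N * Nat.card C ≤ Nat.card (N ⊔ C : Subgroup H) := by
      rw [← Nat.card_prod]
      refine Nat.card_le_card_of_injective (fun x : N × C => (⟨(x.1 : H) * x.2, mul_mem (mem_sup_left x.1.2) (mem_sup_right x.2.2)⟩ : (N ⊔ C : Subgroup H))) ?_
      rintro ⟨n, c⟩ ⟨n', c'⟩ h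
      have h' : (n : H) * c = n' * c' := congrArg Subtype.val h
      have h2 : (n' : H)⁻¹ * n = c' * (c : H)⁻¹ := by
        rw [inv_mul_eq_iff_eq_mul, ← mul_assoc, ← h', mul_inv_cancel_right]
      have h3 := hCN _ (mul_mem c'.2 (inv_mem c.2)) (h2 ▸ mul_mem (inv_mem n'.2) n.2)
      rw [h3, inv_mul_eq_one] at h2
      exact Prod.ext (Subtype.ext h2.symm) (Subtype.ext (mul_inv_eq_one.1 h3).symm)
    rw [he] at h1
    exact le_antisymm (card_le_card_group _) (hCcard ▸ h1)
  -- the action on `V`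
  letI : CommGroup V := { (inferInstance : Group V) with mul_comm := fun a b => Subtype.ext (hVab a a.2 b b.2) }
  let f : H →* MulAut V := (MulAut.conjNormal : G →* MulAut V).comp H.subtype
  set x : MulAut V := f n₀ with hxdef
  have hfv : ∀ (c : H) (v : V), ((f c v : V) : G) = (c : G) * v * (c : G)⁻¹ := fun c v => MulAut.conjNormal_apply _ _
  have hxfix : ∀ w : V, x w = w → w = 1 := fun w hw => Subtype.ext (hfpf n₀ n₀.2 (fun e' => hn₀ (Subtype.ext e')) w w.2
    ((hfv n₀ w).symm.trans (congrArg Subtype.val hw)))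
  have hxr : x ^ r = 1 := by rw [hxdef, ← map_pow, hNexp n₀ n₀.2, map_one]
  have hxord : orderOf x = r := orderOf_eq_prime hxr fun e' => by
    haveI : Nontrivial V := (Subgroup.nontrivial_iff_ne_bot _).2 hV1
    obtain ⟨w, hw⟩ := exists_ne (1 : V)
    exact hw (hxfix w (by rw [e']; rfl))
  have hHirr : ∀ W : Subgroup V, (∀ c : H, ∀ w ∈ W, f c w ∈ W) → W = ⊥ ∨ W = ⊤ := by
    intro W hW
    have hWn : (W.map V.subtype).Normal := ⟨by
      rintro _ ⟨w, hw, rfl⟩ g
      obtain ⟨⟨v, hv⟩, hvα⟩ := exists_smul_eq V α (g • α)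
      have hc : v⁻¹ * g ∈ H := by
        rw [mem_stabilizer_iff, mul_smul, inv_smul_eq_iff]; exact hvα.symm
      refine ⟨f ⟨_, hc⟩ w, hW _ w hw, ?_⟩
      show ((f ⟨_, hc⟩ w : V) : G) = g * (w : G) * g⁻¹
      rw [hfv]
      have h1 : v⁻¹ * (g * (w : G) * g⁻¹) = g * (w : G) * g⁻¹ * v⁻¹ :=
        hVab _ (inv_mem hv) _ (hVn.conj_mem _ w.2 g)
      show v⁻¹ * g * (w : G) * (v⁻¹ * g)⁻¹ = _
      calc v⁻¹ * g * (w : G) * (v⁻¹ * g)⁻¹ = (v⁻¹ * (g * (w : G) * g⁻¹)) * v := by group
        _ = (g * (w : G) * g⁻¹ * v⁻¹) * v := by rw [h1]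
        _ = _ := by group⟩
    rcases hVmin _ hWn (map_subtype_le W) with h | h
    · exact Or.inl ((map_eq_bot_iff_of_injective _ V.subtype_injective).1 h)
    · refine Or.inr (map_injective V.subtype_injective (h.trans ?_))
      rw [← MonoidHom.range_eq_map, range_subtype]
  -- irreducibility of `N`
  have hirr : ∀ W : Subgroup V, (∀ w ∈ W, x w ∈ W) → W = ⊥ ∨ W = ⊤ := by
    intro W hW
    have hWk : ∀ k : ℕ, ∀ w ∈ W, f ((n₀ : H) ^ k) w ∈ W := by
      intro k
      induction k with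
      | zero => intro w hw; rw [pow_zero, map_one]; exact hw
      | succ k ih => intro w hw; rw [pow_succ', map_mul]; exact hW _ (ih w hw)
    have hWN : ∀ n ∈ N, ∀ w ∈ W, f n w ∈ W := by
      intro n hn w hw
      obtain ⟨k, hk⟩ := (isOfFinOrder_of_finite (n₀ : H)).mem_powers_iff_mem_zpowers.2
        ((hgenN n₀ n₀.2 fun e' => hn₀ (Subtype.ext e')).symm ▸ hn : n ∈ zpowers (n₀ : H))
      subst hk
      exact hWk k w hw
    by_cases hC1 : c₀ = 1
    · refine hHirr W fun c w hw => hWN c ?_ w hw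
      have h1 : C = ⊥ := by rw [hCz, hC1, zpowers_one_eq_bot]
      rw [h1, sup_bot_eq] at hsup
      rw [hsup]; exact mem_top c
    by_contra hcon
    push Not at hcon
    obtain ⟨i, hid, hi⟩ := (Nat.dvd_prime_pow hp).1 (hVcard ▸ W.card_subgroup_dvd_card)
    have hri : r ∣ p ^ i - 1 := hi ▸ dvd_card_sub_one x hxr hxfix W hW
    have hi0 : i ≠ 0 := fun h0 => hcon.1 (Subgroup.card_eq_one.1 (by rw [hi, h0, pow_zero]))
    have hid' : i < d := lt_of_le_of_ne hid fun h0 => hcon.2 (eq_top_of_card_eq W (by rw [hi, h0, hVcard]))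
    -- elements of `N` commuting with `c₀`
    have hNc0 : ∀ z ∈ N, z * c₀ = c₀ * z → z = 1 := by
      intro z hz hzc
      by_contra hz1
      refine hC1 (hCN c₀ hc₀C (hcentN c₀ ?_))
      obtain ⟨k, hk⟩ := mem_zpowers_iff.1 ((hgenN z hz hz1).symm ▸ n₀.2 : (n₀ : H) ∈ zpowers z)
      rw [← hk]
      exact (show Commute z c₀ from hzc).symm.zpow_right k
    have hsurj : ∀ n ∈ N, ∃ u ∈ N, u * c₀ * u⁻¹ * c₀⁻¹ = n := by
      let φ : N → N := fun u => ⟨(u : H) * c₀ * (u : H)⁻¹ * c₀⁻¹, by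
        rw [mul_assoc ((u : H) * c₀), mul_assoc (u : H), ← mul_assoc c₀]
        exact mul_mem u.2 (hNn.conj_mem _ (inv_mem u.2) c₀)⟩
      have hφ : Function.Injective φ := fun u u' h => by
        have h' : (u : H) * c₀ * (u : H)⁻¹ = (u' : H) * c₀ * (u' : H)⁻¹ := mul_right_cancel (congrArg Subtype.val h)
        refine Subtype.ext (inv_mul_eq_one.1 (hNc0 _ (mul_mem (inv_mem u'.2) u.2) ?_)).symm
        calc (u' : H)⁻¹ * u * c₀ = (u' : H)⁻¹ * ((u : H) * c₀ * (u : H)⁻¹) * u := by group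
          _ = (u' : H)⁻¹ * ((u' : H) * c₀ * (u' : H)⁻¹) * u := by rw [h']
          _ = c₀ * ((u' : H)⁻¹ * u) := by group
      intro n hn
      obtain ⟨u, hu⟩ := (Finite.injective_iff_surjective.1 hφ) ⟨n, hn⟩
      exact ⟨u, u.2, congrArg Subtype.val hu⟩
    -- every point off `α` is fixed by a conjugate of `c₀`
    let Fx := {w : Ω // w ≠ α ∧ c₀ • w = w}
    have hHα : ∀ c : H, c • α = α := fun c => c.2
    let Φ : N × Fx → {w : Ω // w ≠ α} := fun z => ⟨(z.1 : H) • (z.2 : Ω), fun e' => z.2.2.1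
      (smul_left_cancel (z.1 : H) (e'.trans (hHα _).symm))⟩
    have hΦ : Function.Bijective Φ := by
      refine ⟨fun ⟨u, w⟩ ⟨u', w'⟩ h => ?_, fun ⟨ω, hω⟩ => ?_⟩
      · have h' : (u : H) • (w : Ω) = (u' : H) • (w' : Ω) := congrArg Subtype.val h
        set n := (u' : H)⁻¹ * u
        have hn : n ∈ N := mul_mem (inv_mem u'.2) u.2
        have hnw : n • (w : Ω) = w' := by rw [mul_smul, h', inv_smul_smul]
        have hc : n⁻¹ * c₀ * n * c₀⁻¹ ∈ N := by
          rw [mul_assoc (n⁻¹ * c₀), mul_assoc n⁻¹, ← mul_assoc c₀]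
          exact mul_mem (inv_mem hn) (hNn.conj_mem _ hn c₀)
        have h1 : n⁻¹ * c₀ * n * c₀⁻¹ = 1 := by
          refine (hsub _ w.2.1).2.1 _ hc ?_
          rw [mul_smul, inv_smul_eq_iff.2 w.2.2.symm, mul_smul, mul_smul, hnw, w'.2.2, inv_smul_eq_iff, hnw]
        have h2 : n = 1 := hNc0 n hn (by
          have h3 : n⁻¹ * c₀ * n = c₀ := mul_inv_eq_one.1 h1
          calc n * c₀ = n * (n⁻¹ * c₀ * n) := by rw [h3]
            _ = c₀ * n := by group)
        have hu : u = u' := Subtype.ext (inv_mul_eq_one.1 h2).symm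
        subst hu
        exact Prod.ext rfl (Subtype.ext (smul_left_cancel _ h'))
      · have hst : N ⊔ stabilizer H ω = ⊤ := by
          refine eq_top_of_card_eq _ (le_antisymm (card_le_card_group _) ?_)
          have h1 := (stabilizer H ω).card_mul_index
          rw [index_stabilizer, ← Nat.card_coe_set_eq, (hsub ω hω).1, mul_comm, ← Nat.card_prod] at h1
          rw [← h1]
          refine Nat.card_le_card_of_injective (fun x : N × stabilizer H ω => (⟨(x.1 : H) * x.2,
            mul_mem (mem_sup_left x.1.2) (mem_sup_right x.2.2)⟩ : (N ⊔ stabilizer H ω : Subgroup H))) ?_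
          rintro ⟨n, c⟩ ⟨n', c'⟩ h
          have h' : (n : H) * c = n' * c' := congrArg Subtype.val h
          have h2 : (n' : H)⁻¹ * n = c' * (c : H)⁻¹ := by
            rw [inv_mul_eq_iff_eq_mul, ← mul_assoc, ← h', mul_inv_cancel_right]
          have h3 := (hsub ω hω).2.1 ((n' : H)⁻¹ * n) (mul_mem (inv_mem n'.2) n.2)
            (h2 ▸ (mul_mem c'.2 (inv_mem c.2) : (c' : H) * (c : H)⁻¹ ∈ stabilizer H ω))
          have h4 := inv_mul_eq_one.1 h3
          rw [← h4] at h'
          exact Prod.ext (Subtype.ext h4.symm) (Subtype.ext (mul_left_cancel h'))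
        obtain ⟨n, hn, c', hc', hnc⟩ := mem_sup_of_normal_left.1 (hst ▸ mem_top c₀)
        obtain ⟨u, hu, huc⟩ := hsurj n⁻¹ (inv_mem hn)
        have hc'' : c' = u * c₀ * u⁻¹ := by
          rw [eq_inv_mul_of_mul_eq hnc, ← huc]; group
        refine ⟨(⟨u, hu⟩, ⟨u⁻¹ • ω, fun e' => hω ?_, ?_⟩), Subtype.ext (smul_inv_smul u ω)⟩
        · rw [← smul_inv_smul u ω, e', hHα]
        · have h1 : (u * c₀ * u⁻¹) • ω = ω := hc'' ▸ hc'
          rw [mul_smul, mul_smul] at h1
          exact smul_left_cancel u (h1.trans (smul_inv_smul u ω).symm)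
    have hcount : p ^ d - 1 = r * Nat.card Fx := by
      rw [← he, ← Nat.card_prod, Nat.card_eq_of_bijective _ hΦ]
      show _ = Nat.card ↥({α}ᶜ : Set Ω)
      rw [Nat.card_coe_set_eq, Set.ncard_compl, Set.ncard_singleton, Nat.card_eq_fintype_card, hcard]
    -- the fixed points of `c₀`
    let U : Subgroup V := MonoidHom.eqLocus (f c₀).toMonoidHom (MonoidHom.id V)
    have hU : Nat.card Fx = Nat.card U - 1 := by
      have h1 : Nat.card {w : Ω // c₀ • w = w} = Nat.card U := by
        refine (Nat.card_eq_of_bijective (fun v : U => (⟨((v : V) : G) • α, ?_⟩ : {w : Ω // c₀ • w = w})) ⟨?_, ?_⟩).symm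
        · show (c₀ : G) • (((v : V) : G) • α) = _
          rw [hequiv, ← hfv, show f c₀ (v : V) = (v : V) from v.2]
        · intro v v' h
          have h' : ((v : V) : G) • α = ((v' : V) : G) • α := congrArg Subtype.val h
          exact Subtype.ext (Subtype.ext (inv_mul_eq_one.1 (hVsr _ (mul_mem (inv_mem (v' : V).2) (v : V).2) α
            (by rw [mul_smul, h', inv_smul_smul]))).symm)
        · rintro ⟨w, hw⟩
          obtain ⟨v, rfl⟩ := exists_smul_eq V α w
          refine ⟨⟨v, ?_⟩, rfl⟩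
          have hw' : (c₀ : G) • ((v : G) • α) = (v : G) • α := hw
          rw [hequiv, ← hfv] at hw'
          exact Subtype.ext (inv_mul_eq_one.1 (hVsr _ (mul_mem (inv_mem v.2) (f c₀ v).2) α
            (by rw [mul_smul, hw', inv_smul_smul]))).symm
      rw [← h1]
      have h2 : Nat.card Fx = Nat.card ↥({w : Ω | c₀ • w = w} \ {α}) :=
        Nat.card_congr (Equiv.subtypeEquivRight fun w => and_comm)
      rw [h2, Nat.card_coe_set_eq, Set.ncard_diff_singleton_of_mem (show α ∈ {w : Ω | c₀ • w = w} from hHα c₀)]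
      rfl
    obtain ⟨c, hcd, hc⟩ := (Nat.dvd_prime_pow hp).1 (hVcard ▸ U.card_subgroup_dvd_card)
    rw [hU, hc] at hcount
    have hpd : 1 < p ^ d := Nat.one_lt_pow hd hp.one_lt
    have hc0 : c ≠ 0 := fun h0 => by rw [h0, pow_zero, Nat.sub_self, mul_zero] at hcount; omega
    have hcd' : c < d := lt_of_le_of_ne hcd fun h0 => by
      rw [h0] at hcount
      have : 2 * (p ^ d - 1) ≤ r * (p ^ d - 1) := Nat.mul_le_mul_right _ hr.two_le
      omega
    have hgcd : c ∣ d := by
      have h1 := Nat.pow_sub_one_gcd_pow_sub_one p c d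
      rw [Nat.gcd_eq_left ⟨r, by rw [hcount, mul_comm]⟩] at h1
      have h2 : p ^ c = p ^ Nat.gcd c d := by
        have := Nat.one_le_pow c p hp.pos
        have := Nat.one_le_pow (Nat.gcd c d) p hp.pos
        omega
      rw [Nat.pow_right_injective hp.two_le h2]
      exact Nat.gcd_dvd_right c d
    -- the gcd bound on `r`
    have hg : r ∣ p ^ Nat.gcd i d - 1 := by
      rw [← Nat.pow_sub_one_gcd_pow_sub_one]
      exact Nat.dvd_gcd hri ⟨p ^ c - 1, hcount⟩
    have hgd : Nat.gcd i d ∣ d ∧ Nat.gcd i d < d :=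
      ⟨Nat.gcd_dvd_right i d, lt_of_le_of_lt (Nat.le_of_dvd (by omega) (Nat.gcd_dvd_left i d)) hid'⟩
    have hgpos : 0 < Nat.gcd i d := Nat.gcd_pos_of_pos_left d (by omega)
    have hhalf : ∀ k, k ∣ d → k < d → 2 * k ≤ d := fun k ⟨t, ht⟩ hk => by
      rcases t with _ | _ | t
      · omega
      · omega
      · rw [ht]; nlinarith
    have h1 := hhalf c hgcd hcd'
    have h2 := hhalf _ hgd.1 hgd.2
    have h3 : r ≤ p ^ Nat.gcd i d - 1 := Nat.le_of_dvd (by have := Nat.one_lt_pow hgpos.ne' hp.one_lt; omega) hg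
    have h4 : p ^ (Nat.gcd i d + c) ≤ p ^ d := Nat.pow_le_pow_right hp.pos (by omega)
    rw [pow_add] at h4
    have h5 := Nat.one_le_pow c p hp.pos
    have h6 := Nat.one_lt_pow hgpos.ne' hp.one_lt
    have h7 : r * (p ^ c - 1) ≤ (p ^ Nat.gcd i d - 1) * (p ^ c - 1) := Nat.mul_le_mul_right _ h3
    have h8 : 1 < p ^ c := Nat.one_lt_pow hc0 hp.one_lt
    have h9 : (p ^ Nat.gcd i d - 1) * (p ^ c - 1) + 1 < p ^ Nat.gcd i d * p ^ c := by
      obtain ⟨a, ha⟩ : ∃ a, p ^ Nat.gcd i d = a + 1 := ⟨p ^ Nat.gcd i d - 1, by omega⟩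
      obtain ⟨b, hb⟩ : ∃ b, p ^ c = b + 1 := ⟨p ^ c - 1, by omega⟩
      rw [ha, hb, Nat.add_sub_cancel, Nat.add_sub_cancel]
      have : 0 < a := by omega
      nlinarith
    omega
  obtain ⟨hfield, hm⟩ := field_part hr (fun a => Subtype.ext (hVexp a a.2)) hVcard hd x hxord hirr
    (f.comp C.subtype)
    (fun c => by
      obtain ⟨k, hk⟩ := (isOfFinOrder_of_finite (n₀ : H)).mem_powers_iff_mem_zpowers.2
        ((hgenN n₀ n₀.2 fun e' => hn₀ (Subtype.ext e')).symm ▸ hNn.conj_mem _ n₀.2 (c : H) :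
          (c : H) * n₀ * (c : H)⁻¹ ∈ zpowers (n₀ : H))
      refine ⟨k, ?_⟩
      show f (c : H) * f n₀ = f n₀ ^ k * f (c : H)
      rw [← map_pow, ← map_mul, ← map_mul, show (n₀ : H) ^ k = _ from hk, inv_mul_cancel_right])
    (fun c hc => by
      have hc' : f ((c : H) * n₀) = f ((n₀ : H) * c) := by rw [map_mul, map_mul]; exact hc
      set z := ((n₀ : H) * c)⁻¹ * ((c : H) * n₀) with hz
      have hz1 : f z = 1 := by rw [hz, map_mul, map_inv, hc', inv_mul_cancel]
      have hzN : z ∈ N := by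
        rw [hz, show ((n₀ : H) * c)⁻¹ * ((c : H) * n₀) = ((c : H)⁻¹ * (n₀ : H)⁻¹ * ((c : H)⁻¹)⁻¹) * n₀ by group]
        exact mul_mem (hNn.conj_mem _ (inv_mem n₀.2) _) n₀.2
      have hz0 : z = 1 := by
        by_contra h1
        haveI : Nontrivial V := (Subgroup.nontrivial_iff_ne_bot _).2 hV1
        obtain ⟨w, hw⟩ := exists_ne (1 : V)
        exact hw (Subtype.ext (hfpf z hzN h1 w w.2 (by rw [← hfv, hz1]; rfl)))
      exact Subtype.ext (hCN c c.2 (hcentN c (inv_mul_eq_one.1 hz0).symm)))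
  refine ⟨r, hr, fun ω hω => (hsub ω hω).1.trans he, he ▸ hdvd, hfield, N.map H.subtype, map_subtype_le N, ?_,
    (card_map_of_injective H.subtype_injective).trans he, ⟨(c₀ : G), ?_⟩, hCcard ▸ Nat.mul_dvd_mul_left r hm⟩
  · intro g hg
    rw [mem_normalizer_iff]
    have key : ∀ k : H, ∀ y ∈ N.map H.subtype, (k : G) * y * (k : G)⁻¹ ∈ N.map H.subtype := by
      rintro k _ ⟨n, hn, rfl⟩
      exact ⟨k * n * k⁻¹, hNn.conj_mem n hn k, rfl⟩
    intro y
    refine ⟨key ⟨g, hg⟩ y, fun h => ?_⟩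
    have := key (⟨g, hg⟩⁻¹) _ h
    simpa [mul_assoc] using this
  · rw [hCz] at hsup
    have := congrArg (Subgroup.map H.subtype) hsup
    rw [Subgroup.map_sup, MonoidHom.map_zpowers, ← MonoidHom.range_eq_map, range_subtype] at this
    exact this.symm

end Cfsg.Agent.S3496
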