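import Cfsg.Statements.S3532
import Cfsg.Agent.S2475

set_option autoImplicit false
open Cfsg

namespace Cfsg.Agent.S3532

variable {E : Type*} [Field E]

/-- multiplication -/
def act (u : Eˣ) : Subgroup.zpowers u →* MulAut (Multiplicative E) where
  toFun a := AddEquiv.toMultiplicative (DistribMulAction.toAddEquiv E (a : Eˣ))
  map_one' := MulEquiv.ext fun x => Multiplicative.toAdd.injective (by simp)
  map_mul' a b := MulEquiv.ext fun x => Multiplicative.toAdd.injective (mul_smul (a : Eˣ) (b : Eˣ) x.toAdd)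

/-- affine group -/
abbrev Fr (u : Eˣ) : Type _ := Multiplicative E ⋊[act u] Subgroup.zpowers u

theorem pow_left (u : Eˣ) (w : Fr u) (n : ℕ) :
    (w ^ n).left.toAdd = (∑ i ∈ Finset.range n, ((w.right : Eˣ) : E) ^ i) * w.left.toAdd := by
  induction n with
  | zero => simp
  | succ n ih =>
    rw [pow_succ', SemidirectProduct.mul_left, toAdd_mul, Finset.sum_range_succ']
    show w.left.toAdd + ((w.right : Eˣ) : E) * (w ^ n).left.toAdd = _
    rw [ih, pow_zero, add_mul, one_mul, add_comm, ← mul_assoc, Finset.mul_sum]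
    simp only [pow_succ']

theorem orderOf_cases [Finite E] {p : ℕ} [CharP E p] (u : Eˣ) (w : Fr u) :
    orderOf w ∣ p ∨ orderOf w ∣ orderOf u := by
  have key : ∀ n, w.right ^ n = 1 → (∑ i ∈ Finset.range n, ((w.right : Eˣ) : E) ^ i) = 0 → w ^ n = 1 := by
    intro n hr hs
    ext
    · apply Multiplicative.toAdd.injective
      show (w ^ n).left.toAdd = (1 : Multiplicative E).toAdd
      rw [pow_left, hs, zero_mul, toAdd_one]
    · rw [show (w ^ n).right = w.right ^ n from map_pow SemidirectProduct.rightHom w n, hr]; rfl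
  by_cases h : w.right = 1
  · left
    refine orderOf_dvd_of_pow_eq_one (key p (by rw [h, one_pow]) ?_)
    simp [h]
  · right
    have hr : w.right ^ orderOf u = 1 := by
      rw [← Nat.card_zpowers]; exact pow_card_eq_one'
    refine orderOf_dvd_of_pow_eq_one (key _ hr ?_)
    have hne : ((w.right : Eˣ) : E) ≠ 1 := fun e => h (Subtype.ext (Units.ext e))
    rw [geom_sum_eq hne, ← Units.val_pow_eq_pow_val, ← Subgroup.coe_pow, hr]
    simp

theorem exists_p {p : ℕ} [hp : Fact p.Prime] [CharP E p] (u : Eˣ) : ∃ w : Fr u, orderOf w = p := by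
  refine ⟨SemidirectProduct.inl (Multiplicative.ofAdd 1), ?_⟩
  rw [orderOf_injective _ SemidirectProduct.inl_injective, orderOf_ofAdd_eq_addOrderOf]
  exact addOrderOf_eq_prime (by rw [nsmul_one, CharP.cast_eq_zero]) one_ne_zero

theorem exists_unit (u : Eˣ) : ∃ w : Fr u, orderOf w = orderOf u := by
  refine ⟨SemidirectProduct.inr ⟨u, Subgroup.mem_zpowers u⟩, ?_⟩
  rw [orderOf_injective _ SemidirectProduct.inr_injective, Subgroup.orderOf_mk]

theorem range_prod {X Y : Type*} [Group X] [Finite X] [Group Y] [Finite Y] :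
    Set.range (orderOf : X × Y → ℕ) = {n | ∃ (x : X) (y : Y), n = Nat.lcm (orderOf x) (orderOf y)} := by
  ext n
  constructor
  · rintro ⟨⟨x, y⟩, rfl⟩; exact ⟨x, y, Prod.orderOf_mk⟩
  · rintro ⟨x, y, rfl⟩; exact ⟨(x, y), Prod.orderOf_mk⟩

theorem exists_dvd {X : Type*} [Group X] [Finite X] {x : X} {n : ℕ} (h : n ∣ orderOf x) :
    ∃ y : X, orderOf y = n := ⟨_, orderOf_pow_orderOf_div (orderOf_pos x).ne' h⟩

theorem lcm_shape {p A B a b : ℕ} (ha : a ∣ p ∨ a ∣ A ∨ a ∣ B) (hb : b ∣ p ∨ b ∣ A ∨ b ∣ B) :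
    Nat.lcm a b ∣ Nat.lcm p B ∨ Nat.lcm a b ∣ Nat.lcm A p ∨ Nat.lcm a b ∣ Nat.lcm A B := by
  rcases ha with ha | ha | ha <;> rcases hb with hb | hb | hb
  · exact Or.inl (Nat.lcm_dvd (ha.trans (Nat.dvd_lcm_left _ _)) (hb.trans (Nat.dvd_lcm_left _ _)))
  · exact Or.inr (Or.inl (Nat.lcm_dvd (ha.trans (Nat.dvd_lcm_right _ _)) (hb.trans (Nat.dvd_lcm_left _ _))))
  · exact Or.inl (Nat.lcm_dvd (ha.trans (Nat.dvd_lcm_left _ _)) (hb.trans (Nat.dvd_lcm_right _ _)))
  · exact Or.inr (Or.inl (Nat.lcm_dvd (ha.trans (Nat.dvd_lcm_left _ _)) (hb.trans (Nat.dvd_lcm_right _ _))))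
  · exact Or.inr (Or.inl (Nat.lcm_dvd (ha.trans (Nat.dvd_lcm_left _ _)) (hb.trans (Nat.dvd_lcm_left _ _))))
  · exact Or.inr (Or.inr (Nat.lcm_dvd (ha.trans (Nat.dvd_lcm_left _ _)) (hb.trans (Nat.dvd_lcm_right _ _))))
  · exact Or.inl (Nat.lcm_dvd (ha.trans (Nat.dvd_lcm_right _ _)) (hb.trans (Nat.dvd_lcm_left _ _)))
  · exact Or.inr (Or.inr (Nat.lcm_dvd (ha.trans (Nat.dvd_lcm_right _ _)) (hb.trans (Nat.dvd_lcm_left _ _))))
  · exact Or.inr (Or.inr (Nat.lcm_dvd (ha.trans (Nat.dvd_lcm_right _ _)) (hb.trans (Nat.dvd_lcm_right _ _))))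

/-- Let q ≥ 4 be a prime power and L = PSL(2,q). There is a finite solvable group with the same set of element orders as L × L (so L × L is not determined by its spectrum). -/
theorem result {F : Type*} [Field F] [Fintype F] (hF : 4 ≤ Fintype.card F) :
    ∃ (H : Type) (_ : Group H) (_ : Finite H), Group.IsSolvable H ∧
      Set.range (orderOf : H → ℕ) = Set.range (orderOf : Matrix.ProjectiveSpecialLinearGroup (Fin 2) F × Matrix.ProjectiveSpecialLinearGroup (Fin 2) F → ℕ) := by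
  classical
  obtain ⟨p, hchar⟩ := CharP.exists F
  haveI := hchar
  have hp : p.Prime := CharP.char_is_prime F p
  haveI := Fact.mk hp
  have hL := Cfsg.Agent.S2475.result (F := F) p hF
  set q := Fintype.card F with hq
  set A := (q - 1) / Nat.gcd 2 (q - 1)
  set B := (q + 1) / Nat.gcd 2 (q - 1)
  obtain ⟨n, -, hn⟩ := FiniteField.card F p
  let E := GaloisField p (2 * (n : ℕ))
  have hE : Nat.card Eˣ = q ^ 2 - 1 := by
    haveI : Fintype E := Fintype.ofFinite E
    rw [Nat.card_units, GaloisField.card p _ (by have := n.pos; omega), hq, hn, ← pow_mul, mul_comm (n : ℕ) 2]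
  have hq2 : q ^ 2 - 1 = (q + 1) * (q - 1) := by
    have := Nat.sq_sub_sq q 1
    simpa using this
  have hg1 : Nat.gcd 2 (q - 1) ∣ q - 1 := Nat.gcd_dvd_right _ _
  have hg2 : Nat.gcd 2 (q - 1) ∣ q + 1 := by
    have h2 : Nat.gcd 2 (q - 1) ∣ 2 := Nat.gcd_dvd_left _ _
    have := Nat.dvd_add hg1 h2
    rwa [show q - 1 + 2 = q + 1 by omega] at this
  obtain ⟨g, hg⟩ := IsCyclic.exists_generator (α := Eˣ)
  have hgo : orderOf g = q ^ 2 - 1 := (orderOf_eq_card_of_forall_mem_zpowers hg).trans hE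
  obtain ⟨u, hu⟩ := exists_dvd (x := g) (n := A) (by rw [hgo, hq2]; exact (Nat.div_dvd_of_dvd hg1).mul_left _)
  obtain ⟨v, hv⟩ := exists_dvd (x := g) (n := B) (by rw [hgo, hq2]; exact (Nat.div_dvd_of_dvd hg2).mul_right _)
  haveI : Finite (Fr u) := Finite.of_equiv _ SemidirectProduct.equivProd.symm
  haveI : Finite (Fr v) := Finite.of_equiv _ SemidirectProduct.equivProd.symm
  haveI : Group.IsSolvable (Fr u) := solvable_of_ker_le_range (SemidirectProduct.inl : Multiplicative E →* Fr u)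
    SemidirectProduct.rightHom (le_of_eq SemidirectProduct.range_inl_eq_ker_rightHom.symm)
  haveI : Group.IsSolvable (Fr v) := solvable_of_ker_le_range (SemidirectProduct.inl : Multiplicative E →* Fr v)
    SemidirectProduct.rightHom (le_of_eq SemidirectProduct.range_inl_eq_ker_rightHom.symm)
  refine ⟨Fr u × Fr v, inferInstance, inferInstance, inferInstance, ?_⟩
  have hAorB : ∀ m, (m ∣ p ∨ m ∣ A ∨ m ∣ B) → ∃ x : Matrix.ProjectiveSpecialLinearGroup (Fin 2) F, orderOf x = m :=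
    fun m hm => hL.ge hm
  have hcase : ∀ x : Matrix.ProjectiveSpecialLinearGroup (Fin 2) F, orderOf x ∣ p ∨ orderOf x ∣ A ∨ orderOf x ∣ B :=
    fun x => hL.le ⟨x, rfl⟩
  obtain ⟨a1, ha1⟩ := exists_p (p := p) u
  obtain ⟨a2, ha2⟩ := exists_unit u
  obtain ⟨b1, hb1⟩ := exists_p (p := p) v
  obtain ⟨b2, hb2⟩ := exists_unit v
  rw [hu] at ha2
  rw [hv] at hb2
  have hdown : ∀ {X : Type} [Group X] [Finite X] {n : ℕ} (x : X), n ∣ orderOf x → ∃ y : X, orderOf y = n :=
    fun x h => exists_dvd h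
  ext m
  constructor
  · rintro ⟨⟨x, y⟩, rfl⟩
    rw [Prod.orderOf_mk]
    have hx : orderOf x ∣ p ∨ orderOf x ∣ A ∨ orderOf x ∣ B := by
      rcases orderOf_cases (p := p) u x with h | h
      · exact Or.inl h
      · exact Or.inr (Or.inl (hu ▸ h))
    have hy : orderOf y ∣ p ∨ orderOf y ∣ A ∨ orderOf y ∣ B := by
      rcases orderOf_cases (p := p) v y with h | h
      · exact Or.inl h
      · exact Or.inr (Or.inr (hv ▸ h))
    obtain ⟨x', hx'⟩ := hAorB _ hx
    obtain ⟨y', hy'⟩ := hAorB _ hy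
    exact ⟨(x', y'), by rw [Prod.orderOf_mk, hx', hy']⟩
  · rintro ⟨⟨x, y⟩, rfl⟩
    rw [Prod.orderOf_mk]
    rcases lcm_shape (hcase x) (hcase y) with h | h | h
    · exact hdown (a1, b2) (by rw [Prod.orderOf_mk, ha1, hb2]; exact h)
    · exact hdown (a2, b1) (by rw [Prod.orderOf_mk, ha2, hb1]; exact h)
    · exact hdown (a2, b2) (by rw [Prod.orderOf_mk, ha2, hb2]; exact h)

end Cfsg.Agent.S3532
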