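import Cfsg.Statements.S3554
import Mathlib

set_option autoImplicit false
open Cfsg

namespace Cfsg.Agent.S3554

/-- Let G act faithfully and transitively on a finite set and suppose G has a non-trivial cyclic normal subgroup. Then some element of G of prime order fixes no point. -/
theorem result {G Ω : Type*} [Group G] [Finite G] [MulAction G Ω] [FaithfulSMul G Ω] [Finite Ω]
    (htrans : MulAction.IsPretransitive G Ω) (C : Subgroup G) (hC : C.Normal) (hC1 : C ≠ ⊥) (hcyc : IsCyclic ↥C) :
    ∃ g : G, (orderOf g).Prime ∧ ∀ ω : Ω, g • ω ≠ ω := by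
  classical
  haveI := htrans
  haveI := hcyc
  haveI : Nontrivial C := C.nontrivial_iff_ne_bot.2 hC1
  obtain ⟨p, hp, hpd⟩ := Nat.exists_prime_and_dvd (Finite.one_lt_card (α := C)).ne'
  haveI : Fact p.Prime := ⟨hp⟩
  obtain ⟨x, hx⟩ := exists_prime_orderOf_dvd_card' p hpd
  refine ⟨(x : G), by rw [Subgroup.orderOf_coe, hx]; exact hp, fun ω hω => ?_⟩
  have huniq : ∀ z : C, z ^ p = 1 → z ∈ Subgroup.zpowers x := by
    intro z hz
    have := Fintype.ofFinite C
    by_contra hne
    have h1 := IsCyclic.card_pow_eq_one_le (α := C) hp.pos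
    have h2 : insert z (Finset.univ.filter fun y => y ∈ Subgroup.zpowers x) ⊆
        Finset.univ.filter fun y : C => y ^ p = 1 := by
      intro y hy
      rcases Finset.mem_insert.1 hy with rfl | hy
      · simpa using hz
      · obtain ⟨i, rfl⟩ := Subgroup.mem_zpowers_iff.1 (Finset.mem_filter.1 hy).2
        refine Finset.mem_filter.2 ⟨Finset.mem_univ _, ?_⟩
        rw [← zpow_natCast, ← zpow_mul, mul_comm, zpow_mul, zpow_natCast, ← hx, pow_orderOf_eq_one,
          one_zpow]
    have h3 := Finset.card_le_card h2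
    rw [Finset.card_insert_of_notMem (fun h => hne (Finset.mem_filter.1 h).2), ← Fintype.card_subtype,
      ← Nat.card_eq_fintype_card, Nat.card_zpowers, hx] at h3
    omega
  have hall : ∀ y : Ω, (x : G) • y = y := by
    intro y
    obtain ⟨g, rfl⟩ := MulAction.exists_smul_eq G ω y
    have hm : g⁻¹ * x * g ∈ C := by simpa using hC.conj_mem _ x.2 g⁻¹
    obtain ⟨i, hi⟩ := Subgroup.mem_zpowers_iff.1 (huniq ⟨_, hm⟩ (Subtype.ext (by
      have hxp : (x : G) ^ p = 1 := by rw [← hx, ← Subgroup.orderOf_coe, pow_orderOf_eq_one]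
      calc (g⁻¹ * x * g) ^ p = (g⁻¹ * x * g⁻¹⁻¹) ^ p := by rw [inv_inv]
        _ = 1 := by rw [conj_pow, hxp, mul_one, mul_inv_cancel])))
    have e : (x : G) * g = g * (x : G) ^ i := by
      have e' : ((x ^ i : C) : G) = g⁻¹ * x * g := congrArg Subtype.val hi
      rw [SubgroupClass.coe_zpow] at e'
      rw [e']; group
    rw [← mul_smul, e, mul_smul]
    congr 1
    exact (MulAction.stabilizer G ω).zpow_mem (hω : (x : G) ∈ MulAction.stabilizer G ω) i
  have h1 : (x : G) = 1 := FaithfulSMul.eq_of_smul_eq_smul fun y : Ω => by rw [hall, one_smul]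
  rw [← Subgroup.orderOf_coe, h1, orderOf_one] at hx
  exact hp.one_lt.ne hx

end Cfsg.Agent.S3554
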