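import Cfsg.Statements.S3555


set_option autoImplicit false
open scoped Pointwise
open Cfsg

namespace Cfsg.Agent.S3555

/-- Let G act faithfully and transitively on a finite set and suppose every element of G fixing no point is an involution. Then either G is an elementary abelian 2-group, or G is a Frobenius group whose Frobenius kernel is an elementary abelian 2-group: G has a Frobenius complement H, and the elements lying in no conjugate of H, together with the identity, pairwise commute and square to the identity. -/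
theorem result {G Ω : Type*} [Group G] [Finite G] [MulAction G Ω] [FaithfulSMul G Ω] [Finite Ω]
    (htrans : MulAction.IsPretransitive G Ω) (hinv : ∀ g : G, (∀ ω : Ω, g • ω ≠ ω) → orderOf g = 2) :
    (IsMulCommutative G ∧ ∀ g : G, g ^ 2 = 1) ∨
    (∃ H : Subgroup G, Cfsg.IsFrobeniusComplement H ∧
      (∀ x ∈ Cfsg.frobeniusKernel H, x ^ 2 = 1) ∧
      ∀ x ∈ Cfsg.frobeniusKernel H, ∀ y ∈ Cfsg.frobeniusKernel H, x * y = y * x) := by
  classical
  haveI := htrans
  rcases isEmpty_or_nonempty Ω with hΩ | ⟨⟨ω₀⟩⟩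
  · have h1 : ∀ g : G, g = 1 := fun g => eq_of_smul_eq_smul fun a : Ω => (hΩ.false a).elim
    exact Or.inl ⟨⟨⟨fun a b => by rw [h1 a, h1 b]⟩⟩, fun g => by rw [h1 g, one_pow]⟩
  haveI := Fintype.ofFinite G
  haveI := Fintype.ofFinite Ω
  let Fx : G → Finset Ω := fun g => Finset.univ.filter fun a => g • a = a
  let D : Finset G := Finset.univ.filter fun g => ∀ a : Ω, g • a ≠ a
  have hD : ∀ {g : G}, g ∈ D ↔ ∀ a : Ω, g • a ≠ a := fun {g} => by simp [D]
  have hFx : ∀ {g : G} {a : Ω}, a ∈ Fx g ↔ g • a = a := fun {g a} => by simp [Fx]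
  have hsq : ∀ d ∈ D, d * d = 1 := fun d hd => by rw [← pow_two, ← hinv d (hD.1 hd), pow_orderOf_eq_one]
  have hswap : ∀ d ∈ D, ∀ a : Ω, d • d • a = a := fun d hd a => by rw [← mul_smul, hsq d hd, one_smul]
  -- counting
  have hone : ∑ g : G, ((Fx g).card : ℤ) = Fintype.card G := by
    have h := MulAction.sum_card_fixedBy_eq_card_orbits_mul_card_group G Ω
    haveI : Subsingleton (MulAction.orbitRel.Quotient G Ω) :=
      MulAction.pretransitive_iff_subsingleton_quotient G Ω |>.1 htrans
    haveI : Nonempty (MulAction.orbitRel.Quotient G Ω) := ⟨Quotient.mk'' ω₀⟩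
    rw [Fintype.card_eq_one_iff_nonempty_unique.2 ⟨uniqueOfSubsingleton (Classical.arbitrary _)⟩, one_mul] at h
    rw [← h, Nat.cast_sum]
    refine Finset.sum_congr rfl fun g _ => ?_
    congr 1
    rw [Fintype.card_subtype]
    rfl
  let σ : Ω → Ω → G := fun a b => if h : ∃ g : G, g • a = b ∧ g • b = a then h.choose else 1
  have hσ : ∀ d ∈ D, ∀ a : Ω, σ a (d • a) • a = d • a ∧ σ a (d • a) • (d • a) = a := fun d hd a => by
    have h : ∃ g : G, g • a = d • a ∧ g • (d • a) = a := ⟨d, rfl, hswap d hd a⟩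
    simp only [σ, dif_pos h]
    exact h.choose_spec
  have hinj : (D ×ˢ (Finset.univ : Finset Ω)).card ≤ (Finset.univ.sigma fun g : G => (Fx g).offDiag).card := by
    refine Finset.card_le_card_of_injOn (fun z => ⟨σ z.2 (z.1 • z.2) * z.1, (z.2, z.1 • z.2)⟩) ?_ ?_
    · rintro ⟨d, a⟩ hz
      simp only [Finset.coe_product, Set.mem_prod, Finset.mem_coe] at hz
      obtain ⟨h1, h2⟩ := hσ d hz.1 a
      simp only [Finset.mem_coe, Finset.mem_sigma, Finset.mem_univ, true_and, Finset.mem_offDiag, hFx]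
      exact ⟨by rw [mul_smul, h2], by rw [mul_smul, hswap d hz.1 a, h1], fun e => hD.1 hz.1 a e.symm⟩
    · rintro ⟨d, a⟩ - ⟨d', a'⟩ - h
      simp only [Sigma.mk.injEq, heq_eq_eq, Prod.mk.injEq] at h
      obtain ⟨h1, rfl, h2⟩ := h
      rw [h2] at h1
      rw [mul_left_cancel h1]
  rw [Finset.card_product, Finset.card_sigma, Finset.card_univ] at hinj
  have hoff : ∀ g : G, (((Fx g).offDiag.card : ℕ) : ℤ) = (Fx g).card * ((Fx g).card - 1) := fun g => by
    rw [Finset.offDiag_card, Nat.cast_sub (Nat.le_mul_self _), Nat.cast_mul]; ring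
  have hfix : ∀ g : G, g ∉ D → g ≠ 1 → (Fx g).card = 1 := by
    let T : G → ℤ := fun g => if g ∈ D then 0 else ((Fintype.card Ω : ℤ) - (Fx g).card) * ((Fx g).card - 1)
    have hT : ∀ g, 0 ≤ T g := fun g => by
      simp only [T]
      split_ifs with h
      · exact le_rfl
      · obtain ⟨a, ha⟩ := not_forall_not.1 fun h' => h (hD.2 h')
        have h1 : 1 ≤ (Fx g).card := Finset.card_pos.2 ⟨a, hFx.2 ha⟩
        have h2 := Finset.card_le_univ (Fx g)
        exact mul_nonneg (by omega) (by omega)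
    have hzero : ∀ g ∈ D, (Fx g).card = 0 := fun g hg =>
      Finset.card_eq_zero.2 (Finset.eq_empty_of_forall_notMem fun a ha => hD.1 hg a (hFx.1 ha))
    have hsum : ∑ g, T g ≤ 0 := by
      have e : ∀ g, T g = (Fintype.card Ω : ℤ) * ((Fx g).card - 1) - ((Fx g).offDiag.card : ℤ) +
          (if g ∈ D then (Fintype.card Ω : ℤ) else 0) := fun g => by
        rw [hoff]
        simp only [T]
        split_ifs with h
        · rw [hzero g h]; push_cast; ring
        · ring
      rw [Finset.sum_congr rfl fun g _ => e g, Finset.sum_add_distrib, Finset.sum_sub_distrib, ← Finset.mul_sum,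
        Finset.sum_sub_distrib, hone, Finset.sum_const, Finset.card_univ, nsmul_eq_mul, mul_one, sub_self, mul_zero,
        Finset.sum_ite_mem, Finset.univ_inter, Finset.sum_const, nsmul_eq_mul]
      have := (Nat.cast_le (α := ℤ)).2 hinj
      push_cast at this
      linarith
    intro g hg hg1
    have h0 : T g = 0 := (Finset.sum_eq_zero_iff_of_nonneg fun x _ => hT x).1
      (le_antisymm hsum (Finset.sum_nonneg fun x _ => hT x)) g (Finset.mem_univ g)
    simp only [T, if_neg hg] at h0
    rcases mul_eq_zero.1 h0 with h | h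
    · refine absurd (eq_of_smul_eq_smul fun a : Ω => ?_) hg1
      have : Fx g = Finset.univ := Finset.eq_univ_of_card _ (by omega)
      rw [one_smul]
      exact hFx.1 (this ▸ Finset.mem_univ a)
    · omega
  have huniq : ∀ g : G, g ≠ 1 → ∀ a b : Ω, g • a = a → g • b = b → a = b := fun g hg a b ha hb =>
    Finset.card_le_one.1 (hfix g (fun h => hD.1 h a ha) hg).le a (hFx.2 ha) b (hFx.2 hb)
  let H := MulAction.stabilizer G ω₀
  by_cases hH : H = ⊥
  · have hall : ∀ g : G, g ^ 2 = 1 := fun g => by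
      by_cases hg : g = 1
      · rw [hg, one_pow]
      refine pow_two g ▸ hsq g (hD.2 fun a ha => hg ?_)
      obtain ⟨k, hk⟩ := MulAction.exists_smul_eq G a ω₀
      have : k * g * k⁻¹ ∈ H := MulAction.mem_stabilizer_iff.2 (by rw [← hk, mul_smul, mul_smul, inv_smul_smul, ha])
      rw [hH, Subgroup.mem_bot] at this
      simpa [mul_inv_eq_one] using this
    refine Or.inl ⟨⟨⟨fun a b => ?_⟩⟩, hall⟩
    have hi : ∀ x : G, x⁻¹ = x := fun x => inv_eq_of_mul_eq_one_right (by rw [← pow_two, hall])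
    calc a * b = (a * b)⁻¹ := (hi _).symm
      _ = b * a := by rw [mul_inv_rev, hi, hi]
  have hmem : ∀ k x : G, x ∈ MulAut.conj k • H ↔ x • k • ω₀ = k • ω₀ := fun k x => by
    rw [Subgroup.mem_pointwise_smul_iff_inv_smul_mem, MulAut.smul_def, MulAction.mem_stabilizer_iff,
      MulAut.conj_inv_apply, mul_smul, mul_smul, inv_smul_eq_iff]
  refine Or.inr ⟨H, ⟨hH, fun htop => hH ?_, fun g hg => ?_⟩, ?_⟩
  · rw [eq_bot_iff]
    intro g _
    refine (Subgroup.mem_bot).2 (eq_of_smul_eq_smul fun a : Ω => ?_)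
    obtain ⟨k, hk⟩ := MulAction.exists_smul_eq G ω₀ a
    have hk' : k ∈ H := htop ▸ Subgroup.mem_top k
    have hg' : g ∈ H := htop ▸ Subgroup.mem_top g
    rw [one_smul, ← hk, MulAction.mem_stabilizer_iff.1 hk', MulAction.mem_stabilizer_iff.1 hg']
  · rw [eq_bot_iff]
    rintro x ⟨hx, hx'⟩
    rw [Subgroup.mem_bot]
    by_contra hx1
    exact hg (MulAction.mem_stabilizer_iff.2 (huniq x hx1 _ _ ((hmem g x).1 hx') (MulAction.mem_stabilizer_iff.1 hx)))
  have hker : ∀ x ∈ Cfsg.frobeniusKernel H, x = 1 ∨ x ∈ D := fun x hx => hx.imp_right fun h => hD.2 fun a ha => by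
    obtain ⟨k, hk⟩ := MulAction.exists_smul_eq G ω₀ a
    refine h k ((hmem k x).2 ?_)
    rw [hk]; exact ha
  refine ⟨fun x hx => ?_, fun x hx y hy => ?_⟩
  · rcases hker x hx with rfl | h
    · exact one_pow 2
    · rw [pow_two]; exact hsq x h
  rcases hker x hx with rfl | hx
  · rw [one_mul, mul_one]
  rcases hker y hy with rfl | hy
  · rw [one_mul, mul_one]
  rcases eq_or_ne x y with rfl | hxy
  · rfl
  have hxyD : x * y ∈ D := hD.2 fun a ha => hxy (by
    have e : y • a = x • a := by
      conv_rhs => rw [← ha, mul_smul, hswap x hx]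
    obtain ⟨h1, h2⟩ := hσ x hx a
    by_contra hne
    have hg : x * y ≠ 1 := fun h0 => hne (mul_left_cancel ((hsq x hx).trans h0.symm))
    have := huniq _ hg a (x • a) ha (by rw [mul_smul, ← e, hswap y hy, e])
    exact hD.1 hx a this.symm)
  have h := hsq _ hxyD
  calc x * y = (x * y)⁻¹ := (inv_eq_of_mul_eq_one_right h).symm
    _ = y * x := by rw [mul_inv_rev, inv_eq_of_mul_eq_one_right (hsq y hy), inv_eq_of_mul_eq_one_right (hsq x hx)]

end Cfsg.Agent.S3555
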