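import Cfsg.Statements.S3557
import Cfsg.Agent.Lib.GenStruct.Basic
-- import your own Cfsg.Agent.* helpers here

set_option autoImplicit false
open Cfsg

namespace Cfsg.Agent.S3557


open MulAction Subgroup

variable {G Ω : Type*} [Group G] [Finite G] [MulAction G Ω] [FaithfulSMul G Ω] [Finite Ω]

omit [Finite G] [FaithfulSMul G Ω] [Finite Ω] in
/-- An element of a subgroup commuting with it and fixing a point fixes the orbit of the point. -/
theorem fix_orbit {P : Subgroup G} {z : P} (hz : z ∈ center ↥P) {v w : Ω} (hv : z • v = v)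
    (hw : w ∈ orbit ↥P v) : z • w = w := by
  obtain ⟨q, rfl⟩ := hw
  rw [← mul_smul, ← mem_center_iff.1 hz q, mul_smul, hv]

/-- The construction of a derangement from a central element fixing one of the two orbits. -/
theorem derangement_of_two_orbits (p : ℕ) [hp : Fact p.Prime] (P : Sylow p G)
    (hcl : ∀ σ : Equiv.Perm Ω, (∀ a b : Ω, ∃ g : G, σ a = g • a ∧ σ b = g • b) → ∃ g : G, ∀ a : Ω, σ a = g • a)
    {a b : Ω} (hcov : ∀ w, w ∈ orbit ↥(P : Subgroup G) a ∨ w ∈ orbit ↥(P : Subgroup G) b)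
    (hdisj : b ∉ orbit ↥(P : Subgroup G) a)
    (ha2 : Nat.card (orbit ↥(P : Subgroup G) a) = p ^ 2) (hb2 : Nat.card (orbit ↥(P : Subgroup G) b) = p ^ 2)
    {z : ↥(P : Subgroup G)} (hz : z ∈ center ↥(P : Subgroup G)) (hzo : orderOf z = p) (hzb : z • b = b) :
    ∃ g : G, (orderOf g).Prime ∧ ∀ ω : Ω, g • ω ≠ ω := by
  classical
  set O₁ := orbit ↥(P : Subgroup G) a
  set O₂ := orbit ↥(P : Subgroup G) b
  have hz1 : z ≠ 1 := fun e => hp.out.ne_one (by rw [← hzo, e, orderOf_one])
  have hzfix : ∀ v ∈ O₂, z • v = v := fun v hv => fix_orbit hz hzb hv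
  have hzmove : ∀ v ∈ O₁, z • v ≠ v := fun v hv e => hz1 (Subtype.ext (eq_of_smul_eq_smul (α := Ω) fun w => by
    rw [OneMemClass.coe_one, one_smul]
    rcases hcov w with h | h
    · exact fix_orbit hz e (by rw [orbit_eq_iff.2 hv]; exact h)
    · exact hzfix w h))
  -- the kernel on the second orbit
  let K : Subgroup ↥(P : Subgroup G) :=
    { carrier := {g | ∀ v ∈ O₂, g • v = v}
      one_mem' := fun v _ => one_smul _ v
      mul_mem' := fun {g h} hg hh v hv => by rw [mul_smul, hh v hv, hg v hv]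
      inv_mem' := fun {g} hg v hv => by rw [inv_smul_eq_iff, hg v hv] }
  haveI hKn : K.Normal := ⟨fun g hg h v hv => by
    rw [mul_smul, mul_smul, hg (h⁻¹ • v) (by
      have : h⁻¹ • v ∈ orbit ↥(P : Subgroup G) b := by rw [← orbit_eq_iff.2 hv]; exact mem_orbit v h⁻¹
      exact this), smul_inv_smul]⟩
  have hzK : z ∈ K := hzfix
  -- the stabilizer of the block of `a`
  let P₀ : Subgroup ↥(P : Subgroup G) := stabilizer ↥(P : Subgroup G) a ⊔ K
  have hidxa : (stabilizer ↥(P : Subgroup G) a).index = p ^ 2 := by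
    rw [index_stabilizer, ← Nat.card_coe_set_eq, ha2]
  have hlt : stabilizer ↥(P : Subgroup G) a < P₀ := by
    refine lt_of_le_of_ne le_sup_left fun e => hzmove a (mem_orbit_self a) ?_
    have : z ∈ P₀ := mem_sup_right hzK
    rw [← e] at this
    exact this
  have hidx0 : P₀.index ∣ p := by
    have h1 := relIndex_mul_index hlt.le
    rw [hidxa] at h1
    obtain ⟨j, hj, hj'⟩ := (Nat.dvd_prime_pow hp.out).1 (Dvd.intro_left _ h1)
    have h2 : j ≠ 2 := fun e => hlt.not_ge (relIndex_eq_one.1 (by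
      rw [hj', e] at h1
      exact Nat.eq_of_mul_eq_mul_right (by have := hp.out.pos; positivity) (h1.trans (one_mul _).symm)))
    rw [hj']
    exact (pow_dvd_pow p (show j ≤ 1 by omega)).trans (by rw [pow_one])
  haveI hP₀n : P₀.Normal := by
    haveI := P.2.isNilpotent
    rcases (Nat.dvd_prime hp.out).1 hidx0 with h | h
    · rw [index_eq_one.1 h]; infer_instance
    · exact normal_of_index_eq_minFac_card (by
        rw [h]
        obtain ⟨k, hk⟩ := IsPGroup.iff_card.1 P.2
        rw [hk]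
        rcases Nat.eq_zero_or_pos k with rfl | hk'
        · rw [pow_zero] at hk
          have := index_dvd_card P₀
          rw [h, hk] at this
          exact absurd (Nat.eq_one_of_dvd_one this) hp.out.ne_one
        · rw [Nat.pow_minFac hk'.ne', hp.out.minFac_eq])
  have hKP₀ : K ≤ P₀ := le_sup_right
  have hblock : ∀ h ∈ P₀, ∀ v ∈ O₁, ∃ k ∈ K, k • v = h • v := by
    rintro h hh _ ⟨q, rfl⟩
    have h1 : q⁻¹ * h * q ∈ P₀ := by simpa using hP₀n.conj_mem h hh q⁻¹
    obtain ⟨s, hs, k, hk, hsk⟩ := mem_sup_of_normal_right.1 h1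
    -- rewrite `s * k` as `k' * s`
    refine ⟨q * (s * k * s⁻¹) * q⁻¹, hKn.conj_mem _ (hKn.conj_mem k hk s) q, ?_⟩
    have hsa : s⁻¹ • a = a := by rw [inv_smul_eq_iff, mem_stabilizer_iff.1 hs]
    show (q * (s * k * s⁻¹) * q⁻¹) • q • a = h • q • a
    rw [show h = q * (s * k) * q⁻¹ by rw [hsk]; group, ← mul_smul, ← mul_smul,
      show q * (s * k * s⁻¹) * q⁻¹ * q = q * (s * k) * s⁻¹ by group,
      show q * (s * k) * q⁻¹ * q = q * (s * k) by group, mul_smul, hsa]
  -- an element of `P₀` acting centrally and semiregularly on the second orbit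
  obtain ⟨h, hh0, hhK, hhp, hhc⟩ : ∃ h ∈ P₀, h ∉ K ∧ h ^ p ∈ K ∧ ∀ q, q⁻¹ * h * q * h⁻¹ ∈ K := by
    have hne : P₀.map (QuotientGroup.mk' K) ≠ ⊥ := by
      intro e
      rw [Subgroup.map_eq_bot_iff, QuotientGroup.ker_mk'] at e
      have h1 : K ≤ stabilizer ↥(P : Subgroup G) b := fun g hg => hg b (mem_orbit_self b)
      have h2 : (stabilizer ↥(P : Subgroup G) b).index = p ^ 2 := by rw [index_stabilizer, ← Nat.card_coe_set_eq, hb2]
      have h3 := (index_dvd_of_le (e.trans h1)).trans hidx0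
      rw [h2] at h3
      have h4 := Nat.le_of_dvd hp.out.pos h3
      have h5 : p < p ^ 2 := by nlinarith [hp.out.two_le]
      omega
    haveI : (P₀.map (QuotientGroup.mk' K)).Normal := hP₀n.map _ (QuotientGroup.mk'_surjective K)
    have hQ : IsPGroup p (↥(P : Subgroup G) ⧸ K) := P.2.to_quotient K
    obtain ⟨c, hcm, hcc, hc1⟩ := Cfsg.Agent.Lib.GenStruct.exists_mem_center hQ _ hne
    obtain ⟨k, hk⟩ := IsPGroup.iff_orderOf.1 hQ c
    have hk0 : k ≠ 0 := fun e => hc1 (orderOf_eq_one_iff.1 (by rw [hk, e, pow_zero]))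
    set d := c ^ p ^ (k - 1) with hd
    obtain ⟨h, hh, hhd⟩ := Subgroup.mem_map.1 (pow_mem hcm (p ^ (k - 1)))
    have hdc : d ∈ center (↥(P : Subgroup G) ⧸ K) := pow_mem hcc _
    refine ⟨h, hh, fun e => ?_, ?_, fun q => ?_⟩
    · have : d = 1 := by rw [hd, ← hhd]; exact (QuotientGroup.eq_one_iff _).2 e
      have h1 := orderOf_dvd_of_pow_eq_one (hd ▸ this)
      rw [hk, Nat.pow_dvd_pow_iff_le_right hp.out.one_lt] at h1
      omega
    · apply (QuotientGroup.eq_one_iff _).1
      show QuotientGroup.mk' K (h ^ p) = 1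
      rw [map_pow, hhd, ← pow_mul, ← pow_succ, Nat.sub_add_cancel (Nat.pos_of_ne_zero hk0), ← hk, pow_orderOf_eq_one]
    · apply (QuotientGroup.eq_one_iff _).1
      show QuotientGroup.mk' K (q⁻¹ * h * q * h⁻¹) = 1
      rw [map_mul, map_mul, map_mul, map_inv, map_inv, hhd, ← hd, mul_assoc _ d, ← mem_center_iff.1 hdc,
        ← mul_assoc, inv_mul_cancel, one_mul, mul_inv_cancel]
  have hhmove : ∀ v ∈ O₂, h • v ≠ v := by
    intro v hv e
    refine hhK fun w hw => ?_
    obtain ⟨q, rfl⟩ : w ∈ orbit ↥(P : Subgroup G) v := by rw [orbit_eq_iff.2 hv]; exact hw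
    have h1 := hhc q (q⁻¹ • h • q • v) (by
      have : q⁻¹ • h • q • v ∈ orbit ↥(P : Subgroup G) b := by
        rw [← orbit_eq_iff.2 hv, ← mul_smul, ← mul_smul]; exact mem_orbit v _
      exact this)
    have h2 : (q⁻¹ * h * q * h⁻¹) • v = v := hhc q v hv
    have h3 : h⁻¹ • v = v := by rw [inv_smul_eq_iff, e]
    rw [mul_smul, h3, mul_smul, mul_smul, inv_smul_eq_iff] at h2
    exact h2
  -- the permutation
  let f : Ω → Ω := fun w => if w ∈ O₁ then z • w else h • w
  have hinv1 : ∀ (g : ↥(P : Subgroup G)) w, g • w ∈ O₁ ↔ w ∈ O₁ := fun g w => by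
    constructor
    · intro hw
      have := (orbit_eq_iff.2 hw).symm
      rw [orbit_smul] at this
      show w ∈ orbit ↥(P : Subgroup G) a
      rw [this]
      exact mem_orbit_self w
    · intro hw
      have : g • w ∈ orbit ↥(P : Subgroup G) w := mem_orbit w g
      rwa [orbit_eq_iff.2 hw] at this
  have hfinj : Function.Injective f := by
    intro u v huv
    simp only [f] at huv
    split_ifs at huv with hu hv hv
    · exact MulAction.injective z huv
    · exact absurd ((hinv1 h v).1 (huv ▸ (hinv1 z u).2 hu)) hv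
    · exact absurd ((hinv1 h u).1 (huv ▸ (hinv1 z v).2 hv)) hu
    · exact MulAction.injective h huv
  let σ : Equiv.Perm Ω := Equiv.ofBijective f hfinj.bijective_of_finite
  have hσ1 : ∀ w ∈ O₁, σ w = (z : G) • w := fun w hw => if_pos hw
  have hσ2 : ∀ w, w ∉ O₁ → σ w = (h : G) • w := fun w hw => if_neg hw
  have hmix : ∀ u v, u ∈ O₁ → v ∉ O₁ → ∃ g : G, σ u = g • u ∧ σ v = g • v := by
    intro u v hu hv
    obtain ⟨k, hk, hku⟩ := hblock (h⁻¹ * z) (mul_mem (inv_mem hh0) (hKP₀ hzK)) u hu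
    refine ⟨((h * k : ↥(P : Subgroup G)) : G), ?_, ?_⟩
    · rw [hσ1 u hu]
      show z • u = (h * k) • u
      rw [mul_smul, hku, ← mul_smul, mul_inv_cancel_left]
    · rw [hσ2 v hv]
      show h • v = (h * k) • v
      rw [mul_smul, hk v ((hcov v).resolve_left hv)]
  obtain ⟨g, hg⟩ := hcl σ fun u v => by
    by_cases hu : u ∈ O₁ <;> by_cases hv : v ∈ O₁
    · exact ⟨z, hσ1 u hu, hσ1 v hv⟩
    · exact hmix u v hu hv
    · obtain ⟨g, h1, h2⟩ := hmix v u hv hu
      exact ⟨g, h2, h1⟩
    · exact ⟨h, hσ2 u hu, hσ2 v hv⟩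
  have hpow1 : ∀ (n : ℕ) w, w ∈ O₁ → g ^ n • w = (z ^ n) • w := by
    intro n
    induction n with
    | zero => intro w _; simp
    | succ n ih =>
      intro w hw
      have e : g • w = z • w := ((hg w).symm.trans (hσ1 w hw))
      rw [pow_succ, mul_smul, e, ih _ ((hinv1 z w).2 hw), pow_succ, mul_smul]
  have hpow2 : ∀ (n : ℕ) w, w ∉ O₁ → g ^ n • w = (h ^ n) • w := by
    intro n
    induction n with
    | zero => intro w _; simp
    | succ n ih =>
      intro w hw
      have e : g • w = h • w := ((hg w).symm.trans (hσ2 w hw))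
      rw [pow_succ, mul_smul, e, ih _ (fun x => hw ((hinv1 h w).1 x)), pow_succ, mul_smul]
  have hmove : ∀ w, g • w ≠ w := fun w e => by
    by_cases hw : w ∈ O₁
    · have := hpow1 1 w hw
      rw [pow_one, pow_one, e] at this
      exact hzmove w hw this.symm
    · have := hpow2 1 w hw
      rw [pow_one, pow_one, e] at this
      exact hhmove w ((hcov w).resolve_left hw) this.symm
  refine ⟨g, ?_, hmove⟩
  rw [orderOf_eq_prime (p := p) ?_ fun e => hmove a (by rw [e, one_smul])]
  · exact hp.out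
  refine eq_of_smul_eq_smul (α := Ω) fun w => ?_
  rw [one_smul]
  by_cases hw : w ∈ O₁
  · have e : z ^ p = 1 := by
      have := pow_orderOf_eq_one z
      rwa [hzo] at this
    rw [hpow1 p w hw, e, one_smul]
  · rw [hpow2 p w hw]
    exact hhp w ((hcov w).resolve_left hw)

/-- Let G act faithfully and transitively on a finite set with 2p² points, p a prime, and suppose G is 2-closed: every permutation of the set which, on each ordered pair of points, agrees with some element of G, is itself induced by an element of G. Then some element of G of prime order fixes no point. -/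
theorem result {G Ω : Type*} [Group G] [Finite G] [MulAction G Ω] [FaithfulSMul G Ω] [Finite Ω]
    (htrans : MulAction.IsPretransitive G Ω) (p : ℕ) (hp : p.Prime) (hcard : Nat.card Ω = 2 * p ^ 2)
    (hcl : ∀ σ : Equiv.Perm Ω, (∀ a b : Ω, ∃ g : G, σ a = g • a ∧ σ b = g • b) → ∃ g : G, ∀ a : Ω, σ a = g • a) :
    ∃ g : G, (orderOf g).Prime ∧ ∀ ω : Ω, g • ω ≠ ω := by
  classical
  haveI := Fact.mk hp
  haveI := htrans
  obtain ⟨P⟩ : Nonempty (Sylow p G) := inferInstance
  have hne : Nonempty Ω := (Nat.card_pos_iff.1 (by rw [hcard]; have := hp.pos; positivity)).1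
  obtain ⟨a⟩ := hne
  -- orbits of the Sylow subgroup
  have horb : ∀ v : Ω, p ^ 2 ∣ Nat.card (orbit ↥(P : Subgroup G) v) := by
    intro v
    have h1 : (stabilizer G v).index = 2 * p ^ 2 := by rw [index_stabilizer_of_transitive, hcard]
    have hG := (stabilizer G v).card_mul_index
    rw [h1] at hG
    rw [Nat.card_coe_set_eq, ← index_stabilizer]
    have hS := (stabilizer ↥(P : Subgroup G) v).card_mul_index
    obtain ⟨i, hi⟩ := IsPGroup.iff_card.1 (P.2.to_subgroup (stabilizer ↥(P : Subgroup G) v))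
    obtain ⟨j, hj⟩ := P.2.index (stabilizer ↥(P : Subgroup G) v)
    rw [hi, hj, ← pow_add, P.card_eq_multiplicity] at hS
    have hij := Nat.pow_right_injective hp.two_le hS
    rw [hj]
    refine pow_dvd_pow p ?_
    have hdvd : Nat.card (stabilizer ↥(P : Subgroup G) v) ∣ Nat.card (stabilizer G v) :=
      card_dvd_of_injective
        (((P : Subgroup G).subtype.comp (stabilizer ↥(P : Subgroup G) v).subtype).codRestrict (stabilizer G v)
          fun x => x.2)
        (fun x y e => Subtype.ext (Subtype.ext (congrArg (fun t : stabilizer G v => (t : G)) e)))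
    rw [hi] at hdvd
    have h5 : p ^ (i + 2) ∣ Nat.card G := by
      rw [← hG, pow_add]
      exact mul_dvd_mul hdvd (dvd_mul_left _ _)
    rw [hp.pow_dvd_iff_le_factorization Nat.card_pos.ne'] at h5
    omega
  -- a central element of order p
  have hPne : (⊤ : Subgroup ↥(P : Subgroup G)) ≠ ⊥ := by
    intro e
    have h1 : Subsingleton ↥(P : Subgroup G) := subsingleton_iff.1 ⟨fun x y => by
      have hx : ∀ q : ↥(P : Subgroup G), q = 1 := fun q => mem_bot.1 (e ▸ mem_top q)
      exact ((eq_top_iff' x).2 (fun q => hx q ▸ x.one_mem)).trans ((eq_top_iff' y).2 (fun q => hx q ▸ y.one_mem)).symm⟩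
    have h2 := horb a
    rw [show Nat.card (orbit ↥(P : Subgroup G) a) = 1 from Nat.card_eq_one_iff_unique.2
      ⟨⟨fun ⟨x, q, hq⟩ ⟨y, r, hr⟩ => Subtype.ext (hq.symm.trans ((by rw [Subsingleton.elim q r] : q • a = r • a).trans hr))⟩,
        ⟨⟨a, mem_orbit_self a⟩⟩⟩] at h2
    exact absurd (Nat.eq_one_of_dvd_one h2) (by nlinarith [hp.two_le])
  obtain ⟨z₀, -, hz₀, hz₀1⟩ := Cfsg.Agent.Lib.GenStruct.exists_mem_center P.2 ⊤ hPne
  obtain ⟨k, hk⟩ := IsPGroup.iff_orderOf.1 P.2 z₀
  have hk0 : k ≠ 0 := fun e => hz₀1 (orderOf_eq_one_iff.1 (by rw [hk, e, pow_zero]))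
  set z := z₀ ^ p ^ (k - 1) with hz
  have hzc : z ∈ center ↥(P : Subgroup G) := pow_mem hz₀ _
  have hzo : orderOf z = p := orderOf_eq_prime
    (by rw [hz, ← pow_mul, ← pow_succ, Nat.sub_add_cancel (Nat.pos_of_ne_zero hk0), ← hk, pow_orderOf_eq_one])
    (fun e => by
      have h1 := orderOf_dvd_of_pow_eq_one e
      rw [hk, Nat.pow_dvd_pow_iff_le_right hp.one_lt] at h1
      omega)
  by_cases hfpf : ∀ w : Ω, (z : G) • w ≠ w
  · exact ⟨z, by rw [orderOf_coe, hzo]; exact hp, hfpf⟩
  push Not at hfpf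
  obtain ⟨b, hb⟩ := hfpf
  have hb' : z • b = b := hb
  obtain ⟨c, hc⟩ : ∃ c, c ∉ orbit ↥(P : Subgroup G) b := by
    by_contra hall
    push Not at hall
    have h1 : z = 1 := Subtype.ext (eq_of_smul_eq_smul (α := Ω) fun w => by
      rw [OneMemClass.coe_one, one_smul]; exact fix_orbit hzc hb' (hall w))
    rw [h1, orderOf_one] at hzo
    exact hp.ne_one hzo.symm
  have hdisj : Disjoint (orbit ↥(P : Subgroup G) c) (orbit ↥(P : Subgroup G) b) := by
    rw [Set.disjoint_left]
    intro w hw hw'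
    exact hc (by rw [← orbit_eq_iff.2 hw', orbit_eq_iff.2 hw]; exact mem_orbit_self c)
  have hsum : Nat.card (orbit ↥(P : Subgroup G) c) + Nat.card (orbit ↥(P : Subgroup G) b) =
      (orbit ↥(P : Subgroup G) c ∪ orbit ↥(P : Subgroup G) b).ncard := by
    rw [Set.ncard_union_eq hdisj, Nat.card_coe_set_eq, Nat.card_coe_set_eq]
  have hle : (orbit ↥(P : Subgroup G) c ∪ orbit ↥(P : Subgroup G) b).ncard ≤ 2 * p ^ 2 := by
    rw [← hcard, ← Set.ncard_univ]; exact Set.ncard_le_ncard (Set.subset_univ _)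
  haveI : Nonempty (orbit ↥(P : Subgroup G) c) := ⟨⟨c, mem_orbit_self c⟩⟩
  haveI : Nonempty (orbit ↥(P : Subgroup G) b) := ⟨⟨b, mem_orbit_self b⟩⟩
  have hc2 := Nat.le_of_dvd Nat.card_pos (horb c)
  have hb2 := Nat.le_of_dvd Nat.card_pos (horb b)
  have huniv : orbit ↥(P : Subgroup G) c ∪ orbit ↥(P : Subgroup G) b = Set.univ :=
    Set.eq_of_subset_of_ncard_le (Set.subset_univ _) (by rw [Set.ncard_univ, hcard]; omega)
  exact derangement_of_two_orbits p P hcl (a := c) (b := b)
    (fun w => (huniv.ge (Set.mem_univ w))) (fun h => hc (by rw [orbit_eq_iff.2 (show b ∈ orbit ↥(P : Subgroup G) c from h)]; exact mem_orbit_self c))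
    (by omega) (by omega) hzc hzo hb'

end Cfsg.Agent.S3557
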