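import Cfsg.Statements.S3716
import Cfsg.Agent.Lib.Involution.NineMain
import Cfsg.Agent.S3805

set_option autoImplicit false
open Cfsg

namespace Cfsg.Agent.S3716

open Cfsg.Agent.Lib.Involution Cfsg.Agent.Lib.Involution.Nine Subgroup

universe u

variable {G : Type u} [Group G]

/-- A rotation in the first coordinate. -/
abbrev rotA : Wq := ⟨(Equiv.swap 0 1 * Equiv.swap 1 2, 1), 1⟩
/-- A rotation in the second coordinate. -/
abbrev rotB : Wq := ⟨(1, Equiv.swap 0 1 * Equiv.swap 1 2), 1⟩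

theorem comm_rot : ∀ x : Wq, x * rotA = rotA * x → x * rotB = rotB * x → InT x := by decide +kernel
theorem conj_rot : ∀ x : Wq, InT (x * rotA * x⁻¹ * rotA⁻¹) ∧ InT (x * rotB * x⁻¹ * rotB⁻¹) := by decide +kernel
theorem rot_cases : ∀ x : Wq, InT x → x = 1 ∨ x * (r1 * x * r1⁻¹) = rotB ∨ x * (r1 * x * r1⁻¹) = rotB⁻¹ ∨
    x = rotA ∨ x = rotA⁻¹ := by decide +kernel
theorem cube_iff : ∀ x : Wq, x ^ 3 = 1 ↔ InT x := by decide +kernel

/-- An involution pair generating a dihedral group of order `8` gives a copy of the model. -/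
theorem exists_model [Finite G] (M N : Subgroup G) (hN72 : Nat.card N = 72) (hMN : M ≤ N)
    (hM3 : ∀ m ∈ M, m ^ 3 = 1) (hMc : ∀ x ∈ M, ∀ y ∈ M, x * y = y * x)
    (hconj : ∀ g ∈ N, ∀ m ∈ M, g * m * g⁻¹ ∈ M) (hfaith : ∀ g, (∀ m ∈ M, g * m * g⁻¹ = m) → g ∈ M)
    (hp : ∀ g ∈ N, g ^ 3 = 1 → g ∈ M)
    (s t : G) (hs : s ∈ N) (ht : t ∈ N) (hs2 : s * s = 1) (ht2 : t * t = 1)
    (h4 : s * t * (s * t) * (s * t * (s * t)) = 1) (hst : s ∉ M)
    (hinv : ∀ m ∈ M, s * t * (s * t) * m * (s * t * (s * t))⁻¹ = m⁻¹) :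
    ∃ f : Wq →* G, Function.Injective f ∧ f.range = N ∧ (∀ x, f x ∈ M ↔ InT x) ∧
      f r1 = s ∧ f r2 = t ∧ f rz = s * t * (s * t) := by
  have si : s⁻¹ = s := inv_eq_of_mul_eq_one_right hs2
  have ti : t⁻¹ = t := inv_eq_of_mul_eq_one_right ht2
  obtain ⟨a, ha, ha1, hsa⟩ : ∃ a ∈ M, a ≠ 1 ∧ s * a * s⁻¹ = a⁻¹ := by
    obtain ⟨m, hm, hne⟩ : ∃ m ∈ M, s * m * s⁻¹ ≠ m := by
      by_contra h
      push Not at h
      exact hst (hfaith s h)
    refine ⟨s * m * s⁻¹ * m⁻¹, mul_mem (hconj s hs m hm) (inv_mem hm),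
      fun h => hne (mul_inv_eq_one.mp h), ?_⟩
    calc s * (s * m * s⁻¹ * m⁻¹) * s⁻¹ = s * s * m * (s⁻¹ * s⁻¹) * (s * m * s⁻¹)⁻¹ := by group
      _ = m * (s * m * s⁻¹)⁻¹ := by rw [← mul_inv_rev, hs2]; group
      _ = (s * m * s⁻¹ * m⁻¹)⁻¹ := by group
  -- the second coordinate is the conjugate by `t`
  have hts : t * s * t⁻¹ = s * (s * t * (s * t)) := by
    rw [ti]
    calc t * s * t = s * s * (t * s * t) := by rw [hs2, one_mul]
      _ = s * (s * t * (s * t)) := by group
  have hfix : (t * s * t⁻¹) * a * (t * s * t⁻¹)⁻¹ = a := by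
    rw [hts]
    calc s * (s * t * (s * t)) * a * (s * (s * t * (s * t)))⁻¹
        = s * ((s * t * (s * t)) * a * (s * t * (s * t))⁻¹) * s⁻¹ := by group
      _ = (s * a * s⁻¹)⁻¹ := by rw [hinv a ha]; group
      _ = a := by rw [hsa, inv_inv]
  let g1 : Equiv.Perm (Fin 3) →* G := S3805.symThreeHom a s (hM3 a ha) hs2 hsa
  let g2 : Equiv.Perm (Fin 3) →* G := (MulAut.conj t).toMonoidHom.comp g1
  have hg1 : ∀ x, g1 x = a ^ (S3805.rotIdx x : ℕ) * s ^ S3805.par x := fun x => rfl
  have hg2 : ∀ x, g2 x = t * g1 x * t⁻¹ := fun x => rfl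
  have hcomm : ∀ x y, Commute (g1 x) (g2 y) := by
    intro x y
    have hb : t * a * t⁻¹ ∈ M := hconj t ht a ha
    have c1 : Commute a (t * a * t⁻¹) := hMc _ ha _ hb
    have c2 : Commute a (t * s * t⁻¹) := (mul_inv_eq_iff_eq_mul.mp hfix).symm
    have c3 : Commute s (t * a * t⁻¹) := by
      refine mul_inv_eq_iff_eq_mul.mp ?_
      have : s = t * (t * s * t⁻¹) * t⁻¹ := by
        rw [ti]
        calc s = t * t * s * (t * t) := by rw [ht2]; group
          _ = t * (t * s * t) * t := by group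
      calc s * (t * a * t⁻¹) * s⁻¹ = t * (t * s * t⁻¹) * t⁻¹ * (t * a * t⁻¹) * (t * (t * s * t⁻¹) * t⁻¹)⁻¹ := by
            rw [← this]
        _ = t * ((t * s * t⁻¹) * a * (t * s * t⁻¹)⁻¹) * t⁻¹ := by group
        _ = t * a * t⁻¹ := by rw [hfix]
    have c4 : Commute s (t * s * t⁻¹) := by
      rw [hts]
      show s * (s * (s * t * (s * t))) = s * (s * t * (s * t)) * s
      rw [mul_assoc s (s * t * (s * t)) s]
      refine (mul_right_inj s).mpr ?_
      calc s * (s * t * (s * t)) = (t * s * t * s) * s := by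
            rw [show s * (s * t * (s * t)) = (s * s) * (t * s * t) by group, hs2,
              show t * s * t * s * s = t * s * t * (s * s) by group, hs2]
            group
        _ = (s * t * (s * t))⁻¹ * s := by
            rw [mul_inv_rev, mul_inv_rev, si, ti]
            group
        _ = s * t * (s * t) * s := by rw [inv_eq_of_mul_eq_one_right h4]
    have e : g2 y = (t * a * t⁻¹) ^ (S3805.rotIdx y : ℕ) * (t * s * t⁻¹) ^ S3805.par y := by
      rw [hg2, hg1, conj_pow, conj_pow]; group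
    rw [hg1, e]
    exact ((c1.pow_pow _ _).mul_right (c2.pow_pow _ _)).mul_left ((c3.pow_pow _ _).mul_right (c4.pow_pow _ _))
  let F : Base →* G := MonoidHom.noncommCoprod g1 g2 hcomm
  let ft : ℤˣ →* G := MonoidHom.mk' (fun u => if u = 1 then 1 else t) fun u v => by
    rcases Int.units_eq_one_or u with rfl | rfl <;> rcases Int.units_eq_one_or v with rfl | rfl <;>
      simp [ht2]
  have hF : ∀ x : Base, F x = g1 x.1 * g2 x.2 := fun x => rfl
  let f : Wq →* G := SemidirectProduct.lift F ft fun u => by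
    refine MonoidHom.ext fun x => ?_
    rcases Int.units_eq_one_or u with rfl | rfl
    · simp [twist]
    · show F (x.2, x.1) = (MulAut.conj t) (F x)
      rw [hF, hF, MulAut.conj_apply, hg2, hg2]
      calc g1 x.2 * (t * g1 x.1 * t⁻¹) = t * g1 x.1 * t⁻¹ * g1 x.2 := (hcomm x.2 x.1).eq
        _ = t * (g1 x.1 * (t * g1 x.2 * t⁻¹)) * t⁻¹ := by
            rw [ti]
            calc t * g1 x.1 * t * g1 x.2 = t * g1 x.1 * t * g1 x.2 * (t * t) := by rw [ht2, mul_one]
              _ = t * (g1 x.1 * (t * g1 x.2 * t)) * t := by group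
  have hfx : ∀ x : Wq, f x = g1 x.left.1 * g2 x.left.2 * ft x.right := fun x => rfl
  have e1 : f r1 = s := by
    rw [hfx, hg2, hg1, hg1, show S3805.rotIdx (Equiv.swap (0 : Fin 3) 1) = 0 by decide,
      show S3805.par (Equiv.swap (0 : Fin 3) 1) = 1 by decide,
      show S3805.rotIdx (1 : Equiv.Perm (Fin 3)) = 0 by decide,
      show S3805.par (1 : Equiv.Perm (Fin 3)) = 0 by decide, map_one]
    simp
  have e2 : f r2 = t := by
    rw [hfx, Prod.fst_one, Prod.snd_one, map_one, map_one]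
    simp [ft]
  have ez : f rz = s * t * (s * t) := by
    rw [hfx, hg2, hg1, show S3805.rotIdx (Equiv.swap (0 : Fin 3) 1) = 0 by decide,
      show S3805.par (Equiv.swap (0 : Fin 3) 1) = 1 by decide, map_one, ti]
    simp [mul_assoc]
  have eA : f rotA = a := by
    rw [hfx, hg2, hg1, hg1,
      show S3805.rotIdx (Equiv.swap (0 : Fin 3) 1 * Equiv.swap 1 2) = 1 by decide,
      show S3805.par (Equiv.swap (0 : Fin 3) 1 * Equiv.swap 1 2) = 0 by decide,
      show S3805.rotIdx (1 : Equiv.Perm (Fin 3)) = 0 by decide,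
      show S3805.par (1 : Equiv.Perm (Fin 3)) = 0 by decide, map_one]
    simp
  have eB : f rotB = t * a * t⁻¹ := by
    rw [hfx, hg2, hg1, hg1,
      show S3805.rotIdx (Equiv.swap (0 : Fin 3) 1 * Equiv.swap 1 2) = 1 by decide,
      show S3805.par (Equiv.swap (0 : Fin 3) 1 * Equiv.swap 1 2) = 0 by decide,
      show S3805.rotIdx (1 : Equiv.Perm (Fin 3)) = 0 by decide,
      show S3805.par (1 : Equiv.Perm (Fin 3)) = 0 by decide, map_one]
    simp
  have hTinj : ∀ x, InT x → f x = 1 → x = 1 := by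
    intro x hx h1
    have h2 : f (x * (r1 * x * r1⁻¹)) = 1 := by
      rw [map_mul, map_mul, map_mul, map_inv, h1, one_mul, mul_one, mul_inv_cancel]
    rcases rot_cases x hx with h | h | h | h | h
    · exact h
    · rw [h, eB, conj_eq_one_iff] at h2; exact absurd h2 ha1
    · rw [h, map_inv, inv_eq_one, eB, conj_eq_one_iff] at h2; exact absurd h2 ha1
    · rw [h, eA] at h1; exact absurd h1 ha1
    · rw [h, map_inv, inv_eq_one, eA] at h1; exact absurd h1 ha1
  have hinj : Function.Injective f := by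
    rw [injective_iff_map_eq_one]
    intro x hx
    have hc : ∀ y, InT (x * y * x⁻¹ * y⁻¹) → x * y = y * x := fun y hy => by
      have := hTinj _ hy (by rw [map_mul, map_mul, map_mul, hx, map_inv, hx, map_inv]; group)
      exact mul_inv_eq_one.mp (by rw [← this]; group)
    exact hTinj x (comm_rot x (hc _ (conj_rot x).1) (hc _ (conj_rot x).2)) hx
  have hle : f.range ≤ N := by
    rintro _ ⟨x, rfl⟩
    have hg : ∀ y, g1 y ∈ N := fun y => by
      rw [hg1]; exact mul_mem (pow_mem (hMN ha) _) (pow_mem hs _)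
    rw [hfx, hg2]
    refine mul_mem (mul_mem (hg _) (mul_mem (mul_mem ht (hg _)) (inv_mem ht))) ?_
    simp only [ft, MonoidHom.mk'_apply]
    split_ifs
    · exact one_mem N
    · exact ht
  have hr : f.range = N := by
    refine eq_of_le_of_card_ge hle (le_of_eq ?_)
    rw [hN72, ← Nat.card_congr (MonoidHom.ofInjective hinj).toEquiv, Nat.card_eq_fintype_card]
    decide +kernel
  refine ⟨f, hinj, hr, fun x => ⟨fun h => ?_, fun h => ?_⟩, e1, e2, ez⟩
  · exact (cube_iff x).mp (hinj (by rw [map_pow, hM3 _ h, map_one]))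
  · exact hp _ (hle ⟨x, rfl⟩) (by rw [← map_pow, (cube_iff x).mpr h, map_one])

/-- Let G be a finite group with an elementary abelian Sylow 3-subgroup M of order 9 which is self-centralizing (C_G(M) = M), let N = N_G(M), and suppose C_G(g) ≤ N for every nonidentity g ∈ M. If the Sylow 2-subgroups of N are dihedral of order 8, then G is not simple. -/
theorem result {G : Type*} [Group G] [Finite G] (M : Sylow 3 G) (hM9 : Nat.card ↥(M : Subgroup G) = 9)
    (hMel : ∀ m ∈ (M : Subgroup G), m ^ 3 = 1)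
    (hCM : Subgroup.centralizer ((M : Subgroup G) : Set G) = (M : Subgroup G))
    (N : Subgroup G) (hN : N = Subgroup.normalizer ((M : Subgroup G) : Set G))
    (hCg : ∀ g ∈ (M : Subgroup G), g ≠ 1 → Subgroup.centralizer ({g} : Set G) ≤ N)
    (hS : ∀ S : Sylow 2 ↥N, Nonempty (↥(S : Subgroup ↥N) ≃* DihedralGroup 4)) :
    ¬ IsSimpleGroup G := by
  classical
  intro hsim
  haveI : Fact (Nat.Prime 2) := ⟨Nat.prime_two⟩
  haveI : Fact (Nat.Prime 3) := ⟨Nat.prime_three⟩
  set T : Subgroup G := (M : Subgroup G) with hTdef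
  have hTN : T ≤ N := hN ▸ le_normalizer
  have hTc : ∀ x ∈ T, ∀ y ∈ T, x * y = y * x := fun x hx y hy => by
    rw [← hCM] at hx
    exact ((mem_centralizer_iff.mp hx) y hy).symm
  have hconj : ∀ g ∈ N, ∀ m ∈ T, g * m * g⁻¹ ∈ T := fun g hg m hm => by
    rw [hN] at hg
    exact (mem_normalizer_iff.mp hg m).mp hm
  have hfaith : ∀ g, (∀ m ∈ T, g * m * g⁻¹ = m) → g ∈ T := fun g h => by
    rw [← hCM, mem_centralizer_iff]
    exact fun m hm => (mul_inv_eq_iff_eq_mul.mp (h m hm)).symm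
  set Tn := T.subgroupOf N with hTn
  haveI hTnn : Tn.Normal := ⟨fun n hn g => mem_subgroupOf.mpr (by
    simpa using hconj g g.2 n (mem_subgroupOf.mp hn))⟩
  have hcardTn : Nat.card Tn = 9 := by
    rw [hTn, Nat.card_congr (subgroupOfEquivOfLe hTN).toEquiv, hM9]
  -- the index of `M` in `N`
  have hS8 : ∀ S : Sylow 2 N, Nat.card (S : Subgroup N) = 8 := fun S => by
    obtain ⟨e⟩ := hS S
    rw [Nat.card_congr e.toEquiv, DihedralGroup.nat_card]
  have h3n : ¬ 3 ∣ Tn.index := fun h => M.not_dvd_index (h.trans (by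
    rw [hTn]; exact relIndex_dvd_index_of_le hTN))
  have hcardN : Nat.card N = Tn.index * 9 := by
    rw [← hcardTn, mul_comm, card_mul_index]
  have hprime : ∀ q, q.Prime → q ∣ Tn.index → q = 2 := by
    intro q hq hdvd
    by_contra hq2
    have hq3 : q ≠ 3 := fun h => h3n (h ▸ hdvd)
    haveI : Fact q.Prime := ⟨hq⟩
    obtain ⟨x, hx⟩ := exists_prime_orderOf_dvd_card' (G := N) q (by rw [hcardN]; exact hdvd.mul_right 9)
    have hxT : (x : G) ∉ T := fun h => hq3 (by
      have h3 : orderOf x ∣ 3 := orderOf_dvd_of_pow_eq_one (Subtype.ext (by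
        rw [SubgroupClass.coe_pow]; exact hMel _ h))
      rw [hx] at h3
      exact (Nat.prime_dvd_prime_iff_eq hq Nat.prime_three).mp h3)
    refine hxT (hfaith x fun m hm => ?_)
    let act : MulAction (zpowers x) Tn := MulAction.compHom Tn
      ((MulAut.conjNormal : N →* MulAut Tn).comp (zpowers x).subtype)
    have hP : IsPGroup q (zpowers x) := IsPGroup.of_card (n := 1) (by rw [Nat.card_zpowers, hx, pow_one])
    have hfix : MulAction.fixedPoints (zpowers x) Tn =
        ((centralizer ({x} : Set N)).subgroupOf Tn : Set Tn) := by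
      ext m
      simp only [MulAction.mem_fixedPoints, SetLike.mem_coe, mem_subgroupOf, mem_centralizer_singleton_iff]
      constructor
      · intro h
        have := congrArg Subtype.val (h ⟨x, mem_zpowers x⟩)
        simp only [show ((⟨x, mem_zpowers x⟩ : zpowers x) • m : Tn) = MulAut.conjNormal x m from rfl,
          MulAut.conjNormal_apply] at this
        exact (mul_inv_eq_iff_eq_mul.mp this).symm
      · rintro h ⟨_, i, rfl⟩
        refine Subtype.ext ?_
        show ((MulAut.conjNormal (x ^ i) m : Tn) : N) = m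
        rw [MulAut.conjNormal_apply, mul_inv_eq_iff_eq_mul]
        exact ((show Commute x (m : N) from h.symm).zpow_left i).eq
    have hmod := hP.card_modEq_card_fixedPoints (α := Tn)
    rw [hcardTn, hfix] at hmod
    set C := (centralizer ({x} : Set N)).subgroupOf Tn with hC
    have hdvdC : Nat.card C ∣ 9 := hcardTn ▸ C.card_subgroup_dvd_card
    have hC9 : Nat.card C = 9 := by
      obtain ⟨i, hi, hi'⟩ := (Nat.dvd_prime_pow Nat.prime_three (m := 2)).mp hdvdC
      interval_cases i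
      · exfalso
        rw [SetLike.coe_sort_coe, hi'] at hmod
        have h8 : q ∣ 8 := (Nat.modEq_iff_dvd' (by norm_num)).mp hmod.symm
        exact hq2 ((Nat.prime_dvd_prime_iff_eq hq Nat.prime_two).mp (hq.dvd_of_dvd_pow (n := 3) h8))
      · exfalso
        rw [SetLike.coe_sort_coe, hi'] at hmod
        have h6 : q ∣ 2 * 3 := (Nat.modEq_iff_dvd' (by norm_num)).mp hmod.symm
        rcases hq.dvd_mul.mp h6 with h | h
        · exact hq2 ((Nat.prime_dvd_prime_iff_eq hq Nat.prime_two).mp h)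
        · exact hq3 ((Nat.prime_dvd_prime_iff_eq hq Nat.prime_three).mp h)
      · exact hi'
    have htop : C = ⊤ := eq_top_of_card_eq C (by rw [hC9, hcardTn])
    have := mem_centralizer_singleton_iff.mp (mem_subgroupOf.mp
      (htop ▸ mem_top (⟨⟨m, hTN hm⟩, mem_subgroupOf.mpr hm⟩ : Tn)))
    exact mul_inv_eq_iff_eq_mul.mpr (congrArg Subtype.val this).symm
  obtain ⟨S⟩ : Nonempty (Sylow 2 N) := inferInstance
  have hidx : Tn.index = 8 := by
    have h0 : Tn.index ≠ 0 := index_ne_zero_of_finite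
    have hpow : Tn.index = 2 ^ Tn.index.primeFactorsList.length :=
      Nat.eq_prime_pow_of_unique_prime_dvd h0 fun {d} hd h => hprime d hd h
    set k := Tn.index.primeFactorsList.length
    have h := S.card_eq_multiplicity
    rw [hS8 S, hcardN, hpow, Nat.factorization_mul (by positivity) (by norm_num), Finsupp.coe_add,
      Pi.add_apply, Nat.prime_two.factorization_pow, Finsupp.single_eq_same,
      Nat.factorization_eq_zero_of_not_dvd (by norm_num : ¬ 2 ∣ 9), add_zero] at h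
    rw [hpow, ← h]
  have hN72 : Nat.card N = 72 := by rw [hcardN, hidx]
  have hpmem : ∀ g ∈ N, (∃ k : ℕ, g ^ 3 ^ k = 1) → g ∈ T := by
    intro g hg ⟨k, hk⟩
    have h8 : (⟨g, hg⟩ : N) ^ 8 ∈ Tn := hidx ▸ pow_index_mem Tn ⟨g, hg⟩
    have h1 : (⟨g, hg⟩ : N) ^ 3 ^ k = 1 := Subtype.ext hk
    have hco : (orderOf (⟨g, hg⟩ : N)).Coprime 8 :=
      Nat.Coprime.coprime_dvd_left (orderOf_dvd_of_pow_eq_one h1) ((by decide : Nat.Coprime 3 8).pow_left k)
    obtain ⟨m, hm⟩ := exists_pow_eq_self_of_coprime (Nat.Coprime.symm hco)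
    have := pow_mem h8 m
    rw [hm] at this
    exact mem_subgroupOf.mp this
  -- the dihedral group
  obtain ⟨e⟩ := hS S
  let ψ : DihedralGroup 4 →* G := N.subtype.comp ((S : Subgroup N).subtype.comp e.symm.toMonoidHom)
  have hψinj : Function.Injective ψ :=
    N.subtype_injective.comp ((S : Subgroup N).subtype_injective.comp e.symm.injective)
  have hψN : ∀ d, ψ d ∈ N := fun d => (((e.symm d : (S : Subgroup N)) : N)).2
  have hψT : ∀ d, ψ d ∈ T → d = 1 := by
    intro d hd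
    have key : ∀ d : DihedralGroup 4, d ^ 3 = 1 → d = 1 := by decide
    exact key d (hψinj (by rw [map_pow, map_one]; exact hMel _ hd))
  set w : DihedralGroup 4 := DihedralGroup.r 2 with hw
  set z := ψ w with hzdef
  have hz2 : z * z = 1 := by rw [hzdef, ← map_mul, show w * w = 1 by decide, map_one]
  have hzi : z⁻¹ = z := inv_eq_of_mul_eq_one_right hz2
  -- the central involution inverts `M`
  have hfixpt : ∀ b ∈ T, z * b * z⁻¹ = b → b = 1 := by
    intro b hb hzb
    by_contra hb1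
    obtain ⟨a, ha, ha1, hza⟩ : ∃ a ∈ T, a ≠ 1 ∧ z * a * z⁻¹ = a⁻¹ := by
      obtain ⟨m, hm, hne⟩ : ∃ m ∈ T, z * m * z⁻¹ ≠ m := by
        by_contra h
        push Not at h
        exact absurd (hψT w (hfaith z h)) (by decide)
      refine ⟨z * m * z⁻¹ * m⁻¹, mul_mem (hconj z (hψN _) m hm) (inv_mem hm),
        fun h => hne (mul_inv_eq_one.mp h), ?_⟩
      calc z * (z * m * z⁻¹ * m⁻¹) * z⁻¹ = z * z * m * (z⁻¹ * z⁻¹) * (z * m * z⁻¹)⁻¹ := by group
        _ = m * (z * m * z⁻¹)⁻¹ := by rw [← mul_inv_rev, hz2]; group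
        _ = (z * m * z⁻¹ * m⁻¹)⁻¹ := by group
    -- the two eigenspaces are cyclic of order `3`
    have hab : ∀ i j : Fin 3, a ^ (i : ℕ) * b ^ (j : ℕ) = 1 → i = 0 ∧ j = 0 := by
      intro i j h
      have h2 : (a ^ (i : ℕ))⁻¹ * b ^ (j : ℕ) = 1 := by
        have h' := congrArg (fun g => z * g * z⁻¹) h
        simp only [mul_one, mul_inv_cancel] at h'
        rw [← inv_pow, ← hza]
        calc (z * a * z⁻¹) ^ (i : ℕ) * b ^ (j : ℕ) = (z * a * z⁻¹) ^ (i : ℕ) * (z * b * z⁻¹) ^ (j : ℕ) := by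
              rw [hzb]
          _ = 1 := by rw [conj_pow, conj_pow, ← h']; group
      have h3 : a ^ (i : ℕ) = (a ^ (i : ℕ))⁻¹ := mul_right_cancel (h.trans h2.symm)
      have key : ∀ (g : G) (i : Fin 3), g ≠ 1 → g ^ 3 = 1 → g ^ (i : ℕ) = 1 → i = 0 := by
        intro g i hg h3 hi
        by_contra hne
        have h1 := orderOf_dvd_of_pow_eq_one hi
        rw [orderOf_eq_prime h3 hg] at h1
        have := Nat.le_of_dvd (Nat.pos_of_ne_zero fun h => hne (Fin.ext h)) h1
        omega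
      have hi : i = 0 := by
        refine key a i ha1 (hMel a ha) ?_
        have h4 : (a ^ (i : ℕ)) ^ 2 = 1 := by rw [pow_two]; exact eq_inv_iff_mul_eq_one.mp h3
        have h5 : (a ^ (i : ℕ)) ^ 3 = 1 := hMel _ (pow_mem ha _)
        rwa [pow_succ, h4, one_mul] at h5
      subst hi
      exact ⟨rfl, key b j hb1 (hMel b hb) (by simpa using h)⟩
    have hTab : ∀ m ∈ T, ∃ i j : Fin 3, a ^ (i : ℕ) * b ^ (j : ℕ) = m := by
      intro m hm
      let F : Fin 3 × Fin 3 → T := fun p =>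
        ⟨a ^ (p.1 : ℕ) * b ^ (p.2 : ℕ), mul_mem (pow_mem ha _) (pow_mem hb _)⟩
      have hF : Function.Injective F := by
        intro p q h
        have h' := congrArg Subtype.val h
        simp only [F] at h'
        obtain ⟨e1, e2⟩ := hab (p.1 - q.1) (p.2 - q.2) (by
          rw [S3805.pow_sub_three (hMel a ha), S3805.pow_sub_three (hMel b hb), inv_pow, inv_pow]
          have c : Commute a b := hTc a ha b hb
          calc a ^ (p.1 : ℕ) * (a ^ (q.1 : ℕ))⁻¹ * (b ^ (p.2 : ℕ) * (b ^ (q.2 : ℕ))⁻¹)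
              = (a ^ (p.1 : ℕ) * b ^ (p.2 : ℕ)) * ((a ^ (q.1 : ℕ))⁻¹ * (b ^ (q.2 : ℕ))⁻¹) := by
                rw [mul_assoc (a ^ _), ← mul_assoc (a ^ (q.1 : ℕ))⁻¹, ((c.pow_pow _ _).inv_left).eq]
                group
            _ = 1 := by rw [h', ← mul_inv_rev, (c.symm.pow_pow _ _).eq, mul_inv_cancel])
        exact Prod.ext (sub_eq_zero.mp e1) (sub_eq_zero.mp e2)
      obtain ⟨p, hp⟩ := ((Nat.bijective_iff_injective_and_card F).mpr
        ⟨hF, by rw [Nat.card_prod, Nat.card_fin, hM9]⟩).2 ⟨m, hm⟩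
      exact ⟨p.1, p.2, congrArg Subtype.val hp⟩
    have hline : ∀ d, (∃ i : Fin 3, ψ d * a * (ψ d)⁻¹ = a ^ (i : ℕ)) ∧
        ∃ j : Fin 3, ψ d * b * (ψ d)⁻¹ = b ^ (j : ℕ) := by
      intro d
      have hdz : z * ψ d = ψ d * z := by
        rw [hzdef, ← map_mul, ← map_mul]
        congr 1
        revert d; decide
      have hcm : ∀ m, z * (ψ d * m * (ψ d)⁻¹) * z⁻¹ = ψ d * (z * m * z⁻¹) * (ψ d)⁻¹ := fun m => by
        calc z * (ψ d * m * (ψ d)⁻¹) * z⁻¹ = (z * ψ d) * m * (z * ψ d)⁻¹ := by group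
          _ = _ := by rw [hdz]; group
      have hsplit : ∀ i j : Fin 3, z * (a ^ (i : ℕ) * b ^ (j : ℕ)) * z⁻¹ =
          (a ^ (i : ℕ))⁻¹ * b ^ (j : ℕ) := fun i j => by
        calc z * (a ^ (i : ℕ) * b ^ (j : ℕ)) * z⁻¹
            = (z * a * z⁻¹) ^ (i : ℕ) * (z * b * z⁻¹) ^ (j : ℕ) := by rw [conj_pow, conj_pow]; group
          _ = _ := by rw [hza, hzb, inv_pow]
      have htwo : ∀ g ∈ T, g * g = 1 → g = 1 := fun g hg h => by
        have := hMel g hg
        rwa [pow_succ, pow_two, h, one_mul] at this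
      constructor
      · obtain ⟨i, j, hij⟩ := hTab _ (hconj _ (hψN d) a ha)
        have h := hcm a
        rw [← hij, hsplit, hza, ← conj_inv, ← hij, mul_inv_rev] at h
        have h' : b ^ (j : ℕ) = (b ^ (j : ℕ))⁻¹ := by
          refine mul_left_cancel (a := (a ^ (i : ℕ))⁻¹) (h.trans ?_)
          exact ((show Commute a b from hTc a ha b hb).pow_pow _ _).inv_inv.eq.symm
        refine ⟨i, ?_⟩
        rw [← hij, htwo _ (pow_mem hb _) (eq_inv_iff_mul_eq_one.mp h'), mul_one]
      · obtain ⟨i, j, hij⟩ := hTab _ (hconj _ (hψN d) b hb)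
        have h := hcm b
        rw [← hij, hsplit, hzb, ← hij] at h
        have h' : a ^ (i : ℕ) = (a ^ (i : ℕ))⁻¹ := (mul_right_cancel h).symm
        refine ⟨j, ?_⟩
        rw [← hij, htwo _ (pow_mem ha _) (eq_inv_iff_mul_eq_one.mp h'), one_mul]
    have hcp : ∀ (x : DihedralGroup 4) (c : G) (k : ℕ), ψ x * c ^ k * (ψ x)⁻¹ = (ψ x * c * (ψ x)⁻¹) ^ k :=
      fun x c k => by rw [conj_pow]
    have habel : ψ (DihedralGroup.sr 0 * DihedralGroup.r 1) = ψ (DihedralGroup.r 1 * DihedralGroup.sr 0) := by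
      set x : DihedralGroup 4 := DihedralGroup.sr 0
      set y : DihedralGroup 4 := DihedralGroup.r 1
      refine (inv_mul_eq_one.mp ?_).symm
      rw [← map_inv, ← map_mul]
      have hmem : ψ ((y * x)⁻¹ * (x * y)) ∈ T := by
        refine hfaith _ fun m hm => ?_
        have hcom : ∀ c, (c = a ∨ c = b) → ψ (x * y) * c * (ψ (x * y))⁻¹ = ψ (y * x) * c * (ψ (y * x))⁻¹ := by
          intro c hc
          obtain ⟨i, hi⟩ : ∃ i : Fin 3, ψ x * c * (ψ x)⁻¹ = c ^ (i : ℕ) := by
            rcases hc with rfl | rfl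
            · exact (hline x).1
            · exact (hline x).2
          obtain ⟨j, hj⟩ : ∃ j : Fin 3, ψ y * c * (ψ y)⁻¹ = c ^ (j : ℕ) := by
            rcases hc with rfl | rfl
            · exact (hline y).1
            · exact (hline y).2
          calc ψ (x * y) * c * (ψ (x * y))⁻¹ = ψ x * (ψ y * c * (ψ y)⁻¹) * (ψ x)⁻¹ := by rw [map_mul]; group
            _ = c ^ ((i : ℕ) * (j : ℕ)) := by rw [hj, hcp, hi, ← pow_mul]
            _ = ψ y * (ψ x * c * (ψ x)⁻¹) * (ψ y)⁻¹ := by rw [hi, hcp, hj, ← pow_mul, mul_comm]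
            _ = _ := by rw [map_mul]; group
        have hgen : ∀ c, (c = a ∨ c = b) →
            ψ ((y * x)⁻¹ * (x * y)) * c * (ψ ((y * x)⁻¹ * (x * y)))⁻¹ = c := by
          intro c hc
          calc _ = (ψ (y * x))⁻¹ * (ψ (x * y) * c * (ψ (x * y))⁻¹) * ψ (y * x) := by
                rw [map_mul, map_inv]; group
            _ = c := by rw [hcom c hc]; group
        obtain ⟨i, j, rfl⟩ := hTab m hm
        calc _ = (ψ ((y * x)⁻¹ * (x * y)) * a * (ψ ((y * x)⁻¹ * (x * y)))⁻¹) ^ (i : ℕ) *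
              (ψ ((y * x)⁻¹ * (x * y)) * b * (ψ ((y * x)⁻¹ * (x * y)))⁻¹) ^ (j : ℕ) := by
              rw [conj_pow, conj_pow]; group
          _ = _ := by rw [hgen a (Or.inl rfl), hgen b (Or.inr rfl)]
      exact absurd (hψT _ hmem) (by decide)
    exact absurd (hψinj habel) (by decide)
  have hinv : ∀ m ∈ T, z * m * z⁻¹ = m⁻¹ := by
    intro m hm
    refine eq_inv_of_mul_eq_one_left ?_
    refine hfixpt _ (mul_mem (hconj z (hψN _) m hm) hm) ?_
    calc z * (z * m * z⁻¹ * m) * z⁻¹ = z * z * m * (z⁻¹ * z⁻¹) * (z * m * z⁻¹) := by group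
      _ = m * (z * m * z⁻¹) := by rw [← mul_inv_rev, hz2]; group
      _ = z * m * z⁻¹ * m := hTc _ hm _ (hconj z (hψN _) m hm)
  have D0 : ∀ f : Nine.Wq →* G, f.range = N → PLocalTI 3 f.range T := fun f hr =>
    { le := hr ▸ hTN
      pgroup := M.isPGroup'
      comm := ⟨⟨fun x y => Subtype.ext (hTc x x.2 y y.2)⟩⟩
      pmem := hr ▸ hpmem
      cent := hr ▸ hCg
      norm := (hN ▸ hr).symm }
  set x : DihedralGroup 4 := DihedralGroup.sr 0
  set y : DihedralGroup 4 := DihedralGroup.sr 1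
  have model : ∀ c d : DihedralGroup 4, c * c = 1 → d * d = 1 → c ≠ 1 → c * d * (c * d) = w →
      ∃ f : Nine.Wq →* G, Function.Injective f ∧ f.range = N ∧ (∀ v, f v ∈ T ↔ Nine.InT v) ∧
        f Nine.r1 = ψ c ∧ f Nine.r2 = ψ d ∧ f Nine.rz = z := by
    intro c d hc hd hc1 hcd
    have hzz : ψ c * ψ d * (ψ c * ψ d) = z := by rw [← map_mul, ← map_mul, hcd]
    rw [← hzz]
    refine exists_model T N hN72 hTN hMel hTc hconj hfaith (fun g hg h => hpmem g hg ⟨1, by simpa using h⟩)
      (ψ c) (ψ d) (hψN c) (hψN d) (by rw [← map_mul, hc, map_one]) (by rw [← map_mul, hd, map_one])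
      (by rw [hzz, hz2]) (fun h => hc1 (hψT c h)) (hzz.symm ▸ hinv)
  obtain ⟨f, hf, hr, hfT, e1, e2, ez⟩ := model x y (by decide) (by decide) (by decide) (by decide)
  obtain ⟨f', hf', hr', hfT', e1', e2', ez'⟩ := model y x (by decide) (by decide) (by decide) (by decide)
  obtain ⟨l, hl⟩ : ∃ l : G →* ℂˣ, l ≠ 1 := by
    by_cases hc : IsConj (f Nine.r2) (f Nine.rz)
    · refine Nine.exists_linear f' hf' (D0 f' hr') hfT' fun hc' => ?_
      rw [e2', ez'] at hc'
      rw [e2, ez] at hc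
      have := Nine.not_conj_reflection f hf (D0 f hr) hfT
      rw [e1, e2] at this
      exact this (hc'.trans hc.symm)
    · exact Nine.exists_linear f hf (D0 f hr) hfT hc
  rcases hsim.eq_bot_or_eq_top_of_normal l.ker inferInstance with h | h
  · have hinj : Function.Injective l := (MonoidHom.ker_eq_bot_iff l).mp h
    have : ψ (x * y) = ψ (y * x) := hinj (by simp only [map_mul, mul_comm])
    exact absurd (hψinj this) (by decide)
  · exact hl (MonoidHom.ext fun g => by
      have : g ∈ l.ker := h ▸ mem_top g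
      simpa using this)

end Cfsg.Agent.S3716
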