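import Cfsg.Statements.S3753
import Cfsg.Agent.Lib.KInf.PrimPair

set_option autoImplicit false
open Cfsg
open Cfsg.Agent.Lib.KInf

namespace Cfsg.Agent.S3753


universe u

variable {G : Type u} [Group G]

lemma abTwo_of_sylow {M : Subgroup G} (h : ∀ S : Sylow 2 ↥M, IsMulCommutative (S : Subgroup ↥M)) : AbTwo ↥M := by
  intro T hT x hx y hy
  obtain ⟨S, hS⟩ := hT.exists_le_sylow
  exact congrArg Subtype.val
    ((h S).is_comm.comm (⟨x, hS hx⟩ : ↥(S : Subgroup ↥M)) ⟨y, hS hy⟩)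

lemma le_normalizer_map (M : Subgroup G) (N : Subgroup ↥M) [N.Normal] :
    M ≤ Subgroup.normalizer ((N.map M.subtype : Subgroup G) : Set G) := by
  have h := Subgroup.le_normalizer_map (H := N) M.subtype
  rw [Subgroup.normalizer_eq_top_iff.2 (inferInstance : N.Normal), ← MonoidHom.range_eq_map,
    Subgroup.range_subtype] at h
  exact h

variable [Finite G] {p : ℕ} [Fact p.Prime]

lemma trivial_of_core {M : Subgroup G}
    (hc : Subgroup.centralizer (Cfsg.pCore p ↥M : Set ↥M) ≤ Cfsg.pCore p ↥M)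
    (hb : (Cfsg.pCore p ↥M).map M.subtype = ⊥) : M = ⊥ := by
  rw [(Subgroup.map_eq_bot_iff_of_injective _ M.subtype_injective)] at hb
  rw [hb] at hc
  refine (Subgroup.eq_bot_iff_forall M).2 fun x hx => ?_
  have : (⟨x, hx⟩ : ↥M) ∈ (⊥ : Subgroup ↥M) := hc fun y hy => by
    rw [show y = 1 from Subgroup.mem_bot.1 hy, one_mul, mul_one]
  exact congrArg Subtype.val (Subgroup.mem_bot.1 this)

lemma two_le_core {M R : Subgroup G} (hc : Subgroup.centralizer (Cfsg.pCore 2 ↥M : Set ↥M) ≤ Cfsg.pCore 2 ↥M)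
    (hab : AbTwo ↥M) (hR : IsPGroup 2 ↥R) (hRM : R ≤ M) : R ≤ (Cfsg.pCore 2 ↥M).map M.subtype := by
  haveI : Fact (Nat.Prime 2) := ⟨Nat.prime_two⟩
  obtain ⟨S, hS⟩ := (hR.comap_subtype : IsPGroup 2 ↥(R.comap M.subtype)).exists_le_sylow
  have hT : Cfsg.pCore 2 ↥M ≤ S := Cfsg.Agent.Lib.LocalChar.pCore_le_sylow S
  have hSc : (S : Subgroup ↥M) ≤ Subgroup.centralizer (Cfsg.pCore 2 ↥M : Set ↥M) :=
    fun x hx y hy => hab _ S.2 y (hT hy) x hx
  intro x hx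
  exact ⟨⟨x, hRM hx⟩, hc (hSc (hS hx)), rfl⟩

lemma kInf_step {M R : Subgroup G} (hp : p ≠ 2) (hab : AbTwo ↥M)
    (hc : Subgroup.centralizer (Cfsg.pCore p ↥M : Set ↥M) ≤ Cfsg.pCore p ↥M)
    (hR : IsPGroup p ↥R) (hRM : R ≤ M) (hQR : (Cfsg.pCore p ↥M).map M.subtype ≤ R) :
    M ≤ Subgroup.normalizer (Cfsg.inducedFunctor Cfsg.kInfLower R : Set G) := by
  have hR' : IsPGroup p ↥(R.subgroupOf M) := hR.comap_subtype
  haveI := kInfLower_normal hp hab hc hR' (Subgroup.map_le_iff_le_comap.1 hQR)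
  have h := induced_map (W := Cfsg.kInfLower) (isCharPFunctor_kInfLower p) M.subtype hR'
    M.subtype_injective.injOn
  rw [Subgroup.subgroupOf_map_subtype, inf_eq_left.2 hRM] at h
  rw [h]
  exact le_normalizer_map M _

/-- Two distinct subgroups M₁, M₂ of G form a primitive pair when, for {i, j} = {1, 2}, every non-trivial normal subgroup A of M_i contained in M₁ ∩ M₂ satisfies N_{M_j}(A) = M₁ ∩ M₂; the pair has characteristic p when moreover C_{M_i}(O_p(M_i)) ≤ O_p(M_i) for both i and O_p(M₁)O_p(M₂) ≤ M₁ ∩ M₂. If the finite group G has a primitive pair (M₁, M₂) of characteristic p for some prime p, then M₁ or M₂ has non-abelian Sylow 2-subgroups. In particular no group of odd order has a primitive pair of characteristic p. -/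
theorem result {G : Type*} [Group G] [Finite G] {p : ℕ} [Fact p.Prime] (M₁ M₂ : Subgroup G) (hne : M₁ ≠ M₂) (hP : ∀ A : Subgroup G, A ≠ ⊥ → A ≤ M₁ ⊓ M₂ → (M₁ ≤ Subgroup.normalizer (A : Set G) → M₂ ⊓ Subgroup.normalizer (A : Set G) = M₁ ⊓ M₂) ∧ (M₂ ≤ Subgroup.normalizer (A : Set G) → M₁ ⊓ Subgroup.normalizer (A : Set G) = M₁ ⊓ M₂)) (hc₁ : Subgroup.centralizer (Cfsg.pCore p ↥M₁ : Set ↥M₁) ≤ Cfsg.pCore p ↥M₁) (hc₂ : Subgroup.centralizer (Cfsg.pCore p ↥M₂ : Set ↥M₂) ≤ Cfsg.pCore p ↥M₂) (hO : (Cfsg.pCore p ↥M₁).map M₁.subtype ⊔ (Cfsg.pCore p ↥M₂).map M₂.subtype ≤ M₁ ⊓ M₂) : (∃ S : Sylow 2 ↥M₁, ¬ IsMulCommutative (S : Subgroup ↥M₁)) ∨ (∃ S : Sylow 2 ↥M₂, ¬ IsMulCommutative (S : Subgroup ↥M₂)) := by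
  by_contra hcon
  push Not at hcon
  obtain ⟨hab1, hab2⟩ := hcon
  have hA1 : AbTwo ↥M₁ := abTwo_of_sylow hab1
  have hA2 : AbTwo ↥M₂ := abTwo_of_sylow hab2
  set Q₁ := (Cfsg.pCore p ↥M₁).map M₁.subtype with hQ1
  set Q₂ := (Cfsg.pCore p ↥M₂).map M₂.subtype with hQ2
  have h11 : Q₁ ≤ M₁ := Subgroup.map_subtype_le _
  have h22 : Q₂ ≤ M₂ := Subgroup.map_subtype_le _
  have hp1 : IsPGroup p ↥Q₁ := Cfsg.Agent.Lib.LocalChar.pCore_isPGroup.map _
  have hp2 : IsPGroup p ↥Q₂ := Cfsg.Agent.Lib.LocalChar.pCore_isPGroup.map _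
  have hR1 : Q₁ ⊔ Q₂ ≤ M₁ := hO.trans inf_le_left
  have hR2 : Q₁ ⊔ Q₂ ≤ M₂ := hO.trans inf_le_right
  have hn1 : M₁ ≤ Subgroup.normalizer (Q₁ : Set G) := by
    haveI : (Cfsg.pCore p ↥M₁).Normal := Cfsg.Agent.Lib.LocalChar.pCore_normal
    exact le_normalizer_map M₁ _
  have hn2 : M₂ ≤ Subgroup.normalizer (Q₂ : Set G) := by
    haveI : (Cfsg.pCore p ↥M₂).Normal := Cfsg.Agent.Lib.LocalChar.pCore_normal
    exact le_normalizer_map M₂ _
  set R := Q₁ ⊔ Q₂ with hR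
  have hRp : IsPGroup p ↥R :=
    IsPGroup.to_sup_of_normal_left' hp1 hp2 ((le_sup_right.trans hR1).trans hn1)
  by_cases hbot : R = ⊥
  · -- both cores are trivial, so both groups are trivial
    have hb1 : Q₁ = ⊥ := le_bot_iff.1 (hbot ▸ le_sup_left)
    have hb2 : Q₂ = ⊥ := le_bot_iff.1 (hbot ▸ le_sup_right)
    exact hne ((trivial_of_core hc₁ hb1).trans (trivial_of_core hc₂ hb2).symm)
  obtain ⟨K, hKR, hKne, hK1, hK2⟩ : ∃ K : Subgroup G, K ≤ R ∧ K ≠ ⊥ ∧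
      M₁ ≤ Subgroup.normalizer (K : Set G) ∧ M₂ ≤ Subgroup.normalizer (K : Set G) := by
    by_cases hp : p = 2
    · subst hp
      have e1 := two_le_core hc₁ hA1 hRp hR1
      have e2 := two_le_core hc₂ hA2 hRp hR2
      exact ⟨R, le_rfl, hbot, (le_antisymm e1 le_sup_left).symm ▸ hn1, (le_antisymm e2 le_sup_right).symm ▸ hn2⟩
    refine ⟨Cfsg.inducedFunctor Cfsg.kInfLower R, Subgroup.map_subtype_le _, ?_,
      kInf_step hp hA1 hc₁ hRp hR1 le_sup_left, kInf_step hp hA2 hc₂ hRp hR2 le_sup_right⟩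
    intro h
    have hW := (Subgroup.map_eq_bot_iff_of_injective _ R.subtype_injective).1 h
    haveI : Nontrivial ↥R := (Subgroup.nontrivial_iff_ne_bot R).2 hbot
    exact (isCharPFunctor_kInfLower p).1 ↥R hRp inferInstance hW
  obtain ⟨e1, e2⟩ := hP K hKne (hKR.trans hO)
  have f1 := e1 hK1
  have f2 := e2 hK2
  rw [inf_eq_left.2 hK2] at f1
  rw [inf_eq_left.2 hK1] at f2
  exact hne (f2.trans f1.symm)

end Cfsg.Agent.S3753
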