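import Cfsg.Statements.S3756
import Cfsg.Agent.Lib.QuadPair.Uniqueness

set_option autoImplicit false
open Cfsg

namespace Cfsg.Agent.S3756


/-- Let G be a finite group of even order with O₂(G) = 1 such that every 2-local subgroup of G is solvable, of characteristic 2, and has no section isomorphic to the symmetric group of degree 4. Then every maximal 2-local subgroup of G is strongly embedded in G. -/
theorem result {G : Type*} [Group G] [Finite G] (heven : Even (Nat.card G)) (hO : Cfsg.pCore 2 G = ⊥) (hloc : ∀ M : Subgroup G, Cfsg.IsTwoLocal M → Group.IsSolvable M ∧ Cfsg.IsOfCharacteristicTwo ↥M ∧ ¬ Cfsg.Involves (Equiv.Perm (Fin 4)) ↥M) (M : Subgroup G) (hM : Cfsg.IsMaximalTwoLocal M) : Cfsg.IsStronglyEmbedded M := by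
  classical
  haveI : Fact (Nat.Prime 2) := ⟨Nat.prime_two⟩
  obtain ⟨F, hF, hEq, hLoc⟩ := Lib.QuadPair.exists_local_map hloc heven
  obtain ⟨⟨T, hT, hTne, rfl⟩, hmax⟩ := hM
  set M := Subgroup.normalizer (T : Set G) with hMdef
  have hMloc : Cfsg.IsTwoLocal M := ⟨T, hT, hTne, rfl⟩
  -- a full Sylow subgroup
  obtain ⟨R, hR⟩ := (hT.comap_subtype (K := M)).exists_le_sylow
  obtain ⟨S, hS⟩ := (R.isPGroup'.map M.subtype).exists_le_sylow
  have hMS : M ≤ F S := by
    refine hLoc T _ S hT hTne (R.isPGroup'.map M.subtype) (Subgroup.map_subtype_le _) hS (fun U hU hRU hUN => ?_)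
    have h := R.3 (hU.comap_subtype (K := M)) (fun x hx => hRU ⟨x, hx, rfl⟩)
    exact (Subgroup.map_comap_eq_self (show U ≤ M.subtype.range by rwa [Subgroup.range_subtype])).symm.trans
      (congrArg _ h)
  have hSM : (S : Subgroup G) ≤ M := (hmax _ (hF S).1 hMS) ▸ (hF S).2.1
  have hfull : ∀ (g : G) (t : G), t ^ 2 = 1 → t ∈ M.map (MulAut.conj g).toMonoidHom →
      ∃ S' : Sylow 2 G, t ∈ S' ∧ F S' = M.map (MulAut.conj g).toMonoidHom := by
    intro g t ht htM
    obtain ⟨m, hm, rfl⟩ := htM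
    have hm2 : m ^ 2 = 1 := (MulAut.conj g).injective (by
      rw [map_pow, map_one]; exact ht)
    have hp : IsPGroup 2 (Subgroup.zpowers (⟨m, hm⟩ : M)) :=
      Lib.Thompson.isPGroup_of_elementary
        (Lib.Thompson.isElementaryAbelian_zpowers (Subtype.ext (by simpa using hm2)))
    obtain ⟨P, hP⟩ := hp.exists_le_sylow
    obtain ⟨n, rfl⟩ := MulAction.exists_smul_eq M (S.subtype hSM) P
    refine ⟨(g * n) • S, ?_, ?_⟩
    · have h := hP (Subgroup.mem_zpowers _)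
      rw [Sylow.coe_subgroup_smul, Subgroup.mem_pointwise_smul_iff_inv_smul_mem] at h
      show _ ∈ (((g * n) • S : Sylow 2 G) : Subgroup G)
      rw [Sylow.coe_subgroup_smul, Subgroup.mem_pointwise_smul_iff_inv_smul_mem]
      simpa [MulAut.smul_def, mul_assoc, Subgroup.mem_subgroupOf] using h
    · set S' : Sylow 2 G := (g * n) • S
      set Mg := M.map (MulAut.conj g).toMonoidHom
      have hMg : Cfsg.IsTwoLocal Mg := ⟨T.map (MulAut.conj g).toMonoidHom, hT.map _,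
        fun e => hTne ((Subgroup.map_eq_bot_iff_of_injective _ (MulAut.conj g).injective).1 e),
        Subgroup.map_equiv_normalizer_eq T (MulAut.conj g)⟩
      have hS' : (S' : Subgroup G) ≤ Mg := by
        rintro _ ⟨s, hs, rfl⟩
        exact ⟨(n : G) * s * (n : G)⁻¹, mul_mem (mul_mem n.2 (hSM hs)) (inv_mem n.2), by simp [mul_assoc]⟩
      have hle := (hF S').2.2 Mg hMg hS'
      obtain ⟨U, hU, hUne, hUe⟩ := (hF S').1
      have hback : Cfsg.IsTwoLocal ((F S').map (MulAut.conj g⁻¹).toMonoidHom) :=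
        ⟨U.map (MulAut.conj g⁻¹).toMonoidHom, hU.map _,
          fun e => hUne ((Subgroup.map_eq_bot_iff_of_injective _ (MulAut.conj g⁻¹).injective).1 e), by
            rw [hUe]; exact Subgroup.map_equiv_normalizer_eq U (MulAut.conj g⁻¹)⟩
      have h1 := hmax _ hback (fun x hx => ⟨g * x * g⁻¹, hle ⟨x, hx, rfl⟩, by simp [mul_assoc]⟩)
      refine le_antisymm (fun x hx => ⟨g⁻¹ * x * g, h1 ▸ ⟨x, hx, by simp⟩, by simp [mul_assoc]⟩) hle
  have hTM : T ≤ M := Subgroup.le_normalizer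
  refine ⟨fun h => hTne ?_, ?_, ?_⟩
  · haveI : T.Normal := Subgroup.normalizer_eq_top_iff.1 (hMdef ▸ h)
    exact le_bot_iff.1 (hO ▸ Lib.Hall.le_pCore hT)
  · obtain ⟨k, hk⟩ := IsPGroup.iff_card.mp hT
    have hk0 : k ≠ 0 := fun e => hTne (Subgroup.card_eq_one.1 (by rw [hk, e, pow_zero]))
    exact even_iff_two_dvd.2 ((hk ▸ dvd_pow_self 2 hk0 : 2 ∣ Nat.card T).trans (Subgroup.card_dvd_of_le hTM))
  intro g hg
  by_contra hodd
  obtain ⟨t, ht⟩ := exists_prime_orderOf_dvd_card' (G := ↥(M ⊓ M.map (MulAut.conj g).toMonoidHom)) 2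
    (even_iff_two_dvd.1 (Nat.not_odd_iff_even.1 hodd))
  have ht2 : (t : G) ^ 2 = 1 := by
    rw [← SubmonoidClass.coe_pow, ← ht, pow_orderOf_eq_one, OneMemClass.coe_one]
  have ht1 : (t : G) ≠ 1 := fun e => by
    rw [show t = 1 from Subtype.ext e, orderOf_one] at ht; omega
  obtain ⟨S1, hS1, e1⟩ := hfull 1 t ht2 (by simpa using (Subgroup.mem_inf.1 t.2).1)
  obtain ⟨S2, hS2, e2⟩ := hfull g t ht2 (Subgroup.mem_inf.1 t.2).2
  have he := hEq S1 S2 (fun e => ht1 (Subgroup.mem_bot.1 (e ▸ ⟨hS1, hS2⟩)))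
  rw [e1, e2, show M.map (MulAut.conj (1 : G)).toMonoidHom = M by ext x; simp] at he
  -- `g` normalises the two-core
  refine hg ?_
  have hTQ : T ≤ Cfsg.pCoreOf 2 M := by
    haveI : (Subgroup.comap M.subtype T).Normal := Subgroup.normal_in_normalizer
    intro x hx
    exact ⟨⟨x, hTM hx⟩, Lib.Hall.le_pCore (N := Subgroup.comap M.subtype T) (hT.comap_subtype (K := M)) hx, rfl⟩
  have hQne : Cfsg.pCoreOf 2 M ≠ ⊥ := fun e => hTne (le_bot_iff.1 (e ▸ hTQ))
  have hQloc : Cfsg.IsTwoLocal (Subgroup.normalizer (Cfsg.pCoreOf 2 M : Set G)) :=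
    ⟨_, (Lib.Hall.isPGroup_pCore 2).map _, hQne, rfl⟩
  haveI : (Cfsg.pCore 2 M).Normal := Lib.Hall.pCore_normal _
  have hle : M ≤ Subgroup.normalizer (Cfsg.pCoreOf 2 M : Set G) := by
    intro m hm
    refine Subgroup.mem_normalizer_fintype fun x hx => ?_
    obtain ⟨q, hq, rfl⟩ := hx
    exact ⟨⟨m, hm⟩ * q * ⟨m, hm⟩⁻¹, Subgroup.Normal.conj_mem inferInstance q hq _, rfl⟩
  rw [← hmax _ hQloc hle]
  refine Subgroup.mem_normalizer_fintype fun x hx => ?_
  obtain ⟨q, hq, rfl⟩ := hx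
  have hgm : ∀ y : M, g * (y : G) * g⁻¹ ∈ M := fun y => he.ge ⟨y, y.2, rfl⟩
  let f : M →* M := ((MulAut.conj g).toMonoidHom.comp M.subtype).codRestrict M hgm
  have hf : Function.Bijective f := Finite.injective_iff_bijective.1 fun a b h =>
    Subtype.ext ((MulAut.conj g).injective (congrArg Subtype.val h))
  haveI : ((Cfsg.pCore 2 M).map f).Normal := Subgroup.Normal.map inferInstance f hf.2
  exact ⟨f q, Lib.Hall.le_pCore ((Lib.Hall.isPGroup_pCore 2).map f) ⟨q, hq, rfl⟩, rfl⟩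

end Cfsg.Agent.S3756
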