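import Cfsg.Statements.S3761
import Cfsg.Agent.Lib.Involution.DihedralHom

set_option autoImplicit false
open Cfsg

namespace Cfsg.Agent.S3761

open Subgroup

/-- A nonabelian extension of a cyclic 2-group by an inverting element is dihedral or quaternion. -/
theorem dihedral_or_quaternion {G : Type*} [Group G] [Finite G] {a x : G} {n : ℕ} (hn : 1 ≤ n)
    (ha : orderOf a = 2 ^ n) (hx2 : x ^ 2 ∈ zpowers a) (hxa : x * a * x⁻¹ = a⁻¹)
    (hall : ∀ g : G, g ∈ zpowers a ∨ x⁻¹ * g ∈ zpowers a) (hcard : Nat.card G = 2 ^ (n + 1)) :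
    (∃ m : ℕ, Nonempty (G ≃* DihedralGroup m)) ∨ (∃ m : ℕ, Nonempty (G ≃* QuaternionGroup m)) := by
  obtain ⟨s, hs⟩ := mem_zpowers_iff.1 hx2
  have hn' : n - 1 + 1 = n := by omega
  have hdvd : ∀ k : ℤ, a ^ k = 1 ↔ (2 : ℤ) ^ n ∣ k := fun k => by
    rw [← orderOf_dvd_iff_zpow_eq_one, ha]; push_cast; rfl
  have h2s : a ^ (2 * s) = 1 := by
    have h1 : x * a ^ s * x⁻¹ = (a ^ s)⁻¹ := by rw [← conj_zpow, hxa, inv_zpow]
    have h2 : x * a ^ s * x⁻¹ = a ^ s := by rw [hs]; group
    rw [two_mul, zpow_add]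
    nth_rw 1 [← h2]
    rw [h1, inv_mul_cancel]
  obtain ⟨c, hc⟩ : (2 : ℤ) ^ (n - 1) ∣ s := by
    have h := (hdvd _).1 h2s
    rw [← hn', pow_succ'] at h
    exact Int.dvd_of_mul_dvd_mul_left (by norm_num) h
  have hgen : ∀ g : G, (∃ k : ℤ, g = a ^ k) ∨ (∃ k : ℤ, g = x * a ^ k) := by
    intro g
    rcases hall g with h | h
    · obtain ⟨k, hk⟩ := mem_zpowers_iff.1 h
      exact Or.inl ⟨k, hk.symm⟩
    · obtain ⟨k, hk⟩ := mem_zpowers_iff.1 h
      exact Or.inr ⟨k, by rw [hk, mul_inv_cancel_left]⟩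
  rcases Int.even_or_odd c with ⟨d, hd⟩ | ⟨d, hd⟩
  · left
    refine ⟨2 ^ n, ?_⟩
    have hx1 : x * x = 1 := by
      rw [← pow_two, ← hs, hdvd, hc, hd]
      exact ⟨d, by rw [show (2 : ℤ) ^ n = 2 ^ (n - 1) * 2 by rw [← pow_succ, hn']]; ring⟩
    have hpa : a ^ (2 ^ n) = 1 := by rw [← ha]; exact pow_orderOf_eq_one a
    let f := Cfsg.Agent.Lib.Involution.dihedralHom hpa hx1 hxa
    have hf : Function.Surjective f := by
      intro g
      rcases hgen g with ⟨k, rfl⟩ | ⟨k, rfl⟩
      · exact ⟨.r (k : ZMod (2 ^ n)), Cfsg.Agent.Lib.Involution.zmod_zpow_eq hpa k⟩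
      · exact ⟨.sr (k : ZMod (2 ^ n)), congrArg (x * ·) (Cfsg.Agent.Lib.Involution.zmod_zpow_eq hpa k)⟩
    have : NeZero (2 ^ n) := ⟨by positivity⟩
    exact ⟨(MulEquiv.ofBijective f ((Nat.bijective_iff_surjective_and_card f).2
      ⟨hf, by rw [DihedralGroup.nat_card, hcard]; ring⟩)).symm⟩
  · right
    refine ⟨2 ^ (n - 1), ?_⟩
    have h2 : 2 * 2 ^ (n - 1) = 2 ^ n := by rw [← pow_succ', hn']
    have hx1 : x * x = a ^ (2 ^ (n - 1) : ℕ) := by
      rw [← pow_two, ← hs, ← zpow_natCast, ← mul_inv_eq_one, ← zpow_neg, ← zpow_add, hdvd]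
      refine ⟨d, ?_⟩
      rw [hc, hd, show (2 : ℤ) ^ n = 2 ^ (n - 1) * 2 by rw [← pow_succ, hn']]
      push_cast; ring
    have hpa : a ^ (2 * 2 ^ (n - 1)) = 1 := by rw [h2, ← ha]; exact pow_orderOf_eq_one a
    let f := Cfsg.Agent.Lib.Involution.quaternionHom hpa hx1 hxa
    have hf : Function.Surjective f := by
      intro g
      rcases hgen g with ⟨k, rfl⟩ | ⟨k, rfl⟩
      · exact ⟨.a (k : ZMod (2 * 2 ^ (n - 1))), Cfsg.Agent.Lib.Involution.zmod_zpow_eq hpa k⟩
      · exact ⟨.xa (k : ZMod (2 * 2 ^ (n - 1))),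
          congrArg (x * ·) (Cfsg.Agent.Lib.Involution.zmod_zpow_eq hpa k)⟩
    have : NeZero (2 ^ (n - 1)) := ⟨by positivity⟩
    exact ⟨(MulEquiv.ofBijective f ((Nat.bijective_iff_surjective_and_card f).2
      ⟨hf, by rw [Nat.card_eq_fintype_card, QuaternionGroup.card, hcard, show 4 * 2 ^ (n - 1) = 2 * (2 * 2 ^ (n - 1)) by ring, h2]; ring⟩)).symm⟩

/-- The geometric sum of `p` terms with ratio one modulo the odd prime `p` is `p` modulo `p²`. -/
theorem geom_sum_mod_sq {p : ℕ} (hodd : Odd p) {r : ℤ} (hr : (p : ℤ) ∣ r - 1) :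
    ∃ w : ℤ, ∑ k ∈ Finset.range p, r ^ k = p * (1 + p * w) := by
  obtain ⟨t, ht⟩ := hr
  obtain ⟨m, hm⟩ := hodd
  have hcong : ∀ j : ℕ, (p : ℤ) ^ 2 ∣ r ^ j - (1 + j * (r - 1)) := by
    intro j
    induction j with
    | zero => simp
    | succ j ih =>
      obtain ⟨w, hw⟩ := ih
      refine ⟨w * r + j * t * t, ?_⟩
      rw [pow_succ]
      push_cast
      linear_combination r * hw + (j : ℤ) * (r - 1 + p * t) * ht
  obtain ⟨w, hw⟩ : (p : ℤ) ^ 2 ∣ ∑ k ∈ Finset.range p, (r ^ k - (1 + k * (r - 1))) :=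
    Finset.dvd_sum fun k _ => hcong k
  refine ⟨w + m * t, ?_⟩
  have h2 : ∑ k ∈ Finset.range p, (1 + (k : ℤ) * (r - 1)) =
      p + (∑ k ∈ Finset.range p, (k : ℤ)) * (r - 1) := by
    rw [Finset.sum_add_distrib, ← Finset.sum_mul]; simp
  have h3 : (∑ k ∈ Finset.range p, (k : ℤ)) = p * m := by
    have h3' := Finset.sum_range_id_mul_two p
    have h4 : (∑ k ∈ Finset.range p, k) = p * m := by
      rw [show p - 1 = 2 * m by omega] at h3'
      linarith
    rw [← Nat.cast_sum, h4, Nat.cast_mul]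
  rw [Finset.sum_sub_distrib, h2, h3, ht] at hw
  linear_combination hw

/-- A residue of multiplicative order dividing `p` is one modulo `p`. -/
theorem one_mod_of_pow {p : ℕ} [Fact p.Prime] {n : ℕ} (hn : n ≠ 0) {r : ℤ}
    (h : (p : ℤ) ^ n ∣ r ^ p - 1) : (p : ℤ) ∣ r - 1 := by
  have h1 : (p : ℤ) ∣ r ^ p - 1 := (dvd_pow_self _ hn).trans h
  rw [← ZMod.intCast_zmod_eq_zero_iff_dvd] at h1 ⊢
  push_cast at h1 ⊢
  rwa [ZMod.pow_card] at h1

/-- Powers of `c y` when the commutator of `y` and `c` is central. -/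
theorem mul_pow_comm {G : Type*} [Group G] {c y e : G} (hye : y * c = e * c * y)
    (hey : Commute e y) (hec : Commute e c) (k : ℕ) :
    (c * y) ^ k = c ^ k * y ^ k * e ^ (k.choose 2) := by
  have hkc : ∀ j : ℕ, y ^ j * c = e ^ j * c * y ^ j := by
    intro j
    induction j with
    | zero => simp
    | succ j ih =>
      calc y ^ (j + 1) * c = y * (y ^ j * c) := by rw [pow_succ', mul_assoc]
        _ = y * (e ^ j * c * y ^ j) := by rw [ih]
        _ = (y * e ^ j) * c * y ^ j := by group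
        _ = (e ^ j * y) * c * y ^ j := by rw [(hey.pow_left j).eq]
        _ = e ^ j * (y * c) * y ^ j := by group
        _ = e ^ j * (e * c * y) * y ^ j := by rw [hye]
        _ = (e ^ j * e) * c * (y * y ^ j) := by group
        _ = e ^ (j + 1) * c * y ^ (j + 1) := by rw [← pow_succ, ← pow_succ']
  induction k with
  | zero => simp
  | succ k ih =>
    calc (c * y) ^ (k + 1) = (c * y) ^ k * (c * y) := pow_succ _ _
      _ = c ^ k * y ^ k * e ^ (k.choose 2) * (c * y) := by rw [ih]
      _ = c ^ k * y ^ k * (c * y) * e ^ (k.choose 2) := by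
        rw [mul_assoc, ((hec.pow_left (k.choose 2)).mul_right (hey.pow_left _)).eq, ← mul_assoc]
      _ = c ^ k * (y ^ k * c) * y * e ^ (k.choose 2) := by group
      _ = c ^ k * (e ^ k * c * y ^ k) * y * e ^ (k.choose 2) := by rw [hkc]
      _ = c ^ k * ((e ^ k * (c * (y ^ k * y)))) * e ^ (k.choose 2) := by group
      _ = c ^ k * ((c * (y ^ k * y)) * e ^ k) * e ^ (k.choose 2) := by
        rw [((hec.pow_left k).mul_right (((hey.pow_left k).pow_right k).mul_right (hey.pow_left k))).eq]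
      _ = (c ^ k * c) * (y ^ k * y) * (e ^ k * e ^ (k.choose 2)) := by group
      _ = c ^ (k + 1) * y ^ (k + 1) * e ^ ((k + 1).choose 2) := by
        rw [← pow_succ, ← pow_succ, ← pow_add, Nat.choose_succ_succ' k 1, Nat.choose_one_right]


/-- Let G be a finite non-abelian p-group with a cyclic normal subgroup U of order p^n such that C_G(U) = U. Then either p = 2 and G is dihedral, generalized quaternion or semidihedral of order 2^(n+1); or, writing U₁ for the subgroup generated by the p-th powers of elements of U and M = C_G(U₁), the subgroup U has index p in M and the subgroup Ω₁(M) generated by the elements of M of order dividing p is elementary abelian of order p² and characteristic in G. -/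
theorem result {G : Type*} [Group G] [Finite G] {p : ℕ} [Fact p.Prime] (hG : IsPGroup p G) (hna : ¬ IsMulCommutative G) (U : Subgroup G) [U.Normal] (hU : IsCyclic U) (n : ℕ) (hUn : Nat.card U = p ^ n) (hC : Subgroup.centralizer (U : Set G) = U) : (p = 2 ∧ Nat.card G = 2 ^ (n + 1) ∧ ((∃ m : ℕ, Nonempty (G ≃* DihedralGroup m)) ∨ (∃ m : ℕ, Nonempty (G ≃* QuaternionGroup m)) ∨ Cfsg.IsQuasiDihedral G)) ∨ (U.relIndex (Subgroup.centralizer (Cfsg.powerClosure p 1 U : Set G)) = p ∧ Cfsg.IsElementaryAbelian p (Cfsg.omegaOne p (Subgroup.centralizer (Cfsg.powerClosure p 1 U : Set G))) ∧ Nat.card ↥(Cfsg.omegaOne p (Subgroup.centralizer (Cfsg.powerClosure p 1 U : Set G))) = p ^ 2 ∧ (Cfsg.omegaOne p (Subgroup.centralizer (Cfsg.powerClosure p 1 U : Set G))).Characteristic) := by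
  classical
  have hp : p.Prime := Fact.out
  have hprime : Prime (p : ℤ) := Nat.prime_iff_prime_int.1 hp
  obtain ⟨⟨a, haU⟩, hag⟩ := hU.exists_generator
  have hUa : U = zpowers a := by
    refine le_antisymm (fun y hy => ?_) (zpowers_le.2 haU)
    obtain ⟨k, hk⟩ := mem_zpowers_iff.1 (hag ⟨y, hy⟩)
    exact mem_zpowers_iff.2 ⟨k, by simpa using congrArg Subtype.val hk⟩
  subst hUa
  have hord : orderOf a = p ^ n := by rw [← Nat.card_zpowers, hUn]
  have hdvd : ∀ x : ℤ, a ^ x = 1 ↔ (p : ℤ) ^ n ∣ x := fun x => by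
    rw [← orderOf_dvd_iff_zpow_eq_one, hord]; push_cast; rfl
  have hdvd' : ∀ x y : ℤ, a ^ x = a ^ y ↔ (p : ℤ) ^ n ∣ x - y := fun x y => by
    rw [← hdvd, zpow_sub, mul_inv_eq_one]
  have hconj : ∀ g : G, ∃ r : ℤ, g * a * g⁻¹ = a ^ r := fun g => by
    obtain ⟨r, hr⟩ := mem_zpowers_iff.1 ((inferInstance : (zpowers a).Normal).conj_mem a haU g)
    exact ⟨r, hr.symm⟩
  have hcent : ∀ g : G, g * a * g⁻¹ = a → g ∈ zpowers a := by
    intro g hg
    rw [← hC, mem_centralizer_iff]
    intro y hy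
    obtain ⟨k, rfl⟩ := mem_zpowers_iff.1 hy
    exact (Commute.zpow_left (mul_inv_eq_iff_eq_mul.1 hg).symm k).eq
  obtain ⟨g₁, hg₁⟩ : ∃ g : G, g ∉ zpowers a := by
    by_contra h
    push Not at h
    refine hna ⟨⟨fun x y => ?_⟩⟩
    obtain ⟨i, rfl⟩ := mem_zpowers_iff.1 (h x)
    obtain ⟨j, rfl⟩ := mem_zpowers_iff.1 (h y)
    rw [← zpow_add, ← zpow_add, add_comm]
  -- elements outside have a power outside whose `p`-th power is inside
  have hpow : ∀ x : G, x ∉ zpowers a → ∃ j : ℕ, x ^ p ^ j ∉ zpowers a ∧ (x ^ p ^ j) ^ p ∈ zpowers a := by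
    intro x hx
    obtain ⟨k, hk⟩ := hG x
    have hex : ∃ j, x ^ p ^ j ∈ zpowers a := ⟨k, by rw [hk]; exact one_mem _⟩
    have hj0 : Nat.find hex ≠ 0 := fun h => hx (by simpa [h] using Nat.find_spec hex)
    obtain ⟨j, hj⟩ := Nat.exists_eq_succ_of_ne_zero hj0
    have hjmem := Nat.find_spec hex
    rw [hj, pow_succ, pow_mul] at hjmem
    exact ⟨j, Nat.find_min hex (hj ▸ Nat.lt_succ_self j), hjmem⟩
  have hiter : ∀ {x : G} {r : ℤ}, x * a * x⁻¹ = a ^ r → ∀ j : ℕ, x ^ j * a * (x ^ j)⁻¹ = a ^ (r ^ j) := by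
    intro x r hr j
    induction j with
    | zero => simp
    | succ j ih =>
      rw [pow_succ', show x * x ^ j * a * (x * x ^ j)⁻¹ = x * (x ^ j * a * (x ^ j)⁻¹) * x⁻¹ by
        group, ih, ← conj_zpow, hr, ← zpow_mul, pow_succ']
  have hrp : ∀ {x : G} {r : ℤ}, x * a * x⁻¹ = a ^ r → x ^ p ∈ zpowers a → (p : ℤ) ^ n ∣ r ^ p - 1 := by
    intro x r hr hxp
    obtain ⟨s, hs⟩ := mem_zpowers_iff.1 hxp
    rw [← hdvd', ← hiter hr p, zpow_one, ← hs]
    group
  -- the trivial small cases
  have hn : 2 ≤ n := by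
    obtain ⟨j, hj, hjp⟩ := hpow g₁ hg₁
    obtain ⟨r, hr⟩ := hconj (g₁ ^ p ^ j)
    by_contra h
    refine hj (hcent _ (hr.trans ?_))
    conv_rhs => rw [← zpow_one a]
    rw [hdvd']
    rcases Nat.eq_zero_or_pos n with h0 | h0
    · simp [h0]
    · obtain rfl : n = 1 := by omega
      simpa using one_mod_of_pow one_ne_zero (hrp hr hjp)
  have hn1 : (p : ℤ) ^ n = p * (p : ℤ) ^ (n - 1) := by
    rw [← pow_succ', show n - 1 + 1 = n by omega]
  have hU1 : Cfsg.powerClosure p 1 (zpowers a) = zpowers (a ^ p) := by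
    refine le_antisymm ((closure_le _).2 ?_) (zpowers_le.2 (subset_closure ⟨a, haU, by rw [pow_one]⟩))
    rintro _ ⟨x, hx, rfl⟩
    obtain ⟨k, rfl⟩ := mem_zpowers_iff.1 hx
    refine mem_zpowers_iff.2 ⟨k, ?_⟩
    rw [pow_one, ← zpow_natCast (a ^ k), ← zpow_natCast a, ← zpow_mul, ← zpow_mul, mul_comm]
  set M := centralizer (Cfsg.powerClosure p 1 (zpowers a) : Set G) with hMdef
  have hM : ∀ g : G, g ∈ M ↔ g * a ^ p * g⁻¹ = a ^ p := by
    intro g
    rw [hMdef, hU1, mem_centralizer_iff, mul_inv_eq_iff_eq_mul]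
    refine ⟨fun h => (h _ (mem_zpowers _)).symm, ?_⟩
    rintro h y hy
    obtain ⟨k, rfl⟩ := mem_zpowers_iff.1 hy
    exact ((Commute.zpow_right (h : Commute g (a ^ p)) k).eq).symm
  have hMr : ∀ {g : G} {r : ℤ}, g * a * g⁻¹ = a ^ r → (g ∈ M ↔ (p : ℤ) ^ (n - 1) ∣ r - 1) := by
    intro g r hr
    rw [hM, ← conj_pow, hr, ← zpow_natCast, ← zpow_mul, ← zpow_natCast a p, hdvd', hn1,
      show r * p - p = (p : ℤ) * (r - 1) by ring]
    exact mul_dvd_mul_iff_left (by exact_mod_cast hp.pos.ne')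
  have hMU : zpowers a ≤ M := by
    intro u hu
    obtain ⟨k, rfl⟩ := mem_zpowers_iff.1 hu
    rw [hM]
    group
  by_cases hB : ∀ g ∈ M, g ∈ zpowers a
  · -- the automorphisms induced on the power subgroup are faithful
    have hstep : ∀ {g : G} {r : ℤ}, g * a * g⁻¹ = a ^ r → g ∉ zpowers a → g ^ p ∈ zpowers a →
        p = 2 ∧ 3 ≤ n ∧ (2 : ℤ) ^ (n - 1) ∣ r + 1 := by
      intro g r hr hg hgp
      have hgM : ¬(p : ℤ) ^ (n - 1) ∣ r - 1 := fun h => hg (hB g ((hMr hr).2 h))
      have h1 := hrp hr hgp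
      have hr1 := one_mod_of_pow (by omega) h1
      rcases hp.eq_two_or_odd' with rfl | hodd
      · push_cast at *
        have hcases : (2 : ℤ) ^ (n - 1) ∣ r + 1 := by
          obtain ⟨v, hv⟩ := hr1
          rw [hn1, show r ^ 2 - 1 = 2 * (v * (r + 1)) by linear_combination (r + 1) * hv] at h1
          have h2 := Int.dvd_of_mul_dvd_mul_left (by norm_num) h1
          rcases Int.even_or_odd v with ⟨e, he⟩ | ⟨e, he⟩
          · exfalso
            apply hgM
            have : IsCoprime ((2 : ℤ) ^ (n - 1)) (2 * e + 1) :=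
              (show IsCoprime (2 : ℤ) (2 * e + 1) from ⟨-e, 1, by ring⟩).pow_left
            rw [show v * (r + 1) = (r - 1) * (2 * e + 1) by rw [hv, show r + 1 = 2 * v + 2 by linarith, he]; ring] at h2
            exact this.dvd_of_dvd_mul_right h2
          · have : IsCoprime ((2 : ℤ) ^ (n - 1)) v :=
              (show IsCoprime (2 : ℤ) v from ⟨-e, 1, by rw [he]; ring⟩).pow_left
            exact this.dvd_of_dvd_mul_left h2
        refine ⟨trivial, ?_, hcases⟩
        by_contra h
        obtain rfl : n = 2 := by omega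
        exact hgM (by simpa using hr1)
      · exfalso
        obtain ⟨w, hw⟩ := geom_sum_mod_sq hodd hr1
        have h3 : r ^ p - 1 = (p : ℤ) * ((r - 1) * (1 + p * w)) := by
          rw [← geom_sum_mul r p, hw]; ring
        rw [h3, hn1] at h1
        have h4 := Int.dvd_of_mul_dvd_mul_left (by exact_mod_cast hp.pos.ne') h1
        exact hgM ((show IsCoprime (p : ℤ) (1 + p * w) from ⟨-w, 1, by ring⟩).pow_left.dvd_of_dvd_mul_right h4)
    obtain ⟨j, hj, hjp⟩ := hpow g₁ hg₁
    obtain ⟨r, hr⟩ := hconj (g₁ ^ p ^ j)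
    obtain ⟨rfl, hn3, hrm⟩ := hstep hr hj hjp
    set x := g₁ ^ 2 ^ j with hx
    push_cast at *
    have hsq : ∀ g : G, g ∉ zpowers a → g ^ 2 ∈ zpowers a := by
      intro g hg
      obtain ⟨i, hi, hip⟩ := hpow g hg
      rcases i with _ | i
      · simpa using hip
      · exfalso
        rw [pow_succ 2 i, pow_mul] at hi hip
        obtain ⟨q, hq⟩ := hconj (g ^ 2 ^ i)
        obtain ⟨-, -, hqm⟩ := hstep (hiter hq 2) hi hip
        have h4 : (4 : ℤ) ∣ q ^ 2 + 1 := by
          refine Dvd.dvd.trans ?_ hqm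
          exact (show (4 : ℤ) = 2 ^ 2 by norm_num) ▸ pow_dvd_pow 2 (by omega)
        rcases Int.even_or_odd q with ⟨c, rfl⟩ | ⟨c, rfl⟩
        · have h5 := dvd_sub h4 (Dvd.intro (c * c) rfl : (4 : ℤ) ∣ 4 * (c * c))
          ring_nf at h5
          omega
        · have h5 := dvd_sub h4 (Dvd.intro (c * c + c) rfl : (4 : ℤ) ∣ 4 * (c * c + c))
          ring_nf at h5
          omega
    have hall : ∀ g : G, g ∈ zpowers a ∨ x⁻¹ * g ∈ zpowers a := by
      intro g
      by_cases hg : g ∈ zpowers a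
      · exact Or.inl hg
      · right
        obtain ⟨q, hq⟩ := hconj g
        obtain ⟨-, -, hqm⟩ := hstep hq hg (hsq g hg)
        obtain ⟨s, hs⟩ := mem_zpowers_iff.1 hjp
        apply hB
        have hgM : x * g ∈ M := by
          refine (hMr (r := r * q) ?_).2 ?_
          · rw [show x * g * a * (x * g)⁻¹ = x * (g * a * g⁻¹) * x⁻¹ by group, hq, ← conj_zpow, hr, ← zpow_mul]
          · rw [show r * q - 1 = (r + 1) * q - (q + 1) by ring]
            exact dvd_sub (hrm.mul_right q) hqm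
        rw [show x⁻¹ * g = (x ^ 2)⁻¹ * (x * g) by group]
        exact mul_mem (inv_mem (hMU hjp)) hgM
    have hcard : Nat.card G = 2 ^ (n + 1) := by
      have hidx : (zpowers a).index = 2 := by
        rw [index_eq_two_iff]
        refine ⟨x, fun b => ?_⟩
        rw [xor_iff_iff_not]
        refine ⟨fun h hb => hj ((Subgroup.mul_mem_cancel_left _ hb).1 h), fun hb => ?_⟩
        have h1 := (hall b).resolve_left hb
        have h2 := mul_mem ((inferInstance : (zpowers a).Normal).conj_mem _ h1 x) hjp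
        convert h2 using 1
        group
      rw [← Subgroup.card_mul_index (zpowers a), hidx, hUn, ← pow_succ]
    refine Or.inl ⟨trivial, hcard, ?_⟩
    obtain ⟨c, hc⟩ := hrm
    rcases Int.even_or_odd c with ⟨d, hd⟩ | ⟨d, hd⟩
    · have hxa : x * a * x⁻¹ = a⁻¹ := by
        rw [hr, ← zpow_neg_one, hdvd', sub_neg_eq_add, hc, hd, hn1]
        exact ⟨d, by ring⟩
      rcases dihedral_or_quaternion (by omega) hord hjp hxa hall hcard with h | h
      · exact Or.inl h
      · exact Or.inr (Or.inl h)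
    · right; right
      obtain ⟨s, hs⟩ := mem_zpowers_iff.1 hjp
      obtain ⟨m, hm⟩ : ∃ m, n = m + 3 := ⟨n - 3, by omega⟩
      subst hm
      have hfix : (2 : ℤ) ^ (m + 3) ∣ r * s - s := by
        rw [← hdvd', zpow_mul, ← hr, conj_zpow, hs]
        group
      have hc' : r = -1 + 2 ^ (m + 2) * (2 * d + 1) := by rw [← hd, ← show m + 3 - 1 = m + 2 by omega]; linarith
      have hxa : x * a * x⁻¹ = a ^ (2 ^ (m + 2) - 1 : ℕ) := by
        rw [hr, ← zpow_natCast, hdvd', Nat.cast_sub Nat.one_le_two_pow]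
        exact ⟨d, by rw [hc']; push_cast; ring⟩
      obtain ⟨e, he⟩ : (2 : ℤ) ^ (m + 2) ∣ s := by
        have h1 : (2 : ℤ) * 2 ^ (m + 2) ∣ 2 * (s * (-1 + 2 ^ (m + 1) * (2 * d + 1))) := by
          convert hfix using 1
          · ring
          · rw [hc']; ring
        exact (show IsCoprime (2 : ℤ) (-1 + 2 ^ (m + 1) * (2 * d + 1)) from
          ⟨2 ^ m * (2 * d + 1), -1, by ring⟩).pow_left.dvd_of_dvd_mul_right
            (Int.dvd_of_mul_dvd_mul_left (by norm_num) h1)
      refine ⟨m + 3, by omega, hcard, a, ?_⟩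
      rcases Int.even_or_odd e with ⟨f, hf⟩ | ⟨f, hf⟩
      · refine ⟨x, hord, orderOf_eq_prime ?_ (fun h => hj (h ▸ one_mem _)), ?_⟩
        · rw [← hs, hdvd, he, hf]; exact ⟨f, by ring⟩
        · rw [hxa]; congr 1
      · refine ⟨x * a, hord, orderOf_eq_prime ?_ (fun h => hj ?_), ?_⟩
        · rw [show (x * a) ^ 2 = (x * a * x⁻¹) * x ^ 2 * a by rw [pow_two, pow_two]; group, hr, ← hs,
            ← zpow_add, ← zpow_add_one, hdvd, hc', he, hf]
          exact ⟨d + f + 1, by ring⟩
        · rw [eq_inv_of_mul_eq_one_left h]; exact inv_mem haU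
        · rw [show x * a * a * (x * a)⁻¹ = x * a * x⁻¹ by group, hxa]; congr 1
  · push Not at hB
    obtain ⟨g, hgM, hg⟩ := hB
    set z := a ^ p ^ (n - 1) with hz
    have hzord : orderOf z = p := by
      rw [hz, orderOf_pow, hord, Nat.gcd_eq_right (Nat.pow_dvd_pow p (Nat.sub_le n 1)),
        Nat.pow_div (Nat.sub_le n 1) hp.pos, show n - (n - 1) = 1 by omega, pow_one]
    have hztop : ∀ k : ℤ, z ^ k = a ^ ((p : ℤ) ^ (n - 1) * k) := fun k => by
      rw [hz, ← zpow_natCast, ← zpow_mul]; push_cast; rfl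
    -- the homomorphism to the subgroup of order `p`
    have hMc : ∀ u ∈ M, u * a * u⁻¹ * a⁻¹ ∈ zpowers z := by
      intro u hu
      obtain ⟨r, hr⟩ := hconj u
      obtain ⟨t, ht⟩ := (hMr hr).1 hu
      refine mem_zpowers_iff.2 ⟨t, ?_⟩
      rw [hztop, hr, ← ht, zpow_sub, zpow_one]
    have hzfix : ∀ u ∈ M, u * z * u⁻¹ = z := by
      intro u hu
      rw [hz, show p ^ (n - 1) = p * p ^ (n - 2) by rw [← pow_succ', show n - 2 + 1 = n - 1 by omega],
        pow_mul, ← conj_pow, (hM u).1 hu]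
    let φ : M →* G :=
      { toFun := fun u => (u : G) * a * (u : G)⁻¹ * a⁻¹
        map_one' := by simp
        map_mul' := by
          intro u v
          obtain ⟨t, ht⟩ := mem_zpowers_iff.1 (hMc _ u.2)
          obtain ⟨s, hs⟩ := mem_zpowers_iff.1 (hMc _ v.2)
          rw [← ht, ← hs]
          have hva : (v : G) * a * (v : G)⁻¹ = z ^ s * a := by rw [hs]; group
          have hua : (u : G) * a * (u : G)⁻¹ = z ^ t * a := by rw [ht]; group
          simp only [coe_mul]
          rw [show (u : G) * v * a * ((u : G) * v)⁻¹ = u * (v * a * (v : G)⁻¹) * (u : G)⁻¹ by group, hva,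
            ← conj_mul, ← conj_zpow, hzfix _ u.2, hua]
          rw [← mul_assoc, mul_inv_cancel_right, ← zpow_add, ← zpow_add, add_comm] }
    have hker : φ.ker = (zpowers a).subgroupOf M := by
      ext ⟨u, hu⟩
      rw [MonoidHom.mem_ker, mem_subgroupOf]
      change u * a * u⁻¹ * a⁻¹ = 1 ↔ u ∈ zpowers a
      rw [mul_inv_eq_one]
      refine ⟨hcent u, fun h => ?_⟩
      obtain ⟨k, rfl⟩ := mem_zpowers_iff.1 h
      group
    have hrange : φ.range = zpowers z := by
      refine SetLike.ext' (Set.eq_of_subset_of_ncard_le ?_ ?_ (Set.toFinite _))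
      · rintro _ ⟨u, rfl⟩
        exact hMc _ u.2
      · change Nat.card (zpowers z) ≤ Nat.card φ.range
        rw [Nat.card_zpowers, hzord]
        have hdvdp : Nat.card φ.range ∣ p := by
          rw [← hzord, ← Nat.card_zpowers]
          exact Subgroup.card_dvd_of_le (fun _ ⟨u, hu⟩ => hu ▸ hMc _ u.2)
        rcases hp.eq_one_or_self_of_dvd _ hdvdp with h | h
        · exfalso
          rw [card_eq_one] at h
          have : φ ⟨g, hgM⟩ = 1 := by
            rw [← mem_bot, ← h]; exact ⟨_, rfl⟩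
          exact hg (hcent g (mul_inv_eq_one.1 this))
        · rw [h]
    have hidx : (zpowers a).relIndex M = p := by
      rw [relIndex, ← hker, index_ker, hrange, Nat.card_zpowers, hzord]
    by_cases hsmall : p = 2 ∧ n = 2
    · obtain ⟨rfl, rfl⟩ := hsmall
      have htop : M = ⊤ := by
        refine top_le_iff.1 fun u _ => ?_
        obtain ⟨r, hr⟩ := hconj u
        rw [hMr hr]
        rcases Int.even_or_odd r with ⟨c, rfl⟩ | ⟨c, rfl⟩
        · exfalso
          have h : u * a ^ (2 : ℕ) * u⁻¹ = 1 := by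
            rw [← conj_pow, hr, ← zpow_natCast, ← zpow_mul, hdvd]
            exact ⟨c, by push_cast; ring⟩
          rw [conj_eq_one_iff, ← orderOf_dvd_iff_pow_eq_one, hord] at h
          norm_num at h
        · exact ⟨c, by push_cast; ring⟩
      rw [htop, relIndex_top_right] at hidx
      have hcard : Nat.card G = 2 ^ (2 + 1) := by
        rw [← Subgroup.card_mul_index (zpowers a), hidx, hUn]; rfl
      refine Or.inl ⟨rfl, hcard, ?_⟩
      obtain ⟨r, hr⟩ := hconj g
      obtain ⟨c, hc⟩ := (hMr hr).1 hgM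
      norm_num at hc
      have hxa : g * a * g⁻¹ = a⁻¹ := by
        rcases Int.even_or_odd c with ⟨d, hd⟩ | ⟨d, hd⟩
        · refine absurd (hcent g (hr.trans ?_)) hg
          conv_rhs => rw [← zpow_one a]
          rw [hdvd']
          exact ⟨d, by push_cast; rw [hc, hd]; ring⟩
        · rw [hr, ← zpow_neg_one, hdvd']
          exact ⟨d + 1, by push_cast; linear_combination hc + 2 * hd⟩
      have h2 : ∀ u : G, u ∉ zpowers a → g⁻¹ * u ∈ zpowers a := fun u hu => by
        rw [mul_mem_iff_of_index_two hidx, inv_mem_iff]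
        exact iff_of_false hg hu
      rcases dihedral_or_quaternion (by norm_num) hord
          (sq_mem_of_index_two hidx g) hxa
          (fun u => or_iff_not_imp_left.2 (h2 u)) hcard with h | h
      · exact Or.inl h
      · exact Or.inr (Or.inl h)
    · right
      have hch : (p : ℤ) ∣ (p.choose 2 : ℤ) * (p : ℤ) ^ (n - 2) := by
        by_cases h : p = 2
        · subst h
          exact dvd_mul_of_dvd_right (dvd_pow_self _ (by omega)) _
        · refine dvd_mul_of_dvd_left (Int.natCast_dvd_natCast.2 (hp.dvd_choose_self two_ne_zero ?_)) _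
          exact lt_of_le_of_ne hp.two_le (Ne.symm h)
      obtain ⟨r, hr⟩ := hconj g
      obtain ⟨t, ht⟩ := (hMr hr).1 hgM
      have hga : ∀ i : ℤ, g * a ^ i = z ^ (t * i) * a ^ i * g := by
        intro i
        rw [hztop, ← zpow_add, ← mul_inv_eq_iff_eq_mul, ← conj_zpow, hr, ← zpow_mul]
        exact congrArg (a ^ ·) (by linear_combination i * ht)
      have hzg : Commute z g := (mul_inv_eq_iff_eq_mul.1 (hzfix g hgM)).symm
      have hza : Commute z a := hz ▸ (Commute.pow_self a _)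
      have key : ∀ (y : G) (t' i : ℤ), y * a ^ i = z ^ (t' * i) * a ^ i * y → Commute z y →
          (a ^ i * y) ^ p = a ^ ((p : ℤ) * i * (1 + t' * ((p.choose 2 : ℤ) * (p : ℤ) ^ (n - 2)))) * y ^ p := by
        intro y t' i hy hzy
        rw [mul_pow_comm hy (hzy.zpow_left _) ((hza.zpow_left _).zpow_right _), mul_assoc,
          ← ((hzy.zpow_left (t' * i)).pow_pow _ p).eq, ← mul_assoc, ← zpow_natCast (a ^ i),
          ← zpow_natCast (z ^ (t' * i)), ← zpow_mul, ← zpow_mul, hztop, ← zpow_add]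
        congr 2
        rw [show n - 1 = n - 2 + 1 by omega, pow_succ]
        ring
      have hgp : g ^ p ∈ zpowers a := by
        have : (⟨g, hgM⟩ : M) ^ p ∈ φ.ker := by
          rw [MonoidHom.mem_ker, map_pow, ← orderOf_dvd_iff_pow_eq_one, ← hzord]
          exact orderOf_dvd_of_mem_zpowers (hMc g hgM)
        rwa [hker, mem_subgroupOf, SubgroupClass.coe_pow] at this
      obtain ⟨s, hs⟩ := mem_zpowers_iff.1 hgp
      have ht0 : ¬(p : ℤ) ∣ t := by
        rintro ⟨c, hc⟩
        refine hg (hcent g (hr.trans ?_))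
        conv_rhs => rw [← zpow_one a]
        rw [hdvd', hn1, ht, hc]
        exact ⟨c, by ring⟩
      obtain ⟨s', hs'⟩ : (p : ℤ) ∣ s := by
        have h1 : (p : ℤ) ^ n ∣ (p : ℤ) ^ (n - 1) * (t * s) := by
          rw [← hdvd, ← hztop]
          have h2 := hga s
          have h3 : g * a ^ s = a ^ s * g := by rw [hs]; exact (Commute.self_pow g p).eq
          rw [h3, mul_assoc] at h2
          exact mul_eq_right.1 h2.symm
        rw [hn1, mul_comm (p : ℤ)] at h1
        exact (hprime.dvd_or_dvd (Int.dvd_of_mul_dvd_mul_left (pow_ne_zero _ (by exact_mod_cast hp.pos.ne')) h1)).resolve_left ht0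
      have hunit : ∀ t' : ℤ, IsCoprime ((p : ℤ) ^ (n - 1)) (1 + t' * ((p.choose 2 : ℤ) * (p : ℤ) ^ (n - 2))) := by
        intro t'
        obtain ⟨e, he⟩ := hch
        rw [he]
        exact (show IsCoprime (p : ℤ) (1 + t' * (p * e)) from ⟨-(t' * e), 1, by ring⟩).pow_left
      obtain ⟨u, v, huv⟩ := hunit t
      set i₀ : ℤ := -(s' * v) with hi₀
      set y := a ^ i₀ * g with hy
      have hyp : y ^ p = 1 := by
        rw [hy, key g t i₀ (hga _) hzg, ← hs, ← zpow_add, hdvd, hn1]
        exact ⟨s' * u, by rw [hs', hi₀]; linear_combination -(p : ℤ) * s' * huv⟩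
      have hyM : y ∈ M := mul_mem (hMU (zpow_mem haU _)) hgM
      have hya : ∀ (j : ℕ) (i : ℤ), y ^ j * a ^ i = z ^ ((j : ℤ) * t * i) * a ^ i * y ^ j := by
        intro j i
        induction j with
        | zero => simp
        | succ j ih =>
          have hzy' : Commute z y := (hza.zpow_right _).mul_right hzg
          have hy1 : y * a ^ i = z ^ (t * i) * a ^ i * y := by
            calc y * a ^ i = a ^ i₀ * (g * a ^ i) := by rw [hy, mul_assoc]
              _ = a ^ i₀ * (z ^ (t * i) * a ^ i * g) := by rw [hga i]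
              _ = (a ^ i₀ * z ^ (t * i)) * a ^ i * g := by group
              _ = (z ^ (t * i) * a ^ i₀) * a ^ i * g := by rw [((hza.zpow_left _).zpow_right _).eq]
              _ = z ^ (t * i) * (a ^ i₀ * a ^ i) * g := by group
              _ = z ^ (t * i) * (a ^ i * a ^ i₀) * g := by rw [(Commute.zpow_zpow_self a i₀ i).eq]
              _ = z ^ (t * i) * a ^ i * y := by rw [hy]; group
          calc y ^ (j + 1) * a ^ i = y * (y ^ j * a ^ i) := by rw [pow_succ', mul_assoc]
            _ = y * (z ^ ((j : ℤ) * t * i) * a ^ i * y ^ j) := by rw [ih]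
            _ = (y * z ^ ((j : ℤ) * t * i)) * a ^ i * y ^ j := by simp only [mul_assoc]
            _ = (z ^ ((j : ℤ) * t * i) * y) * a ^ i * y ^ j := by rw [(hzy'.zpow_left _).eq]
            _ = z ^ ((j : ℤ) * t * i) * (y * a ^ i) * y ^ j := by simp only [mul_assoc]
            _ = z ^ ((j : ℤ) * t * i) * (z ^ (t * i) * a ^ i * y) * y ^ j := by rw [hy1]
            _ = (z ^ ((j : ℤ) * t * i) * z ^ (t * i)) * a ^ i * (y * y ^ j) := by simp only [mul_assoc]
            _ = z ^ (((j + 1 : ℕ) : ℤ) * t * i) * a ^ i * y ^ (j + 1) := by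
              rw [← zpow_add, pow_succ']; push_cast; ring_nf
      have hyU : y ∉ zpowers a := fun h => hg ((Subgroup.mul_mem_cancel_left _ (zpow_mem haU _)).1 h)
      -- the elements of order dividing `p`
      set F := closure {z, y} with hF
      have hzy : Commute z y := ((hza.zpow_right _)).mul_right hzg
      have hzp : z ^ p = 1 := by rw [← hzord]; exact pow_orderOf_eq_one z
      have hyord : orderOf y = p := orderOf_eq_prime hyp fun h => hyU (h ▸ one_mem _)
      have hzF : z ∈ F := subset_closure (Set.mem_insert _ _)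
      have hyF : y ∈ F := subset_closure (Set.mem_insert_of_mem _ rfl)
      have hMdec : ∀ x ∈ M, ∃ (i : ℤ) (j : ℕ), x = a ^ i * y ^ j := by
        intro x hx
        have hφy : φ ⟨y, hyM⟩ ≠ 1 := fun h => hyU (hcent y (mul_inv_eq_one.1 h))
        have h1 : φ ⟨x, hx⟩ ∈ zpowers (φ ⟨y, hyM⟩) := by
          have : zpowers (φ ⟨y, hyM⟩) = φ.range := by
            refine SetLike.ext' (Set.eq_of_subset_of_ncard_le ?_ ?_ (Set.toFinite _))
            · exact zpowers_le.2 ⟨_, rfl⟩
            · change Nat.card φ.range ≤ Nat.card (zpowers (φ ⟨y, hyM⟩))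
              rw [hrange, Nat.card_zpowers, Nat.card_zpowers, hzord,
                orderOf_eq_prime (by rw [← map_pow, show (⟨y, hyM⟩ : M) ^ p = 1 from Subtype.ext hyp, map_one]) hφy]
          rw [this]; exact ⟨_, rfl⟩
        obtain ⟨j, hj⟩ := mem_powers_iff_mem_zpowers.2 h1
        change φ ⟨y, hyM⟩ ^ j = φ ⟨x, hx⟩ at hj
        have h2 : (⟨x, hx⟩ : M) * ((⟨y, hyM⟩ : M) ^ j)⁻¹ ∈ φ.ker := by
          rw [MonoidHom.mem_ker, map_mul, map_inv, map_pow, hj, mul_inv_cancel]
        rw [hker, mem_subgroupOf] at h2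
        obtain ⟨i, hi⟩ := mem_zpowers_iff.1 h2
        exact ⟨i, j, by rw [hi]; simp⟩
      have hΩ : Cfsg.omegaOne p M = F := by
        refine le_antisymm ((closure_le _).2 ?_) ((closure_le _).2 ?_)
        · rintro x ⟨hx, hxp⟩
          obtain ⟨i, j, rfl⟩ := hMdec x hx
          refine mul_mem ?_ (pow_mem hyF j)
          rw [key (y ^ j) ((j : ℤ) * t) i (hya j i) (hzy.pow_right j),
            show (y ^ j) ^ p = 1 by rw [← pow_mul, mul_comm, pow_mul, hyp, one_pow], mul_one, hdvd, hn1,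
            mul_assoc] at hxp
          have h1 := (hunit ((j : ℤ) * t)).dvd_of_dvd_mul_right
            (Int.dvd_of_mul_dvd_mul_left (by exact_mod_cast hp.pos.ne') hxp)
          obtain ⟨e, rfl⟩ := h1
          rw [← hztop]
          exact zpow_mem hzF e
        · rintro x (rfl | rfl)
          · exact subset_closure ⟨hMU (hz ▸ pow_mem haU _), hzp⟩
          · exact subset_closure ⟨hyM, hyp⟩
      rw [hΩ]
      have hcommF : ∀ x ∈ ({z, y} : Set G), ∀ w ∈ ({z, y} : Set G), x * w = w * x := by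
        rintro x (rfl | rfl) w (rfl | rfl)
        · rfl
        · exact hzy.eq
        · exact hzy.eq.symm
        · rfl
      have hFc : IsMulCommutative F := Subgroup.isMulCommutative_closure hcommF
      have hFe : Cfsg.IsElementaryAbelian p F := by
        refine ⟨hFc, fun x hx => ?_⟩
        induction hx using closure_induction with
        | mem x hx => rcases hx with rfl | rfl <;> assumption
        | one => exact one_pow p
        | mul u w hu hw ihu ihw =>
          have : Commute u w := congrArg Subtype.val (mul_comm' (⟨u, hu⟩ : F) ⟨w, hw⟩)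
          rw [this.mul_pow, ihu, ihw, mul_one]
        | inv u _ ihu => rw [inv_pow, ihu, inv_one]
      have hdisj : Disjoint (zpowers z) (zpowers y) := by
        rw [disjoint_iff, ← card_eq_one]
        have hd : Nat.card ↥(zpowers z ⊓ zpowers y) ∣ p := by
          rw [← hyord, ← Nat.card_zpowers]; exact card_dvd_of_le inf_le_right
        refine (hp.eq_one_or_self_of_dvd _ hd).resolve_right fun h => hyU ?_
        have h' : zpowers z ⊓ zpowers y = zpowers y := eq_of_le_of_card_ge inf_le_right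
          (by rw [h, Nat.card_zpowers, hyord])
        have hyz : y ∈ zpowers z := (h'.symm ▸ mem_zpowers y : y ∈ zpowers z ⊓ zpowers y).1
        exact (zpowers_le.2 (hz ▸ pow_mem haU _)) hyz
      have hcardF : Nat.card F = p ^ 2 := by
        have hsup : F = zpowers z ⊔ zpowers y := by
          rw [hF, Set.insert_eq, Subgroup.closure_union, ← zpowers_eq_closure, ← zpowers_eq_closure]
        have hcomm : ∀ (u : zpowers z) (w : zpowers y), Commute (u : G) w := by
          rintro ⟨_, i, rfl⟩ ⟨_, j, rfl⟩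
          exact (hzy.zpow_left i).zpow_right j
        let ψ : zpowers z × zpowers y →* G :=
          MonoidHom.noncommCoprod (zpowers z).subtype (zpowers y).subtype hcomm
        have hψ : Function.Injective ψ := by
          rw [injective_iff_map_eq_one]
          rintro ⟨⟨u, hu⟩, ⟨w, hw⟩⟩ h
          change u * w = 1 at h
          have hu' : u ∈ zpowers y := by rw [eq_inv_of_mul_eq_one_left h]; exact inv_mem hw
          have hu1 : u = 1 := mem_bot.1 (hdisj.le_bot ⟨hu, hu'⟩)
          subst hu1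
          rw [one_mul] at h
          subst h
          rfl
        have hr : ψ.range = F := by
          rw [hsup]
          refine le_antisymm ?_ (sup_le ?_ ?_)
          · rintro _ ⟨⟨u, w⟩, rfl⟩
            exact mul_mem_sup u.2 w.2
          · exact fun u hu => ⟨(⟨u, hu⟩, 1), by change u * 1 = u; exact mul_one u⟩
          · exact fun w hw => ⟨(1, ⟨w, hw⟩), by change 1 * w = w; exact one_mul w⟩
        rw [← hr, ← Nat.card_congr (MonoidHom.ofInjective hψ).toEquiv, Nat.card_prod, Nat.card_zpowers,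
          Nat.card_zpowers, hzord, hyord, pow_two]
      refine ⟨hidx, hFe, hcardF, characteristic_iff_map_le.2 fun α => ?_⟩
      have hMn : M.Normal := by
        refine ⟨fun u hu v => ?_⟩
        obtain ⟨q, hq⟩ := hconj v⁻¹
        rw [inv_inv] at hq
        rw [hM] at hu ⊢
        have hqa : v⁻¹ * a ^ p * v = (a ^ p) ^ q := by
          have h1 : (v⁻¹ * a * v⁻¹⁻¹) ^ p = v⁻¹ * a ^ p * v⁻¹⁻¹ := conj_pow
          rw [inv_inv, hq] at h1
          rw [← h1, ← zpow_natCast, ← zpow_natCast a, ← zpow_mul, ← zpow_mul, mul_comm]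
        calc v * u * v⁻¹ * a ^ p * (v * u * v⁻¹)⁻¹ = v * (u * (v⁻¹ * a ^ p * v) * u⁻¹) * v⁻¹ := by group
          _ = v * ((a ^ p) ^ q) * v⁻¹ := by rw [hqa, ← conj_zpow, hu]
          _ = v * (v⁻¹ * a ^ p * v) * v⁻¹ := by rw [hqa]
          _ = a ^ p := by group
      have hFn : F.Normal := by
        rw [← hΩ]
        refine ⟨fun u hu v => ?_⟩
        induction hu using closure_induction with
        | mem u hu => exact subset_closure ⟨hMn.conj_mem u hu.1 v, by rw [conj_pow, hu.2]; simp⟩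
        | one => simp
        | mul u w _ _ ihu ihw => rw [← conj_mul]; exact mul_mem ihu ihw
        | inv u _ ihu => rw [← conj_inv]; exact inv_mem ihu
      have hF'n : (F.map α.toMonoidHom).Normal := hFn.map _ α.surjective
      intro w hw
      have hwp : w ^ p = 1 := by
        obtain ⟨f, hf, rfl⟩ := hw
        rw [← map_pow, hFe.2 f hf, map_one]
      rw [← hΩ]
      refine subset_closure ⟨?_, hwp⟩
      -- the commutator with `a` has order dividing `p`
      obtain ⟨q, hq⟩ := hconj w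
      have hmem : w * a * w⁻¹ * a⁻¹ ∈ F.map α.toMonoidHom := by
        rw [show w * a * w⁻¹ * a⁻¹ = w * (a * w⁻¹ * a⁻¹) by group]
        exact mul_mem hw (hF'n.conj_mem _ (inv_mem hw) a)
      obtain ⟨f, hf, hf'⟩ := hmem
      have hcp : (a ^ (q - 1)) ^ p = 1 := by
        rw [zpow_sub, zpow_one, ← hq, ← hf', ← map_pow, hFe.2 f hf, map_one]
      rw [hMr hq]
      rw [← zpow_natCast, ← zpow_mul, hdvd, hn1, mul_comm (q - 1)] at hcp
      exact Int.dvd_of_mul_dvd_mul_left (by exact_mod_cast hp.pos.ne') hcp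

end Cfsg.Agent.S3761
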