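import Cfsg.Statements.S3806
import Mathlib
import Cfsg.Agent.Lib.MaxClassPow.Agemo

set_option autoImplicit false
open Cfsg

namespace Cfsg.Agent.S3806

open Cfsg.Agent.Lib.MaxClassPow
open scoped commutatorElement

theorem section_bound {G : Type*} [Group G] [Finite G] {p k i j : ℕ} (hp : p.Prime)
    (hle : SectionalPRankLE p k G) (hij : lv G j ≤ lv G i)
    (hcomm : ∀ x ∈ lv G i, ∀ y ∈ lv G i, ⁅x, y⁆ ∈ lv G j) (hpow : ∀ x ∈ lv G i, x ^ p ∈ lv G j)
    (hcard : Nat.card (lv G i) = p ^ (k + 1) * Nat.card (lv G j)) : False := by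
  set N := (lv G j).subgroupOf (lv G i)
  haveI : N.Normal := inferInstance
  have h1 : IsMulCommutative (⊤ : Subgroup (↥(lv G i) ⧸ N)) := by
    refine ⟨⟨fun a b => ?_⟩⟩
    refine Subtype.ext ?_
    obtain ⟨x, hx⟩ := QuotientGroup.mk'_surjective N a
    obtain ⟨y, hy⟩ := QuotientGroup.mk'_surjective N b
    show (a : ↥(lv G i) ⧸ N) * b = b * a
    rw [← hx, ← hy, ← commutatorElement_eq_one_iff_mul_comm, ← map_commutatorElement]
    refine (QuotientGroup.eq_one_iff _).2 ?_
    exact hcomm x x.2 y y.2
  have h2 := hle (lv G i) N ⊤ h1 (fun a _ => by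
    obtain ⟨x, rfl⟩ := QuotientGroup.mk'_surjective N a
    rw [← map_pow]
    exact (QuotientGroup.eq_one_iff _).2 (hpow x x.2))
  rw [Subgroup.card_top, ← Subgroup.index_eq_card] at h2
  have h3 := Subgroup.card_mul_index N
  have h4 : Nat.card N = Nat.card (lv G j) := Nat.card_congr (Subgroup.subgroupOfEquivOfLe hij).toEquiv
  rw [h4, hcard, mul_comm (p ^ (k + 1))] at h3
  have h5 := Nat.eq_of_mul_eq_mul_left Nat.card_pos h3
  rw [h5] at h2
  have := (Nat.pow_le_pow_iff_right hp.one_lt).1 h2
  omega

/-- Let p be a prime and S a finite p-group of order pⁿ (n ≥ 2) of maximal nilpotency class n − 1 whose sectional p-rank is exactly k (every section has p-rank at most k, and some section has p-rank k). If p ≥ k + 2 then the order of S is at most p^(2k). -/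
theorem result {S : Type*} [Group S] [Finite S] (p : ℕ) [Fact p.Prime] (hS : IsPGroup p S) [Group.IsNilpotent S]
    (n : ℕ) (hn : 2 ≤ n) (hcard : Nat.card S = p ^ n) (hmax : Group.nilpotencyClass S = n - 1)
    (k : ℕ) (hk : 1 ≤ k) (hsr : Cfsg.SectionalPRankLE p k S ∧ ¬ Cfsg.SectionalPRankLE p (k - 1) S)
    (hpk : k + 2 ≤ p) : Nat.card S ≤ p ^ (2 * k) := by
  have hp : p.Prime := Fact.out
  rw [hcard]
  refine Nat.pow_le_pow_right hp.pos ?_
  by_contra hn2
  push Not at hn2
  have h : MC S p n := mc_of_class hcard (by omega) hmax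
  obtain ⟨-, hPL⟩ := main (by omega) n S h
  have hcd : ∀ i j, 2 ≤ i → i ≤ j → j ≤ n → j = i + (k + 1) →
      Nat.card (lv S i) = p ^ (k + 1) * Nat.card (lv S j) := fun i j hi hij hjn e => by
    rw [h.card_lv i hi (by omega), h.card_lv j (by omega) hjn, ← pow_add]
    congr 1; omega
  rcases Nat.lt_or_ge k 2 with hk2 | hk2
  · obtain rfl : k = 1 := by omega
    refine section_bound hp hsr.1 (lv_anti (show 1 ≤ 2 by omega)) (fun x _ y _ => ?_)
      (fun x _ => h.pow_mem_two x) ?_
    · show _ ∈ lv S (1 + 1)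
      rw [lv_succ le_rfl, lv_one]
      exact Subgroup.commutator_mem_commutator (Subgroup.mem_top x) (Subgroup.mem_top y)
    · rw [lv_one, Subgroup.card_top, hcard, h.card_lv 2 le_rfl (by omega), ← pow_add]
      congr 1; omega
  · rcases Nat.lt_or_ge n (2 * k + 2) with hn3 | hn3
    · have hn1 : n = 2 * k + 1 := by omega
      refine section_bound hp hsr.1 (i := k) (j := 2 * k + 1) (lv_anti (by omega)) ?_
        (fun x hx => lv_anti (by omega) (hPL k hk2 x hx).1) (hcd _ _ hk2 (by omega) (by omega) (by omega))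
      obtain ⟨s, hs, hs'⟩ := Set.not_subset.1 (h.not_le_succ (i := k) (by omega) (by omega))
      have hbot := h.lv_bot (i := 2 * k + 1) (by omega)
      have hc : ∀ x ∈ lv S k, ∀ w ∈ lv S (k + 1), Commute x w := fun x hx w hw => by
        rw [← commutatorElement_eq_one_iff_commute]
        have := lv_comm (Subgroup.commutator_mem_commutator hx hw)
        rw [h.lv_bot (by omega), Subgroup.mem_bot] at this
        exact this
      have hle : ∀ x ∈ lv S k, Commute s x → lv S k ≤ Subgroup.centralizer {x} := fun x hx hsx => by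
        refine (h.gen hk2 hs hs').trans (sup_le (Subgroup.zpowers_le.2 ?_) fun w hw => ?_)
        · rw [Subgroup.mem_centralizer_singleton_iff]; exact hsx.eq
        · rw [Subgroup.mem_centralizer_singleton_iff]; exact (hc x hx w hw).symm.eq
      intro x hx y hy
      rw [hbot, Subgroup.mem_bot, commutatorElement_eq_one_iff_commute]
      have hsx : Commute s x :=
        (Subgroup.mem_centralizer_singleton_iff.1 (hle s hs (Commute.refl s) hx) : x * s = s * x).symm
      exact (Subgroup.mem_centralizer_singleton_iff.1 (hle x hx hsx hy) : y * x = x * y).symm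
    · refine section_bound hp hsr.1 (i := k + 1) (j := 2 * k + 2) (lv_anti (by omega)) (fun x hx y hy => ?_)
        (fun x hx => lv_anti (by omega) (hPL (k + 1) (by omega) x hx).1)
        (hcd _ _ (by omega) (by omega) (by omega) (by omega))
      exact lv_anti (by omega) (lv_comm (Subgroup.commutator_mem_commutator hx hy))

end Cfsg.Agent.S3806
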