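import Cfsg.Statements.S3807
import Cfsg.Agent.Lib.PGroupFrattini
import Mathlib

set_option autoImplicit false
open Cfsg

namespace Cfsg.Agent.S3807


open Subgroup
open scoped commutatorElement

/-- Let S be a non-abelian finite p-group with an abelian subgroup A of index p. Then [S : Z(S)] = p·#[S,S], and either [S,S] has order p, S/Z(S) is elementary abelian of order p², and S has exactly p + 1 abelian subgroups of index p; or [S,S] has order at least p² and A is the only abelian subgroup of index p in S. -/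
theorem result {S : Type*} [Group S] [Finite S] (p : ℕ) [Fact p.Prime] (hS : IsPGroup p S) (hna : ¬ IsMulCommutative S)
    (A : Subgroup S) (hA : IsMulCommutative ↥A) (hAi : A.index = p) :
    (Subgroup.center S).index = p * Nat.card (commutator S) ∧
      ((Nat.card (commutator S) = p ∧ Cfsg.IsElementaryAbelian p (⊤ : Subgroup (S ⧸ Subgroup.center S)) ∧
          Nat.card (S ⧸ Subgroup.center S) = p ^ 2 ∧
          Nat.card {B : Subgroup S // IsMulCommutative ↥B ∧ B.index = p} = p + 1) ∨
        (p ^ 2 ≤ Nat.card (commutator S) ∧ ∀ B : Subgroup S, IsMulCommutative ↥B → B.index = p → B = A)) := by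
  classical
  have hp : p.Prime := Fact.out
  have hAc : ∀ a ∈ A, ∀ b ∈ A, a * b = b * a := fun a ha b hb =>
    congrArg Subtype.val (hA.is_comm.comm (⟨a, ha⟩ : A) ⟨b, hb⟩)
  have hcoatom : ∀ B : Subgroup S, B.index = p → B.Normal ∧ IsCoatom B := by
    intro B hBi
    have hc : IsCoatom B := by
      refine ⟨fun h => ?_, fun U hU => ?_⟩
      · rw [h, index_top] at hBi
        exact hp.ne_one hBi.symm
      · have h1 := relIndex_mul_index hU.le
        rcases (Nat.dvd_prime hp).mp (hBi ▸ (Dvd.intro_left _ h1 : U.index ∣ B.index)) with h2 | h2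
        · exact index_eq_one.mp h2
        · rw [h2, hBi, Nat.mul_eq_right hp.ne_zero] at h1
          exact absurd (relIndex_eq_one.mp h1) (not_le_of_gt hU)
    exact ⟨(Lib.PGroupFrattini.coatom_index hS hc).1, hc⟩
  obtain ⟨hAn, hAco⟩ := hcoatom A hAi
  haveI := hAn
  obtain ⟨g, -, hg⟩ := SetLike.exists_of_lt (lt_top_iff_ne_top.mpr hAco.1)
  have htop : A ⊔ zpowers g = ⊤ := hAco.2 _ (left_lt_sup.mpr fun h => hg (h (mem_zpowers g)))
  have habel : ∀ B : Subgroup S, (∀ a ∈ B, ∀ b ∈ B, a * b = b * a) → ∀ z ∈ center S, B ⊔ zpowers z = ⊤ → False := by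
    intro B hB z hz ht
    apply hna
    have h1 : ∀ x : S, B ≤ centralizer ({x} : Set S) → x ∈ center S := fun x hx => by
      refine mem_center_iff.mpr fun y => ?_
      have h2 : B ⊔ zpowers z ≤ centralizer ({x} : Set S) :=
        sup_le hx (zpowers_le.mpr (mem_centralizer_singleton_iff.mpr (mem_center_iff.mp hz x).symm))
      exact mem_centralizer_singleton_iff.mp (h2 (ht ▸ mem_top y))
    have h3 : (⊤ : Subgroup S) ≤ center S := ht ▸ sup_le
      (fun b hb => h1 b fun a ha => mem_centralizer_singleton_iff.mpr (hB a ha b hb)) (zpowers_le.mpr hz)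
    exact ⟨⟨fun x y => (mem_center_iff.mp (h3 (mem_top y)) x)⟩⟩
  have hZA : center S ≤ A := fun z hz => by
    by_contra hzA
    exact habel A hAc z hz (hAco.2 _ (left_lt_sup.mpr fun h => hzA (h (mem_zpowers z))))
  let ψ : A →* A := MonoidHom.mk' (fun a => ⟨g * a * g⁻¹ * (a : S)⁻¹, A.mul_mem (hAn.conj_mem a a.2 g) (A.inv_mem a.2)⟩)
    fun a b => by
    apply Subtype.ext
    show g * (a * b) * g⁻¹ * ((a : S) * b)⁻¹ = g * a * g⁻¹ * (a : S)⁻¹ * (g * b * g⁻¹ * (b : S)⁻¹)
    calc g * (a * b) * g⁻¹ * ((a : S) * b)⁻¹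
        = (g * a * g⁻¹) * ((g * b * g⁻¹ * (b : S)⁻¹) * (a : S)⁻¹) := by group
      _ = (g * a * g⁻¹) * ((a : S)⁻¹ * (g * b * g⁻¹ * (b : S)⁻¹)) := by
          rw [hAc _ (A.mul_mem (hAn.conj_mem b b.2 g) (A.inv_mem b.2)) _ (A.inv_mem a.2)]
      _ = _ := by group
  have hker : ψ.ker.map A.subtype = center S := by
    refine le_antisymm ?_ fun z hz => ⟨⟨z, hZA hz⟩, MonoidHom.mem_ker.mpr (Subtype.ext ?_), rfl⟩
    · rintro _ ⟨a, ha, rfl⟩
      have h1 : g * a * g⁻¹ * (a : S)⁻¹ = 1 := congrArg Subtype.val (MonoidHom.mem_ker.mp ha)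
      rw [mul_inv_eq_one, mul_inv_eq_iff_eq_mul] at h1
      refine mem_center_iff.mpr fun y => ?_
      have h2 : A ⊔ zpowers g ≤ centralizer ({(a : S)} : Set S) := sup_le
        (fun x hx => mem_centralizer_singleton_iff.mpr (hAc x hx a a.2))
        (zpowers_le.mpr (mem_centralizer_singleton_iff.mpr h1))
      exact mem_centralizer_singleton_iff.mp (h2 (htop ▸ mem_top y))
    · show g * z * g⁻¹ * z⁻¹ = 1
      rw [mem_center_iff.mp hz g]
      group
  set K := ψ.range.map A.subtype with hKdef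
  have hKA : K ≤ A := map_subtype_le _
  haveI hKn : K.Normal := by
    refine normalizer_eq_top_iff.mp (top_le_iff.mp (htop ▸ sup_le ?_ (zpowers_le.mpr ?_)))
    · intro x hx
      refine mem_normalizer_iff.mpr fun k => ⟨fun hk => ?_, fun hk => ?_⟩
      · rw [hAc x hx k (hKA hk), mul_inv_cancel_right]; exact hk
      · have hk' : x⁻¹ * (x * k * x⁻¹) * x = x * k * x⁻¹ := by
          rw [hAc _ (A.inv_mem hx) _ (hKA hk), inv_mul_cancel_right]
        rwa [show k = x * k * x⁻¹ by rw [← hk']; group]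
    · have hconj : ∀ k ∈ K, g * k * g⁻¹ ∈ K := by
        rintro _ ⟨_, ⟨a, rfl⟩, rfl⟩
        refine ⟨ψ ⟨g * a * g⁻¹, hAn.conj_mem a a.2 g⟩, ⟨_, rfl⟩, ?_⟩
        show g * (g * a * g⁻¹) * g⁻¹ * (g * (a : S) * g⁻¹)⁻¹ = g * (g * a * g⁻¹ * (a : S)⁻¹) * g⁻¹
        group
      have hle : K.map (MulAut.conj g).toMonoidHom ≤ K := by
        rintro _ ⟨k, hk, rfl⟩; exact hconj k hk
      have heq : K.map (MulAut.conj g).toMonoidHom = K :=
        eq_of_le_of_card_ge hle (le_of_eq (Nat.card_congr (K.equivMapOfInjective _ (MulAut.conj g).injective).toEquiv))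
      exact mem_normalizer_iff.mpr fun k => ⟨hconj k, fun hk => by
        obtain ⟨k', hk', e⟩ := heq.ge hk
        rwa [← (MulAut.conj g).injective (e : MulAut.conj g k' = MulAut.conj g k)]⟩
  have hKS : K = commutator S := by
    refine le_antisymm ?_ ?_
    · rintro _ ⟨_, ⟨a, rfl⟩, rfl⟩
      have : ⁅g, (a : S)⁆ ∈ commutator S := commutator_mem_commutator (mem_top g) (mem_top _)
      rwa [commutatorElement_def] at this
    · rw [_root_.commutator_def, commutator_le]
      intro x _ y _
      set π := QuotientGroup.mk' K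
      have hga : ∀ a ∈ A, π g * π a = π a * π g := fun a ha => by
        have h1 : π (g * a * g⁻¹ * a⁻¹) = 1 :=
          (QuotientGroup.eq_one_iff _).mpr ⟨ψ ⟨a, ha⟩, ⟨_, rfl⟩, rfl⟩
        rwa [map_mul, map_mul, map_mul, map_inv, map_inv, mul_inv_eq_one, mul_inv_eq_iff_eq_mul] at h1
      have h2 : ∀ u : S, (∀ a ∈ A, π a * π u = π u * π a) → π g * π u = π u * π g → ∀ v, π v * π u = π u * π v := by
        intro u h3 h4 v
        have hle : A ⊔ zpowers g ≤ (centralizer ({π u} : Set (S ⧸ K))).comap π := sup_le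
          (fun a ha => mem_centralizer_singleton_iff.mpr (h3 a ha))
          (zpowers_le.mpr (mem_centralizer_singleton_iff.mpr h4))
        exact mem_centralizer_singleton_iff.mp (hle (htop ▸ mem_top v))
      have hcA : ∀ a ∈ A, ∀ v, π v * π a = π a * π v := fun a ha =>
        h2 a (fun b hb => by rw [← map_mul, ← map_mul, hAc b hb a ha]) (hga a ha)
      have hcg : ∀ v, π v * π g = π g * π v := h2 g (fun a ha => (hga a ha).symm) rfl
      have hall : ∀ u v, π v * π u = π u * π v := fun u =>
        h2 u (fun a ha => (hcA a ha u).symm) (hcg u).symm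
      rw [← QuotientGroup.eq_one_iff (N := K), ← QuotientGroup.mk'_apply, map_commutatorElement,
        commutatorElement_eq_one_iff_mul_comm]
      exact hall y x
  have hidx : (center S).index = p * Nat.card (commutator S) := by
    have h1 := ψ.ker.card_mul_index
    rw [index_ker, Nat.card_congr (ψ.ker.equivMapOfInjective _ A.subtype_injective).toEquiv, hker,
      Nat.card_congr (ψ.range.equivMapOfInjective _ A.subtype_injective).toEquiv, ← hKdef, hKS] at h1
    have h2 := (center S).card_mul_index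
    rw [← A.card_mul_index, hAi, ← h1, mul_assoc] at h2
    rw [Nat.eq_of_mul_eq_mul_left Nat.card_pos h2, mul_comm]
  refine ⟨hidx, ?_⟩
  obtain ⟨j, hj⟩ := IsPGroup.iff_card.mp (hS.to_subgroup (commutator S))
  have hj0 : j ≠ 0 := by
    intro h0
    rw [h0, pow_zero, card_eq_one] at hj
    exact hna ⟨⟨fun x y => commutatorElement_eq_one_iff_mul_comm.mp
      (mem_bot.mp (hj ▸ commutator_mem_commutator (mem_top x) (mem_top y)))⟩⟩
  rcases (show j = 1 ∨ 2 ≤ j by omega) with hj1 | hj2
  · left
    have hcard : Nat.card (commutator S) = p := by rw [hj, hj1, pow_one]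
    have hQ : Nat.card (S ⧸ center S) = p ^ 2 := by rw [← index_eq_card, hidx, hcard, sq]
    have hncyc : ¬ IsCyclic (S ⧸ center S) := fun hc =>
      hna ⟨⟨fun x y => commutative_of_cyclic_center_quotient (QuotientGroup.mk' (center S)) (by rw [QuotientGroup.ker_mk']) x y⟩⟩
    have hQc : ∀ a b : S ⧸ center S, a * b = b * a := (IsPGroup.isMulCommutative_of_card_eq_prime_sq hQ).is_comm.comm
    have hQp : ∀ a : S ⧸ center S, a ^ p = 1 := by
      intro a
      obtain ⟨i, hi, hia⟩ := (Nat.dvd_prime_pow hp).mp (hQ ▸ orderOf_dvd_natCard a)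
      have : i ≤ 1 := by
        by_contra hi1
        exact hncyc (isCyclic_of_orderOf_eq_card a (by rw [hia, hQ]; congr 1; omega))
      apply orderOf_dvd_iff_pow_eq_one.mp
      rw [hia]
      exact (pow_dvd_pow p this).trans (pow_one p).dvd
    refine ⟨hcard, ⟨⟨⟨fun a b => Subtype.ext (hQc a b)⟩⟩, fun a _ => hQp a⟩, hQ, ?_⟩
    -- maximal abelian subgroups correspond to subgroups of order `p`
    let π := QuotientGroup.mk' (center S)
    have hcm : ∀ B : Subgroup S, IsMulCommutative B → B.index = p → center S ≤ B := by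
      intro B hB hBi z hz
      by_contra hzB
      exact habel B (fun a ha b hb => congrArg Subtype.val (hB.is_comm.comm (⟨a, ha⟩ : B) ⟨b, hb⟩)) z hz
        ((hcoatom B hBi).2.2 _ (left_lt_sup.mpr fun h => hzB (h (mem_zpowers z))))
    have hmapcard : ∀ B : Subgroup S, center S ≤ B → B.index = p → Nat.card (B.map π) = p := by
      intro B hB hBi
      have h1 := (B.map π).card_mul_index
      rw [index_map_eq B (QuotientGroup.mk'_surjective _) (by rwa [QuotientGroup.ker_mk']), hBi, hQ, sq] at h1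
      exact Nat.eq_of_mul_eq_mul_right hp.pos h1
    have e1 : Nat.card {B : Subgroup S // IsMulCommutative ↥B ∧ B.index = p} =
        Nat.card {U : Subgroup (S ⧸ center S) // Nat.card U = p} := by
      refine Nat.card_congr
        { toFun := fun B => ⟨B.1.map π, hmapcard B.1 (hcm B.1 B.2.1 B.2.2) B.2.2⟩
          invFun := fun U => ⟨U.1.comap π, ?_, ?_⟩
          left_inv := fun B => Subtype.ext (by
            show (B.1.map π).comap π = B.1
            rw [comap_map_eq, QuotientGroup.ker_mk', sup_eq_left.mpr (hcm B.1 B.2.1 B.2.2)])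
          right_inv := fun U => Subtype.ext (map_comap_eq_self_of_surjective (QuotientGroup.mk'_surjective _) U.1) }
      · haveI : IsCyclic U.1 := isCyclic_of_prime_card U.2
        refine ⟨⟨fun x y => ?_⟩⟩
        exact commutative_of_cyclic_center_quotient (π.subgroupComap U.1) (fun z hz => mem_center_iff.mpr fun w => by
          have h1 : π (z : S) = 1 := congrArg Subtype.val (MonoidHom.mem_ker.mp hz)
          exact Subtype.ext (mem_center_iff.mp ((QuotientGroup.eq_one_iff _).mp h1) w)) x y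
      · rw [index_comap_of_surjective _ (QuotientGroup.mk'_surjective _)]
        have h1 := U.1.card_mul_index
        rw [U.2, hQ, sq] at h1
        exact Nat.eq_of_mul_eq_mul_left hp.pos h1
    rw [e1]
    let e2 : (Σ U : {U : Subgroup (S ⧸ center S) // Nat.card U = p}, {x : U.1 // x ≠ 1}) →
        {x : S ⧸ center S // x ≠ 1} := fun Ux => ⟨Ux.2.1, fun h => Ux.2.2 (Subtype.ext h)⟩
    have hzp : ∀ (U : {U : Subgroup (S ⧸ center S) // Nat.card U = p}) (x : S ⧸ center S), x ∈ U.1 → x ≠ 1 → zpowers x = U.1 := by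
      intro U x hx hx1
      refine eq_of_le_of_card_ge (zpowers_le.mpr hx) ?_
      rw [U.2, Nat.card_zpowers, orderOf_eq_prime (hQp x) hx1]
    have he2 : Function.Bijective e2 := by
      refine ⟨?_, fun x => ⟨⟨⟨zpowers x.1, by rw [Nat.card_zpowers, orderOf_eq_prime (hQp x.1) x.2]⟩,
        ⟨⟨x.1, mem_zpowers _⟩, fun h => x.2 (congrArg Subtype.val h)⟩⟩, rfl⟩⟩
      rintro ⟨U, u⟩ ⟨U', u'⟩ h
      have h' : ((u.1 : U.1) : S ⧸ center S) = ((u'.1 : U'.1) : S ⧸ center S) := congrArg Subtype.val h
      have hU : U = U' := by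
        apply Subtype.ext
        rw [← hzp U _ u.1.2 (fun h0 => u.2 (Subtype.ext h0)), h', hzp U' _ u'.1.2 (fun h0 => u'.2 (Subtype.ext h0))]
      subst hU
      exact Sigma.ext rfl (heq_of_eq (Subtype.ext (Subtype.ext h')))
    have h3 := Nat.card_congr (Equiv.ofBijective e2 he2)
    haveI : Fintype (S ⧸ center S) := Fintype.ofFinite _
    haveI : Fintype {U : Subgroup (S ⧸ center S) // Nat.card U = p} := Fintype.ofFinite _
    have hne : ∀ (T : Type _) [Group T] [Finite T], Nat.card {x : T // x ≠ 1} = Nat.card T - 1 := by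
      intro T _ _
      haveI := Fintype.ofFinite T
      rw [Nat.card_eq_fintype_card, Nat.card_eq_fintype_card, Fintype.card_subtype_compl, Fintype.card_subtype_eq]
    rw [Nat.card_sigma, Finset.sum_congr rfl (fun U _ => by rw [hne U.1, U.2]), Finset.sum_const,
      Finset.card_univ, smul_eq_mul, ← Nat.card_eq_fintype_card, hne (S ⧸ center S), hQ] at h3
    have h4 : p ^ 2 - 1 = (p + 1) * (p - 1) := by
      rw [← Nat.sq_sub_sq, one_pow]
    rw [h4] at h3
    exact Nat.eq_of_mul_eq_mul_right (by have := hp.two_le; omega) h3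
  · right
    refine ⟨hj ▸ Nat.pow_le_pow_right hp.pos hj2, fun B hB hBi => ?_⟩
    by_contra hBA
    have hBc : ∀ a ∈ B, ∀ b ∈ B, a * b = b * a := fun a ha b hb =>
      congrArg Subtype.val (hB.is_comm.comm (⟨a, ha⟩ : B) ⟨b, hb⟩)
    have hsup : A ⊔ B = ⊤ := hAco.2 _ (left_lt_sup.mpr fun h => hBA (((hcoatom B hBi).2.le_iff_eq hAco.1).mp h).symm)
    have hle : A ⊓ B ≤ center S := fun z hz => mem_center_iff.mpr fun y => by
      have h1 : A ⊔ B ≤ centralizer ({z} : Set S) := sup_le
        (fun a ha => mem_centralizer_singleton_iff.mpr (hAc a ha z hz.1))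
        (fun b hb => mem_centralizer_singleton_iff.mpr (hBc b hb z hz.2))
      exact mem_centralizer_singleton_iff.mp (h1 (hsup ▸ mem_top y))
    have h2 : (center S).index ≤ p * p :=
      (Nat.le_of_dvd (Nat.pos_of_ne_zero index_ne_zero_of_finite) (index_dvd_of_le hle)).trans
        ((index_inf_le (H := A) (K := B)).trans (by rw [hAi, hBi]))
    rw [hidx, hj] at h2
    have h3 : p ^ 2 ≤ p ^ j := Nat.pow_le_pow_right hp.pos hj2
    have := hp.two_le
    nlinarith

end Cfsg.Agent.S3807
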