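import Cfsg.Statements.S3808
import Cfsg.Agent.Lib.Transfer.Hall
import Mathlib

set_option autoImplicit false
open Cfsg

namespace Cfsg.Agent.S3808


open Subgroup
open scoped commutatorElement

/-- Let S be a finite p-group with an extraspecial subgroup Q of index p. Then either Z(S) = Z(Q), or S = Q·Z(S) and Z(S) has order p². -/
theorem result {S : Type*} [Group S] [Finite S] (p : ℕ) [Fact p.Prime] (hS : IsPGroup p S) (Q : Subgroup S) (hQ : Cfsg.IsExtraspecial p ↥Q) (hQi : Q.index = p) :
    Subgroup.center S = (Subgroup.center ↥Q).map Q.subtype ∨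
      (Q ⊔ Subgroup.center S = ⊤ ∧ Nat.card (Subgroup.center S) = p ^ 2) := by
  have hp : p.Prime := Fact.out
  obtain ⟨⟨hQp, hΦ, hD⟩, hZ⟩ := hQ
  have hQc : IsCoatom Q := by
    refine ⟨fun h => ?_, fun U hU => ?_⟩
    · rw [h, index_top] at hQi
      exact hp.ne_one hQi.symm
    · have h1 := relIndex_mul_index hU.le
      rcases (Nat.dvd_prime hp).mp (hQi ▸ (Dvd.intro_left _ h1 : U.index ∣ Q.index)) with h2 | h2
      · exact index_eq_one.mp h2
      · rw [h2, hQi, Nat.mul_eq_right hp.ne_zero] at h1
        exact absurd (relIndex_eq_one.mp h1) (not_le_of_gt hU)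
  haveI := Lib.Transfer.normal_of_isCoatom_pGroup hS hQc
  set Z := (center Q).map Q.subtype with hZdef
  have hZn : Z.Normal := ConjAct.normal_of_characteristic_of_normal
  have hZcard : Nat.card Z = p := by
    rw [hZdef, Nat.card_congr ((center Q).equivMapOfInjective _ Q.subtype_injective).toEquiv.symm, hZ]
  have hZc : Z ≤ center S := by
    obtain ⟨z, hz, hz1⟩ := (show IsPGroup p (ConjAct S) from hS).exists_fixed_point_of_prime_dvd_card_of_fixed_point
      Z hZcard.symm.dvd (a := (1 : Z)) (fun g => smul_one g)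
    have hzc : (z : S) ∈ center S := mem_center_iff.mpr fun g => by
      have h := congrArg Subtype.val (hz (ConjAct.toConjAct g))
      rw [ConjAct.Subgroup.val_conj_smul, ConjAct.smul_def, ConjAct.ofConjAct_toConjAct] at h
      exact mul_inv_eq_iff_eq_mul.mp h
    have h2 : zpowers (z : S) = Z := by
      refine eq_of_le_of_card_ge (zpowers_le.mpr z.2) ?_
      rw [hZcard, Nat.card_zpowers]
      have hd : orderOf (z : S) ∣ p := hZcard ▸ Z.orderOf_dvd_natCard z.2
      rcases (Nat.dvd_prime hp).mp hd with h3 | h3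
      · exact absurd (Subtype.ext (orderOf_eq_one_iff.mp h3).symm) hz1
      · rw [h3]
    exact h2 ▸ zpowers_le.mpr hzc
  have hinf : center S ⊓ Q = Z := by
    refine le_antisymm (fun x hx => ⟨⟨x, hx.2⟩, mem_center_iff.mpr fun y => Subtype.ext (mem_center_iff.mp hx.1 y), rfl⟩)
      (le_inf hZc (map_subtype_le _))
  by_cases hle : center S ≤ Q
  · exact Or.inl (by rw [← hinf, inf_eq_left.mpr hle])
  · refine Or.inr ?_
    have htop : Q ⊔ center S = ⊤ := hQc.2 _ (left_lt_sup.mpr hle)
    refine ⟨htop, ?_⟩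
    have h1 : Q.relIndex (center S) = p := by
      rw [← hQi, ← relIndex_top_right, ← htop, relIndex_sup_left]
    have h2 := (Q.subgroupOf (center S)).card_mul_index
    rw [← relIndex, h1, ← inf_subgroupOf_left, Nat.card_congr (subgroupOfEquivOfLe inf_le_left).toEquiv, hinf, hZcard] at h2
    rw [← h2, sq]

end Cfsg.Agent.S3808
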