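import Cfsg.Statements.S3809
import Cfsg.Agent.S0095
import Cfsg.Agent.Lib.PGroupFrattini
import Mathlib

set_option autoImplicit false
open Cfsg

namespace Cfsg.Agent.S3809


open Subgroup
open scoped commutatorElement

/-- Let S be a finite p-group with an extraspecial subgroup of index p. Then S has order p^(2+2n) for some n ≥ 1, derived length at most 3, and exponent dividing p³. -/
theorem result {S : Type*} [Group S] [Finite S] (p : ℕ) [Fact p.Prime] (hS : IsPGroup p S) (Q : Subgroup S) (hQ : Cfsg.IsExtraspecial p ↥Q) (hQi : Q.index = p) :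
    (∃ n : ℕ, 1 ≤ n ∧ Nat.card S = p ^ (2 + 2 * n)) ∧ derivedSeries S 3 = ⊥ ∧ ∀ x : S, x ^ (p ^ 3) = 1 := by
  have hp : p.Prime := Fact.out
  obtain ⟨⟨hQp, hΦ, hD⟩, hZ⟩ := hQ
  obtain ⟨n, hn, hcard⟩ := Cfsg.Agent.S0095.result (P := ↥Q) ⟨⟨hQp, hΦ, hD⟩, hZ⟩
  obtain ⟨hQn, -⟩ : Q.Normal ∧ True := by
    refine ⟨?_, trivial⟩
    have hQc : IsCoatom Q := by
      refine ⟨fun h => ?_, fun U hU => ?_⟩
      · rw [h, index_top] at hQi
        exact hp.ne_one hQi.symm
      · have h1 := relIndex_mul_index hU.le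
        rcases (Nat.dvd_prime hp).mp (hQi ▸ (Dvd.intro_left _ h1 : U.index ∣ Q.index)) with h2 | h2
        · exact index_eq_one.mp h2
        · rw [h2, hQi, Nat.mul_eq_right hp.ne_zero] at h1
          exact absurd (relIndex_eq_one.mp h1) (not_le_of_gt hU)
    exact (Lib.PGroupFrattini.coatom_index hS hQc).1
  haveI := hQn
  refine ⟨⟨n, hn, by rw [← Q.card_mul_index, hQi, hcard, ← pow_succ]; ring_nf⟩, ?_, fun x => ?_⟩
  · haveI : IsCyclic (S ⧸ Q) := isCyclic_of_prime_card (p := p) (by rw [← index_eq_card, hQi])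
    have h1 : derivedSeries S 1 ≤ Q := by
      rw [derivedSeries_one]
      exact (Normal.quotient_commutative_iff_commutator_le (N := Q)).mp inferInstance
    have h2 : derivedSeries Q 2 = ⊥ := by
      rw [derivedSeries_succ, derivedSeries_one, hD, commutator_eq_bot_iff_le_centralizer]
      exact center_le_centralizer _
    have key : ∀ b, derivedSeries S (1 + b) ≤ (derivedSeries Q b).map Q.subtype := by
      intro b
      induction b with
      | zero => rwa [derivedSeries_zero, ← MonoidHom.range_eq_map, range_subtype, add_zero]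
      | succ b ih =>
        rw [← add_assoc, derivedSeries_succ, derivedSeries_succ, map_commutator]
        exact commutator_mono ih ih
    have h3 := key 2
    rw [h2, Subgroup.map_bot, le_bot_iff] at h3
    exact h3
  · have h1 : x ^ p ∈ Q := hQi ▸ Q.pow_index_mem x
    have h2 : (⟨x ^ p, h1⟩ : Q) ^ p ∈ center Q := hΦ ▸ Lib.PGroupFrattini.pow_mem_frattini hQp _
    have h3 := congrArg Subtype.val (pow_card_eq_one' (x := (⟨_, h2⟩ : center Q)))
    rw [hZ] at h3
    have h4 := congrArg Subtype.val h3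
    simp only [SubgroupClass.coe_pow, OneMemClass.coe_one] at h4
    rw [← h4, ← pow_mul, ← pow_mul]
    ring_nf

end Cfsg.Agent.S3809
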