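import Cfsg.Statements.S3810
import Cfsg.Agent.S0095
import Cfsg.Agent.S3808
import Cfsg.Agent.Lib.Transfer.Hall
import Mathlib

set_option autoImplicit false
open Cfsg

namespace Cfsg.Agent.S3810


open Subgroup
open scoped commutatorElement

/-- Let S be a finite p-group with an extraspecial subgroup of index p. Then S has an abelian subgroup of index p if and only if S has order p⁴. -/
theorem result {S : Type*} [Group S] [Finite S] (p : ℕ) [Fact p.Prime] (hS : IsPGroup p S) (Q : Subgroup S) (hQ : Cfsg.IsExtraspecial p ↥Q) (hQi : Q.index = p) :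
    (∃ A : Subgroup S, IsMulCommutative ↥A ∧ A.index = p) ↔ Nat.card S = p ^ 4 := by
  have hp : p.Prime := Fact.out
  obtain ⟨⟨hQp, hΦ, hD⟩, hZ⟩ := hQ
  obtain ⟨n, hn, hcard⟩ := Cfsg.Agent.S0095.result (P := ↥Q) ⟨⟨hQp, hΦ, hD⟩, hZ⟩
  have hScard : Nat.card S = p ^ (2 * n + 2) := by rw [← Q.card_mul_index, hQi, hcard, ← pow_succ]
  have hcl : ∀ a b : Q, ⁅a, b⁆ ∈ center Q := fun a b => hD ▸ commutator_mem_commutator (mem_top a) (mem_top b)
  -- there is an element outside the centre
  obtain ⟨q0, hq0⟩ : ∃ q : Q, q ∉ center Q := by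
    by_contra hall
    push_neg at hall
    have : center Q = ⊤ := eq_top_iff.mpr fun x _ => hall x
    rw [this, card_top, hcard] at hZ
    exact absurd (Nat.pow_right_injective hp.two_le (hZ.trans (pow_one p).symm)) (by omega)
  constructor
  · rintro ⟨A, hA, hAi⟩
    set B := A.subgroupOf Q with hB
    have hBi : B.index ≤ p := by
      have := relIndex_le_of_le_left (H := A) (K := A) (L := Q) le_rfl
      exact (Nat.le_of_dvd (hAi ▸ hp.pos) (hAi ▸ (show A.relIndex Q ∣ A.index from by
        haveI : A.Normal := Lib.Transfer.normal_of_isCoatom_pGroup hS (by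
          refine ⟨fun h => ?_, fun U hU => ?_⟩
          · rw [h, index_top] at hAi
            exact hp.ne_one hAi.symm
          · have h1 := relIndex_mul_index hU.le
            rcases (Nat.dvd_prime hp).mp (hAi ▸ (Dvd.intro_left _ h1 : U.index ∣ A.index)) with h2 | h2
            · exact index_eq_one.mp h2
            · rw [h2, hAi, Nat.mul_eq_right hp.ne_zero] at h1
              exact absurd (relIndex_eq_one.mp h1) (not_le_of_gt hU))
        exact relIndex_dvd_index_of_normal A Q)))
    have hBc : ∀ a ∈ B, ∀ b ∈ B, a * b = b * a := fun a ha b hb => by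
      have h := congrArg Subtype.val (hA.is_comm.comm (⟨(a : S), ha⟩ : A) ⟨(b : S), hb⟩)
      exact Subtype.ext h
    by_cases hBtop : B = ⊤
    · exact absurd (mem_center_iff.mpr fun g => hBc g (hBtop ▸ mem_top g) q0 (hBtop ▸ mem_top q0)) hq0
    obtain ⟨q, -, hq⟩ := SetLike.exists_of_lt (lt_top_iff_ne_top.mpr hBtop)
    obtain ⟨i, hi⟩ := hQp.index B
    have hi1 : i = 1 := by
      have h1 : i ≠ 0 := fun h0 => hBtop (index_eq_one.mp (by rw [hi, h0, pow_zero]))
      have h2 : i ≤ 1 := (Nat.pow_le_pow_iff_right hp.two_le).mp (by rw [← hi, pow_one]; exact hBi)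
      omega
    have htop : B ⊔ zpowers q = ⊤ := by
      have hlt : B < B ⊔ zpowers q := left_lt_sup.mpr fun h => hq (h (mem_zpowers q))
      rw [← index_eq_one]
      have h1 := relIndex_mul_index hlt.le
      rcases (Nat.dvd_prime hp).mp ((Dvd.intro_left _ h1).trans (by rw [hi, hi1, pow_one])) with h2 | h2
      · exact h2
      · rw [h2, hi, hi1, pow_one, Nat.mul_eq_right hp.ne_zero] at h1
        exact absurd (relIndex_eq_one.mp h1) (not_le_of_gt hlt)
    let φ : B →* center Q := MonoidHom.mk' (fun b => ⟨⁅(b : Q), q⁆, hcl _ _⟩) fun a b => by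
      apply Subtype.ext
      have hc := mem_center_iff.mp (hcl (b : Q) q) (a : Q)
      show ⁅((a : Q) * b), q⁆ = ⁅(a : Q), q⁆ * ⁅(b : Q), q⁆
      calc ⁅((a : Q) * b), q⁆ = ((a : Q) * ⁅(b : Q), q⁆) * (a : Q)⁻¹ * ⁅(a : Q), q⁆ := by
            rw [commutatorElement_def, commutatorElement_def, commutatorElement_def]; group
        _ = (⁅(b : Q), q⁆ * (a : Q)) * (a : Q)⁻¹ * ⁅(a : Q), q⁆ := by rw [hc]
        _ = ⁅(b : Q), q⁆ * ⁅(a : Q), q⁆ := by group
        _ = _ := (mem_center_iff.mp (hcl (b : Q) q) ⁅(a : Q), q⁆).symm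
    have hker : φ.ker.map B.subtype ≤ center Q := by
      rintro _ ⟨b, hb, rfl⟩
      have h1 : ⁅(b : Q), q⁆ = 1 := congrArg Subtype.val (MonoidHom.mem_ker.mp hb)
      rw [commutatorElement_eq_one_iff_mul_comm] at h1
      refine mem_center_iff.mpr fun g => ?_
      have hle : B ⊔ zpowers q ≤ centralizer ({(b : Q)} : Set Q) := sup_le
        (fun x hx => mem_centralizer_singleton_iff.mpr (hBc x hx b b.2))
        (zpowers_le.mpr (mem_centralizer_singleton_iff.mpr h1.symm))
      exact mem_centralizer_singleton_iff.mp (hle (htop ▸ mem_top g))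
    have h1 : Nat.card B ≤ p * p := by
      rw [← φ.ker.card_mul_index, index_ker]
      refine Nat.mul_le_mul ?_ (hZ ▸ Subgroup.card_le_card_group _)
      rw [← hZ, Nat.card_congr (φ.ker.equivMapOfInjective _ B.subtype_injective).toEquiv]
      exact Subgroup.card_le_of_le hker
    have h2 : p ^ (2 * n + 1) ≤ p ^ 3 := by
      rw [← hcard, ← B.card_mul_index, hi, hi1, pow_one, pow_succ p 2, sq]
      exact Nat.mul_le_mul_right p h1
    have h3 := (Nat.pow_le_pow_iff_right hp.two_le).mp h2
    rw [hScard]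
    congr 1
    omega
  · intro h4
    have hn1 : n = 1 := by
      have := Nat.pow_right_injective hp.two_le (hScard.symm.trans h4)
      omega
    subst hn1
    have hQn : Q.Normal := Lib.Transfer.normal_of_isCoatom_pGroup hS (by
      refine ⟨fun h => ?_, fun U hU => ?_⟩
      · rw [h, index_top] at hQi
        exact hp.ne_one hQi.symm
      · have h1 := relIndex_mul_index hU.le
        rcases (Nat.dvd_prime hp).mp (hQi ▸ (Dvd.intro_left _ h1 : U.index ∣ Q.index)) with h2 | h2
        · exact index_eq_one.mp h2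
        · rw [h2, hQi, Nat.mul_eq_right hp.ne_zero] at h1
          exact absurd (relIndex_eq_one.mp h1) (not_le_of_gt hU))
    set Z := (center Q).map Q.subtype with hZdef
    have hZcard : Nat.card Z = p := by
      rw [hZdef, Nat.card_congr ((center Q).equivMapOfInjective _ Q.subtype_injective).toEquiv.symm, hZ]
    have hZc : Z ≤ center S := by
      rcases Cfsg.Agent.S3808.result p hS Q ⟨⟨hQp, hΦ, hD⟩, hZ⟩ hQi with h | ⟨-, h⟩
      · exact h.ge
      · haveI : Z.Normal := ConjAct.normal_of_characteristic_of_normal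
        obtain ⟨z, hz, hz1⟩ := (show IsPGroup p (ConjAct S) from hS).exists_fixed_point_of_prime_dvd_card_of_fixed_point
          Z hZcard.symm.dvd (a := (1 : Z)) (fun g => smul_one g)
        have h2 : zpowers (z : S) = Z := by
          refine eq_of_le_of_card_ge (zpowers_le.mpr z.2) ?_
          rw [hZcard, Nat.card_zpowers]
          rcases (Nat.dvd_prime hp).mp (hZcard ▸ Z.orderOf_dvd_natCard z.2) with h3 | h3
          · exact absurd (Subtype.ext (orderOf_eq_one_iff.mp h3).symm) hz1
          · rw [h3]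
        refine h2 ▸ zpowers_le.mpr (mem_center_iff.mpr fun g => ?_)
        have h := congrArg Subtype.val (hz (ConjAct.toConjAct g))
        rw [ConjAct.Subgroup.val_conj_smul, ConjAct.smul_def, ConjAct.ofConjAct_toConjAct] at h
        exact mul_inv_eq_iff_eq_mul.mp h
    haveI : Z.Normal := ⟨fun z hz g => by rwa [mem_center_iff.mp (hZc hz) g, mul_inv_cancel_right]⟩
    -- a subgroup of order `p²` of `Q` which is normal in `S`
    set π := QuotientGroup.mk' Z
    set Qb := Q.map π with hQb
    haveI : Qb.Normal := hQn.map π (QuotientGroup.mk'_surjective Z)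
    have hQbne : ∃ x ∈ Qb, x ≠ 1 := ⟨π q0, mem_map_of_mem π q0.2, fun h => hq0 (by
      obtain ⟨c, hc, hcq⟩ := (QuotientGroup.eq_one_iff (q0 : S)).mp h
      rwa [Subtype.ext hcq] at hc)⟩
    have hQbdvd : p ∣ Nat.card Qb := by
      obtain ⟨k, hk⟩ := IsPGroup.iff_card.mp ((hS.to_quotient Z).to_subgroup Qb)
      refine hk ▸ dvd_pow_self p fun h0 => ?_
      obtain ⟨x, hx, hx1⟩ := hQbne
      rw [h0, pow_zero, card_eq_one] at hk
      rw [hk, mem_bot] at hx
      exact hx1 hx
    obtain ⟨c, hc, hc1⟩ := (show IsPGroup p (ConjAct (S ⧸ Z)) from hS.to_quotient Z).exists_fixed_point_of_prime_dvd_card_of_fixed_point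
      Qb hQbdvd (a := (1 : Qb)) (fun g => smul_one g)
    obtain ⟨a, haQ, hac⟩ := c.2
    have haZ : a ∉ Z := fun h => hc1 (Subtype.ext (by
      show (1 : S ⧸ Z) = c
      rw [← hac]
      exact ((QuotientGroup.eq_one_iff a).mpr h).symm))
    have hconj : ∀ g : S, g * a * g⁻¹ * a⁻¹ ∈ Z := fun g => by
      have h := congrArg Subtype.val (hc (ConjAct.toConjAct (π g)))
      rw [ConjAct.Subgroup.val_conj_smul, ConjAct.smul_def, ConjAct.ofConjAct_toConjAct, ← hac] at h
      apply (QuotientGroup.eq_one_iff _).mp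
      show π _ = 1
      rw [map_mul, map_mul, map_mul, map_inv, map_inv, h, mul_inv_cancel]
    let ψ : S →* Z := MonoidHom.mk' (fun g => ⟨g * a * g⁻¹ * a⁻¹, hconj g⟩) fun g h => by
      apply Subtype.ext
      show g * h * a * (g * h)⁻¹ * a⁻¹ = g * a * g⁻¹ * a⁻¹ * (h * a * h⁻¹ * a⁻¹)
      calc g * h * a * (g * h)⁻¹ * a⁻¹ = (g * (h * a * h⁻¹ * a⁻¹)) * a * g⁻¹ * a⁻¹ := by group
        _ = ((h * a * h⁻¹ * a⁻¹) * g) * a * g⁻¹ * a⁻¹ := by rw [mem_center_iff.mp (hZc (hconj h)) g]
        _ = (h * a * h⁻¹ * a⁻¹) * (g * a * g⁻¹ * a⁻¹) := by group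
        _ = _ := (mem_center_iff.mp (hZc (hconj h)) _).symm
    have hmemker : ∀ g, g ∈ ψ.ker ↔ g * a = a * g := fun g => by
      rw [MonoidHom.mem_ker]
      constructor
      · intro h
        have h' : g * a * g⁻¹ * a⁻¹ = 1 := congrArg Subtype.val h
        rwa [mul_inv_eq_one, mul_inv_eq_iff_eq_mul] at h'
      · intro h
        exact Subtype.ext (show g * a * g⁻¹ * a⁻¹ = 1 by rw [h]; group)
    have hidx : ψ.ker.index = p := by
      obtain ⟨i, hi⟩ := hS.index ψ.ker
      have h1 : ψ.ker.index ≤ p := by rw [index_ker, ← hZcard]; exact Subgroup.card_le_card_group _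
      have h2 : i ≠ 0 := fun h0 => haZ (by
        have h3 : ψ.ker = ⊤ := index_eq_one.mp (by rw [hi, h0, pow_zero])
        refine ⟨⟨a, haQ⟩, mem_center_iff.mpr fun g => Subtype.ext ((hmemker g).mp (h3 ▸ mem_top _)), rfl⟩)
      have h3 : i ≤ 1 := (Nat.pow_le_pow_iff_right hp.two_le).mp (by rw [← hi, pow_one]; exact h1)
      rw [hi, show i = 1 by omega, pow_one]
    refine ⟨ψ.ker, ?_, hidx⟩
    have hK : Nat.card ψ.ker = p ^ 3 := by
      have := ψ.ker.card_mul_index
      rw [hidx, h4, pow_succ p 3] at this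
      exact Nat.eq_of_mul_eq_mul_right hp.pos this
    set C := center ψ.ker
    have hCge : p ^ 2 ≤ Nat.card C := by
      have hlt : Z < C.map ψ.ker.subtype := by
        refine lt_of_le_of_ne (fun z hz => ?_) fun h => haZ (h ▸ ?_)
        · exact ⟨⟨z, (hmemker z).mpr (mem_center_iff.mp (hZc hz) a).symm⟩,
            mem_center_iff.mpr fun g => Subtype.ext (mem_center_iff.mp (hZc hz) g), rfl⟩
        · exact ⟨⟨a, (hmemker a).mpr rfl⟩, mem_center_iff.mpr fun g => Subtype.ext ((hmemker g).mp g.2), rfl⟩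
      have h1 : Nat.card Z < Nat.card (C.map ψ.ker.subtype) :=
        lt_of_le_of_ne (Subgroup.card_le_of_le hlt.le) fun h => hlt.ne (eq_of_le_of_card_ge hlt.le h.ge)
      rw [Nat.card_congr (C.equivMapOfInjective _ ψ.ker.subtype_injective).toEquiv.symm, hZcard] at h1
      obtain ⟨j, hj⟩ := IsPGroup.iff_card.mp ((hS.to_subgroup ψ.ker).to_subgroup C)
      rw [hj] at h1 ⊢
      refine Nat.pow_le_pow_right hp.pos ?_
      by_contra hj2
      have : p ^ j ≤ p ^ 1 := Nat.pow_le_pow_right hp.pos (by omega)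
      rw [pow_one] at this
      omega
    haveI : IsCyclic (ψ.ker ⧸ C) := by
      obtain ⟨j, hj⟩ := (hS.to_subgroup ψ.ker).index C
      have h1 := C.card_mul_index
      rw [hK, hj] at h1
      have h2 : j ≤ 1 := by
        by_contra hj2
        have h3 : p ^ 2 ≤ p ^ j := Nat.pow_le_pow_right hp.pos (by omega)
        have h5 := Nat.mul_le_mul hCge h3
        rw [h1, ← pow_add] at h5
        have := (Nat.pow_le_pow_iff_right hp.two_le).mp h5
        omega
      interval_cases j
      · have : Subsingleton (ψ.ker ⧸ C) := by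
          rw [← Finite.card_le_one_iff_subsingleton, ← index_eq_card, hj, pow_zero]
        exact isCyclic_of_subsingleton
      · exact isCyclic_of_prime_card (p := p) (by rw [← index_eq_card, hj, pow_one])
    exact ⟨⟨fun x y => commutative_of_cyclic_center_quotient (QuotientGroup.mk' C) (by rw [QuotientGroup.ker_mk']) x y⟩⟩

end Cfsg.Agent.S3810
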