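import Cfsg.Statements.S3811
import Cfsg.Agent.Lib.Coprime.Abelian
import Cfsg.Agent.Lib.Components.Signalizer

set_option autoImplicit false
open Cfsg

namespace Cfsg.Agent.S3811

open Subgroup
open scoped Pointwise commutatorElement

section

universe u

/-- A soft subgroup. -/
structure Soft {P : Type u} [Group P] (p : ℕ) (E : Subgroup P) : Prop where
  comm : ∀ a ∈ E, ∀ b ∈ E, a * b = b * a
  cent : centralizer (E : Set P) ≤ E
  idx : E.relIndex (normalizer (E : Set P)) = p

/-- Overgroups form a chain with steps of index `p`. -/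
def IsTower {P : Type u} [Group P] (p : ℕ) (E : Subgroup P) : Prop :=
  ∀ K : Subgroup P, E ≤ K → (∀ L : Subgroup P, E ≤ L → K ≤ L ∨ L ≤ K) ∧
    (K ≠ ⊤ → K.relIndex (normalizer (K : Set P)) = p)

variable {P : Type u} [Group P] [Finite P] {p : ℕ} [hp : Fact p.Prime]

theorem relIndex_normalizer_comap {Q : Type u} [Group Q] (f : P →* Q) (hf : Function.Surjective f)
    (H : Subgroup Q) : (H.comap f).relIndex (normalizer ((H.comap f : Subgroup P) : Set P)) =
      H.relIndex (normalizer (H : Set Q)) := by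
  rw [← comap_normalizer_eq_of_le_range (by rw [MonoidHom.range_eq_top.mpr hf]; exact le_top),
    relIndex_comap, map_comap_eq_self_of_surjective hf]

theorem eq_of_between {E X N : Subgroup P} (hEX : E ≤ X) (hXN : X ≤ N) (hidx : E.relIndex N = p)
    (hne : E ≠ X) : X = N := by
  have h1 := relIndex_mul_relIndex E X N hEX hXN
  rw [hidx] at h1
  rcases hp.out.eq_one_or_self_of_dvd (E.relIndex X) ⟨_, h1.symm⟩ with h2 | h2
  · exact absurd (le_antisymm hEX (relIndex_eq_one.mp h2)) hne
  · rw [h2] at h1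
    have h3 : X.relIndex N = 1 := Nat.eq_of_mul_eq_mul_left hp.out.pos (h1.trans (mul_one p).symm)
    exact le_antisymm hXN (relIndex_eq_one.mp h3)

theorem normalizer_le_of_lt (hP : IsPGroup p P) {E K : Subgroup P} (hs : Soft p E) (hEK : E ≤ K)
    (hne : E ≠ K) : normalizer (E : Set P) ≤ K := by
  have h1 : E ≤ normalizer (E : Set P) ⊓ K := le_inf le_normalizer hEK
  have h2 := eq_of_between h1 inf_le_left hs.idx fun e =>
    Lib.Components.Sig.not_normalizer_inf_le (hP.to_subgroup K) hEK hne e.ge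
  exact h2 ▸ inf_le_right

theorem ne_top {E : Subgroup P} (hs : Soft p E) : E ≠ ⊤ := fun h => by
  have := hs.idx
  rw [h, relIndex_top_left] at this
  exact hp.out.one_lt.ne this

omit hp in
theorem center_le {E : Subgroup P} (hs : Soft p E) : center P ≤ E := (center_le_centralizer _).trans hs.cent

/-- The second step of the normalizer tower. -/
theorem second_step (hP : IsPGroup p P) {E : Subgroup P} (hs : Soft p E)
    (hN : normalizer (E : Set P) ≠ ⊤) :
    (normalizer (E : Set P)).relIndex (normalizer ((normalizer (E : Set P) : Subgroup P) : Set P)) = p := by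
  set N := normalizer (E : Set P) with hNdef
  set M := normalizer (N : Set P) with hMdef
  have hEN : E ≤ N := le_normalizer
  have hneEN : E ≠ N := fun e => by
    have := hs.idx
    rw [← hNdef, ← e, relIndex_self] at this
    exact hp.out.one_lt.ne this
  have hconj : ∀ n ∈ M, MulAut.conj n • E ≤ N := by
    intro n hn x hx
    rw [Lib.Coprime.mem_conj_smul] at hx
    have := (mem_normalizer_iff.mp hn _).mp (hEN hx)
    simpa [mul_assoc] using this
  obtain ⟨y, hyM, hyN⟩ : ∃ y ∈ M, y ∉ N := by
    have hlt : N ≠ M := fun e => by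
      have := Lib.Components.Sig.not_normalizer_inf_le (hP.to_subgroup ⊤) (le_top (a := N)) hN
      rw [inf_top_eq, ← hMdef, ← e] at this
      exact this le_rfl
    obtain ⟨y, h1, h2⟩ := SetLike.exists_of_lt (lt_of_le_of_ne le_normalizer hlt)
    exact ⟨y, h1, h2⟩
  set Ey := MulAut.conj y • E with hEy
  have hEyne : Ey ≠ E := fun e => hyN (Lib.Coprime.mem_normalizer_of_conj_smul_eq e)
  have hcardEy : Nat.card Ey = Nat.card E := Nat.card_congr (equivSMul (MulAut.conj y) E).toEquiv.symm
  have hsupN : E ⊔ Ey = N := by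
    refine eq_of_between le_sup_left (sup_le hEN (hconj y hyM)) hs.idx fun e => hEyne ?_
    exact eq_of_le_of_card_ge (le_sup_right.trans e.ge) hcardEy.ge
  set V := (center ↥N) with hVdef
  have hVE : ∀ v : ↥N, v ∈ V → (v : P) ∈ E := fun v hv => hs.cent (mem_centralizer_iff.mpr fun e he =>
    congrArg Subtype.val (mem_center_iff.mp hv ⟨e, hEN he⟩))
  have hWV : ∀ w : ↥N, (w : P) ∈ E → (w : P) ∈ Ey → w ∈ V := by
    intro w hw hw'
    have hle : N ≤ centralizer {(w : P)} := by
      refine (le_of_eq hsupN.symm).trans (sup_le (fun e he => mem_centralizer_singleton_iff.mpr (hs.comm e he w hw)) fun e he => ?_)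
      rw [hEy, Lib.Coprime.mem_conj_smul] at he hw'
      have h := hs.comm _ he _ hw'
      refine mem_centralizer_singleton_iff.mpr ?_
      calc e * w = y * ((y⁻¹ * e * y) * (y⁻¹ * w * y)) * y⁻¹ := by group
        _ = y * ((y⁻¹ * w * y) * (y⁻¹ * e * y)) * y⁻¹ := by rw [h]
        _ = w * e := by group
    exact mem_center_iff.mpr fun g => Subtype.ext (mem_centralizer_singleton_iff.mp (hle g.2))
  let f := QuotientGroup.mk' V
  have hfs : Function.Surjective f := QuotientGroup.mk'_surjective V
  let E0 : Subgroup ↥N := E.subgroupOf N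
  let E1 : Subgroup ↥N := Ey.subgroupOf N
  have hE0 : E0.index = p := hs.idx
  have hVE0 : V ≤ E0 := fun v hv => mem_subgroupOf.mpr (hVE v hv)
  have hE0n : V ≠ E0 := by
    intro e
    refine hneEN (le_antisymm hEN ((fun g hg => hs.cent (mem_centralizer_iff.mpr fun x hx => ?_)) : N ≤ E))
    have hxV : (⟨x, hEN hx⟩ : ↥N) ∈ V := e ▸ (mem_subgroupOf.mpr hx)
    exact (congrArg Subtype.val (mem_center_iff.mp hxV ⟨g, hg⟩)).symm
  have hinf : E0 ⊓ E1 ≤ V := fun w hw => hWV w hw.1 hw.2
  have hVidx : V.relIndex E0 = p := by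
    have h1 : V.relIndex E0 ∣ (E1).relIndex E0 := by
      rw [← inf_relIndex_right (H := E1), inf_comm]
      exact relIndex_dvd_of_le_left E0 hinf
    have h2 : (E1).relIndex E0 ≤ p := by
      have h3 : E1.index = p := by
        have e1 := E1.card_mul_index
        rw [← E0.card_mul_index, hE0,
          Nat.card_congr (subgroupOfEquivOfLe (hconj y hyM)).toEquiv,
          Nat.card_congr (subgroupOfEquivOfLe hEN).toEquiv, hcardEy] at e1
        exact Nat.eq_of_mul_eq_mul_left Nat.card_pos e1
      rw [← h3]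
      exact (relIndex_le_of_le_right (H := E1) (le_top (a := E0)) (by rw [relIndex_top_right, h3]; exact hp.out.ne_zero)).trans_eq (relIndex_top_right E1)
    have hne1 : V.relIndex E0 ≠ 1 := fun e => hE0n (le_antisymm hVE0 (relIndex_eq_one.mp e))
    have hpos : (E1).relIndex E0 ≠ 0 := index_ne_zero_of_finite
    obtain ⟨e, he⟩ := IsPGroup.iff_card.mp (hP.to_subgroup N |>.to_subgroup E0)
    obtain ⟨k, -, hk⟩ := (Nat.dvd_prime_pow hp.out).mp (he ▸ relIndex_dvd_card V E0)
    rw [hk] at h1 hne1 ⊢
    have h4 := Nat.le_of_dvd (Nat.pos_of_ne_zero hpos) h1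
    have : k = 1 := by
      rcases Nat.lt_trichotomy k 1 with h | h | h
      · exact absurd (by rw [Nat.lt_one_iff.mp h, pow_zero]) hne1
      · exact h
      · exfalso
        have h5 : p ^ 2 ≤ p ^ k := Nat.pow_le_pow_right hp.out.pos h
        have h6 := h5.trans (h4.trans h2)
        rw [sq] at h6
        have := hp.out.two_le
        nlinarith
    rw [this, pow_one]
  have hQc : Nat.card (↥N ⧸ V) = p * p := by
    rw [← index_eq_card, ← relIndex_mul_index hVE0, hVidx, hE0]
  let F : ↥M ⧸ N.subgroupOf M → Subgroup (↥N ⧸ V) :=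
    fun c => Quotient.liftOn' c (fun n => ((MulAut.conj (n : P) • E).subgroupOf N).map f) (by
      intro a b hab
      have hab' : (a : P)⁻¹ * b ∈ N := mem_subgroupOf.mp (QuotientGroup.leftRel_apply.mp hab)
      show ((MulAut.conj (a : P) • E).subgroupOf N).map f = ((MulAut.conj (b : P) • E).subgroupOf N).map f
      rw [show (b : P) = a * ((a : P)⁻¹ * b) by group, Lib.Coprime.conj_smul_mul,
        Lib.Coprime.conj_smul_eq_self hab'])
  have hVle : ∀ n ∈ M, V ≤ (MulAut.conj n • E).subgroupOf N := by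
    intro n hn v hv
    rw [mem_subgroupOf, Lib.Coprime.mem_conj_smul]
    have hm : n⁻¹ * (v : P) * n ∈ N := by
      have := (mem_normalizer_iff.mp (M.inv_mem hn) _).mp v.2
      simpa using this
    refine hVE ⟨_, hm⟩ (mem_center_iff.mpr fun g => Subtype.ext ?_)
    have hg : n * (g : P) * n⁻¹ ∈ N := (mem_normalizer_iff.mp hn _).mp g.2
    have h := congrArg Subtype.val (mem_center_iff.mp hv ⟨_, hg⟩)
    simp only [coe_mul] at h ⊢
    calc (g : P) * (n⁻¹ * v * n) = n⁻¹ * ((n * g * n⁻¹) * v) * n := by group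
      _ = n⁻¹ * (v * (n * g * n⁻¹)) * n := by rw [h]
      _ = n⁻¹ * v * n * g := by group
  have hFcard : ∀ c, Nat.card (F c) = p := by
    intro c
    induction c using QuotientGroup.induction_on with
    | H n =>
      show Nat.card (((MulAut.conj (n : P) • E).subgroupOf N).map f) = p
      have h1 := Lib.Coprime.card_map_mul_card_inf_ker f ((MulAut.conj (n : P) • E).subgroupOf N)
      rw [QuotientGroup.ker_mk', inf_eq_right.mpr (hVle n n.2),
        Nat.card_congr (subgroupOfEquivOfLe (hconj n n.2)).toEquiv,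
        Nat.card_congr (equivSMul (MulAut.conj (n : P)) E).toEquiv.symm] at h1
      have h2 : Nat.card V * p = Nat.card E := by
        rw [← hVidx, ← Nat.card_congr (subgroupOfEquivOfLe hEN).toEquiv,
          ← Nat.card_congr (subgroupOfEquivOfLe hVE0).toEquiv]
        exact card_mul_index _
      rw [← h2, mul_comm] at h1
      exact Nat.eq_of_mul_eq_mul_left Nat.card_pos h1
  have hFinj : Function.Injective F := by
    intro a b
    induction a using QuotientGroup.induction_on with
    | H a =>
      induction b using QuotientGroup.induction_on with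
      | H b =>
        intro h
        replace h : ((MulAut.conj (a : P) • E).subgroupOf N).map f =
          ((MulAut.conj (b : P) • E).subgroupOf N).map f := h
        have h1 := congrArg (Subgroup.comap f) h
        rw [comap_map_eq, comap_map_eq, QuotientGroup.ker_mk', sup_eq_left.mpr (hVle a a.2),
          sup_eq_left.mpr (hVle b b.2), subgroupOf_inj, inf_eq_left.mpr (hconj a a.2),
          inf_eq_left.mpr (hconj b b.2)] at h1
        rw [QuotientGroup.eq, mem_subgroupOf]
        refine Lib.Coprime.mem_normalizer_of_conj_smul_eq (H := E) ?_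
        push_cast
        rw [Lib.Coprime.conj_smul_mul, ← h1, Lib.Coprime.conj_inv_smul_smul]
  let Φ : (Σ c, {x : F c // x ≠ 1}) → {x : ↥N ⧸ V // x ≠ 1} :=
    fun s => ⟨s.2.1.1, fun h => s.2.2 (Subtype.ext h)⟩
  have hΦ : Function.Injective Φ := by
    rintro ⟨a, x⟩ ⟨b, y⟩ h
    have hxy : ((x.1 : F a) : ↥N ⧸ V) = ((y.1 : F b) : ↥N ⧸ V) := congrArg Subtype.val h
    have hab : a = b := by
      refine hFinj ?_
      have e1 : ∀ (c) (z : ↥N ⧸ V), z ∈ F c → z ≠ 1 → zpowers z = F c := fun c z hz hz1 => by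
        refine eq_of_le_of_card_ge (zpowers_le.mpr hz) ?_
        rw [hFcard c, Nat.card_zpowers]
        refine (((Nat.dvd_prime hp.out).mp (hFcard c ▸ orderOf_dvd_natCard (F c) hz)).resolve_left ?_).ge
        rwa [orderOf_eq_one_iff]
      rw [← e1 a _ x.1.2 (fun h => x.2 (Subtype.ext h)), hxy,
        e1 b _ y.1.2 (fun h => y.2 (Subtype.ext h))]
    subst hab
    obtain ⟨x, hx⟩ := x
    obtain ⟨y, hy⟩ := y
    obtain rfl : x = y := Subtype.ext hxy
    rfl
  have hle := Nat.card_le_card_of_injective Φ hΦ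
  have hcompl : ∀ {α : Type u} [Group α] [Finite α], Nat.card {x : α // x ≠ 1} = Nat.card α - 1 := by
    intro α _ _
    classical
    have := Fintype.ofFinite α
    rw [Nat.card_eq_fintype_card, Fintype.card_subtype_compl, Fintype.card_subtype_eq, Nat.card_eq_fintype_card]
  have : Fintype (↥M ⧸ N.subgroupOf M) := Fintype.ofFinite _
  rw [Nat.card_sigma, hcompl, hQc] at hle
  simp only [hcompl, hFcard, Finset.sum_const, Finset.card_univ, smul_eq_mul,
    ← Nat.card_eq_fintype_card] at hle
  obtain ⟨e, he⟩ := IsPGroup.iff_card.mp (hP.to_subgroup M)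
  obtain ⟨k, -, hk⟩ := (Nat.dvd_prime_pow hp.out).mp (he ▸ relIndex_dvd_card N M)
  have hk' : Nat.card (↥M ⧸ N.subgroupOf M) = p ^ k := by rw [← index_eq_card]; exact hk
  rw [hk'] at hle
  rw [hk]
  rcases Nat.lt_trichotomy k 1 with h | h | h
  · rw [Nat.lt_one_iff] at h
    exact absurd (relIndex_eq_one.mp (by rw [hk, h, pow_zero]) hyM) hyN
  · rw [h, pow_one]
  · exfalso
    have h5 : p * p ≤ p ^ k := by rw [← sq]; exact Nat.pow_le_pow_right hp.out.pos h
    have h2 := hp.out.two_le
    obtain ⟨q, rfl⟩ : ∃ q, p = q + 2 := ⟨p - 2, by omega⟩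
    have e1 : q + 2 - 1 = q + 1 := by omega
    rw [e1] at hle
    have h6 := Nat.mul_le_mul_right (q + 1) h5
    have h7 : (q + 2) * (q + 2) ≤ (q + 2) * (q + 2) * (q + 1) := Nat.le_mul_of_pos_right _ (by omega)
    have h8 : 0 < (q + 2) * (q + 2) := by positivity
    omega

theorem tower (hp : p.Prime) : ∀ (n : ℕ) (P : Type u) [Group P] [Finite P], Nat.card P = n → IsPGroup p P →
    ∀ E : Subgroup P, Soft p E → IsTower p E := by
  intro n
  induction n using Nat.strong_induction_on with | _ n IH => ?_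
  intro P _ _ hn hP E hs
  have : Fact p.Prime := ⟨hp⟩
  have : Nontrivial P := by
    by_contra h
    rw [not_nontrivial_iff_subsingleton] at h
    exact ne_top hs (Subsingleton.elim _ _)
  obtain ⟨z, hz⟩ : ∃ z : center P, orderOf z = p := by
    have := hP.center_nontrivial
    refine exists_prime_orderOf_dvd_card' p ((hP.to_subgroup _).card_eq_or_dvd.resolve_left ?_)
    exact (Finite.one_lt_card (α := center P)).ne'
  let Z : Subgroup P := zpowers (z : P)
  have hZc : Z ≤ center P := zpowers_le.mpr z.2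
  have hZn : Z.Normal := ⟨fun m hm g => by
    rwa [mem_center_iff.mp (hZc hm) g, mul_inv_cancel_right]⟩
  have hZE : Z ≤ E := hZc.trans (center_le hs)
  let f := QuotientGroup.mk' Z
  have hfs : Function.Surjective f := QuotientGroup.mk'_surjective Z
  have hker : f.ker = Z := QuotientGroup.ker_mk' Z
  have hlt : Nat.card (P ⧸ Z) < n := by
    rw [← hn, card_eq_card_quotient_mul_card_subgroup Z]
    refine lt_mul_of_one_lt_right Nat.card_pos ?_
    rw [Nat.card_zpowers, orderOf_coe, hz]; exact hp.one_lt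
  have hback : ∀ H : Subgroup P, E ≤ H → (H.map f).comap f = H := fun H hH => by
    rw [comap_map_eq, hker, sup_eq_left.mpr (hZE.trans hH)]
  have hidxmap : ∀ H : Subgroup P, E ≤ H →
      H.relIndex (normalizer (H : Set P)) = (H.map f).relIndex (normalizer ((H.map f : Subgroup _) : Set _)) :=
    fun H hH => by rw [← relIndex_normalizer_comap f hfs, hback H hH]
  have hab : ∀ a ∈ E.map f, ∀ b ∈ E.map f, a * b = b * a := by
    rintro _ ⟨a, ha, rfl⟩ _ ⟨b, hb, rfl⟩; rw [← map_mul, ← map_mul, hs.comm a ha b hb]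
  by_cases hcen : centralizer ((E.map f : Subgroup _) : Set (P ⧸ Z)) ≤ E.map f
  · have hs' : Soft p (E.map f) := ⟨hab, hcen, (hidxmap E le_rfl).symm.trans hs.idx⟩
    have hT := IH _ hlt (P ⧸ Z) rfl (hP.to_quotient Z) _ hs'
    intro K hK
    refine ⟨fun L hL => ?_, fun hKt => ?_⟩
    · rcases (hT _ (map_mono hK)).1 _ (map_mono hL) with h | h
      · left; rw [← hback K hK, ← hback L hL]; exact comap_mono h
      · right; rw [← hback K hK, ← hback L hL]; exact comap_mono h
    · rw [hidxmap K hK]
      exact (hT _ (map_mono hK)).2 fun h => hKt (by rw [← hback K hK, h, comap_top])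
  set N := normalizer (E : Set P) with hNdef
  have hEN : E ≤ N := le_normalizer
  have hover : ∀ K : Subgroup P, E ≤ K → K = E ∨ N ≤ K := fun K hK => by
    by_cases h : E = K
    · exact Or.inl h.symm
    · exact Or.inr (normalizer_le_of_lt hP hs hK h)
  by_cases hNt : N = ⊤
  · intro K hK
    have hKc : K = E ∨ K = ⊤ := (hover K hK).imp_right fun h => top_unique (hNt ▸ h)
    refine ⟨fun L hL => ?_, fun hKt => ?_⟩
    · rcases hKc with rfl | rfl
      · exact Or.inl hL
      · exact Or.inr le_top
    · rw [hKc.resolve_right hKt]; exact hs.idx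
  set C := centralizer ((E.map f : Subgroup _) : Set (P ⧸ Z)) with hCdef
  have hEC : E.map f ≤ C := fun a ha => mem_centralizer_iff.mpr fun b hb => hab b hb a ha
  have hCN : C.comap f = N := by
    have h1 : E ≤ C.comap f := map_le_iff_le_comap.mp hEC
    refine eq_of_between h1 ?_ hs.idx fun e => hcen ?_
    · intro c hc
      refine mem_normalizer_iff.mpr fun e => ?_
      have key : ∀ e ∈ E, c * e * c⁻¹ ∈ E ∧ c⁻¹ * e * c ∈ E := by
        intro e he
        have h2 := mem_centralizer_iff.mp (mem_comap.mp hc) (f e) (mem_map_of_mem f he)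
        constructor
        · rw [← hback E le_rfl, mem_comap]
          rw [map_mul, map_mul, map_inv, ← h2, mul_inv_cancel_right]
          exact mem_map_of_mem f he
        · rw [← hback E le_rfl, mem_comap]
          rw [map_mul, map_mul, map_inv, mul_assoc, h2, inv_mul_cancel_left]
          exact mem_map_of_mem f he
      refine ⟨fun he => (key e he).1, fun he => ?_⟩
      simpa [mul_assoc] using (key _ he).2
    · intro a ha
      obtain ⟨a, rfl⟩ := hfs a
      exact mem_map_of_mem f (e ▸ (mem_comap.mpr ha))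
  have hNC : N.map f = C := by rw [← hCN, map_comap_eq_self_of_surjective hfs]
  have hs2 : Soft p (N.map f) := by
    refine ⟨?_, ?_, (hidxmap N hEN).symm.trans (second_step hP hs hNt)⟩
    · have hgen : N.map f ≤ centralizer ((N.map f : Subgroup _) : Set (P ⧸ Z)) := by
        obtain ⟨w, hw, hwE⟩ : ∃ w ∈ N, w ∉ E := SetLike.exists_of_lt (lt_of_le_of_ne hEN fun e => by
          have := hs.idx
          rw [← hNdef, ← e, relIndex_self] at this
          exact hp.one_lt.ne this)
        have hwN : E ⊔ zpowers w = N := eq_of_between le_sup_left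
          (sup_le hEN (zpowers_le.mpr hw)) hs.idx fun e => hwE (e.ge (mem_sup_right (mem_zpowers w)))
        have hwc : f w ∈ C := hNC ▸ mem_map_of_mem f hw
        rw [← hwN, Subgroup.map_sup, MonoidHom.map_zpowers]
        refine sup_le (le_centralizer_iff.mp (sup_le hEC (zpowers_le.mpr hwc))) ?_
        refine le_centralizer_iff.mp (sup_le (le_centralizer_iff.mp (zpowers_le.mpr hwc)) ?_)
        rw [zpowers_le, mem_centralizer_iff]
        intro x hx
        obtain ⟨k, rfl⟩ := mem_zpowers_iff.mp hx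
        exact ((Commute.refl (f w)).zpow_left k).eq
      intro a ha b hb
      exact (mem_centralizer_iff.mp (hgen hb) a ha)
    · refine le_trans (centralizer_le (map_mono hEN)) ?_
      rw [← hCdef, hNC]
  have hT := IH _ hlt (P ⧸ Z) rfl (hP.to_quotient Z) _ hs2
  intro K hK
  rcases hover K hK with hKE | hNK
  · subst hKE
    exact ⟨fun L hL => Or.inl hL, fun _ => hs.idx⟩
  refine ⟨fun L hL => ?_, fun hKt => ?_⟩
  · rcases hover L hL with rfl | hNL
    · exact Or.inr hK
    rcases (hT _ (map_mono hNK)).1 _ (map_mono hNL) with h | h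
    · left; rw [← hback K hK, ← hback L hL]; exact comap_mono h
    · right; rw [← hback K hK, ← hback L hL]; exact comap_mono h
  · rw [hidxmap K hK]
    exact (hT _ (map_mono hNK)).2 fun h => hKt (by rw [← hback K hK, h, comap_top])

omit hp in
theorem not_le_centralizer {E : Subgroup P} (hs : Soft p E) {K : Subgroup P} (hEK : E ≤ K) (hne : E ≠ K) :
    ¬ K ≤ centralizer (E : Set P) := fun h => hne (le_antisymm hEK (h.trans hs.cent))

/-- The commutator subgroup of the first step is central in every proper overgroup. -/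
theorem key (hP : IsPGroup p P) {E K : Subgroup P} (hs : Soft p E) (hNK : normalizer (E : Set P) ≤ K)
    (hKt : K ≠ ⊤) : ∀ a ∈ normalizer (E : Set P), ∀ b ∈ normalizer (E : Set P),
      a * b * a⁻¹ * b⁻¹ ∈ K ⊓ centralizer (K : Set P) := by
  set N := normalizer (E : Set P) with hNdef
  set Z := K ⊓ centralizer (K : Set P) with hZdef
  have hEN : E ≤ N := le_normalizer
  have hEK : E ≤ K := hEN.trans hNK
  have hneEN : E ≠ N := fun e => by
    have := hs.idx
    rw [← hNdef, ← e, relIndex_self] at this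
    exact hp.out.one_lt.ne this
  have hneEK : E ≠ K := fun e => hneEN (le_antisymm hEN (e ▸ hNK))
  have hZE : Z ≤ E := (inf_le_right.trans (centralizer_le hEK)).trans hs.cent
  by_cases hcase : ∃ w ∈ K, (∀ k ∈ K, w * k * w⁻¹ * k⁻¹ ∈ Z) ∧ ∃ e ∈ E, w * e ≠ e * w
  · obtain ⟨w, hwK, hw, e0, he0, hne⟩ := hcase
    have hwN : w ∈ N := by
      have h1 : ∀ e ∈ E, w * e * w⁻¹ ∈ E := fun e he => by
        rw [show w * e * w⁻¹ = (w * e * w⁻¹ * e⁻¹) * e by group]
        exact E.mul_mem (hZE (hw e (hEK he))) he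
      refine Lib.Coprime.mem_normalizer_of_conj_smul_eq (eq_of_le_of_card_ge ?_
        (Nat.card_congr (equivSMul (MulAut.conj w) E).toEquiv).le)
      intro x hx
      rw [Lib.Coprime.mem_conj_smul] at hx
      simpa [mul_assoc] using h1 _ hx
    have hsup : E ⊔ zpowers w = N := eq_of_between le_sup_left (sup_le hEN (zpowers_le.mpr hwN)) hs.idx
      fun e => hne ((hs.comm e0 he0 w (e.ge (mem_sup_right (mem_zpowers w)))).symm)
    let V : Subgroup ↥K := center ↥K
    let g := QuotientGroup.mk' V
    have hEab : ∀ a ∈ (E.subgroupOf K).map g, ∀ b ∈ (E.subgroupOf K).map g, a * b = b * a := by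
      rintro _ ⟨a, ha, rfl⟩ _ ⟨b, hb, rfl⟩
      rw [← map_mul, ← map_mul, (Subtype.ext (hs.comm _ ha _ hb) : a * b = b * a)]
    have hwc : g ⟨w, hwK⟩ ∈ center (↥K ⧸ V) := by
      rw [mem_center_iff]
      intro q
      obtain ⟨k, rfl⟩ := QuotientGroup.mk'_surjective V q
      have h2 : (⟨w, hwK⟩ : ↥K) * k * (⟨w, hwK⟩ : ↥K)⁻¹ * k⁻¹ ∈ V :=
        mem_center_iff.mpr fun u => Subtype.ext (mem_centralizer_iff.mp (hw k k.2).2 u u.2)
      have h3 := (QuotientGroup.eq_one_iff _).mpr h2
      rw [← QuotientGroup.mk'_apply, map_mul, map_mul, map_mul, map_inv, map_inv, mul_inv_eq_one,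
        mul_inv_eq_iff_eq_mul] at h3
      exact h3.symm
    have hmap : (N.subgroupOf K).map g ≤ (E.subgroupOf K).map g ⊔ zpowers (g ⟨w, hwK⟩) := by
      rw [← MonoidHom.map_zpowers, ← Subgroup.map_sup]
      refine map_mono (le_of_eq ?_)
      rw [← hsup, subgroupOf_sup hEK (zpowers_le.mpr hwK)]
      congr 1
      apply map_injective K.subtype_injective
      rw [subgroupOf_map_subtype, MonoidHom.map_zpowers, inf_eq_left.mpr (zpowers_le.mpr hwK)]
      rfl
    intro a ha b hb
    have hA : (E.subgroupOf K).map g ⊔ zpowers (g ⟨w, hwK⟩) ≤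
        centralizer (((E.subgroupOf K).map g ⊔ zpowers (g ⟨w, hwK⟩) : Subgroup _) : Set (↥K ⧸ V)) := by
      have hw' : zpowers (g ⟨w, hwK⟩) ≤ center (↥K ⧸ V) := zpowers_le.mpr hwc
      refine sup_le (le_centralizer_iff.mp (sup_le (fun x hx => mem_centralizer_iff.mpr fun y hy =>
        hEab y hy x hx) (hw'.trans (center_le_centralizer _)))) (hw'.trans (center_le_centralizer _))
    have h4 := mem_centralizer_iff.mp (hA (hmap (mem_map_of_mem g (show (⟨a, hNK ha⟩ : ↥K) ∈ N.subgroupOf K from ha))))
      (g ⟨b, hNK hb⟩) (hmap (mem_map_of_mem g (show (⟨b, hNK hb⟩ : ↥K) ∈ N.subgroupOf K from hb)))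
    have h5 : g ((⟨a, hNK ha⟩ : ↥K) * ⟨b, hNK hb⟩ * (⟨a, hNK ha⟩ : ↥K)⁻¹ * (⟨b, hNK hb⟩ : ↥K)⁻¹) = 1 := by
      rw [map_mul, map_mul, map_mul, map_inv, map_inv, ← h4]; group
    have h6 := (QuotientGroup.eq_one_iff _).mp h5
    refine ⟨K.mul_mem (K.mul_mem (K.mul_mem (hNK ha) (hNK hb)) (K.inv_mem (hNK ha))) (K.inv_mem (hNK hb)), ?_⟩
    exact mem_centralizer_iff.mpr fun u hu => congrArg Subtype.val (mem_center_iff.mp h6 ⟨u, hu⟩)
  exfalso
  push Not at hcase
  set S : Set P := {w | w ∈ K ∧ ∀ k ∈ K, w * k * w⁻¹ * k⁻¹ ∈ Z} with hSdef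
  set D := K ⊓ centralizer S with hDdef
  have hED : E ≤ D := le_inf hEK fun e he => mem_centralizer_iff.mpr fun w hw => hcase w hw.1 hw.2 e he
  have hDne : D ≠ K := by
    intro hDK
    have := (hP.to_subgroup K).to_quotient (center ↥K)
    have hnt : Nontrivial (↥K ⧸ center ↥K) := QuotientGroup.nontrivial_iff.mpr fun ht => by
      refine not_le_centralizer hs hEK hneEK fun k hk => mem_centralizer_iff.mpr fun e he => ?_
      exact (congrArg Subtype.val (mem_center_iff.mp (ht ▸ mem_top (⟨e, hEK he⟩ : ↥K)) ⟨k, hk⟩)).symm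
    have := this.center_nontrivial
    obtain ⟨c, hc, hc1⟩ := (nontrivial_iff_exists_ne_one _).mp this
    obtain ⟨c, rfl⟩ := QuotientGroup.mk'_surjective (center ↥K) c
    refine hc1 ((QuotientGroup.eq_one_iff c).mpr (mem_center_iff.mpr fun u => Subtype.ext ?_))
    have hcS : (c : P) ∈ S := by
      refine ⟨c.2, fun k hk => ?_⟩
      have h1 : QuotientGroup.mk' (center ↥K) (c * ⟨k, hk⟩ * c⁻¹ * (⟨k, hk⟩ : ↥K)⁻¹) = 1 := by
        rw [map_mul, map_mul, map_mul, ← mem_center_iff.mp hc, map_inv, map_inv, mul_inv_cancel_right, mul_inv_cancel]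
      refine ⟨K.mul_mem (K.mul_mem (K.mul_mem c.2 hk) (K.inv_mem c.2)) (K.inv_mem hk), ?_⟩
      exact mem_centralizer_iff.mpr fun u hu =>
        congrArg Subtype.val (mem_center_iff.mp ((QuotientGroup.eq_one_iff _).mp h1) ⟨u, hu⟩)
    exact (mem_centralizer_iff.mp (hDK.ge u.2).2 _ hcS).symm
  have hNK' : normalizer (K : Set P) ≤ normalizer (D : Set P) := by
    have hZn : normalizer (K : Set P) ≤ normalizer (Z : Set P) :=
      (le_inf le_rfl (Lib.Coprime.normalizer_le_normalizer_centralizer K)).trans inf_normalizer_le_normalizer_inf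
    have hS : ∀ n ∈ normalizer (K : Set P), ∀ w ∈ S, n * w * n⁻¹ ∈ S := by
      intro n hn w hw
      refine ⟨(mem_normalizer_iff.mp hn w).mp hw.1, fun k hk => ?_⟩
      have hk' : n⁻¹ * k * n ∈ K := by simpa using (mem_normalizer_iff.mp ((normalizer (K : Set P)).inv_mem hn) k).mp hk
      rw [show n * w * n⁻¹ * k * (n * w * n⁻¹)⁻¹ * k⁻¹ =
        n * (w * (n⁻¹ * k * n) * w⁻¹ * (n⁻¹ * k * n)⁻¹) * n⁻¹ by group]
      exact (mem_normalizer_iff.mp (hZn hn) _).mp (hw.2 _ hk')
    have h1 : ∀ n ∈ normalizer (K : Set P), ∀ d ∈ D, n * d * n⁻¹ ∈ D := by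
      intro n hn d hd
      refine ⟨(mem_normalizer_iff.mp hn d).mp hd.1, mem_centralizer_iff.mpr fun w hw => ?_⟩
      have h2 := mem_centralizer_iff.mp hd.2 _ (hS n⁻¹ ((normalizer (K : Set P)).inv_mem hn) w hw)
      calc w * (n * d * n⁻¹) = n * ((n⁻¹ * w * n⁻¹⁻¹) * d) * n⁻¹ := by group
        _ = n * (d * (n⁻¹ * w * n⁻¹⁻¹)) * n⁻¹ := by rw [h2]
        _ = n * d * n⁻¹ * w := by group
    intro n hn
    refine mem_normalizer_iff.mpr fun d => ⟨h1 n hn d, fun hd => ?_⟩
    simpa [mul_assoc] using h1 n⁻¹ ((normalizer (K : Set P)).inv_mem hn) _ hd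
  have hDK : D ≤ K := inf_le_left
  have hDt : D ≠ ⊤ := fun e => hKt (top_unique (e ▸ hDK))
  have h1 := (tower hp.out _ P rfl hP E hs D hED).2 hDt
  have h2 := eq_of_between hDK (le_normalizer.trans hNK') h1 hDne
  have h3 : normalizer (K : Set P) ≤ K := hNK'.trans h2.ge
  exact Lib.Components.Sig.not_normalizer_inf_le (hP.to_subgroup ⊤) (le_top (a := K)) hKt
    (inf_le_left.trans h3)

theorem classes (hp : p.Prime) : ∀ (i : ℕ) (P : Type u) [Group P] [Finite P], IsPGroup p P →
    ∀ E K : Subgroup P, Soft p E → E ≤ K → K ≠ ⊤ → E.relIndex K = p ^ i → ∀ [Group.IsNilpotent ↥K],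
      Group.nilpotencyClass ↥K = i + 1 := by
  have : Fact p.Prime := ⟨hp⟩
  intro i
  induction i with
  | zero =>
    intro P _ _ hP E K hs hEK _ hidx _
    have hKE : K = E := le_antisymm (relIndex_eq_one.mp (by rw [hidx, pow_zero])) hEK
    subst hKE
    have hc : IsMulCommutative ↥K := ⟨⟨fun a b => Subtype.ext (hs.comm _ a.2 _ b.2)⟩⟩
    have : Nontrivial ↥K := by
      rw [nontrivial_iff_ne_bot]
      intro h
      have hct : centralizer (K : Set P) = ⊤ := by
        rw [h]; exact top_unique fun x _ => mem_centralizer_iff.mpr fun y hy => by simp [mem_bot.mp hy]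
      exact ne_top hs (top_unique (hct ▸ hs.cent))
    have h1 := Group.IsNilpotent.nilpotencyClass_le_one_iff.mpr hc
    have h2 : Group.nilpotencyClass ↥K ≠ 0 := fun h =>
      not_subsingleton ↥K (nilpotencyClass_zero_iff_subsingleton.mp h)
    omega
  | succ i IH =>
    intro P _ _ hP E K hs hEK hKt hidx _
    have hne : E ≠ K := fun e => by
      rw [e, relIndex_self] at hidx
      exact (Nat.one_lt_pow i.succ_ne_zero hp.one_lt).ne hidx
    set N1 := normalizer (E : Set P) with hN1def
    have hN1K : N1 ≤ K := normalizer_le_of_lt hP hs hEK hne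
    set M := normalizer (K : Set P) with hMdef
    have hKM : K ≤ M := le_normalizer
    set Z := K ⊓ centralizer (K : Set P) with hZdef
    have hZE : Z ≤ E := (inf_le_right.trans (centralizer_le hEK)).trans hs.cent
    have hEN1 : E ≤ N1 := le_normalizer
    let V : Subgroup ↥M := Z.subgroupOf M
    have hVn : V.Normal := (normal_subgroupOf_iff_le_normalizer (hZE.trans (hEK.trans hKM))).mpr
      ((le_inf le_rfl (Lib.Coprime.normalizer_le_normalizer_centralizer K)).trans inf_normalizer_le_normalizer_inf)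
    let g := QuotientGroup.mk' V
    have hgs : Function.Surjective g := QuotientGroup.mk'_surjective V
    have hback : ∀ H : Subgroup P, Z ≤ H → ((H.subgroupOf M).map g).comap g = H.subgroupOf M := fun H hH => by
      rw [comap_map_eq, QuotientGroup.ker_mk', sup_eq_left.mpr fun x hx => hH hx]
    have hN1t : N1 ≠ ⊤ := fun h => hKt (top_unique (h ▸ hN1K))
    have hN1N : normalizer (N1 : Set P) ≤ M := by
      by_cases h : N1 = K
      · rw [hMdef, h]
      · have hn2 := second_step hP hs hN1t
        have h2 := eq_of_between (E := N1) (le_inf le_normalizer hN1K) inf_le_left hn2 fun e =>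
          Lib.Components.Sig.not_normalizer_inf_le (hP.to_subgroup K) hN1K h e.ge
        exact (h2 ▸ inf_le_right : normalizer (N1 : Set P) ≤ K).trans hKM
    set E' := (N1.subgroupOf M).map g with hE'
    have hs' : Soft p E' := by
      refine ⟨?_, ?_, ?_⟩
      · rintro _ ⟨a, ha, rfl⟩ _ ⟨b, hb, rfl⟩
        have h1 : g (a * b * a⁻¹ * b⁻¹) = 1 :=
          (QuotientGroup.eq_one_iff _).mpr (key hP hs hN1K hKt _ ha _ hb)
        rw [map_mul, map_mul, map_mul, map_inv, map_inv, mul_inv_eq_one, mul_inv_eq_iff_eq_mul] at h1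
        rw [← map_mul, ← map_mul, map_mul, map_mul]
        exact h1
      · intro x hx
        obtain ⟨x, rfl⟩ := hgs x
        refine mem_map_of_mem g (mem_subgroupOf.mpr (Lib.Coprime.mem_normalizer_of_conj_smul_eq
          (eq_of_le_of_card_ge ?_ (Nat.card_congr (equivSMul (MulAut.conj (x : P)) E).toEquiv).le)))
        intro e he
        rw [Lib.Coprime.mem_conj_smul] at he
        have heM : (x : P)⁻¹ * e * x ∈ M := hKM (hEK he)
        have h2 := mem_centralizer_iff.mp hx (g ⟨_, heM⟩)
          (mem_map_of_mem g (show (⟨_, heM⟩ : ↥M) ∈ N1.subgroupOf M from hEN1 he))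
        have h3 : g (x * ⟨_, heM⟩ * x⁻¹ * (⟨_, heM⟩ : ↥M)⁻¹) = 1 := by
          rw [map_mul, map_mul, map_mul, map_inv, map_inv, ← h2]; group
        have h4 : (x : P) * ((x : P)⁻¹ * e * x) * (x : P)⁻¹ * ((x : P)⁻¹ * e * x)⁻¹ ∈ Z :=
          mem_subgroupOf.mp ((QuotientGroup.eq_one_iff _).mp h3)
        have h5 := E.mul_mem (hZE h4) he
        simpa [mul_assoc] using h5
      · rw [← relIndex_normalizer_comap g hgs, hback N1 (hZE.trans hEN1),
          ← subgroupOf_normalizer_eq (hN1K.trans hKM), relIndex_subgroupOf hN1N]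
        exact second_step hP hs hN1t
    set K' := (K.subgroupOf M).map g with hK'
    have hE'K : E' ≤ K' := map_mono fun x hx => hN1K hx
    have hK't : K' ≠ ⊤ := fun h => by
      have h1 := congrArg (Subgroup.comap g) h
      rw [hback K (hZE.trans hEK), comap_top, subgroupOf_eq_top] at h1
      exact Lib.Components.Sig.not_normalizer_inf_le (hP.to_subgroup ⊤) (le_top (a := K)) hKt
        (inf_le_left.trans h1)
    have hidx' : E'.relIndex K' = p ^ i := by
      have h1 : E'.relIndex K' = N1.relIndex K := by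
        rw [← relIndex_comap, hback N1 (hZE.trans hEN1), relIndex_subgroupOf hKM]
      rw [h1]
      have h2 := relIndex_mul_relIndex E N1 K hEN1 hN1K
      rw [hs.idx, hidx, pow_succ'] at h2
      exact Nat.eq_of_mul_eq_mul_left hp.pos h2
    have hQ : IsPGroup p (↥M ⧸ V) := (hP.to_subgroup M).to_quotient V
    have : Group.IsNilpotent ↥K' := (hQ.to_subgroup K').isNilpotent
    have h := IH (↥M ⧸ V) hQ E' K' hs' hE'K hK't hidx'
    have : Nontrivial ↥K := by
      rw [nontrivial_iff_ne_bot]
      rintro rfl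
      exact hne (le_antisymm hEK bot_le)
    rw [nilpotencyClass_eq_quotient_center_plus_one, add_left_inj]
    refine Eq.trans ?_ h
    let φ : ↥K →* ↥K' := (g.comp (Subgroup.inclusion hKM)).codRestrict K' fun k =>
      mem_map_of_mem g (show Subgroup.inclusion hKM k ∈ K.subgroupOf M from k.2)
    have hφs : Function.Surjective φ := by
      rintro ⟨_, m, hm, rfl⟩
      exact ⟨⟨m, hm⟩, Subtype.ext rfl⟩
    have hφk : φ.ker = center ↥K := by
      ext k
      rw [MonoidHom.mem_ker, mem_center_iff]
      constructor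
      · intro hk u
        have h1 : Subgroup.inclusion hKM k ∈ V := (QuotientGroup.eq_one_iff _).mp (congrArg Subtype.val hk)
        exact Subtype.ext (mem_centralizer_iff.mp (mem_subgroupOf.mp h1).2 u u.2)
      · intro hk
        refine Subtype.ext ((QuotientGroup.eq_one_iff _).mpr (mem_subgroupOf.mpr ⟨k.2, ?_⟩))
        exact mem_centralizer_iff.mpr fun u hu => congrArg Subtype.val (hk ⟨u, hu⟩)
    let e := (QuotientGroup.quotientMulEquivOfEq hφk.symm).trans
      (QuotientGroup.quotientKerEquivOfSurjective φ hφs)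
    exact le_antisymm (nilpotencyClass_le_of_surjective e.symm.toMonoidHom e.symm.surjective)
      (nilpotencyClass_le_of_surjective e.toMonoidHom e.surjective)

end

theorem main {P : Type*} [Group P] [Finite P] (p : ℕ) [Fact p.Prime] (hP : IsPGroup p P)
    (E : Subgroup P) (hEab : IsMulCommutative ↥E) (hC : Subgroup.centralizer (E : Set P) ≤ E)
    (hN : (E.subgroupOf (Subgroup.normalizer (E : Set P))).index = p) :
    (∀ K L : Subgroup P, E ≤ K → E ≤ L → K ≤ L ∨ L ≤ K) ∧
      (∀ K : Subgroup P, E ≤ K → K ≠ ⊤ → (K.subgroupOf (Subgroup.normalizer (K : Set P))).index = p) ∧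
      ∀ (i : ℕ) (K : Subgroup P) [Group.IsNilpotent ↥K], E ≤ K → K ≠ ⊤ → K.index * p ^ i = E.index →
        Group.nilpotencyClass ↥K = i + 1 := by
  have hp : p.Prime := Fact.out
  have hs : Soft p E := ⟨fun a ha b hb => congrArg Subtype.val (mul_comm' (⟨a, ha⟩ : E) ⟨b, hb⟩), hC, hN⟩
  have hT := tower hp _ P rfl hP E hs
  refine ⟨fun K L hK hL => (hT K hK).1 L hL, fun K hK hKt => (hT K hK).2 hKt, fun i K _ hEK hKt hi => ?_⟩
  refine classes hp i P hP E K hs hEK hKt ?_
  rw [← Subgroup.relIndex_mul_index hEK, mul_comm] at hi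
  exact (Nat.eq_of_mul_eq_mul_right (Nat.pos_of_ne_zero Subgroup.index_ne_zero_of_finite) hi).symm

/-- Let P be a finite p-group and E an abelian subgroup of P that contains its centralizer, has index p in its normalizer, and has index at least p² in P. Then the subgroups of P containing E are totally ordered by inclusion, each proper one has index p in its normalizer (so they form the normalizer tower of E, with all steps of index p), and the i-th member of the tower above E has nilpotency class i + 1 whenever it is a proper subgroup of P. -/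
theorem result {P : Type*} [Group P] [Finite P] (p : ℕ) [Fact p.Prime] (hP : IsPGroup p P)
    (E : Subgroup P) (hEab : IsMulCommutative ↥E) (hC : Subgroup.centralizer (E : Set P) ≤ E)
    (hN : (E.subgroupOf (Subgroup.normalizer (E : Set P))).index = p) (hidx : p ^ 2 ≤ E.index) :
    (∀ K L : Subgroup P, E ≤ K → E ≤ L → K ≤ L ∨ L ≤ K) ∧
      (∀ K : Subgroup P, E ≤ K → K ≠ ⊤ → (K.subgroupOf (Subgroup.normalizer (K : Set P))).index = p) ∧
      ∀ (i : ℕ) (K : Subgroup P) [Group.IsNilpotent ↥K], E ≤ K → K ≠ ⊤ → K.index * p ^ i = E.index →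
        Group.nilpotencyClass ↥K = i + 1 := by
  exact main p hP E hEab hC hN

end Cfsg.Agent.S3811
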