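import Cfsg.Statements.S3818
import Cfsg.Agent.Lib.FixHalf.Main

set_option autoImplicit false
open Cfsg

namespace Cfsg.Agent.S3818

/-- Let G be a finite solvable group and P a subgroup of G of prime order p > 3 whose conjugates generate G. Let V be a faithful irreducible representation of G over a field of positive characteristic, finite-dimensional. Then the subspace of V fixed by P has dimension less than half the dimension of V. -/
theorem result {G : Type*} [Group G] [Finite G] [Group.IsSolvable G]
    {p : ℕ} [Fact p.Prime] (hp : 3 < p) (P : Subgroup G) (hP : Nat.card P = p) (hgen : Subgroup.normalClosure (P : Set G) = ⊤)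
    {k : Type*} [Field k] (ℓ : ℕ) [Fact ℓ.Prime] [CharP k ℓ]
    {V : Type*} [AddCommGroup V] [Module k V] [FiniteDimensional k V]
    (ρ : Representation k G V) [ρ.IsIrreducible] (hfaith : Function.Injective ρ) :
    2 * Module.finrank k ↥(⨅ g : ↥P, LinearMap.ker (ρ (g : G) - LinearMap.id)) < Module.finrank k V := by
  classical
  obtain ⟨h2, h3⟩ : p.Prime ∧ p ≠ 4 := ⟨Fact.out, fun h => by
    have := (Fact.out : p.Prime); rw [h] at this; norm_num at this⟩
  have h5 : 5 ≤ p := by omega
  obtain ⟨y, hy⟩ : ∃ y : P, y ≠ 1 := by
    haveI : Nontrivial P := Finite.one_lt_card_iff_nontrivial.mp (hP ▸ h2.one_lt)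
    exact exists_ne 1
  have hx1 : (y : G) ≠ 1 := fun h => hy (Subtype.ext h)
  have hx : (y : G) ^ p = 1 := by
    rw [← hP]; exact congrArg Subtype.val (pow_card_eq_one' (x := y))
  have hgP : ∀ g ∈ P, g ∈ Subgroup.zpowers (y : G) := by
    intro g hg
    have hle : Subgroup.zpowers (y : G) ≤ P := Subgroup.zpowers_le.mpr y.2
    refine (Subgroup.eq_of_le_of_card_ge hle ?_).ge hg
    rw [Nat.card_zpowers, orderOf_eq_prime hx hx1, hP]
  have hgenx : Subgroup.normalClosure ({(y : G)} : Set G) = ⊤ := by
    rw [← top_le_iff, ← hgen]
    exact Subgroup.normalClosure_le_normal fun g hg =>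
      (Subgroup.zpowers_le.mpr (Subgroup.subset_normalClosure (Set.mem_singleton _))) (hgP g hg)
  have hirr : Lib.FixSpace.Irred (ρ : G →* Module.End k V) := by
    intro W hW
    let S : Subrepresentation ρ := ⟨W, fun g v hv => hW g ⟨v, hv, rfl⟩⟩
    rcases IsSimpleOrder.eq_bot_or_eq_top S with h | h
    · exact Or.inl (congrArg Subrepresentation.toSubmodule h)
    · exact Or.inr (congrArg Subrepresentation.toSubmodule h)
  haveI : Nontrivial V := by
    by_contra hV
    rw [not_nontrivial_iff_subsingleton] at hV
    exact (bot_ne_top : (⊥ : Subrepresentation ρ) ≠ ⊤) (Subrepresentation.toSubmodule_injective (Subsingleton.elim _ _))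
  have hmain := Lib.FixHalf.two_mul_fixed_lt (ρ : G →* Module.End k V) hirr hfaith h5 hx hx1 hgenx
  suffices he : (⨅ g : ↥P, LinearMap.ker (ρ (g : G) - LinearMap.id)) = LinearMap.ker (ρ (y : G) - 1) by
    rw [he]; exact hmain
  refine le_antisymm (iInf_le_of_le y le_rfl) (le_iInf fun g => ?_)
  intro v hv
  rw [LinearMap.mem_ker, LinearMap.sub_apply, sub_eq_zero] at hv ⊢
  have hfix : (g : G) ∈ ({ carrier := {h | ρ h v = v}
                           one_mem' := by simp
                           mul_mem' := fun {a b} ha hb => by
                             show ρ (a * b) v = v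
                             rw [map_mul, Module.End.mul_apply, (show ρ b v = v from hb), (show ρ a v = v from ha)]
                           inv_mem' := fun {a} ha => by
                             show ρ a⁻¹ v = v
                             conv_lhs => rw [← (show ρ a v = v from ha)]
                             exact Lib.FixSpace.inv_apply (ρ := (ρ : G →* Module.End k V)) a v } : Subgroup G) :=
    (Subgroup.zpowers_le.mpr hv) (hgP g g.2)
  exact hfix

end Cfsg.Agent.S3818
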