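import Cfsg.Statements.S3824
import Cfsg.Agent.Lib.Char.Burnside
import Cfsg.Agent.Lib.Coprime.Basic
import Mathlib

set_option autoImplicit false
open Cfsg

namespace Cfsg.Agent.S3824


open Subgroup

universe u

lemma main : ∀ (n : ℕ) (G : Type u) [Group G] [Finite G], Nat.card G = n → ∀ A : Subgroup G,
    IsMulCommutative A → (∃ k : ℕ, A.index = 2 ^ k) → Group.IsSolvable G := by
  intro n
  induction n using Nat.strong_induction_on with
  | _ n ih =>
  intro G _ _ hn A hA hidx
  obtain ⟨k, hk⟩ := hidx
  rcases subsingleton_or_nontrivial G with hs | hs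
  · infer_instance
  by_cases hsimp : ∀ N : Subgroup G, N.Normal → N = ⊥ ∨ N = ⊤
  · by_cases hAb : A = ⊥
    · haveI := Fact.mk Nat.prime_two
      have : IsPGroup 2 G := IsPGroup.of_card (n := k) (by rw [← hk, hAb, index_bot])
      haveI := this.isNilpotent
      infer_instance
    haveI : IsSimpleGroup G := ⟨fun N hN => hsimp N hN⟩
    obtain ⟨a, ha, ha1⟩ := (bot_or_exists_ne_one A).resolve_left hAb
    have hle : A ≤ centralizer ({a} : Set G) := fun b hb => mem_centralizer_singleton_iff.mpr
      (congrArg Subtype.val (hA.is_comm.comm (⟨b, hb⟩ : A) ⟨a, ha⟩))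
    obtain ⟨j, -, hj⟩ := (Nat.dvd_prime_pow Nat.prime_two).mp (hk ▸ index_dvd_of_le hle)
    have hp := Lib.Char.prime_card_of_index_centralizer Nat.prime_two ha1 hj
    haveI := Fact.mk hp
    haveI : IsCyclic G := isCyclic_of_prime_card rfl
    haveI := IsCyclic.commutative (α := G)
    exact Group.isSolvable_of_comm fun x y => mul_comm' x y
  · push_neg at hsimp
    obtain ⟨N, hN, hNb, hNt⟩ := hsimp
    haveI := hN
    haveI : IsMulCommutative A := hA
    have h1 : Group.IsSolvable N := by
      refine ih (Nat.card N) (hn ▸ Lib.Coprime.card_lt_of_ne_top hNt) N rfl (A.subgroupOf N) ⟨⟨fun x y => ?_⟩⟩ ?_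
      · have h := congrArg Subtype.val (mul_comm' (⟨((x : N) : G), x.2⟩ : A) ⟨((y : N) : G), y.2⟩)
        exact Subtype.ext (Subtype.ext h)
      · have hd : (A.subgroupOf N).index ∣ A.index := by
          have e1 : (A.subgroupOf N).index * Nat.card (N ⊓ A : Subgroup G) = Nat.card N := by
            rw [inf_comm, ← Lib.Coprime.card_subgroupOf_inf A N]
            exact index_mul_card _
          have e2 : (A.subgroupOf (A ⊔ N)).index * Nat.card A = Nat.card (A ⊔ N : Subgroup G) := by
            rw [← Lib.Coprime.card_subgroupOf (le_sup_left : A ≤ A ⊔ N)]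
            exact index_mul_card _
          have e3 := Lib.Coprime.card_sup_mul_card_inf N A
          rw [← e1, ← e2, inf_comm N A] at e3
          have e4 : (A.subgroupOf (A ⊔ N)).index * (Nat.card A * Nat.card (A ⊓ N : Subgroup G)) =
              (A.subgroupOf N).index * (Nat.card A * Nat.card (A ⊓ N : Subgroup G)) := by
            rw [← mul_assoc, e3]; ring
          rw [← Nat.eq_of_mul_eq_mul_right (Nat.mul_pos Nat.card_pos Nat.card_pos) e4]
          exact relIndex_dvd_index_of_le le_sup_left
        obtain ⟨j, -, hj⟩ := (Nat.dvd_prime_pow Nat.prime_two).mp (hk ▸ hd)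
        exact ⟨j, hj⟩
    have h2 : Group.IsSolvable (G ⧸ N) := by
      refine ih (Nat.card (G ⧸ N)) (hn ▸ Lib.Coprime.card_quotient_lt hNb) (G ⧸ N) rfl
        (A.map (QuotientGroup.mk' N)) (map_isMulCommutative A _) ?_
      obtain ⟨j, -, hj⟩ := (Nat.dvd_prime_pow Nat.prime_two).mp
        (hk ▸ index_map_dvd _ (QuotientGroup.mk'_surjective N))
      exact ⟨j, hj⟩
    exact Group.isSolvable_of_ker_le_range (f := N.subtype) (g := QuotientGroup.mk' N)
      (by rw [QuotientGroup.ker_mk', range_subtype])

/-- Every finite group having an abelian subgroup whose index is a power of 2 is solvable. -/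
theorem result {G : Type*} [Group G] [Finite G]
    (A : Subgroup G) (hA : IsMulCommutative A) (hidx : ∃ k : ℕ, A.index = 2 ^ k) : Group.IsSolvable G := by
  exact main _ G rfl A hA hidx

end Cfsg.Agent.S3824
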