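import Cfsg.Statements.S3868
import Mathlib
import Cfsg.Agent.Lib.Struct22.MinNonClosed

set_option autoImplicit false
open Cfsg

namespace Cfsg.Agent.S3868

open Subgroup
open scoped Pointwise


/-- Structure of the non-simple minimal non-p-closed groups. Call a finite group p-closed when its Sylow p-subgroups are normal, and minimal non-p-closed when it is not p-closed but every proper subgroup and every proper quotient is. If such a group G is not simple, then there is a prime q ≠ p such that G has order p · q^e, where e is the multiplicative order of q modulo p, and G has a normal subgroup A of order q^e that is elementary abelian and is a minimal normal subgroup of G (so G is the semidirect product of A by a group of order p acting irreducibly). -/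
theorem result {G : Type*} [Group G] [Finite G] {p : ℕ} [Fact p.Prime]
    (hnc : ¬ Cfsg.IsPClosed p G) (hsub : ∀ H : Subgroup G, H ≠ ⊤ → Cfsg.IsPClosed p ↥H)
    (hquo : ∀ (N : Subgroup G) [N.Normal], N ≠ ⊥ → Cfsg.IsPClosed p (G ⧸ N)) (hns : ¬ IsSimpleGroup G) :
    ∃ q : ℕ, q.Prime ∧ q ≠ p ∧ Nat.card G = p * q ^ orderOf (q : ZMod p) ∧
      ∃ A : Subgroup G, A.Normal ∧ Nat.card ↥A = q ^ orderOf (q : ZMod p) ∧ Cfsg.IsElementaryAbelian q A ∧
        ∀ B : Subgroup G, B.Normal → B ≤ A → B = ⊥ ∨ B = A := by
  classical
  have hnt : Nontrivial G := by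
    by_contra h
    rw [not_nontrivial_iff_subsingleton] at h
    exact hnc fun P => ⟨fun a _ g => by rw [Subsingleton.elim (g * a * g⁻¹) 1]; exact one_mem _⟩
  -- no nontrivial normal `p`-subgroup
  have hOp : ∀ R : Subgroup G, R.Normal → IsPGroup p R → R = ⊥ := by
    intro R hR hRp
    by_contra hne
    haveI := hR
    apply hnc
    intro P
    have hRP : R ≤ (P : Subgroup G) := by
      obtain ⟨T, hT⟩ := hRp.exists_le_sylow
      obtain ⟨g, rfl⟩ := MulAction.exists_smul_eq G T P
      rw [Sylow.coe_subgroup_smul]
      calc R = MulAut.conj g • R := (Cfsg.Agent.Lib.Coprime.conj_smul_of_normal R g).symm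
        _ ≤ _ := pointwise_smul_le_pointwise_smul_iff.mpr hT
    have h := hquo R hne (P.mapSurjective (QuotientGroup.mk'_surjective R))
    rw [Sylow.coe_mapSurjective] at h
    have h2 := h.comap (QuotientGroup.mk' R)
    rwa [comap_map_eq, QuotientGroup.ker_mk', sup_eq_left.mpr hRP] at h2
  -- proper normal subgroups have order prime to `p`
  have hnor : ∀ N : Subgroup G, N.Normal → N ≠ ⊤ → ¬ p ∣ Nat.card N := by
    intro N hN hne hd
    haveI := hN
    obtain ⟨S⟩ := (inferInstance : Nonempty (Sylow p N))
    haveI := hsub N hne S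
    haveI : (S : Subgroup N).Characteristic := S.characteristic_of_normal inferInstance
    have h1 := hOp ((S : Subgroup N).map N.subtype) inferInstance (S.2.map _)
    rw [map_eq_bot_iff_of_injective _ N.subtype_injective] at h1
    exact S.ne_bot_of_dvd_card hd h1
  obtain ⟨N, hNn, hN, -, hmin⟩ := Cfsg.Agent.Lib.Hall.exists_minimal_normal_le (G := G) (N := ⊤) top_ne_bot
  haveI := hNn
  have hNtop : N ≠ ⊤ := by
    intro h
    apply hns
    exact { eq_bot_or_eq_top_of_normal := fun H hH => h ▸ hmin H hH (h ▸ le_top) }
  have hcop := hnor N hNn hNtop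
  obtain ⟨P⟩ := (inferInstance : Nonempty (Sylow p G))
  have hPN : (P : Subgroup G) ⊔ N = ⊤ := by
    by_contra hne
    set M := (P : Subgroup G) ⊔ N with hM
    have h := hquo N hN (P.mapSurjective (QuotientGroup.mk'_surjective N))
    rw [Sylow.coe_mapSurjective] at h
    have hMn : M.Normal := by
      have h2 := h.comap (QuotientGroup.mk' N)
      rwa [comap_map_eq, QuotientGroup.ker_mk'] at h2
    refine hnor M hMn hne ?_
    refine dvd_trans ?_ (card_dvd_of_le (le_sup_left : (P : Subgroup G) ≤ M))
    by_contra hd
    obtain ⟨m, hm⟩ := IsPGroup.iff_card.mp P.2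
    rcases Nat.eq_zero_or_pos m with h0 | h0
    · apply hnc
      intro P'
      have hcardP' : Nat.card (P' : Subgroup G) = 1 := by
        rw [P'.card_eq_multiplicity, ← P.card_eq_multiplicity, hm, h0, pow_zero]
      rw [Subgroup.card_eq_one.mp hcardP']
      infer_instance
    · exact hd (hm ▸ dvd_pow_self p h0.ne')
  have hidxN : N.index = Nat.card (P : Subgroup G) := by
    have hc : (Nat.card (P : Subgroup G)).Coprime (Nat.card N) := by
      obtain ⟨m, hm⟩ := IsPGroup.iff_card.mp P.2
      rw [hm]; exact ((Fact.out : p.Prime).coprime_iff_not_dvd.mpr hcop).pow_left m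
    have h1 := Cfsg.Agent.Lib.Coprime.card_sup_of_coprime (A := (P : Subgroup G)) (N := N) le_normalizer_of_normal hc
    rw [hPN, card_top, ← N.index_mul_card] at h1
    exact Nat.eq_of_mul_eq_mul_right Nat.card_pos h1
  have hidx : N.index = p := by
    have hp' : IsPGroup p (G ⧸ N) := by
      obtain ⟨m, hm⟩ := IsPGroup.iff_card.mp P.2
      exact IsPGroup.of_card (n := m) (by rw [← index_eq_card, hidxN, hm])
    obtain ⟨m, hm⟩ := IsPGroup.iff_card.mp hp'
    have hm0 : m ≠ 0 := fun h => hNtop (index_eq_one.mp (by rw [index_eq_card, hm, h, pow_zero]))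
    obtain ⟨K, hK⟩ := Sylow.exists_subgroup_card_pow_prime p (n := m - 1) (G := G ⧸ N) (hm ▸ pow_dvd_pow p (Nat.sub_le m 1))
    by_contra hne
    rw [index_eq_card, hm] at hne
    have hm2 : 1 < m := by
      rcases Nat.lt_or_ge 1 m with h | h
      · exact h
      · exact absurd (by rw [show m = 1 by omega, pow_one]) hne
    have hKidx : K.index = p := by
      have := K.card_mul_index
      rw [hK, hm, show p ^ m = p ^ (m - 1) * p by rw [← pow_succ, show m - 1 + 1 = m by omega]] at this
      exact Nat.eq_of_mul_eq_mul_left (pow_pos (Fact.out : p.Prime).pos _) this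
    have hKn : K.Normal := normal_of_index_eq_minFac_card (by
      rw [hm, (Fact.out : p.Prime).pow_minFac (by omega)]; exact hKidx)
    refine hnor (K.comap (QuotientGroup.mk' N)) (hKn.comap _) ?_ ?_
    · intro h
      have := congrArg Subgroup.index h
      rw [index_comap_of_surjective _ (QuotientGroup.mk'_surjective N), hKidx, index_top] at this
      exact (Fact.out : p.Prime).ne_one this
    · have h1 := (K.comap (QuotientGroup.mk' N)).index_mul_card
      rw [index_comap_of_surjective _ (QuotientGroup.mk'_surjective N), hKidx, ← N.index_mul_card, index_eq_card, hm,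
        show p ^ m = p * p ^ (m - 1) by rw [← pow_succ', show m - 1 + 1 = m by omega], mul_assoc] at h1
      rw [Nat.eq_of_mul_eq_mul_left (Fact.out : p.Prime).pos h1]
      exact dvd_mul_of_dvd_left (dvd_pow_self p (by omega)) _
  refine Cfsg.Agent.Lib.Struct22.structure_of_index_prime N hN hmin hidx hcop ?_ ?_
  · intro Q hQ hQn
    apply (Fact.out : p.Prime).ne_one
    rw [← hQ, hOp Q hQn (IsPGroup.of_card (n := 1) (by rw [hQ, pow_one])), card_bot]
  · intro H hH Q hQ hQH
    have hQp : IsPGroup p (Q.subgroupOf H) := (IsPGroup.of_card (n := 1) (by rw [hQ, pow_one]) : IsPGroup p Q).comap_subtype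
    obtain ⟨S, hS⟩ := hQp.exists_le_sylow
    haveI := hsub H hH S
    have hQS : Q.subgroupOf H = S := by
      refine eq_of_le_of_card_ge hS ?_
      rw [S.card_eq_multiplicity, Cfsg.Agent.Lib.Coprime.card_subgroupOf hQH, hQ]
      refine le_of_le_of_eq (Nat.pow_le_pow_right (Fact.out : p.Prime).pos ((Nat.factorization_le_iff_dvd
        Nat.card_pos.ne' Nat.card_pos.ne').mpr H.card_subgroup_dvd_card p)) ?_
      rw [← N.index_mul_card, hidx, Nat.factorization_mul (Fact.out : p.Prime).ne_zero Nat.card_pos.ne',
        Finsupp.add_apply, Nat.Prime.factorization_self Fact.out, Nat.factorization_eq_zero_of_not_dvd hcop,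
        add_zero, pow_one]
    exact (normal_subgroupOf_iff_le_normalizer hQH).mp (hQS ▸ inferInstance)

end Cfsg.Agent.S3868
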