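import Cfsg.Statements.S3869
import Mathlib
import Cfsg.Agent.Lib.Struct22.MinNonClosed

set_option autoImplicit false
open Cfsg

namespace Cfsg.Agent.S3869

open Subgroup
open scoped Pointwise


/-- Let p and q be distinct primes and G a finite non-abelian group with a normal elementary abelian q-subgroup A that is a minimal normal subgroup of G and has index p. Then A has order q^e with e the multiplicative order of q modulo p, and G is minimal non-p-closed: its Sylow p-subgroups are not normal, while in every proper subgroup and in every proper quotient of G the Sylow p-subgroups are normal. -/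
theorem result {G : Type*} [Group G] [Finite G] {p q : ℕ} [Fact p.Prime] (hq : q.Prime) (hpq : q ≠ p)
    (hna : ¬ IsMulCommutative G) (A : Subgroup G) [A.Normal] (hA : Cfsg.IsElementaryAbelian q A) (hidx : A.index = p)
    (hmin : ∀ B : Subgroup G, B.Normal → B ≤ A → B = ⊥ ∨ B = A) :
    Nat.card ↥A = q ^ orderOf (q : ZMod p) ∧ ¬ Cfsg.IsPClosed p G ∧ (∀ H : Subgroup G, H ≠ ⊤ → Cfsg.IsPClosed p ↥H) ∧
      ∀ (N : Subgroup G) [N.Normal], N ≠ ⊥ → Cfsg.IsPClosed p (G ⧸ N) := by
  classical
  have hp : p.Prime := Fact.out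
  haveI := Fact.mk hq
  have hc : ∀ a ∈ A, ∀ b ∈ A, a * b = b * a := fun a ha b hb => congrArg Subtype.val (hA.1.1.1 ⟨a, ha⟩ ⟨b, hb⟩)
  have hAne : A ≠ ⊥ := by
    rintro rfl
    apply hna
    rw [index_bot] at hidx
    haveI : IsCyclic G := isCyclic_of_prime_card hidx
    exact IsCyclic.commutative
  have hcop : ¬ p ∣ Nat.card A := by
    intro h
    obtain ⟨y, hy⟩ := exists_prime_orderOf_dvd_card' p h
    have h1 := orderOf_dvd_of_pow_eq_one (hA.2 y y.2)
    rw [orderOf_coe, hy] at h1
    exact hpq ((Nat.prime_dvd_prime_iff_eq hp hq).mp h1).symm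
  -- elements outside `A` together with `A` generate
  have hgen : ∀ H : Subgroup G, A ≤ H → ∀ g ∈ H, g ∉ A → H = ⊤ := by
    intro H hAH g hg hgA
    have hd : H.index ∣ p := hidx ▸ index_dvd_of_le hAH
    rcases (Nat.dvd_prime hp).mp hd with h | h
    · exact index_eq_one.mp h
    · exfalso
      refine hgA ((eq_of_le_of_card_ge hAH (le_of_eq ?_)).ge hg)
      refine Nat.eq_of_mul_eq_mul_right hp.pos ?_
      calc Nat.card H * p = Nat.card G := by rw [← h, H.card_mul_index]
        _ = Nat.card A * p := by rw [← hidx, A.card_mul_index]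
  have hnocen : ∀ g : G, g ∉ A → ∃ a ∈ A, g * a * g⁻¹ ≠ a := by
    intro g hg
    by_contra h
    push_neg at h
    have hca : ∀ a ∈ A, Commute g a := fun a ha => mul_inv_eq_iff_eq_mul.mp (h a ha)
    apply hna
    have htop := hgen (A ⊔ zpowers g) le_sup_left g (mem_sup_right (mem_zpowers g)) hg
    have hC : ∀ u : G, ∀ a ∈ A, Commute u a := by
      intro u a ha
      have hle : A ⊔ zpowers g ≤ centralizer {a} := sup_le (fun b hb => mem_centralizer_singleton_iff.mpr (hc b hb a ha))
        (zpowers_le.mpr (mem_centralizer_singleton_iff.mpr (hca a ha).eq))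
      exact mem_centralizer_singleton_iff.mp (hle (htop.ge (mem_top u)))
    refine ⟨⟨fun u v => ?_⟩⟩
    have hgC : ∀ u : G, Commute g u := by
      intro u
      have hle : A ⊔ zpowers g ≤ centralizer {g} := sup_le (fun b hb => mem_centralizer_singleton_iff.mpr (hca b hb).eq.symm)
        (zpowers_le.mpr (mem_centralizer_singleton_iff.mpr rfl))
      exact (mem_centralizer_singleton_iff.mp (hle (htop.ge (mem_top u)))).symm
    have hle : A ⊔ zpowers g ≤ centralizer {v} := sup_le (fun b hb => mem_centralizer_singleton_iff.mpr (hC v b hb).eq.symm)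
      (zpowers_le.mpr (mem_centralizer_singleton_iff.mpr (hgC v).eq))
    exact mem_centralizer_singleton_iff.mp (hle (htop.ge (mem_top u)))
  have hGc : Nat.card G = p * Nat.card A := by rw [← A.index_mul_card, hidx]
  have hirr : ∀ g : G, g ∉ A → ∀ B : Subgroup G, B ≤ A → g ∈ normalizer (B : Set G) → B = ⊥ ∨ B = A := by
    intro g hg B hB hgB
    refine hmin B ?_ hB
    rw [← normalizer_eq_top_iff]
    refine hgen _ (fun a ha => mem_normalizer_iff.mpr fun b => ?_) g hgB hg
    constructor
    · intro hb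
      rwa [hc a ha b (hB hb), mul_inv_cancel_right]
    · intro hb
      have h1 : b ∈ A := by
        have := Subgroup.Normal.conj_mem (H := A) inferInstance _ (hB hb) a⁻¹
        simpa [mul_assoc] using this
      rwa [hc a ha b h1, mul_inv_cancel_right] at hb
  obtain ⟨x, hx⟩ := exists_prime_orderOf_dvd_card' p (hGc ▸ dvd_mul_right p _)
  have hxA : x ∉ A := fun h => hcop (hx ▸ (orderOf_mk x h ▸ orderOf_dvd_natCard _))
  refine ⟨?_, ?_, ?_, ?_⟩
  · refine Cfsg.Agent.Lib.Struct22.card_of_irreducible_conj A hc hA.2 hAne x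
      (fun a _ => by rw [← hx, pow_orderOf_eq_one]; group) (hnocen x hxA) fun B hB hBx => hirr x hxA B hB ?_
    refine Cfsg.Agent.Lib.Coprime.mem_normalizer_of_conj_smul_eq (eq_of_le_of_card_ge ?_ (Cfsg.Agent.Lib.Coprime.card_conj_smul x B).ge)
    intro y hy
    rw [Cfsg.Agent.Lib.Coprime.mem_conj_smul] at hy
    have := hBx _ hy
    simpa [mul_assoc] using this
  · intro hcl
    obtain ⟨T, hT⟩ := (IsPGroup.of_card (n := 1) (by rw [Nat.card_zpowers, hx, pow_one]) : IsPGroup p (zpowers x)).exists_le_sylow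
    haveI := hcl T
    obtain ⟨a, ha, hne⟩ := hnocen x hxA
    apply hne
    have hd : (T : Subgroup G) ⊓ A = ⊥ := by
      obtain ⟨m, hm⟩ := IsPGroup.iff_card.mp T.2
      exact Cfsg.Agent.Lib.Coprime.inf_eq_bot_of_coprime (by rw [hm]; exact (hp.coprime_iff_not_dvd.mpr hcop).pow_left m)
    have hxT : x ∈ (T : Subgroup G) := hT (mem_zpowers x)
    have h1 : x * a * x⁻¹ * a⁻¹ ∈ (T : Subgroup G) ⊓ A := by
      refine ⟨?_, A.mul_mem (Subgroup.Normal.conj_mem (H := A) inferInstance a ha x) (A.inv_mem ha)⟩
      rw [mul_assoc, mul_assoc, ← mul_assoc a]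
      exact (T : Subgroup G).mul_mem hxT (Subgroup.Normal.conj_mem (H := (T : Subgroup G)) inferInstance _ ((T : Subgroup G).inv_mem hxT) a)
    rw [hd, mem_bot, mul_inv_eq_one] at h1
    exact h1
  · intro H hH T
    by_cases hd : p ∣ Nat.card H
    · have hHA : H ⊓ A = ⊥ := by
        obtain ⟨y, hy⟩ := exists_prime_orderOf_dvd_card' p hd
        have hyA : (y : G) ∉ A := fun h => hcop (hy ▸ (orderOf_coe y ▸ orderOf_mk (y : G) h ▸ orderOf_dvd_natCard _))
        rcases hirr (y : G) hyA (H ⊓ A) inf_le_right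
          ((inf_normalizer_le_normalizer_inf) ⟨le_normalizer y.2, by rw [normalizer_eq_top]; exact mem_top _⟩) with h | h
        · exact h
        · exact absurd (hgen H (h ▸ inf_le_left) y y.2 hyA) hH
      have hle : Nat.card H ∣ p := by
        have h2 : Nat.card H = A.relIndex H := by
          rw [← inf_relIndex_right A H, inf_comm, hHA, relIndex_bot_left]
        rw [h2, ← hidx]
        exact relIndex_dvd_index_of_normal A H
      have hTtop : (T : Subgroup H) = ⊤ := by
        refine eq_top_of_card_eq _ (Nat.dvd_antisymm (card_subgroup_dvd_card _) (hle.trans ?_))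
        exact T.dvd_card_of_dvd_card hd
      rw [hTtop]; infer_instance
    · obtain ⟨m, hm⟩ := IsPGroup.iff_card.mp T.2
      have : (T : Subgroup H) = ⊥ := by
        rw [← card_eq_one, hm]
        rcases Nat.eq_zero_or_pos m with h | h
        · rw [h, pow_zero]
        · exact absurd ((hm ▸ dvd_pow_self p h.ne').trans (card_subgroup_dvd_card _)) hd
      rw [this]; infer_instance
  · intro N hN hNne T
    have hAN : A ≤ N := by
      rcases hmin (N ⊓ A) inferInstance inf_le_right with h | h
      · exfalso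
        obtain ⟨g, hg, hg1⟩ := (bot_or_exists_ne_one N).resolve_left hNne
        have hgA : g ∉ A := fun hA' => hg1 (mem_bot.mp (h ▸ (⟨hg, hA'⟩ : g ∈ N ⊓ A)))
        obtain ⟨a, ha, hne⟩ := hnocen g hgA
        apply hne
        have h1 : g * a * g⁻¹ * a⁻¹ ∈ N ⊓ A := by
          refine ⟨?_, A.mul_mem (Subgroup.Normal.conj_mem (H := A) inferInstance a ha g) (A.inv_mem ha)⟩
          rw [mul_assoc, mul_assoc, ← mul_assoc a]
          exact N.mul_mem hg (Subgroup.Normal.conj_mem (H := N) inferInstance _ (N.inv_mem hg) a)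
        rw [h, mem_bot, mul_inv_eq_one] at h1
        exact h1
      · exact h ▸ inf_le_left
    have hd : Nat.card (G ⧸ N) ∣ p := by rw [← index_eq_card, ← hidx]; exact index_dvd_of_le hAN
    rcases (Nat.dvd_prime hp).mp hd with h | h
    · have e : (T : Subgroup (G ⧸ N)) = ⊥ := card_eq_one.mp (Nat.dvd_one.mp (h ▸ card_subgroup_dvd_card (T : Subgroup (G ⧸ N))))
      rw [e]; infer_instance
    · have : (T : Subgroup (G ⧸ N)) = ⊤ := eq_top_of_card_eq _
        (Nat.dvd_antisymm (card_subgroup_dvd_card _) (hd.trans (T.dvd_card_of_dvd_card (h ▸ dvd_refl p))))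
      rw [this]; infer_instance

end Cfsg.Agent.S3869
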