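import Cfsg.Statements.S3870
import Mathlib
import Cfsg.Agent.Lib.Components.Signalizer

set_option autoImplicit false
open Cfsg

namespace Cfsg.Agent.S3870

open Subgroup
open scoped Pointwise


/-- Let G be a finite simple group whose Sylow p-subgroups are not normal but such that every proper subgroup of G has a normal Sylow p-subgroup. Then any two distinct Sylow p-subgroups of G intersect trivially, and for every Sylow p-subgroup P the normalizer of every non-identity subgroup of P lies in the normalizer of P. -/
theorem result {G : Type*} [Group G] [Finite G] [IsSimpleGroup G] {p : ℕ} [Fact p.Prime]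
    (hnc : ¬ Cfsg.IsPClosed p G) (hsub : ∀ H : Subgroup G, H ≠ ⊤ → Cfsg.IsPClosed p ↥H) :
    (∀ P Q : Sylow p G, P ≠ Q → (P : Subgroup G) ⊓ (Q : Subgroup G) = ⊥) ∧
      ∀ (P : Sylow p G) (R : Subgroup G), R ≤ P → R ≠ ⊥ →
        Subgroup.normalizer (R : Set G) ≤ Subgroup.normalizer ((P : Subgroup G) : Set G) := by
  classical
  have key : ∀ (k : ℕ) (P Q : Sylow p G), P ≠ Q → Nat.card (P : Subgroup G) - Nat.card ((P : Subgroup G) ⊓ (Q : Subgroup G) : Subgroup G) = k →
      (P : Subgroup G) ⊓ (Q : Subgroup G) = ⊥ := by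
    intro k
    induction k using Nat.strong_induction_on with | _ k ih => ?_
    intro P Q hPQ hk
    by_contra hD
    set D := (P : Subgroup G) ⊓ (Q : Subgroup G) with hDdef
    have hDP : D ≠ (P : Subgroup G) := fun h => hPQ (Sylow.ext (P.3 Q.2 (h ▸ inf_le_right)).symm)
    have hDQ : D ≠ (Q : Subgroup G) := fun h => hPQ (Sylow.ext (Q.3 P.2 (h ▸ inf_le_left)))
    have hNtop : normalizer (D : Set G) ≠ ⊤ := by
      intro h
      have hn : D.Normal := normalizer_eq_top_iff.mp h
      rcases hn.eq_bot_or_eq_top with h' | h'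
      · exact hD h'
      · exact hDP (le_antisymm inf_le_left (h' ▸ le_top))
    set M := normalizer (D : Set G) with hM
    obtain ⟨S⟩ := (inferInstance : Nonempty (Sylow p M))
    haveI := hsub M hNtop S
    have hall : ∀ R : Subgroup G, IsPGroup p R → R ≤ M → R ≤ (S : Subgroup M).map M.subtype := by
      intro R hR hRM x hx
      refine ⟨⟨x, hRM hx⟩, ?_, rfl⟩
      have hRp : IsPGroup p (R.subgroupOf M) := hR.comap_subtype
      obtain ⟨T, hT⟩ := hRp.exists_le_sylow
      obtain ⟨g, hg⟩ := MulAction.exists_smul_eq M S T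
      have hTS : (T : Subgroup M) = S := by
        rw [← hg, Sylow.coe_subgroup_smul]
        exact Cfsg.Agent.Lib.Coprime.conj_smul_of_normal _ g
      exact hTS ▸ hT hx
    obtain ⟨T, hT⟩ := (S.2.map M.subtype).exists_le_sylow
    have hgrow : ∀ R : Sylow p G, D ≤ (R : Subgroup G) → D ≠ (R : Subgroup G) →
        ¬ (R : Subgroup G) ⊓ (T : Subgroup G) ≤ D := by
      intro R hDR hne hle
      refine Cfsg.Agent.Lib.Components.Sig.not_normalizer_inf_le (q := p) R.2 hDR hne ?_
      exact le_trans (le_inf inf_le_right (le_trans (hall _ R.2.to_inf_right inf_le_left) hT)) hle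
    have hT' : ∀ R : Sylow p G, D ≤ (R : Subgroup G) → D ≠ (R : Subgroup G) → R = T := by
      intro R hDR hne
      by_contra hRT
      have hlt : Nat.card D < Nat.card ((R : Subgroup G) ⊓ (T : Subgroup G) : Subgroup G) := by
        have hle : D ≤ (R : Subgroup G) ⊓ (T : Subgroup G) :=
          le_inf hDR ((hall D (P.2.to_inf_left) le_normalizer).trans hT)
        refine lt_of_le_of_ne (card_le_of_le hle) fun h => hgrow R hDR hne (eq_of_le_of_card_ge hle h.ge).ge
      have hcardR : Nat.card (R : Subgroup G) = Nat.card (P : Subgroup G) := by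
        rw [R.card_eq_multiplicity, P.card_eq_multiplicity]
      have h0 := ih _ (by
        have := card_le_of_le (inf_le_left : (R : Subgroup G) ⊓ (T : Subgroup G) ≤ R)
        omega) R T hRT rfl
      rw [h0, card_bot] at hlt
      exact absurd hlt (by have := Nat.card_pos (α := D); omega)
    exact hPQ ((hT' P inf_le_left hDP).trans (hT' Q inf_le_right hDQ).symm)
  refine ⟨fun P Q h => key _ P Q h rfl, fun P R hRP hR g hg => ?_⟩
  have hgP : g • P = P := by
    by_contra hne
    apply hR
    have h := key _ (g • P) P hne rfl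
    rw [eq_bot_iff, ← h]
    refine le_inf ?_ hRP
    rw [Sylow.coe_subgroup_smul]
    intro x hx
    rw [mem_pointwise_smul_iff_inv_smul_mem]
    apply hRP
    have := (mem_normalizer_iff.mp (inv_mem hg) x).mp hx
    simpa [MulAut.smul_def] using this
  exact Sylow.smul_eq_iff_mem_normalizer.mp hgP

end Cfsg.Agent.S3870
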