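import Cfsg.Statements.S4209
import Cfsg.Agent.Lib.GenStruct.Regular

set_option autoImplicit false
open Cfsg

namespace Cfsg.Agent.S4209

/-- A finite `p`-group of nilpotency class less than `p` (the term of index `p - 1` of the lower central series of the whole group, indexed from `0`, is trivial) is a regular `p`-group. -/
theorem result {G : Type*} [Group G] [Finite G] {p : ℕ} [Fact p.Prime] (hG : IsPGroup p G) (hcl : (⊤ : Subgroup G).lowerCentralSeries (p - 1) = ⊥) : Cfsg.IsRegularPGroup p G := by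
  refine Cfsg.Agent.Lib.GenStruct.Regular.regular_of_one hG fun a b => ?_
  set K := Subgroup.closure ({a, b} : Set G) with hK
  have hclK : (⊤ : Subgroup K).lowerCentralSeries (p - 1) = ⊥ := by
    apply Subgroup.map_injective K.subtype_injective
    rw [Subgroup.top_subtype_lowerCentralSeries, Subgroup.map_bot, eq_bot_iff, ← hcl]
    exact Subgroup.lowerCentralSeries_mono (p - 1) le_top
  have haK : a ∈ K := Subgroup.subset_closure (by simp)
  have hbK : b ∈ K := Subgroup.subset_closure (by simp)
  have key := Cfsg.Agent.Lib.GenStruct.power_identity_of_class_lt (Fact.out : p.Prime) hclK ⟨a, haK⟩ ⟨b, hbK⟩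
  refine ⟨(b⁻¹) ^ p * (a⁻¹) ^ p * (a * b) ^ p, ?_, by rw [pow_one]; simp [mul_assoc]⟩
  have h2 := Subgroup.mem_map_of_mem K.subtype key
  rw [MonoidHom.map_closure] at h2
  refine Subgroup.closure_mono ?_ h2
  rintro _ ⟨_, ⟨x, hx, rfl⟩, rfl⟩
  refine ⟨x, ?_, by simp⟩
  show (x : G) ∈ ⁅K, K⁆
  rw [← Subgroup.map_subtype_commutator]
  exact ⟨x, hx, rfl⟩

end Cfsg.Agent.S4209
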