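import Cfsg.Statements.S3872
import Cfsg.Agent.Lib.Coprime.Abelian
import Cfsg.Agent.Lib.GenStruct.Regular
import Cfsg.Agent.S4209
import Cfsg.Agent.S4225

set_option autoImplicit false
open Cfsg

namespace Cfsg.Agent.S3872

open Subgroup

section

theorem closed_iff_mul {G : Type*} [Group G] {p : ℕ}
    (h : ∀ x y : G, x ^ p = 1 → y ^ p = 1 → (x * y) ^ p = 1) :
    ∃ H : Subgroup G, (H : Set G) = {g : G | g ^ p = 1} :=
  ⟨{ carrier := {g : G | g ^ p = 1}
     one_mem' := one_pow p
     mul_mem' := fun {a b} ha hb => h a b ha hb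
     inv_mem' := fun {a} ha => by simp only [Set.mem_setOf_eq] at ha ⊢; rw [inv_pow, ha, inv_one] }, rfl⟩

theorem mul_pow_of_closed {G : Type*} [Group G] {p : ℕ}
    (hc : ∃ H : Subgroup G, (H : Set G) = {g : G | g ^ p = 1}) {x y : G} (hx : x ^ p = 1) (hy : y ^ p = 1) :
    (x * y) ^ p = 1 := by
  obtain ⟨H, hH⟩ := hc
  have h : ∀ g, g ∈ H ↔ g ^ p = 1 := fun g => by rw [← SetLike.mem_coe, hH]; rfl
  exact (h _).mp (H.mul_mem ((h x).mpr hx) ((h y).mpr hy))

theorem main {G : Type*} [Group G] [Finite G] {p : ℕ} [Fact p.Prime] (hG : IsPGroup p G)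
    (hnc : ¬ (∃ H : Subgroup G, (H : Set G) = {g : G | g ^ p = 1}))
    (hsub : ∀ K : Subgroup G, K ≠ ⊤ → (∃ H : Subgroup ↥K, (H : Set ↥K) = {g : ↥K | g ^ p = 1}))
    (hquo : ∀ (N : Subgroup G) [N.Normal], N ≠ ⊥ →
      (∃ H : Subgroup (G ⧸ N), (H : Set (G ⧸ N)) = {g : (G ⧸ N) | g ^ p = 1})) :
    (∃ x y : G, Subgroup.closure ({x, y} : Set G) = ⊤) ∧ (⊤ : Subgroup G).lowerCentralSeries (p - 1) ≠ ⊥ ∧
      Monoid.exponent G = p ^ 2 ∧ IsCyclic ↥(Subgroup.center G) ∧ p ^ (p + 1) ≤ Nat.card G := by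
  have hp : p.Prime := Fact.out
  obtain ⟨x, y, hx, hy, hxy⟩ : ∃ x y : G, x ^ p = 1 ∧ y ^ p = 1 ∧ (x * y) ^ p ≠ 1 := by
    by_contra h
    push Not at h
    exact hnc (closed_iff_mul h)
  have hgen : closure ({x, y} : Set G) = ⊤ := by
    by_contra h
    refine hxy ?_
    have := mul_pow_of_closed (hsub _ h) (x := ⟨x, subset_closure (Set.mem_insert _ _)⟩)
      (y := ⟨y, subset_closure (Set.mem_insert_of_mem _ rfl)⟩) (Subtype.ext hx) (Subtype.ext hy)
    exact congrArg Subtype.val this
  have : Nontrivial G := ⟨⟨x * y, 1, fun h => hxy (by rw [h, one_pow])⟩⟩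
  have hcl : (⊤ : Subgroup G).lowerCentralSeries (p - 1) ≠ ⊥ := by
    intro h
    have hR := Cfsg.Agent.S4209.result hG h
    obtain ⟨H, -, hH⟩ := Cfsg.Agent.S4225.result hR 1
    exact hnc ⟨H, by rw [hH]; simp⟩
  have hquo' : ∀ (N : Subgroup G) [N.Normal], N ≠ ⊥ → ∀ g : G, g ^ p ∈ N := by
    intro N _ hN g
    have hc := hquo N hN
    obtain ⟨H, hH⟩ := hc
    have h : ∀ q, q ∈ H ↔ q ^ p = 1 := fun q => by rw [← SetLike.mem_coe, hH]; rfl
    have hle : (closure ({x, y} : Set G)).map (QuotientGroup.mk' N) ≤ H := by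
      rw [MonoidHom.map_closure, closure_le]
      rintro _ ⟨u, rfl | rfl, rfl⟩ <;>
      · refine (h _).mpr ?_
        rw [← map_pow]; simp [hx, hy]
    have := (h _).mp (hle (mem_map_of_mem _ (hgen ▸ mem_top g)))
    rwa [← map_pow, QuotientGroup.mk'_apply, QuotientGroup.eq_one_iff] at this
  obtain ⟨z, hz⟩ : ∃ z : center G, orderOf z = p := by
    have := hG.center_nontrivial
    refine exists_prime_orderOf_dvd_card' p ((hG.to_subgroup _).card_eq_or_dvd.resolve_left ?_)
    exact (Finite.one_lt_card (α := center G)).ne'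
  have zn : ∀ c ∈ center G, (zpowers c).Normal := fun c hc => ⟨fun m hm g => by
    rwa [mem_center_iff.mp (zpowers_le.mpr hc hm) g, mul_inv_cancel_right]⟩
  have hexp2 : Monoid.exponent G ∣ p ^ 2 := by
    rw [Monoid.exponent_dvd_iff_forall_pow_eq_one]
    intro g
    have := zn _ z.2
    have hne : zpowers (z : G) ≠ ⊥ := by
      rw [Ne, zpowers_eq_bot]; intro e
      rw [OneMemClass.coe_eq_one] at e; rw [e, orderOf_one] at hz; exact hp.one_lt.ne hz
    obtain ⟨k, hk⟩ := mem_zpowers_iff.mp (hquo' _ hne g)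
    have hzp : (z : G) ^ p = 1 := by
      rw [← hz, ← orderOf_coe]; exact pow_orderOf_eq_one _
    rw [sq, pow_mul, ← hk, ← zpow_natCast, ← zpow_mul, mul_comm, zpow_mul, zpow_natCast, hzp, one_zpow]
  have hnexp : ¬ ∀ g : G, g ^ p = 1 := fun h => hxy (h _)
  have hexp : Monoid.exponent G = p ^ 2 := by
    obtain ⟨k, hk, he⟩ := (Nat.dvd_prime_pow hp).mp hexp2
    have : ¬ k ≤ 1 := fun h => hnexp fun g => by
      have h1 : Monoid.exponent G ∣ p := he ▸ (pow_dvd_pow p h).trans (pow_one p).dvd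
      exact Monoid.exponent_dvd_iff_forall_pow_eq_one.mp h1 g
    rw [he]; congr 1; omega
  have hcyc : IsCyclic ↥(center G) := by
    by_contra hnc'
    obtain ⟨r, B, hr, hBc, hBexp, hBcard⟩ := Lib.Coprime.exists_elementary_sq (A := center G) hnc'
    have hBne : B ≠ ⊥ := fun h => by
      rw [h, card_bot] at hBcard; exact (Nat.one_lt_pow two_ne_zero hr.one_lt).ne hBcard
    obtain ⟨b, hb, hb1⟩ := (bot_or_exists_ne_one B).resolve_left hBne
    obtain ⟨c, hc, hcb⟩ : ∃ c ∈ B, c ∉ zpowers b := by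
      by_contra h
      push Not at h
      have h1 := Nat.le_of_dvd Nat.card_pos (card_dvd_of_le (show B ≤ zpowers b from h))
      rw [Nat.card_zpowers, hBcard] at h1
      have h2 := Nat.le_of_dvd hr.pos (orderOf_dvd_of_pow_eq_one (hBexp b hb))
      nlinarith [hr.two_le]
    have n1 := zn b (hBc hb)
    have n2 := zn c (hBc hc)
    refine hnexp fun g => ?_
    obtain ⟨i, hi⟩ := mem_zpowers_iff.mp (hquo' (zpowers b) (by rwa [Ne, zpowers_eq_bot]) g)
    obtain ⟨j, hj⟩ := mem_zpowers_iff.mp (hquo' (zpowers c)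
      (by rw [Ne, zpowers_eq_bot]; exact fun e => hcb (e ▸ one_mem _)) g)
    by_contra hg
    refine hcb ?_
    have hne : zpowers (g ^ p) = zpowers c := by
      refine eq_of_le_of_card_ge (zpowers_le.mpr ⟨j, hj⟩) ?_
      rw [Nat.card_zpowers, Nat.card_zpowers]
      have hc1 : orderOf c ∣ r := orderOf_dvd_of_pow_eq_one (hBexp c hc)
      have h3 : orderOf (g ^ p) ∣ orderOf c := hj ▸ orderOf_dvd_of_mem_zpowers ⟨j, rfl⟩
      rcases (Nat.dvd_prime hr).mp (h3.trans hc1) with h | h
      · exact absurd (orderOf_eq_one_iff.mp h) hg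
      · exact (Nat.le_of_dvd hr.pos hc1).trans h.ge
    have hle : zpowers (g ^ p) ≤ zpowers b := zpowers_le.mpr ⟨i, hi⟩
    exact (hne ▸ hle) (mem_zpowers c)
  refine ⟨⟨x, y, hgen⟩, hcl, hexp, hcyc, ?_⟩
  have key : ∀ i, 1 ≤ i → (⊤ : Subgroup G).lowerCentralSeries i ≠ ⊥ →
      p ^ (i + 1) ≤ ((⊤ : Subgroup G).lowerCentralSeries i).index := by
    intro i
    induction i with
    | zero => intro h; exact absurd h (by norm_num)
    | succ i IH =>
      intro _ hne
      have hlow : ∀ m, ((⊤ : Subgroup G).lowerCentralSeries m).index ≠ 0 := fun m => index_ne_zero_of_finite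
      rcases Nat.eq_zero_or_pos i with rfl | hi
      · obtain ⟨e, he⟩ := (Nat.dvd_prime_pow hp).mp
          ((IsPGroup.iff_card.mp hG).choose_spec ▸ index_dvd_card ((⊤ : Subgroup G).lowerCentralSeries 1))
        rw [he.2]
        refine Nat.pow_le_pow_right hp.pos (Nat.le_of_not_lt fun he2 => hne ?_)
        have hcycq : IsCyclic (G ⧸ commutator G) := by
          have hcard : Nat.card (G ⧸ commutator G) ∣ p := by
            rw [← index_eq_card, ← top_lowerCentralSeries_one, he.2]
            exact (pow_dvd_pow p (Nat.lt_succ_iff.mp he2)).trans (pow_one p).dvd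
          rcases (Nat.dvd_prime hp).mp hcard with h | h
          · have : Subsingleton (G ⧸ commutator G) := (Nat.card_eq_one_iff_unique.mp h).1
            infer_instance
          · exact isCyclic_of_prime_card h
        exfalso
        obtain ⟨g, hg⟩ := hcycq.exists_generator
        obtain ⟨g, rfl⟩ := QuotientGroup.mk'_surjective (commutator G) g
        have htop : zpowers g = ⊤ := by
          refine Lib.GenStruct.Regular.eq_top_of_sup_commutator hG (top_unique fun u _ => ?_)
          obtain ⟨k, hk⟩ := mem_zpowers_iff.mp (hg (QuotientGroup.mk' _ u))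
          rw [← map_zpow, QuotientGroup.mk'_eq_mk'] at hk
          obtain ⟨z, hz, rfl⟩ := hk
          exact mul_mem (mem_sup_left ⟨k, rfl⟩) (mem_sup_right hz)
        refine hxy ?_
        obtain ⟨i, hi⟩ := mem_zpowers_iff.mp (htop ▸ mem_top x : x ∈ zpowers g)
        obtain ⟨j, hj⟩ := mem_zpowers_iff.mp (htop ▸ mem_top y : y ∈ zpowers g)
        have hcom : Commute x y := hi ▸ hj ▸ ((Commute.refl g).zpow_zpow i j)
        rw [hcom.mul_pow, hx, hy, one_mul]
      · have hne' : (⊤ : Subgroup G).lowerCentralSeries i ≠ ⊥ := fun h =>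
          hne (le_bot_iff.mp (h ▸ Subgroup.lowerCentralSeries_antitone _ (Nat.le_succ i)))
        have hlt : (⊤ : Subgroup G).lowerCentralSeries (i + 1) < (⊤ : Subgroup G).lowerCentralSeries i := by
          refine lt_of_le_of_ne (Subgroup.lowerCentralSeries_antitone _ (Nat.le_succ i)) fun he => hne ?_
          have hstab : ∀ m, (⊤ : Subgroup G).lowerCentralSeries (i + m) =
              (⊤ : Subgroup G).lowerCentralSeries i := by
            intro m
            induction m with
            | zero => rfl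
            | succ m ih => rw [← Nat.add_assoc, Subgroup.lowerCentralSeries_succ, ih, ← Subgroup.lowerCentralSeries_succ, he]
          obtain ⟨n, hn⟩ := Subgroup.nilpotent_iff_lowerCentralSeries.mp hG.isNilpotent
          have := Subgroup.lowerCentralSeries_antitone (⊤ : Subgroup G) (Nat.le_add_left n i)
          rw [hn, hstab, ← he] at this
          exact le_bot_iff.mp this
        have hrel := relIndex_mul_index hlt.le
        have h2 : p ≤ ((⊤ : Subgroup G).lowerCentralSeries (i + 1)).relIndex ((⊤ : Subgroup G).lowerCentralSeries i) := by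
          refine Nat.le_of_dvd (Nat.pos_of_ne_zero index_ne_zero_of_finite) ?_
          obtain ⟨e, he⟩ := IsPGroup.iff_card.mp (hG.to_subgroup ((⊤ : Subgroup G).lowerCentralSeries i))
          obtain ⟨m, -, hm⟩ := (Nat.dvd_prime_pow hp).mp (he ▸ relIndex_dvd_card _ _)
          rw [hm]
          refine dvd_pow_self p fun h0 => hlt.not_ge (relIndex_eq_one.mp ?_)
          rw [hm, h0, pow_zero]
        rw [← hrel, pow_succ']
        exact Nat.mul_le_mul h2 (IH hi hne')
  have h1 := key (p - 1) (by have := hp.two_le; omega) hcl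
  have h2 : p ≤ Nat.card ((⊤ : Subgroup G).lowerCentralSeries (p - 1)) := by
    rcases (hG.to_subgroup _).card_eq_or_dvd with h | h
    · exact absurd (card_eq_one.mp h) hcl
    · exact Nat.le_of_dvd Nat.card_pos h
  rw [← card_mul_index ((⊤ : Subgroup G).lowerCentralSeries (p - 1)), pow_succ']
  refine Nat.mul_le_mul h2 (le_trans ?_ h1)
  rw [Nat.sub_add_cancel hp.pos]

end

/-- Say that a finite group is p-exponent closed when its elements of order dividing p form a subgroup. Let G be a finite p-group that is not p-exponent closed, but all of whose proper subgroups and proper quotients are. Then G is generated by two elements, has nilpotency class at least p, has exponent p², has cyclic center, and has order at least p^(p+1). -/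
theorem result {G : Type*} [Group G] [Finite G] {p : ℕ} [Fact p.Prime] (hG : IsPGroup p G)
    (hnc : ¬ (∃ H : Subgroup G, (H : Set G) = {g : G | g ^ p = 1})) (hsub : ∀ K : Subgroup G, K ≠ ⊤ → (∃ H : Subgroup ↥K, (H : Set ↥K) = {g : ↥K | g ^ p = 1}))
    (hquo : ∀ (N : Subgroup G) [N.Normal], N ≠ ⊥ → (∃ H : Subgroup (G ⧸ N), (H : Set (G ⧸ N)) = {g : (G ⧸ N) | g ^ p = 1})) :
    (∃ x y : G, Subgroup.closure ({x, y} : Set G) = ⊤) ∧ (⊤ : Subgroup G).lowerCentralSeries (p - 1) ≠ ⊥ ∧
      Monoid.exponent G = p ^ 2 ∧ IsCyclic ↥(Subgroup.center G) ∧ p ^ (p + 1) ≤ Nat.card G := by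
  exact main hG hnc hsub hquo

end Cfsg.Agent.S3872
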