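import Cfsg.Statements.S3873
import Mathlib
import Cfsg.Agent.Lib.Struct22.MinNonClosed

set_option autoImplicit false
open Cfsg

namespace Cfsg.Agent.S3873

open Subgroup

/-- Say that a finite group is p-exponent closed when its elements of order dividing p form a subgroup. Let G be a finite group that is not p-exponent closed, but all of whose proper subgroups and proper quotients are, and suppose G is neither simple nor a p-group. Then there is a prime q ≠ p such that G has order p · q^e, where e is the multiplicative order of q modulo p, and G has a normal elementary abelian subgroup of order q^e that is a minimal normal subgroup of G. -/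
theorem result {G : Type*} [Group G] [Finite G] {p : ℕ} [Fact p.Prime]
    (hnc : ¬ (∃ H : Subgroup G, (H : Set G) = {g : G | g ^ p = 1})) (hsub : ∀ K : Subgroup G, K ≠ ⊤ → (∃ H : Subgroup ↥K, (H : Set ↥K) = {g : ↥K | g ^ p = 1}))
    (hquo : ∀ (N : Subgroup G) [N.Normal], N ≠ ⊥ → (∃ H : Subgroup (G ⧸ N), (H : Set (G ⧸ N)) = {g : (G ⧸ N) | g ^ p = 1}))
    (hns : ¬ IsSimpleGroup G) (hnp : ¬ IsPGroup p G) :
    ∃ q : ℕ, q.Prime ∧ q ≠ p ∧ Nat.card G = p * q ^ orderOf (q : ZMod p) ∧
      ∃ A : Subgroup G, A.Normal ∧ Nat.card ↥A = q ^ orderOf (q : ZMod p) ∧ Cfsg.IsElementaryAbelian q A ∧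
        ∀ B : Subgroup G, B.Normal → B ≤ A → B = ⊥ ∨ B = A := by
  classical
  have hp : p.Prime := Fact.out
  have hnt : Nontrivial G := by
    by_contra h
    rw [not_nontrivial_iff_subsingleton] at h
    exact hnp fun g => ⟨0, Subsingleton.elim _ _⟩
  set L := closure {g : G | g ^ p = 1} with hL
  have hLtop : L = ⊤ := by
    by_contra hne
    obtain ⟨H, hH⟩ := hsub L hne
    apply hnc
    refine ⟨H.map L.subtype, Set.ext fun g => ⟨?_, fun hg => ?_⟩⟩
    · rintro ⟨y, hy, rfl⟩
      have : y ^ p = 1 := hH.le hy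
      exact congrArg Subtype.val this
    · exact ⟨⟨g, subset_closure hg⟩, hH.ge (Subtype.ext hg : (⟨g, subset_closure hg⟩ : L) ^ p = 1), rfl⟩
  have hexp : ∀ (N : Subgroup G) [N.Normal], N ≠ ⊥ → ∀ z : G ⧸ N, z ^ p = 1 := by
    intro N _ hN z
    obtain ⟨H, hH⟩ := hquo N hN
    have hle : L ≤ H.comap (QuotientGroup.mk' N) := by
      rw [hL, closure_le]
      intro g hg
      exact hH.ge (show (QuotientGroup.mk' N g) ^ p = 1 by rw [← map_pow, show g ^ p = 1 from hg, map_one])
    obtain ⟨g, rfl⟩ := QuotientGroup.mk'_surjective N z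
    exact hH.le (hle (hLtop.ge (mem_top g)))
  have hOp : ∀ R : Subgroup G, R.Normal → IsPGroup p R → R = ⊥ := by
    intro R hR hRp
    haveI := hR
    by_contra hne
    apply hnp
    intro g
    obtain ⟨k, hk⟩ := hRp ⟨g ^ p, (QuotientGroup.eq_one_iff _).mp
      ((map_pow (QuotientGroup.mk' R) g p).trans (hexp R hne _))⟩
    refine ⟨k + 1, ?_⟩
    rw [pow_succ', pow_mul]
    exact congrArg Subtype.val hk
  have hnor : ∀ M : Subgroup G, M.Normal → M ≠ ⊤ → ¬ p ∣ Nat.card M := by
    intro M hM hne hd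
    obtain ⟨H, hH⟩ := hsub M hne
    obtain ⟨y, hy⟩ := exists_prime_orderOf_dvd_card' p hd
    have hyH : y ∈ H := hH.ge (show y ^ p = 1 by rw [← hy, pow_orderOf_eq_one])
    have hHp : IsPGroup p H := fun z => ⟨1, Subtype.ext (by simpa using hH.le z.2)⟩
    have hbot : H.map M.subtype = ⊥ := by
      refine hOp _ ⟨?_⟩ (hHp.map _)
      · rintro _ ⟨z, hz, rfl⟩ g
        refine ⟨⟨g * z * g⁻¹, hM.conj_mem _ z.2 g⟩, hH.ge ?_, rfl⟩
        have hz' : z ^ p = 1 := hH.le hz
        exact Subtype.ext (by simp [conj_pow, show (z : G) ^ p = 1 from congrArg Subtype.val hz'])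
    rw [map_eq_bot_iff_of_injective _ M.subtype_injective] at hbot
    rw [hbot, mem_bot] at hyH
    rw [hyH, orderOf_one] at hy
    exact hp.ne_one hy.symm
  obtain ⟨N, hNn, hN, -, hmin⟩ := Cfsg.Agent.Lib.Hall.exists_minimal_normal_le (G := G) (N := ⊤) top_ne_bot
  haveI := hNn
  have hNtop : N ≠ ⊤ := by
    intro h
    apply hns
    exact { eq_bot_or_eq_top_of_normal := fun H hH => h ▸ hmin H hH (h ▸ le_top) }
  have hcop := hnor N hNn hNtop
  have hquot : IsPGroup p (G ⧸ N) := fun z => ⟨1, by rw [pow_one]; exact hexp N hN z⟩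
  obtain ⟨m, hm⟩ := IsPGroup.iff_card.mp hquot
  have hidx : N.index = p := by
    have hm0 : m ≠ 0 := fun h => hNtop (index_eq_one.mp (by rw [index_eq_card, hm, h, pow_zero]))
    by_contra hne
    rw [index_eq_card, hm] at hne
    have hm2 : 1 < m := by
      rcases Nat.lt_or_ge 1 m with h | h
      · exact h
      · exact absurd (by rw [show m = 1 by omega, pow_one]) hne
    obtain ⟨K, hK⟩ := Sylow.exists_subgroup_card_pow_prime p (n := m - 1) (G := G ⧸ N) (hm ▸ pow_dvd_pow p (Nat.sub_le m 1))
    have hKidx : K.index = p := by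
      have := K.card_mul_index
      rw [hK, hm, show p ^ m = p ^ (m - 1) * p by rw [← pow_succ, show m - 1 + 1 = m by omega]] at this
      exact Nat.eq_of_mul_eq_mul_left (pow_pos hp.pos _) this
    have hKn : K.Normal := normal_of_index_eq_minFac_card (by
      rw [hm, hp.pow_minFac (by omega)]; exact hKidx)
    refine hnor (K.comap (QuotientGroup.mk' N)) (hKn.comap _) ?_ ?_
    · intro h
      have := congrArg Subgroup.index h
      rw [index_comap_of_surjective _ (QuotientGroup.mk'_surjective N), hKidx, index_top] at this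
      exact hp.ne_one this
    · have h1 := (K.comap (QuotientGroup.mk' N)).index_mul_card
      rw [index_comap_of_surjective _ (QuotientGroup.mk'_surjective N), hKidx, ← N.index_mul_card, index_eq_card, hm,
        show p ^ m = p * p ^ (m - 1) by rw [← pow_succ', show m - 1 + 1 = m by omega], mul_assoc] at h1
      rw [Nat.eq_of_mul_eq_mul_left hp.pos h1]
      exact dvd_mul_of_dvd_left (dvd_pow_self p (by omega)) _
  refine Cfsg.Agent.Lib.Struct22.structure_of_index_prime N hN hmin hidx hcop ?_ ?_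
  · intro Q hQ hQn
    apply hp.ne_one
    rw [← hQ, hOp Q hQn (IsPGroup.of_card (n := 1) (by rw [hQ, pow_one])), card_bot]
  · intro H hH Q hQ hQH
    obtain ⟨W, hW⟩ := hsub H hH
    have hWp : IsPGroup p W := fun z => ⟨1, by
      have := hW.le z.2
      exact Subtype.ext (by simpa using this)⟩
    have hQW : Q.subgroupOf H ≤ W := fun z hz => hW.ge (by
      have h1 : (⟨(z : G), hz⟩ : Q) ^ p = 1 := hQ ▸ pow_card_eq_one'
      exact Subtype.ext (congrArg (Subtype.val : Q → G) h1))
    obtain ⟨k, hk⟩ := IsPGroup.iff_card.mp hWp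
    have hk1 : k ≤ 1 := by
      by_contra hk1
      have h1 : p ^ 2 ∣ Nat.card G :=
        (pow_dvd_pow p (show 2 ≤ k by omega)).trans (hk ▸ (card_subgroup_dvd_card W).trans (card_subgroup_dvd_card H))
      rw [← N.index_mul_card, hidx, pow_two] at h1
      exact hcop ((Nat.mul_dvd_mul_iff_left hp.pos).mp h1)
    have hWQ : Q.subgroupOf H = W := by
      refine eq_of_le_of_card_ge hQW ?_
      rw [Cfsg.Agent.Lib.Coprime.card_subgroupOf hQH, hQ, hk]
      exact (Nat.pow_le_pow_right hp.pos hk1).trans (pow_one p).le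
    refine (normal_subgroupOf_iff_le_normalizer hQH).mp ⟨fun z hz g => ?_⟩
    rw [hWQ] at hz ⊢
    refine hW.ge ?_
    show (g * z * g⁻¹) ^ p = 1
    rw [conj_pow, show z ^ p = 1 from hW.le hz, mul_one, mul_inv_cancel]

end Cfsg.Agent.S3873
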