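import Cfsg.Statements.S3875
import Cfsg.Agent.Lib.DefectOne.Principal
import Cfsg.Agent.Lib.SmallSimple.Basic
import Cfsg.Agent.Lib.Brauer43.Basic
import Cfsg.Agent.Lib.Coprime.Action
import Cfsg.Agent.Lib.Classical.Order
import Cfsg.Agent.Lib.Block.Exist
import Mathlib

set_option autoImplicit false
open Cfsg

namespace Cfsg.Agent.S3875

set_option linter.unusedSectionVars false
set_option linter.style.haveILetI false

section simpleCase

open Cfsg.Agent.Lib Cfsg.Agent.Lib.Char Cfsg.Agent.Lib.Char.UC Cfsg.Agent.Lib.DefectOne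

variable {G : Type} [Group G] [Finite G] {p : ℕ} [Fact p.Prime]

theorem simple_case [IsSimpleGroup G] (hp : p ≠ 2) (hG : ¬ IsMulCommutative G) (P : Sylow p G)
    (hdvd : p ∣ Nat.card G) (hlt : Nat.card G < p * (p ^ 2 - 1) / 2) : False := by
  classical
  haveI := Fintype.ofFinite G
  have hpp : p.Prime := Fact.out
  have hp3 : 3 ≤ p := by have := hpp.two_le; omega
  have hlt2 : 2 * Nat.card G + 2 ≤ p * (p ^ 2 - 1) + 1 := by omega
  have hnn : ¬ (P : Subgroup G).Normal := by
    intro hn
    rcases hn.eq_bot_or_eq_top with hb | ht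
    · have := P.ne_bot_of_dvd_card hdvd
      exact this hb
    · apply hG
      have hgp : IsPGroup p G := by
        intro g
        obtain ⟨k, hk⟩ := P.2 ⟨g, by rw [ht]; trivial⟩
        exact ⟨k, by simpa using congrArg Subtype.val hk⟩
      haveI : Nontrivial G := IsSimpleGroup.toNontrivial
      haveI := hgp.center_nontrivial
      rcases (inferInstance : (Subgroup.center G).Normal).eq_bot_or_eq_top with hb | htop
      · exact absurd hb (Subgroup.nontrivial_iff_ne_bot _ |>.1 inferInstance)
      · exact ⟨⟨fun a b => (Subgroup.mem_center_iff.1 (htop ▸ Subgroup.mem_top b) a)⟩⟩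
  set n := (N P).index with hn_def
  have hn1 : n % p = 1 := by
    have h := card_sylow_modEq_one p G
    rw [Sylow.card_eq_index_normalizer P] at h
    have h' : n % p = 1 % p := h
    rwa [Nat.one_mod_eq_one.2 hpp.ne_one] at h'
  have hn2 : n ≠ 1 := fun h => hnn (Subgroup.normalizer_eq_top_iff.1 (Subgroup.index_eq_one.1 h))
  have hnp : p + 1 ≤ n := by
    have h := Nat.div_add_mod n p
    rw [hn1] at h
    rcases Nat.eq_zero_or_pos (n / p) with h0 | h0
    · rw [h0] at h; omega
    · have : p ≤ p * (n / p) := Nat.le_mul_of_pos_right p h0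
      omega
  set e := (C P).relIndex (N P) with he_def
  have he2 : 2 ≤ e := by
    have h0 : e ≠ 0 := Subgroup.index_ne_zero_of_finite
    have h1 : e ≠ 1 := fun h => SmallSimple.not_normalizer_le_centralizer hG P hdvd (Subgroup.relIndex_eq_one.1 h)
    omega
  have hcardG : Nat.card G = Nat.card (C P) * e * n := by
    rw [he_def, hn_def, mul_assoc, Subgroup.relIndex_mul_index (C_le_N P), Subgroup.card_mul_index]
  have hNcard : Nat.card (C P) * e = Nat.card (N P) := by
    rw [he_def, Subgroup.relIndex, ← Subgroup.card_mul_index ((C P).subgroupOf (N P))]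
    rw [Nat.card_congr (Subgroup.subgroupOfEquivOfLe (C_le_N P)).toEquiv]
  obtain ⟨a, ha⟩ := (P.2).exists_card_eq
  have hsq : p * (p ^ 2 - 1) ≤ p ^ 3 := by
    rw [pow_succ' p 2]; exact Nat.mul_le_mul_left _ (Nat.sub_le _ _)
  have hPp : Nat.card (P : Subgroup G) = p := by
    match a, ha with
    | 0, h =>
      exfalso; rw [pow_zero] at h
      exact P.ne_bot_of_dvd_card hdvd (Subgroup.card_eq_one.1 h)
    | 1, h => rw [h, pow_one]
    | 2, h =>
      exfalso
      have hcomm : ∀ x y : (P : Subgroup G), x * y = y * x :=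
        IsPGroup.commutative_of_card_eq_prime_sq h
      have hPC : (P : Subgroup G) ≤ C P := by
        intro x hx
        rw [Subgroup.mem_centralizer_iff]
        intro y hy
        exact congrArg Subtype.val (hcomm ⟨y, hy⟩ ⟨x, hx⟩)
      have h2 : p ^ 2 ≤ Nat.card (C P) := h ▸ Subgroup.card_le_of_le hPC
      have h3 : p ^ 2 * 2 * (p + 1) ≤ Nat.card G := by
        rw [hcardG]; exact Nat.mul_le_mul (Nat.mul_le_mul h2 he2) hnp
      have h4 : p ^ 2 * 2 * (p + 1) = 2 * p ^ 3 + 2 * p ^ 2 := by ring
      omega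
    | a + 3, h =>
      exfalso
      have hPN : Nat.card (P : Subgroup G) ≤ Nat.card (N P) :=
        Subgroup.card_le_of_le Subgroup.le_normalizer
      have h3 : p ^ 3 * (p + 1) ≤ Nat.card G := by
        rw [hcardG, hNcard]
        exact Nat.mul_le_mul (le_trans (le_trans (Nat.pow_le_pow_right hpp.pos (by omega)) h.ge) hPN) hnp
      have h4 : p ^ 3 * (p + 1) = p ^ 3 * p + p ^ 3 := by ring
      omega
  have hPC : (P : Subgroup G) ≤ C P := le_C (star_of_card hPp)
  obtain ⟨c, hc⟩ : p ∣ Nat.card (C P) := by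
    have h := Subgroup.card_dvd_of_le hPC
    rwa [hPp] at h
  have hc0 : 0 < c := by
    rcases Nat.eq_zero_or_pos c with h | h
    · rw [h, mul_zero] at hc; exact absurd hc Nat.card_pos.ne'
    · exact h
  have hGM : Nat.card G = p * (c * e * n) := by rw [hcardG, hc]; ring
  set f := c * e with hf_def
  have hM : 2 * (f * n) < p ^ 2 - 1 := by
    have : p * (2 * (f * n)) < p * (p ^ 2 - 1) := by
      have : p * (2 * (f * n)) = 2 * Nat.card G := by rw [hGM]; ring
      omega
    exact Nat.lt_of_mul_lt_mul_left this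
  have hf : 2 * f + 1 < p := by
    have h1 : (p - 1) * (p + 1) = p ^ 2 - 1 := by
      obtain ⟨q, rfl⟩ : ∃ q, p = q + 1 := ⟨p - 1, by omega⟩
      rw [Nat.add_sub_cancel]
      have : (q + 1) ^ 2 = q * (q + 1 + 1) + 1 := by ring
      omega
    have h2 : 2 * f * (p + 1) < (p - 1) * (p + 1) := by
      rw [h1]; calc
        2 * f * (p + 1) ≤ 2 * f * n := Nat.mul_le_mul_left _ hnp
        _ = 2 * (f * n) := by ring
        _ < _ := hM
    have := Nat.lt_of_mul_lt_mul_right h2
    omega
  have hef : e ≤ f := Nat.le_mul_of_pos_left e hc0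
  obtain ⟨M, hMod⟩ := Block.exists_isPModular (p := p) hpp
  haveI := hMod.2.1
  obtain ⟨-, Z, Y, sgn, ε, hB, hd, hZ, hY, hε, hZv, hYv, -, hrel⟩ := principal_structure hMod hPp
  rw [← he_def] at hZ hY hYv
  have hperf : commutator G = ⊤ := by
    rcases (inferInstance : (commutator G).Normal).eq_bot_or_eq_top with h | h
    · have ht := (commutator_eq_bot_iff_center_eq_top G).1 h
      exact absurd ⟨⟨fun a b => Subgroup.mem_center_iff.1 (ht ▸ Subgroup.mem_top b) a⟩⟩ hG
    · exact h
  have hone1 : ∀ χ : IrrCharacter G, charDegree (χ : G → ℂ) = 1 → χ = Block.oneIrr G := by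
    intro χ h1
    obtain ⟨l, hl⟩ := exists_hom_of_degree_one (isCharacter_of_isIrr χ.2)
      (by rw [apply_one_eq_charDegree (isCharacter_of_isIrr χ.2), h1, Nat.cast_one])
    exact Subtype.ext (funext fun g => by
      rw [hl g, Brauer43.perfect_hom_trivial hperf l g, Units.val_one, Block.oneIrr_apply])
  have hdeg1 : charDegree (Block.oneIrr G : G → ℂ) = 1 := charDegree_one
  have hsmall : ∀ z : ℤ, (p : ℤ) ∣ z → z.natAbs < p → z = 0 := fun z h1 h2 =>
    Int.eq_zero_of_dvd_of_natAbs_lt_natAbs h1 (by simpa using h2)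
  have hmem1 : Block.oneIrr G ∈ Z := by
    have hmem : Block.oneIrr G ∈ principalBlock M G := Block.oneIrr_mem
    rw [hB] at hmem
    refine hmem.resolve_right fun hy => ?_
    have h := (hYv _ hy).dvd
    rw [hdeg1] at h
    rcases hε with h' | h' <;> rw [h'] at h <;> have := hsmall _ h (by omega) <;> omega
  have hsgn1 : sgn (Block.oneIrr G) = 1 := by
    obtain ⟨hs, hcg, -⟩ := hZv _ hmem1
    rcases hs with h | h
    · exact h
    · exfalso
      have h2 := hcg.dvd
      rw [hdeg1, h] at h2
      have := hsmall _ h2 (by omega)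
      omega
  have hkey : ∀ χ ∈ Z, χ ≠ Block.oneIrr G → sgn χ = 1 ∧ charDegree (χ : G → ℂ) = n := by
    intro χ hχ hne
    obtain ⟨hs, hcg, -⟩ := hZv χ hχ
    set d := charDegree (χ : G → ℂ) with hd_def
    have hd0 : 0 < d := charDegree_pos χ.2
    have hd1 : d ≠ 1 := fun h => hne (hone1 χ h)
    have hdd : d ∣ p * (f * n) := by
      rw [show p * (f * n) = Nat.card G by rw [hGM]]
      exact charDegree_dvd_card χ.2
    have hcd := hcg.dvd
    have hco : Nat.Coprime d p := by
      rw [Nat.coprime_comm, hpp.coprime_iff_not_dvd]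
      intro h
      have h1 : (p : ℤ) ∣ sgn χ := by
        have h2 : (p : ℤ) ∣ (d : ℤ) := Int.natCast_dvd_natCast.2 h
        simpa using dvd_add hcd h2
      rcases hs with h' | h' <;> rw [h'] at h1 <;> have := hsmall _ h1 (by omega) <;> omega
    obtain ⟨q, hq⟩ := hco.dvd_of_dvd_mul_left hdd
    have hnz : (p : ℤ) ∣ (n : ℤ) - 1 := by
      refine ⟨((n / p : ℕ) : ℤ), ?_⟩
      have h9 := Nat.div_add_mod n p
      rw [hn1] at h9
      have h10 : ((p : ℤ) * ((n / p : ℕ) : ℤ) + 1) = (n : ℤ) := by exact_mod_cast h9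
      linarith
    have hqf : (p : ℤ) ∣ sgn χ * (q : ℤ) - (f : ℤ) := by
      have e1 : (f : ℤ) * n = d * q := by exact_mod_cast hq
      have : sgn χ * (q : ℤ) - f = (sgn χ - (d : ℤ)) * q + f * ((n : ℤ) - 1) := by
        linear_combination -e1
      rw [this]
      exact dvd_add (hcd.mul_right _) (hnz.mul_left _)
    rcases hs with h' | h'
    · refine ⟨h', ?_⟩
      rw [h', one_mul] at hqf
      rw [h'] at hcd
      have hdp : p + 1 ≤ d := by
        by_contra hlt'
        have := hsmall _ hcd (by omega)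
        omega
      have hqp : q < p := by
        by_contra hqp
        push Not at hqp
        have h5 : (p + 1) * p ≤ d * q := Nat.mul_le_mul hdp hqp
        have : (p + 1) * p = p ^ 2 + p := by ring
        omega
      have := hsmall _ hqf (by omega)
      have hqeq : q = f := by omega
      rw [hqeq, mul_comm d f] at hq
      exact (Nat.eq_of_mul_eq_mul_left (by omega) hq).symm
    · exfalso
      rw [h'] at hqf hcd
      have hdp : p - 1 ≤ d := by
        by_contra hlt'
        have := hsmall _ hcd (by omega)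
        omega
      have hqp : p ≤ q + f := by
        by_contra hlt'
        have := hsmall _ hqf (by omega)
        omega
      have hpq : (p - 1) * (p - f) ≤ d * q := Nat.mul_le_mul hdp (by omega)
      have hge : p + 1 ≤ 2 * (p - f) := by omega
      have h6 : (p - 1) * (p + 1) ≤ 2 * ((p - 1) * (p - f)) := by
        calc (p - 1) * (p + 1) ≤ (p - 1) * (2 * (p - f)) := Nat.mul_le_mul_left _ hge
          _ = _ := by ring
      have h7 : (p - 1) * (p + 1) + 1 = p ^ 2 := by
        obtain ⟨t, rfl⟩ : ∃ t, p = t + 1 := ⟨p - 1, by omega⟩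
        rw [Nat.add_sub_cancel]; ring
      omega
  obtain ⟨ψ, hψ⟩ : Y.Nonempty := Finset.card_pos.1 (by rw [hY]; exact Nat.div_pos (by omega) (by omega))
  have hsum : (ε : ℤ) * charDegree (ψ : G → ℂ) =
      ∑ χ ∈ Z, sgn χ * (charDegree (χ : G → ℂ) : ℤ) := by
    have h := hrel ψ hψ 1 (by rw [orderOf_one]; exact hpp.not_dvd_one)
    simp only [apply_one_eq_charDegree (isCharacter_of_isIrr ψ.2),
      fun χ : IrrCharacter G => apply_one_eq_charDegree (isCharacter_of_isIrr χ.2)] at h
    exact_mod_cast h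
  rw [← Finset.add_sum_erase Z _ hmem1, hsgn1, hdeg1,
    Finset.sum_congr rfl (g := fun _ => (n : ℤ)) (fun χ hχ => by
      obtain ⟨h1, h2⟩ := hkey χ (Finset.mem_of_mem_erase hχ) (Finset.ne_of_mem_erase hχ)
      rw [h1, h2, one_mul]), Finset.sum_const, Finset.card_erase_of_mem hmem1, hZ,
    Nat.cast_one, mul_one, nsmul_eq_mul] at hsum
  have hd : charDegree (ψ : G → ℂ) = 1 + (e - 1) * n := by
    rcases hε with h | h <;> rw [h] at hsum
    · rw [one_mul] at hsum; exact_mod_cast hsum
    · exfalso
      have h2 : (0 : ℤ) ≤ ((e - 1 : ℕ) : ℤ) * n := by positivity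
      omega
  have hψd : charDegree (ψ : G → ℂ) ∣ p * (f * n) := by
    rw [show p * (f * n) = Nat.card G by rw [hGM]]
    exact charDegree_dvd_card ψ.2
  rw [hd] at hψd
  have hcp : Nat.Coprime (1 + (e - 1) * n) p := by
    rw [Nat.coprime_comm, hpp.coprime_iff_not_dvd]
    intro h
    have h1 : (1 + (e - 1) * n) % p = e % p := by
      rw [Nat.add_mod, Nat.mul_mod, hn1, mul_one, Nat.mod_mod, ← Nat.add_mod]
      congr 1; omega
    rw [Nat.mod_eq_zero_of_dvd h, Nat.mod_eq_of_lt (show e < p by omega)] at h1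
    omega
  have hcn : Nat.Coprime (1 + (e - 1) * n) n := by simp
  have hfin : 1 + (e - 1) * n ∣ f := hcn.dvd_of_dvd_mul_right (hcp.dvd_of_dvd_mul_left hψd)
  have h1 := Nat.le_of_dvd (by omega) hfin
  have h2 : n ≤ (e - 1) * n := Nat.le_mul_of_pos_left n (by omega)
  omega

end simpleCase

theorem eq_bot_of_normal {p : ℕ} [Fact p.Prime] {H : Type} [Group H] [Finite H]
    (hnc : ¬ Cfsg.IsPClosed p H)
    (hquo : ∀ (N : Subgroup H) [N.Normal], N ≠ ⊥ → Cfsg.IsPClosed p (H ⧸ N))
    (Q : Subgroup H) [Q.Normal] (hQ : IsPGroup p Q) : Q = ⊥ := by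
  by_contra hne
  refine hnc fun P => ?_
  have hQP : Q ≤ (P : Subgroup H) := by
    obtain ⟨S, hS⟩ := hQ.exists_le_sylow
    obtain ⟨g, hg⟩ := MulAction.exists_smul_eq H S P
    intro x hx
    rw [← hg, Sylow.coe_subgroup_smul]
    have : g⁻¹ * x * g ∈ Q := by
      simpa using (inferInstance : Q.Normal).conj_mem x hx g⁻¹
    refine Subgroup.mem_map.2 ⟨_, hS this, ?_⟩
    simp [mul_assoc]
  have h := hquo Q hne (P.mapSurjective (QuotientGroup.mk'_surjective Q))
  rw [Sylow.coe_mapSurjective] at h
  have h2 := h.comap (QuotientGroup.mk' Q)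
  rwa [Subgroup.comap_map_eq, QuotientGroup.ker_mk', sup_eq_left.2 hQP] at h2

theorem normal_of_sylow_le {p : ℕ} [Fact p.Prime] {H : Type} [Group H] [Finite H]
    (P : Sylow p H) (L : Subgroup H) [L.Normal] (hPL : (P : Subgroup H) ≤ L)
    (hcl : Cfsg.IsPClosed p L) : (P : Subgroup H).Normal := by
  have hn : ((P.subtype hPL : Sylow p L) : Subgroup L).Normal := hcl _
  haveI := (P.subtype hPL).characteristic_of_normal hn
  have h2 : ((((P.subtype hPL : Sylow p L) : Subgroup L)).map L.subtype).Normal := inferInstance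
  rwa [Sylow.coe_subtype, Subgroup.subgroupOf_map_subtype, inf_eq_left.2 hPL] at h2

theorem normal_case {p : ℕ} [Fact p.Prime] {H : Type} [Group H] [Finite H] (m : ℕ)
    (hleast : ∀ k : ℕ, IsPrimePow k → k % p = 1 → m ≤ k)
    (N : Subgroup H) [N.Normal] (hN : ¬ p ∣ Nat.card N) (P : Sylow p H)
    (hPn : ¬ (P : Subgroup H).Normal)
    (hsup : (P : Subgroup H) ⊔ N = ⊤) : p * m ≤ Nat.card H := by
  classical
  have hpp : p.Prime := Fact.out
  have hPbot : (P : Subgroup H) ≠ ⊥ := fun h => hPn (h ▸ inferInstance)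
  obtain ⟨a, ha⟩ := (P.2).exists_card_eq
  have hcop : (Nat.card (P : Subgroup H)).Coprime (Nat.card N) := by
    rw [ha]; exact ((hpp.coprime_iff_not_dvd).2 hN).pow_left a
  have hcard : Nat.card H = Nat.card (P : Subgroup H) * Nat.card N := by
    refine (Subgroup.IsComplement'.card_mul ?_).symm
    refine Subgroup.isComplement'_of_disjoint_and_mul_eq_univ ?_ ?_
    · rw [disjoint_iff]
      exact Subgroup.card_eq_one.1 (Nat.eq_one_of_dvd_coprimes hcop
        (Subgroup.card_dvd_of_le inf_le_left) (Subgroup.card_dvd_of_le inf_le_right))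
    · rw [← Subgroup.mul_normal, hsup, Subgroup.coe_top]
  have hP1 : p ≤ Nat.card (P : Subgroup H) := by
    rw [ha]
    refine Nat.le_self_pow ?_ p
    rintro rfl
    rw [pow_zero] at ha
    exact hPbot (Subgroup.card_eq_one.1 ha)
  set n := (Subgroup.normalizer ((P : Subgroup H) : Set H)).index with hn_def
  have hn2 : n ≠ 1 := fun h => hPn (Subgroup.normalizer_eq_top_iff.1 (Subgroup.index_eq_one.1 h))
  obtain ⟨r, hr, hrn⟩ := Nat.exists_prime_and_dvd hn2
  haveI : Fact r.Prime := ⟨hr⟩
  have hnmod : n % p = 1 := by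
    have h := card_sylow_modEq_one p H
    rw [Sylow.card_eq_index_normalizer P] at h
    have h' : n % p = 1 % p := h
    rwa [Nat.one_mod_eq_one.2 hpp.ne_one] at h'
  have hrp : r ≠ p := by
    rintro rfl
    rw [Nat.mod_eq_zero_of_dvd hrn] at hnmod
    exact zero_ne_one hnmod
  haveI : Group.IsNilpotent (P : Subgroup H) := P.2.isNilpotent
  obtain ⟨R₀, hR⟩ := Cfsg.Agent.Lib.Coprime.exists_invariant_sylow (A := (P : Subgroup H)) (K := N)
    (fun x _ => by rw [Subgroup.normalizer_eq_top_iff.2 inferInstance]; exact Subgroup.mem_top x)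
    hcop (Or.inl inferInstance) r
  set R := (R₀ : Subgroup N).map N.subtype with hR_def
  have hRc : Nat.card R = r ^ (Nat.card N).factorization r := by
    rw [hR_def, Subgroup.card_map_of_injective N.subtype_injective, Sylow.card_eq_multiplicity]
  letI act : MulAction (P : Subgroup H) R :=
    { smul := fun g x => ⟨g * x * (g : H)⁻¹, (Subgroup.mem_normalizer_iff.1 (hR g.2) _).1 x.2⟩
      one_smul := fun x => by
        apply Subtype.ext
        show ((1 : (P : Subgroup H)) : H) * x * ((1 : (P : Subgroup H)) : H)⁻¹ = x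
        simp
      mul_smul := fun g h x => by
        apply Subtype.ext
        show ((g * h : (P : Subgroup H)) : H) * x * ((g * h : (P : Subgroup H)) : H)⁻¹ =
          (g : H) * ((h : H) * x * (h : H)⁻¹) * (g : H)⁻¹
        simp [mul_assoc] }
  have hfix := (P.2).card_modEq_card_fixedPoints R
  set D := R ⊓ Subgroup.centralizer ((P : Subgroup H) : Set H) with hD
  have hfe : Nat.card (MulAction.fixedPoints (P : Subgroup H) R) = Nat.card D := by
    refine Nat.card_congr
      { toFun := fun x => ⟨x.1.1, x.1.2, ?_⟩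
        invFun := fun x => ⟨⟨x.1, x.2.1⟩, ?_⟩
        left_inv := fun x => by ext; rfl
        right_inv := fun x => by ext; rfl }
    · refine Subgroup.mem_centralizer_iff.2 ?_
      intro g hg
      have h2 : g * (x.1 : H) * g⁻¹ = x.1 := congrArg Subtype.val (x.2 ⟨g, hg⟩)
      calc g * (x.1 : H) = g * (x.1 : H) * g⁻¹ * g := by group
        _ = _ := by rw [h2]
    · intro g
      apply Subtype.ext
      show (g : H) * x.1 * (g : H)⁻¹ = x.1
      rw [Subgroup.mem_centralizer_iff.1 x.2.2 g g.2, mul_inv_cancel_right]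
  rw [hfe] at hfix
  obtain ⟨c, hcle, hc⟩ := (Nat.dvd_prime_pow hr).1 (hRc ▸ Subgroup.card_dvd_of_le (inf_le_left : D ≤ R))
  set b := (Nat.card N).factorization r with hb_def
  have hcb : c < b := by
    by_contra hge
    have hDR : D = R := Subgroup.eq_of_le_of_card_ge inf_le_left (by rw [hRc, hc, show c = b by omega])
    have hRN : R ≤ Subgroup.normalizer ((P : Subgroup H) : Set H) :=
      (hDR ▸ inf_le_right : R ≤ Subgroup.centralizer ((P : Subgroup H) : Set H)).trans
        (Subgroup.centralizer_le_normalizer _)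
    have h1 : r ^ b * r ∣ Nat.card H := by
      rw [← Subgroup.card_mul_index (Subgroup.normalizer ((P : Subgroup H) : Set H)), ← hn_def, ← hRc]
      exact Nat.mul_dvd_mul (Subgroup.card_dvd_of_le hRN) hrn
    rw [hcard, ← pow_succ] at h1
    have h2 : Nat.Coprime (r ^ (b + 1)) (Nat.card (P : Subgroup H)) := by
      rw [ha]; exact ((Nat.coprime_primes hr hpp).2 hrp).pow _ _
    exact Nat.pow_succ_factorization_not_dvd Nat.card_pos.ne' hr (h2.dvd_of_dvd_mul_left h1)
  have hk : r ^ (b - c) % p = 1 := by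
    have h1 : r ^ c * r ^ (b - c) ≡ r ^ c * 1 [MOD p] := by
      rw [← pow_add, Nat.add_sub_cancel' hcle, mul_one]
      rw [← hRc, ← hc]; exact hfix
    have h2 : Nat.gcd p (r ^ c) = 1 := ((Nat.coprime_primes hpp hr).2 hrp.symm).pow_right c
    have h3 := Nat.ModEq.cancel_left_of_coprime h2 h1
    rw [Nat.ModEq, Nat.one_mod_eq_one.2 hpp.ne_one] at h3
    exact h3
  have hm1 := hleast _ (hr.isPrimePow.pow (by omega)) hk
  have hm2 : r ^ (b - c) ≤ Nat.card N :=
    (Nat.pow_le_pow_right hr.pos (Nat.sub_le b c)).trans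
      (Nat.le_of_dvd Nat.card_pos (Nat.ordProj_dvd _ _))
  rw [hcard]
  exact Nat.mul_le_mul hP1 (hm1.trans hm2)

theorem lower (p : ℕ) [Fact p.Prime] (hp : p ≠ 2) (m : ℕ)
    (hleast : ∀ k : ℕ, IsPrimePow k → k % p = 1 → m ≤ k) :
    ∀ (n : ℕ) (H : Type) [Group H] [Finite H], Nat.card H = n → ¬ Cfsg.IsPClosed p H →
      min (p * m) (p * (p ^ 2 - 1) / 2) ≤ n := by
  intro n
  induction n using Nat.strong_induction_on with
  | _ n ih =>
    intro H _ _ hcard hnc
    classical
    by_cases hsub : ∃ K : Subgroup H, K ≠ ⊤ ∧ ¬ Cfsg.IsPClosed p K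
    · obtain ⟨K, hK, hKc⟩ := hsub
      have hlt : Nat.card K < n := hcard ▸ lt_of_le_of_ne (Subgroup.card_le_card_group K)
        (fun e => hK (Subgroup.eq_top_of_card_eq K e))
      exact (ih _ hlt K rfl hKc).trans hlt.le
    push Not at hsub
    by_cases hquo : ∃ (N : Subgroup H) (_ : N.Normal), N ≠ ⊥ ∧ ¬ Cfsg.IsPClosed p (H ⧸ N)
    · obtain ⟨N, hNn, hN, hNc⟩ := hquo
      have hlt : Nat.card (H ⧸ N) < n := by
        rw [← hcard, Subgroup.card_eq_card_quotient_mul_card_subgroup N]
        exact (Nat.lt_mul_iff_one_lt_right Nat.card_pos).2 ((Subgroup.one_lt_card_iff_ne_bot N).2 hN)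
      exact (ih _ hlt (H ⧸ N) rfl hNc).trans hlt.le
    push Not at hquo
    have hquo' : ∀ (N : Subgroup H) [N.Normal], N ≠ ⊥ → Cfsg.IsPClosed p (H ⧸ N) :=
      fun N hNn hN => hquo N hNn hN
    obtain ⟨P, hP⟩ : ∃ P : Sylow p H, ¬ (P : Subgroup H).Normal := by
      by_contra h; push Not at h; exact hnc h
    by_cases hs : ∃ N : Subgroup H, N.Normal ∧ N ≠ ⊥ ∧ N ≠ ⊤
    · obtain ⟨N, hNn, hN0, hN1⟩ := hs
      haveI := hNn
      have hNp : ¬ p ∣ Nat.card N := by
        intro hd
        let S : Sylow p N := default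
        haveI hSn : (S : Subgroup N).Normal := hsub N hN1 S
        haveI := S.characteristic_of_normal hSn
        have h1 := eq_bot_of_normal hnc hquo' ((S : Subgroup N).map N.subtype) (S.2.map _)
        exact S.ne_bot_of_dvd_card hd
          ((Subgroup.map_eq_bot_iff_of_injective _ N.subtype_injective).1 h1)
      haveI hL : ((P : Subgroup H) ⊔ N).Normal := by
        have h := hquo' N hN0 (P.mapSurjective (QuotientGroup.mk'_surjective N))
        rw [Sylow.coe_mapSurjective] at h
        have h2 := h.comap (QuotientGroup.mk' N)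
        rwa [Subgroup.comap_map_eq, QuotientGroup.ker_mk'] at h2
      have htop : (P : Subgroup H) ⊔ N = ⊤ := by
        by_contra hne
        exact hP (normal_of_sylow_le P _ le_sup_left (hsub _ hne))
      exact le_trans (min_le_left _ _) (hcard ▸ normal_case m hleast N hNp P hP htop)
    · have hPbot : (P : Subgroup H) ≠ ⊥ := fun h => hP (h ▸ inferInstance)
      haveI : Nontrivial H := by
        by_contra h
        rw [not_nontrivial_iff_subsingleton] at h
        exact hPbot (Subsingleton.elim _ _)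
      haveI : IsSimpleGroup H := ⟨fun K hK => by
        by_contra h; push Not at h; exact hs ⟨K, hK, h⟩⟩
      have hcomm : ¬ IsMulCommutative H := fun hc =>
        hP ⟨fun x hx g => by rwa [hc.is_comm.comm g x, mul_inv_cancel_right]⟩
      have hdvd : p ∣ Nat.card H := by
        by_contra hd
        obtain ⟨a, ha⟩ := (P.2).exists_card_eq
        rcases Nat.eq_zero_or_pos a with rfl | ha0
        · exact hPbot (Subgroup.card_eq_one.1 (by simpa using ha))
        · exact hd ((dvd_pow_self p ha0.ne').trans (ha ▸ Subgroup.card_subgroup_dvd_card _))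
      refine le_trans (min_le_right _ _) (hcard ▸ ?_)
      by_contra hlt
      exact simple_case hp hcomm P hdvd (not_le.1 hlt)

/-- Multiplication by units, as automorphisms of the additive group. -/
def affAct (F : Type) [Field F] (u : Fˣ) : Subgroup.zpowers u →* MulAut (Multiplicative F) where
  toFun v :=
    { toFun := fun x => Multiplicative.ofAdd ((v : Fˣ) * x.toAdd : F)
      invFun := fun x => Multiplicative.ofAdd ((((v : Fˣ)⁻¹ : Fˣ) : F) * x.toAdd)
      left_inv := fun x => by simp [← mul_assoc]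
      right_inv := fun x => by simp [← mul_assoc]
      map_mul' := fun x y => by simp [mul_add] }
  map_one' := by ext x; simp
  map_mul' v w := by ext x; simp [mul_assoc]

theorem aff_fix (F : Type) [Field F] (u : Fˣ)
    (h : (SemidirectProduct.inl (Multiplicative.ofAdd (1 : F)) *
        SemidirectProduct.inr ⟨u, Subgroup.mem_zpowers u⟩ *
        (SemidirectProduct.inl (Multiplicative.ofAdd (1 : F)))⁻¹ :
        Multiplicative F ⋊[affAct F u] ↥(Subgroup.zpowers u)) ∈
      (SemidirectProduct.inr : ↥(Subgroup.zpowers u) →* _).range) : u = 1 := by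
  obtain ⟨v, hv⟩ := h
  have hr := congrArg SemidirectProduct.rightHom hv
  simp only [map_mul, map_inv, SemidirectProduct.rightHom_inl, SemidirectProduct.rightHom_inr,
    one_mul, inv_one, mul_one] at hr
  rw [hr] at hv
  have hc : (SemidirectProduct.inl (affAct F u ⟨u, Subgroup.mem_zpowers u⟩
      (Multiplicative.ofAdd (1 : F))) :
        Multiplicative F ⋊[affAct F u] ↥(Subgroup.zpowers u)) =
      SemidirectProduct.inl (Multiplicative.ofAdd (1 : F)) := by
    rw [SemidirectProduct.inl_aut]
    nth_rewrite 1 [hv]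
    simp [mul_assoc]
  have h2 := congrArg Multiplicative.toAdd (SemidirectProduct.inl_injective hc)
  exact Units.ext (by simpa [affAct] using h2)

theorem affine_witness (p : ℕ) [Fact p.Prime] (m : ℕ) (hm : IsPrimePow m) (hm1 : m % p = 1) :
    ∃ (H : Type) (_ : Group H) (_ : Finite H), Nat.card H = p * m ∧ ¬ Cfsg.IsPClosed p H := by
  classical
  have hpp : p.Prime := Fact.out
  obtain ⟨r, k, hr, hk, rfl⟩ := (isPrimePow_nat_iff m).1 hm
  haveI : Fact r.Prime := ⟨hr⟩
  let F := GaloisField r k
  haveI : Finite F := Nat.finite_of_card_ne_zero (by rw [GaloisField.card r k hk.ne']; exact pow_ne_zero _ hr.ne_zero)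
  have hF : Nat.card F = r ^ k := GaloisField.card r k hk.ne'
  have hdvd : p ∣ Nat.card Fˣ := by
    rw [Nat.card_units, hF]
    exact (Nat.modEq_iff_dvd' (Nat.one_le_iff_ne_zero.2 (pow_ne_zero _ hr.ne_zero))).1
      (show 1 % p = r ^ k % p by rw [hm1, Nat.one_mod_eq_one.2 hpp.ne_one])
  obtain ⟨u, hu⟩ := exists_prime_orderOf_dvd_card' p hdvd
  let H := Multiplicative F ⋊[affAct F u] ↥(Subgroup.zpowers u)
  haveI : Finite H := Finite.of_equiv _ SemidirectProduct.equivProd.symm
  have hH : Nat.card H = p * r ^ k := by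
    rw [SemidirectProduct.card, Nat.card_congr (Multiplicative.toAdd (α := F)), hF, Nat.card_zpowers,
      hu, mul_comm]
  refine ⟨H, inferInstance, inferInstance, hH, fun hcl => ?_⟩
  let ι : ↥(Subgroup.zpowers u) →* H := SemidirectProduct.inr
  have hIp : IsPGroup p ι.range := by
    refine IsPGroup.of_card (n := 1) ?_
    rw [← Nat.card_congr (MonoidHom.ofInjective SemidirectProduct.inr_injective).toEquiv,
      Nat.card_zpowers, hu, pow_one]
  obtain ⟨P, hP⟩ := hIp.exists_le_sylow
  have hPc : Nat.card (P : Subgroup H) = p := by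
    have hne : ¬ p ∣ r ^ k := fun h => by rw [Nat.mod_eq_zero_of_dvd h] at hm1; exact zero_ne_one hm1
    rw [P.card_eq_multiplicity, hH, Nat.factorization_mul hpp.ne_zero (pow_ne_zero _ hr.ne_zero),
      Finsupp.add_apply, hpp.factorization_self, Nat.factorization_eq_zero_of_not_dvd hne, add_zero,
      pow_one]
  have hPI : ι.range = (P : Subgroup H) := Subgroup.eq_of_le_of_card_ge hP (by
    rw [hPc, ← Nat.card_congr (MonoidHom.ofInjective SemidirectProduct.inr_injective).toEquiv,
      Nat.card_zpowers, hu])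
  have h := (hcl P).conj_mem (ι ⟨u, Subgroup.mem_zpowers u⟩) (hPI ▸ ⟨_, rfl⟩)
    (SemidirectProduct.inl (Multiplicative.ofAdd (1 : F)))
  rw [← hPI] at h
  have hu1 : u = 1 := aff_fix F u h
  rw [hu1, orderOf_one] at hu
  exact hpp.ne_one hu.symm

theorem psl_witness (p : ℕ) [Fact p.Prime] (hp : 5 ≤ p) :
    ∃ (H : Type) (_ : Group H) (_ : Finite H),
      Nat.card H = p * (p ^ 2 - 1) / 2 ∧ ¬ Cfsg.IsPClosed p H := by
  classical
  have hpp : p.Prime := Fact.out
  let H := Matrix.ProjectiveSpecialLinearGroup (Fin 2) (ZMod p)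
  haveI : IsSimpleGroup H :=
    Matrix.ProjectiveSpecialLinearGroup.rank_two_simple (by rw [Nat.card_zmod]; omega)
  have hodd : Odd p := hpp.odd_of_ne_two (by omega)
  have hc : 2 * Nat.card H = p * (p ^ 2 - 1) := by
    have := Cfsg.Agent.Lib.Classical.two_mul_card_PSL_two_of_odd (F := ZMod p) (by rwa [ZMod.card])
    rwa [ZMod.card] at this
  refine ⟨H, inferInstance, inferInstance, by omega, fun hcl => ?_⟩
  let P : Sylow p H := default
  have hdvd : p ∣ Nat.card H :=
    (Nat.Coprime.dvd_of_dvd_mul_left ((Nat.coprime_primes hpp Nat.prime_two).2 (by omega))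
      ⟨p ^ 2 - 1, hc⟩)
  rcases (hcl P).eq_bot_or_eq_top with hb | ht
  · exact P.ne_bot_of_dvd_card hdvd hb
  · have h := P.card_eq_multiplicity
    rw [ht, Subgroup.card_top] at h
    have h2 : Nat.card H ∣ p ^ (Nat.card H).factorization p := h ▸ dvd_rfl
    have h3 : (p - 1) ∣ 2 * p ^ (Nat.card H).factorization p := by
      refine Dvd.dvd.trans ?_ (Nat.mul_dvd_mul_left 2 h2)
      rw [hc]
      exact (Nat.sub_dvd_pow_sub_pow p 1 2 |>.trans (by simp)).mul_left p
    have h4 : Nat.Coprime (p - 1) p := by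
      rw [Nat.coprime_comm, hpp.coprime_iff_not_dvd]
      intro h5; have := Nat.le_of_dvd (by omega) h5; omega
    have := Nat.le_of_dvd two_pos ((h4.pow_right _).dvd_of_dvd_mul_right h3)
    omega

/-- Let p be an odd prime and let m be the least prime power congruent to 1 modulo p. Then the least order of a finite group whose Sylow p-subgroups are not normal is the smaller of p · m and p(p² − 1)/2: every finite group whose Sylow p-subgroups are not normal has at least that order, and some group of exactly that order has non-normal Sylow p-subgroups. -/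
theorem result (p : ℕ) [Fact p.Prime] (hp : p ≠ 2) (m : ℕ) (hm : IsPrimePow m) (hm1 : m % p = 1)
    (hleast : ∀ k : ℕ, IsPrimePow k → k % p = 1 → m ≤ k) :
    (∀ (H : Type) [Group H] [Finite H], ¬ Cfsg.IsPClosed p H → min (p * m) (p * (p ^ 2 - 1) / 2) ≤ Nat.card H) ∧
      ∃ (H : Type) (_ : Group H) (_ : Finite H), Nat.card H = min (p * m) (p * (p ^ 2 - 1) / 2) ∧ ¬ Cfsg.IsPClosed p H := by
  classical
  have hpp : p.Prime := Fact.out
  refine ⟨fun H _ _ hH => lower p hp m hleast _ H rfl hH, ?_⟩
  by_cases hle : p * m ≤ p * (p ^ 2 - 1) / 2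
  · rw [min_eq_left hle]
    exact affine_witness p m hm hm1
  · rw [min_eq_right (not_le.1 hle).le]
    have hp5 : 5 ≤ p := by
      by_contra h
      have h3 : p = 3 := by
        have := hpp.two_le
        interval_cases p <;> first | omega | norm_num at hpp
      subst h3
      have := hleast 4 ⟨2, 2, Nat.prime_two.prime, two_pos, by norm_num⟩ rfl
      omega
    exact psl_witness p hp5

end Cfsg.Agent.S3875
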