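import Cfsg.Statements.S3889

set_option autoImplicit false
open Cfsg

namespace Cfsg.Agent.S3889

lemma orderOf_eq_of_disjoint {G : Type*} [CommGroup G] [Finite G] {𝓑 : Set (Subgroup G)}
    (hcov : ∀ g : G, ∃ B ∈ 𝓑, g ∈ B) (hdisj : ∀ B ∈ 𝓑, ∀ C ∈ 𝓑, B ≠ C → B ⊓ C = ⊥)
    {B : Subgroup G} (hB : B ∈ 𝓑) {a b : G} (ha : a ∈ B) (ha1 : a ≠ 1) (hb : b ∉ B) :
    orderOf b ∣ orderOf a := by
  rw [orderOf_dvd_iff_pow_eq_one]
  obtain ⟨C, hC, hbC⟩ := hcov b
  obtain ⟨D, hD, habD⟩ := hcov (a * b)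
  by_contra hne
  have h1 : b ^ orderOf a ∈ D := by
    have := pow_mem habD (orderOf a)
    rwa [mul_pow, pow_orderOf_eq_one, one_mul] at this
  have hDC : D = C := by
    by_contra hDC
    have := hdisj D hD C hC hDC
    exact hne (Subgroup.mem_bot.mp (this ▸ Subgroup.mem_inf.mpr ⟨h1, pow_mem hbC _⟩))
  subst hDC
  have haC : a ∈ D := by simpa using mul_mem habD (inv_mem hbC)
  have hBD : B = D := by
    by_contra h
    exact ha1 (Subgroup.mem_bot.mp (hdisj B hB D hD h ▸ Subgroup.mem_inf.mpr ⟨ha, haC⟩))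
  exact hb (hBD ▸ hbC)

/-- A finite abelian group that is the union of a family of proper subgroups any two of which intersect trivially is elementary abelian: its exponent is a prime. -/
theorem result {G : Type*} [CommGroup G] [Finite G] (𝓑 : Set (Subgroup G)) (hprop : ∀ B ∈ 𝓑, B ≠ ⊤)
    (hcov : ∀ g : G, ∃ B ∈ 𝓑, g ∈ B) (hdisj : ∀ B ∈ 𝓑, ∀ C ∈ 𝓑, B ≠ C → B ⊓ C = ⊥) :
    (Monoid.exponent G).Prime := by
  obtain ⟨B, hB, -⟩ := hcov 1
  obtain ⟨x, hx⟩ : ∃ x : G, x ∉ B := by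
    by_contra h; push Not at h; exact hprop B hB (eq_top_iff.mpr fun y _ => h y)
  have hx1 : x ≠ 1 := fun h => hx (h ▸ one_mem B)
  obtain ⟨C, hC, hxC⟩ := hcov x
  obtain ⟨y, hyC⟩ : ∃ y : G, y ∉ C := by
    by_contra h; push Not at h; exact hprop C hC (eq_top_iff.mpr fun y _ => h y)
  have hy1 : y ≠ 1 := fun h => hyC (h ▸ one_mem C)
  obtain ⟨D, hD, hyD⟩ := hcov y
  have hxD : x ∉ D := fun h => by
    have hCD : C ≠ D := fun e => hyC (e ▸ hyD)
    exact hx1 (Subgroup.mem_bot.mp (hdisj C hC D hD hCD ▸ Subgroup.mem_inf.mpr ⟨hxC, h⟩))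
  -- everything has the order of `x`
  have key : ∀ z : G, z ≠ 1 → orderOf z = orderOf x := by
    have hxy : orderOf y = orderOf x := Nat.dvd_antisymm (orderOf_eq_of_disjoint hcov hdisj hC hxC hx1 hyC)
      (orderOf_eq_of_disjoint hcov hdisj hD hyD hy1 hxD)
    intro z hz
    obtain ⟨E, hE, hzE⟩ := hcov z
    by_cases hzC : z ∈ C
    · have hzD : z ∉ D := fun h => by
        have hCD : C ≠ D := fun e => hyC (e ▸ hyD)
        exact hz (Subgroup.mem_bot.mp (hdisj C hC D hD hCD ▸ Subgroup.mem_inf.mpr ⟨hzC, h⟩))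
      rw [← hxy]
      exact Nat.dvd_antisymm (orderOf_eq_of_disjoint hcov hdisj hD hyD hy1 hzD)
        (orderOf_eq_of_disjoint hcov hdisj hC hzC hz hyC)
    · refine Nat.dvd_antisymm (orderOf_eq_of_disjoint hcov hdisj hC hxC hx1 hzC) ?_
      have hxE : x ∉ E := fun h => by
        have hCE : C ≠ E := fun e => hzC (e ▸ hzE)
        exact hx1 (Subgroup.mem_bot.mp (hdisj C hC E hE hCE ▸ Subgroup.mem_inf.mpr ⟨hxC, h⟩))
      exact orderOf_eq_of_disjoint hcov hdisj hE hzE hz hxE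
  have hexp : Monoid.exponent G = orderOf x := by
    refine Nat.dvd_antisymm (Monoid.exponent_dvd.mpr fun z => ?_) (Monoid.order_dvd_exponent x)
    by_cases hz : z = 1
    · simp [hz]
    · rw [key z hz]
  rw [hexp]
  obtain ⟨q, hq, hqx⟩ := Nat.exists_prime_and_dvd (orderOf_eq_one_iff.not.mpr hx1)
  have hordq : orderOf (x ^ (orderOf x / q)) = q := orderOf_pow_orderOf_div (orderOf_pos x).ne' hqx
  rw [← key _ (fun h => hq.one_lt.ne ((orderOf_eq_one_iff.mpr h).symm.trans hordq)), hordq]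
  exact hq

end Cfsg.Agent.S3889
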