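import Cfsg.Statements.S3892
import Cfsg.Agent.Lib.NilpotentCover

set_option autoImplicit false
open Cfsg

namespace Cfsg.Agent.S3892

open Equiv Equiv.Perm
open scoped Pointwise

section

theorem sq_not_dvd_factorial {p : ℕ} (hp : p.Prime) : ∀ m : ℕ, m < 2 * p → ¬ p ^ 2 ∣ m.factorial
  | 0, _, h => by
      rw [Nat.factorial_zero, Nat.dvd_one, Nat.pow_eq_one] at h
      have := hp.one_lt
      omega
  | m + 1, hm, h => by
      rw [Nat.factorial_succ] at h
      by_cases hd : p ∣ m + 1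
      · obtain ⟨k, hk⟩ := hd
        have hk1 : k = 1 := by
          rcases k with _ | _ | k
          · omega
          · rfl
          · nlinarith
        rw [hk1, mul_one] at hk
        have h2 : p ∣ m.factorial := by
          have : p * p ∣ p * m.factorial := by rw [← sq]; rw [← hk]; rw [hk] at h ⊢; exact h
          exact Nat.dvd_of_mul_dvd_mul_left hp.pos this
        rw [hp.dvd_factorial] at h2
        omega
      · exact sq_not_dvd_factorial hp m (by omega)
          (((Nat.Coprime.pow_left 2 ((Nat.Prime.coprime_iff_not_dvd hp).mpr hd))).dvd_of_dvd_mul_left h)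

theorem card_sylow_le {G : Type*} [Group G] [Finite G] {p : ℕ} [hp : Fact p.Prime] (P : Sylow p G)
    (h : ¬ p ^ 2 ∣ Nat.card G) : Nat.card ↥(P : Subgroup G) ≤ p := by
  obtain ⟨k, hk⟩ := IsPGroup.iff_card.mp P.isPGroup'
  rw [hk]
  have : k < 2 := by
    by_contra hk2
    exact h ((pow_dvd_pow p (not_lt.mp hk2)).trans (hk ▸ Subgroup.card_subgroup_dvd_card _))
  calc p ^ k ≤ p ^ 1 := Nat.pow_le_pow_right hp.out.pos (by omega)
    _ = p := pow_one p

theorem sylow_comm {G : Type*} [Group G] [Finite G] {p : ℕ} [hp : Fact p.Prime] (P : Sylow p G)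
    (h : ¬ p ^ 2 ∣ Nat.card G) : IsMulCommutative ↥(P : Subgroup G) := by
  have h1 := card_sylow_le P h
  obtain ⟨k, hk⟩ := IsPGroup.iff_card.mp P.isPGroup'
  rcases k with _ | _ | k
  · haveI : Subsingleton ↥(P : Subgroup G) := (Nat.card_eq_one_iff_unique.mp (by rw [hk, pow_zero])).1
    exact ⟨⟨fun a b => Subsingleton.elim _ _⟩⟩
  · haveI : IsCyclic ↥(P : Subgroup G) := isCyclic_of_prime_card (p := p) (by rw [hk, pow_one])
    exact ⟨⟨(IsCyclic.commGroup (α := ↥(P : Subgroup G))).mul_comm⟩⟩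
  · exfalso
    rw [hk] at h1
    have : p ^ 2 ≤ p ^ (k + 1 + 1) := Nat.pow_le_pow_right hp.out.pos (by omega)
    have : p * 2 ≤ p ^ 2 := by rw [sq]; exact Nat.mul_le_mul_left p hp.out.two_le
    have := hp.out.pos
    omega

/-- pairwise incompatible elements give a lower bound -/
theorem lower_bound {G : Type*} [Group G] [Finite G] (h3 : ¬ 3 ^ 2 ∣ Nat.card G) (h5 : ¬ 5 ^ 2 ∣ Nat.card G)
    {A : Finset (Subgroup G)} (hcov : ∀ g : G, ∃ B ∈ A, g ∈ B) (hnil : ∀ B ∈ A, Group.IsNilpotent ↥B)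
    {m : ℕ} (f : Fin m → G)
    (hpair : ∀ i j : Fin m, i ≠ j → f i * f j ≠ f j * f i ∧ (f i ^ 3 = 1 ∨ f i ^ 5 = 1 ∨ f j ^ 3 = 1 ∨ f j ^ 5 = 1)) :
    m ≤ A.card := by
  classical
  choose B hB hfB using fun i => hcov (f i)
  have hinj : Function.Injective B := by
    intro i j hij
    by_contra hne
    obtain ⟨hnc, hord⟩ := hpair i j hne
    have key : ∀ {q : ℕ} (u v : G), q.Prime → ¬ q ^ 2 ∣ Nat.card G → u ∈ B i → v ∈ B i → u ^ q = 1 →
        v * u = u * v := by
      intro q u v hq hqG hu hv huq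
      haveI := Fact.mk hq
      obtain ⟨P⟩ : Nonempty (Sylow q G) := inferInstance
      have hup : IsPGroup q (Subgroup.zpowers u) := fun x => ⟨1, Subtype.ext (by
        obtain ⟨k, hk⟩ := x.2
        rw [Subgroup.coe_pow, pow_one, ← hk, Subgroup.coe_one]
        show (u ^ k) ^ q = 1
        rw [← zpow_natCast, zpow_comm, zpow_natCast, huq, one_zpow])⟩
      exact Subgroup.mem_centralizer_singleton_iff.mp
        (Lib.NilpotentCover.le_centralizer_of_isNilpotent P (sylow_comm P hqG) (hnil _ (hB i)) hu hup hv)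
    have hi := hfB i
    have hj : f j ∈ B i := hij ▸ hfB j
    rcases hord with h | h | h | h
    · exact hnc (key _ _ (by norm_num) h3 hi hj h).symm
    · exact hnc (key _ _ (by norm_num) h5 hi hj h).symm
    · exact hnc (key _ _ (by norm_num) h3 hj hi h)
    · exact hnc (key _ _ (by norm_num) h5 hj hi h)
  calc m = (Finset.univ.image B).card := by rw [Finset.card_image_of_injective _ hinj, Finset.card_fin]
    _ ≤ A.card := Finset.card_le_card (Finset.image_subset_iff.mpr fun i _ => hB i)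

theorem large_no_cover {n : ℕ} (hn : 6 ≤ n) {G : Type*} [Group G] [Finite G] (ι : G →* Equiv.Perm (Fin n))
    (hinj : Function.Injective ι) (heven : ∀ σ : Equiv.Perm (Fin n), sign σ = 1 → ∃ g, ι g = σ)
    (hZ : Subgroup.center G = ⊥) (A : Finset (Subgroup G)) (hA : Lib.NilpotentCover.IsNilCover A) : False := by
  obtain ⟨p, hp, hpl, hpu⟩ := Nat.exists_prime_lt_and_le_two_mul (n / 2) (by omega)
  haveI := Fact.mk hp
  have hp5 : 5 ≤ p := by
    by_contra hlt
    interval_cases p <;> first | omega | exact absurd hp (by norm_num)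
  have hpn : p < n := by
    rcases Nat.lt_or_ge p n with h | h
    · exact h
    · have h2 : p = 2 * (n / 2) := by omega
      exact absurd (hp.eq_one_or_self_of_dvd 2 ⟨n / 2, h2⟩) (by omega)
  have h2p : n < 2 * p := by omega
  have hcardG : Nat.card G ∣ n.factorial := by
    have h := Subgroup.card_dvd_of_injective ι hinj
    rwa [Nat.card_eq_fintype_card (α := Equiv.Perm (Fin n)), Fintype.card_perm, Fintype.card_fin] at h
  have hnp2 : ¬ p ^ 2 ∣ Nat.card G := fun h => sq_not_dvd_factorial hp n h2p (h.trans hcardG)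
  -- a `p`-cycle
  obtain ⟨σ, hσ⟩ := exists_prime_orderOf_dvd_card' (G := Equiv.Perm (Fin n)) p
    (by rw [Nat.card_eq_fintype_card, Fintype.card_perm, Fintype.card_fin]; exact hp.dvd_factorial.mpr hpn.le)
  have hcyc : σ.IsCycle := isCycle_of_prime_order' (hσ ▸ hp) (by rw [hσ, Fintype.card_fin]; exact h2p)
  have hsupp : σ.support.card = p := hcyc.orderOf.symm.trans hσ
  obtain ⟨c, hc⟩ := heven σ (by
    rw [hcyc.sign, hsupp, (hp.odd_of_ne_two (by omega)).neg_one_pow, neg_neg])
  have hco : orderOf c = p := by rw [← orderOf_injective ι hinj, hc, hσ]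
  obtain ⟨P, hP⟩ := (IsPGroup.of_card (n := 1) (show Nat.card ↥(Subgroup.zpowers c) = p ^ 1 by
    rw [Nat.card_zpowers, hco, pow_one])).exists_le_sylow
  have hPc : (P : Subgroup G) = Subgroup.zpowers c := (Subgroup.eq_of_le_of_card_ge hP
    ((card_sylow_le P hnp2).trans (by rw [Nat.card_zpowers, hco]))).symm
  set M := (MulAction.stabilizer (Equiv.Perm (Fin n)) (σ.support : Set (Fin n))).comap ι with hM
  have hN : Subgroup.normalizer ((P : Subgroup G) : Set G) ≤ M := by
    intro g hg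
    obtain ⟨i, hi⟩ : g * c * g⁻¹ ∈ Subgroup.zpowers c := by
      rw [← hPc]
      exact (Subgroup.mem_normalizer_iff.mp hg c).mp (hP (Subgroup.mem_zpowers c))
    have hi' : σ ^ i = ι g * σ * (ι g)⁻¹ := by
      rw [← hc, ← map_zpow, show c ^ i = g * c * g⁻¹ from hi, map_mul, map_mul, map_inv]
    have hsub : ∀ x ∈ σ.support, (ι g) x ∈ σ.support := fun x hx => by
      by_contra hx'
      have hfix : σ ((ι g) x) = (ι g) x := Equiv.Perm.notMem_support.mp hx'
      have h1 : (σ ^ i) ((ι g) x) = (ι g) x := Equiv.Perm.zpow_apply_eq_self_of_apply_eq_self hfix i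
      rw [hi'] at h1
      simp at h1
      exact Equiv.Perm.mem_support.mp hx h1
    have himg : σ.support.image (ι g) = σ.support := Finset.eq_of_subset_of_card_le
      (Finset.image_subset_iff.mpr hsub) (by rw [Finset.card_image_of_injective _ (ι g).injective])
    rw [hM, Subgroup.mem_comap, MulAction.mem_stabilizer_iff]
    conv_rhs => rw [← himg, Finset.coe_image]
    exact Set.image_smul.symm
  obtain ⟨a, ha⟩ : σ.support.Nonempty := Finset.card_pos.mp (by rw [hsupp]; exact hp.pos)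
  have hpow : ∀ i j : ℕ, i < p → j < p → (σ ^ i) a = (σ ^ j) a → i = j := by
    have key : ∀ k : ℕ, k < p → (σ ^ k) a = a → k = 0 := fun k hk hka => by
      by_contra h0
      exact pow_ne_one_of_lt_orderOf h0 (hσ ▸ hk)
        ((hcyc.pow_eq_one_iff' (Equiv.Perm.mem_support.mp ha)).mpr hka)
    intro i j hi hj hij
    rcases le_total i j with h | h
    · have : (σ ^ (j - i)) a = a := (σ ^ i).injective (by
        rw [← Equiv.Perm.mul_apply, ← pow_add, Nat.add_sub_cancel' h, hij])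
      have := key _ (by omega) this; omega
    · have : (σ ^ (i - j)) a = a := (σ ^ j).injective (by
        rw [← Equiv.Perm.mul_apply, ← pow_add, Nat.add_sub_cancel' h, hij])
      have := key _ (by omega) this; omega
  have hmemS : ∀ k : ℕ, (σ ^ k) a ∈ σ.support := fun k => Equiv.Perm.pow_apply_mem_support.mpr ha
  set a0 := a with ha0
  set a1 := (σ ^ 1) a with ha1
  set a2 := (σ ^ 2) a with ha2
  set a3 := (σ ^ 3) a with ha3
  set a4 := (σ ^ 4) a with ha4
  have d : ∀ i j : ℕ, i < 5 → j < 5 → i ≠ j → (σ ^ i) a ≠ (σ ^ j) a := fun i j hi hj hne h =>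
    hne (hpow i j (by omega) (by omega) h)
  have d01 : a0 ≠ a1 := by
    have h := d 0 1 (by omega) (by omega) (by omega)
    rwa [pow_zero, Equiv.Perm.one_apply] at h
  have d02 : a0 ≠ a2 := by
    have h := d 0 2 (by omega) (by omega) (by omega)
    rwa [pow_zero, Equiv.Perm.one_apply] at h
  have d03 : a0 ≠ a3 := by
    have h := d 0 3 (by omega) (by omega) (by omega)
    rwa [pow_zero, Equiv.Perm.one_apply] at h
  have d04 : a0 ≠ a4 := by
    have h := d 0 4 (by omega) (by omega) (by omega)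
    rwa [pow_zero, Equiv.Perm.one_apply] at h
  have d12 : a1 ≠ a2 := d 1 2 (by omega) (by omega) (by omega)
  have d13 : a1 ≠ a3 := d 1 3 (by omega) (by omega) (by omega)
  have d14 : a1 ≠ a4 := d 1 4 (by omega) (by omega) (by omega)
  have d23 : a2 ≠ a3 := d 2 3 (by omega) (by omega) (by omega)
  have d24 : a2 ≠ a4 := d 2 4 (by omega) (by omega) (by omega)
  have hMtop : M ≠ ⊤ := by
    intro htop
    obtain ⟨b, hb⟩ : ∃ b, b ∉ σ.support := by
      by_contra! hall
      have : σ.support = Finset.univ := Finset.eq_univ_of_forall hall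
      rw [this, Finset.card_univ, Fintype.card_fin] at hsupp
      omega
    have hb0 : a0 ≠ b := fun h => hb (h ▸ ha)
    have hb1 : a1 ≠ b := fun h => hb (h ▸ hmemS 1)
    obtain ⟨g, hg⟩ := heven (swap a0 b * swap a0 a1) (by
      rw [Equiv.Perm.sign_mul, sign_swap hb0, sign_swap d01]; rfl)
    have hgM : g ∈ M := htop ▸ Subgroup.mem_top g
    rw [hM, Subgroup.mem_comap, MulAction.mem_stabilizer_iff, hg] at hgM
    refine hb ?_
    rw [← Finset.mem_coe, ← hgM]
    exact ⟨a1, hmemS 1, by simp [Equiv.Perm.smul_def, Equiv.swap_apply_right, Equiv.swap_apply_left]⟩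
  have hnn : ¬ (P : Subgroup G).Normal := fun h =>
    hMtop (top_le_iff.mp ((Subgroup.normalizer_eq_top_iff.mpr h).symm.le.trans hN))
  have hmem := Lib.NilpotentCover.exists_member hZ hA P (sylow_comm P hnp2) hnn
    (fun h => (card_sylow_le P hnp2).not_gt h.2)
  have hco' := Lib.NilpotentCover.isCoatom_normalizer hZ hA P (sylow_comm P hnp2) hmem hnn
  have hlt : ¬ M ≤ Subgroup.normalizer ((P : Subgroup G) : Set G) := by
    intro hle
    obtain ⟨t, ht⟩ := heven (swap a0 a1 * swap a1 a2) (by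
      rw [Equiv.Perm.sign_mul, sign_swap d01, sign_swap d12]; rfl)
    have hfix : ∀ x, x ≠ a0 → x ≠ a1 → x ≠ a2 → (ι t) x = x := fun x h0 h1 h2 => by
      rw [ht, Equiv.Perm.mul_apply, swap_apply_of_ne_of_ne h1 h2, swap_apply_of_ne_of_ne h0 h1]
    have e0 : (ι t) a0 = a1 := by
      rw [ht, Equiv.Perm.mul_apply, swap_apply_of_ne_of_ne d01 d02, swap_apply_left]
    have e1 : (ι t) a1 = a2 := by
      rw [ht, Equiv.Perm.mul_apply, swap_apply_left, swap_apply_of_ne_of_ne d02.symm d12.symm]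
    have e2 : (ι t) a2 = a0 := by
      rw [ht, Equiv.Perm.mul_apply, swap_apply_right, swap_apply_right]
    have htM : t ∈ M := by
      rw [hM, Subgroup.mem_comap, MulAction.mem_stabilizer_iff]
      have hsub : ∀ x ∈ σ.support, (ι t) x ∈ σ.support := fun x hx => by
        by_cases h0 : x = a0
        · rw [h0, e0]; exact hmemS 1
        by_cases h1 : x = a1
        · rw [h1, e1]; exact hmemS 2
        by_cases h2 : x = a2
        · rw [h2, e2]; exact ha
        · rw [hfix x h0 h1 h2]; exact hx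
      have himg : σ.support.image (ι t) = σ.support := Finset.eq_of_subset_of_card_le
        (Finset.image_subset_iff.mpr hsub) (by rw [Finset.card_image_of_injective _ (ι t).injective])
      conv_rhs => rw [← himg, Finset.coe_image]
      exact Set.image_smul.symm
    obtain ⟨i, hi⟩ : t * c * t⁻¹ ∈ Subgroup.zpowers c := by
      rw [← hPc]
      exact (Subgroup.mem_normalizer_iff.mp (hle htM) c).mp (hP (Subgroup.mem_zpowers c))
    have hi' : σ ^ i * ι t = ι t * σ := by
      rw [← hc, ← map_zpow, show c ^ i = t * c * t⁻¹ from hi, map_mul, map_mul, map_inv, inv_mul_cancel_right]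
    have hstep : ∀ k : ℕ, σ ((σ ^ k) a) = (σ ^ (k + 1)) a := fun k => by rw [pow_succ', Equiv.Perm.mul_apply]
    have h3 := Equiv.Perm.ext_iff.mp hi' a3
    rw [Equiv.Perm.mul_apply, Equiv.Perm.mul_apply, hfix a3 d03.symm d13.symm d23.symm, ha3, hstep 3, ← ha3,
      hfix _ d04.symm d14.symm d24.symm] at h3
    have hone : σ ^ i = σ := by
      have hx : (σ ^ i) a3 = σ a3 := by rw [h3, ha3, hstep 3]
      have hx' : (σ ^ (i - 1)) a3 = a3 := σ.injective (by
        rw [← Equiv.Perm.mul_apply, ← zpow_one_add, add_sub_cancel, hx])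
      have hor : σ ^ (i - 1) = 1 := by
        have hmod : 0 ≤ (i - 1) % (orderOf σ : ℤ) := Int.emod_nonneg _ (by rw [hσ]; exact_mod_cast hp.ne_zero)
        obtain ⟨k, hk⟩ := Int.eq_ofNat_of_zero_le hmod
        rw [← zpow_mod_orderOf, hk, zpow_natCast] at hx' ⊢
        exact (hcyc.pow_eq_one_iff' (Equiv.Perm.mem_support.mp (hmemS 3))).mpr hx'
      rwa [zpow_sub_one, mul_inv_eq_one] at hor
    have h1 := Equiv.Perm.ext_iff.mp hi' a0
    rw [hone, Equiv.Perm.mul_apply, Equiv.Perm.mul_apply, e0, ha1, hstep 1, ← ha2] at h1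
    have hσ0 : σ a0 = a1 := by rw [ha1, pow_one]
    rw [hσ0, e1] at h1
    have h2 := Equiv.Perm.ext_iff.mp hi' a1
    rw [hone, Equiv.Perm.mul_apply, Equiv.Perm.mul_apply, e1, ha2, hstep 2, ← ha3, ha1, hstep 1, ← ha2, e2] at h2
    exact d03 h2.symm
  exact hMtop (hco'.2 M (lt_of_le_not_ge hN hlt))

theorem perm_center_eq_bot {n : ℕ} (hn : 3 ≤ n) : Subgroup.center (Equiv.Perm (Fin n)) = ⊥ := by
  rw [eq_bot_iff]
  intro g hg
  rw [Subgroup.mem_bot]
  ext a : 1
  by_contra hne
  obtain ⟨c, hc1, hc2⟩ : ∃ c : Fin n, c ≠ a ∧ c ≠ g a := by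
    obtain ⟨c, hc⟩ := Finset.exists_mem_notMem_of_card_lt_card
      (s := {a, g a}) (t := (Finset.univ : Finset (Fin n)))
      (by rw [Finset.card_univ, Fintype.card_fin]; exact lt_of_le_of_lt Finset.card_le_two (by omega))
    simp at hc
    exact ⟨c, hc.1, hc.2⟩
  have h := Equiv.Perm.ext_iff.mp (Subgroup.mem_center_iff.mp hg (swap (g a) c)) a
  rw [Equiv.Perm.mul_apply, Equiv.Perm.mul_apply, swap_apply_left,
    swap_apply_of_ne_of_ne (by simpa using Ne.symm hne) hc1.symm] at h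
  exact hc2 h

def threes : List (Equiv.Perm (Fin 5)) := [
  swap 0 1 * swap 1 2,
  swap 0 1 * swap 1 3,
  swap 0 1 * swap 1 4,
  swap 0 2 * swap 2 3,
  swap 0 2 * swap 2 4,
  swap 0 3 * swap 3 4,
  swap 1 2 * swap 2 3,
  swap 1 2 * swap 2 4,
  swap 1 3 * swap 3 4,
  swap 2 3 * swap 3 4
]

def fives : List (Equiv.Perm (Fin 5)) := [
  swap 0 1 * swap 1 2 * swap 2 3 * swap 3 4,
  swap 0 1 * swap 1 2 * swap 2 4 * swap 4 3,
  swap 0 1 * swap 1 3 * swap 3 2 * swap 2 4,
  swap 0 1 * swap 1 3 * swap 3 4 * swap 4 2,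
  swap 0 1 * swap 1 4 * swap 4 2 * swap 2 3,
  swap 0 1 * swap 1 4 * swap 4 3 * swap 3 2
]

def tS : Fin 17 → Equiv.Perm (Fin 5) := fun i => (threes ++ fives ++ [swap 0 1 * swap 1 2 * swap 2 3]).getD i 1

def tA : Fin 17 → Equiv.Perm (Fin 5) := fun i => (threes ++ fives ++ [swap 0 1 * swap 2 3]).getD i 1

def t4 : Fin 5 → Equiv.Perm (Fin 4) := fun i =>
  [swap 0 1 * swap 1 2, swap 0 1 * swap 1 3, swap 0 2 * swap 2 3, swap 1 2 * swap 2 3,
    swap 0 1 * swap 1 2 * swap 2 3].getD i 1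

def pairs5 : List (Fin 5 × Fin 5) :=
  [(0, 1), (0, 2), (0, 3), (0, 4), (1, 2), (1, 3), (1, 4), (2, 3), (2, 4), (3, 4)]

theorem tS_pair : ∀ i j : Fin 17, i ≠ j →
    tS i * tS j ≠ tS j * tS i ∧ (tS i ^ 3 = 1 ∨ tS i ^ 5 = 1 ∨ tS j ^ 3 = 1 ∨ tS j ^ 5 = 1) := by
  decide +kernel

theorem tA_pair : ∀ i j : Fin 17, i ≠ j →
    tA i * tA j ≠ tA j * tA i ∧ (tA i ^ 3 = 1 ∨ tA i ^ 5 = 1 ∨ tA j ^ 3 = 1 ∨ tA j ^ 5 = 1) := by
  decide +kernel

theorem tA_even : ∀ i : Fin 17, sign (tA i) = 1 := by decide +kernel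

theorem t4_pair : ∀ i j : Fin 5, i ≠ j →
    t4 i * t4 j ≠ t4 j * t4 i ∧ (t4 i ^ 3 = 1 ∨ t4 i ^ 5 = 1 ∨ t4 j ^ 3 = 1 ∨ t4 j ^ 5 = 1) := by
  decide +kernel

theorem cover5 : ∀ g : Equiv.Perm (Fin 5), sign g = 1 ∨ (∃ x, g x = x) ∨
    ∃ e ∈ pairs5, g * swap e.1 e.2 = swap e.1 e.2 * g := by
  decide +kernel

theorem coverA5 : ∀ g : Equiv.Perm (Fin 5), sign g = 1 → (∃ x, g x = x) ∨
    ∃ c ∈ fives, ∃ k : Fin 5, g = c ^ (k : ℕ) := by
  decide +kernel

theorem cover4 : ∀ g : Equiv.Perm (Fin 4), sign g = 1 ∨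
    ∃ v ∈ [swap (0 : Fin 4) 1 * swap 2 3, swap 0 2 * swap 1 3, swap 0 3 * swap 1 2], g * v = v * g := by
  decide +kernel

theorem perm_five (A : Finset (Subgroup (Equiv.Perm (Fin 5)))) (hA : Lib.NilpotentCover.IsNilCover A) : False := by
  classical
  let B : Finset (Subgroup (Equiv.Perm (Fin 5))) :=
    {alternatingGroup (Fin 5)} ∪ (Finset.univ.image fun x : Fin 5 => MulAction.stabilizer _ x) ∪
      pairs5.toFinset.image fun e => Subgroup.centralizer {swap e.1 e.2}
  have hB : B.card ≤ 16 := by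
    refine (Finset.card_union_le _ _).trans ?_
    have h1 := Finset.card_union_le ({alternatingGroup (Fin 5)} : Finset (Subgroup (Equiv.Perm (Fin 5))))
      (Finset.univ.image fun x : Fin 5 => MulAction.stabilizer (Equiv.Perm (Fin 5)) x)
    have h2 := Finset.card_image_le (s := (Finset.univ : Finset (Fin 5)))
      (f := fun x => MulAction.stabilizer (Equiv.Perm (Fin 5)) x)
    have h3 := Finset.card_image_le (s := pairs5.toFinset)
      (f := fun e => Subgroup.centralizer ({swap e.1 e.2} : Set (Equiv.Perm (Fin 5))))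
    have h4 : pairs5.toFinset.card ≤ 10 := pairs5.toFinset_card_le
    rw [Finset.card_singleton] at h1
    rw [Finset.card_univ, Fintype.card_fin] at h2
    omega
  have hcard : Nat.card (Equiv.Perm (Fin 5)) = 120 := by
    rw [Nat.card_eq_fintype_card, Fintype.card_perm, Fintype.card_fin]; rfl
  have hlow := lower_bound (by rw [hcard]; norm_num) (by rw [hcard]; norm_num) hA.1.2 hA.2.2 tS tS_pair
  have hup := hA.2.1 B ⟨?_, ?_⟩
  · omega
  · intro X hX
    simp only [B, Finset.mem_union, Finset.mem_singleton, Finset.mem_image, Finset.mem_univ, true_and,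
      List.mem_toFinset] at hX
    rcases hX with (rfl | ⟨x, rfl⟩) | ⟨e, he, rfl⟩
    · intro h
      have : swap (0 : Fin 5) 1 ∈ alternatingGroup (Fin 5) := h ▸ Subgroup.mem_top _
      rw [Equiv.Perm.mem_alternatingGroup, sign_swap (by decide)] at this
      exact absurd this (by decide)
    · intro h
      have : swap x (x + 1) ∈ MulAction.stabilizer (Equiv.Perm (Fin 5)) x := h ▸ Subgroup.mem_top _
      rw [MulAction.mem_stabilizer_iff, Equiv.Perm.smul_def, swap_apply_left] at this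
      exact (by decide : ∀ x : Fin 5, x + 1 ≠ x) x this
    · intro h
      have hall : ∀ g : Equiv.Perm (Fin 5), g * swap e.1 e.2 = swap e.1 e.2 * g := fun g =>
        Subgroup.mem_centralizer_singleton_iff.mp (h ▸ Subgroup.mem_top g)
      have hZ := perm_center_eq_bot (n := 5) (by norm_num)
      have h1 : swap e.1 e.2 ∈ Subgroup.center (Equiv.Perm (Fin 5)) := Subgroup.mem_center_iff.mpr hall
      rw [hZ, Subgroup.mem_bot, swap_eq_one_iff] at h1
      exact (by decide : ∀ e ∈ pairs5, e.1 ≠ e.2) e he h1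
  · intro g
    rcases cover5 g with h | ⟨x, hx⟩ | ⟨e, he, hg⟩
    · exact ⟨_, by simp [B], Equiv.Perm.mem_alternatingGroup.mpr h⟩
    · exact ⟨MulAction.stabilizer _ x, Finset.mem_union_left _ (Finset.mem_union_right _
        (Finset.mem_image_of_mem _ (Finset.mem_univ x))), hx⟩
    · exact ⟨Subgroup.centralizer {swap e.1 e.2}, Finset.mem_union_right _
        (Finset.mem_image_of_mem _ (List.mem_toFinset.mpr he)), Subgroup.mem_centralizer_singleton_iff.mpr hg⟩

theorem alt_five (A : Finset (Subgroup ↥(alternatingGroup (Fin 5)))) (hA : Lib.NilpotentCover.IsNilCover A) :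
    False := by
  classical
  let B : Finset (Subgroup ↥(alternatingGroup (Fin 5))) :=
    (Finset.univ.image fun x : Fin 5 => (MulAction.stabilizer (Equiv.Perm (Fin 5)) x).subgroupOf _) ∪
      fives.toFinset.image fun c => (Subgroup.zpowers c).subgroupOf _
  have hB : B.card ≤ 11 := by
    refine (Finset.card_union_le _ _).trans ?_
    have h2 := Finset.card_image_le (s := (Finset.univ : Finset (Fin 5)))
      (f := fun x => (MulAction.stabilizer (Equiv.Perm (Fin 5)) x).subgroupOf (alternatingGroup (Fin 5)))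
    have h3 := Finset.card_image_le (s := fives.toFinset)
      (f := fun c => (Subgroup.zpowers c).subgroupOf (alternatingGroup (Fin 5)))
    have h4 : fives.toFinset.card ≤ 6 := fives.toFinset_card_le
    rw [Finset.card_univ, Fintype.card_fin] at h2
    omega
  have hcard : Nat.card ↥(alternatingGroup (Fin 5)) ∣ 120 := by
    have h := (alternatingGroup (Fin 5)).card_subgroup_dvd_card
    rwa [Nat.card_eq_fintype_card (α := Equiv.Perm (Fin 5)), Fintype.card_perm, Fintype.card_fin] at h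
  have h9 : ∀ q : ℕ, ¬ q ^ 2 ∣ 120 → ¬ q ^ 2 ∣ Nat.card ↥(alternatingGroup (Fin 5)) := fun q hq h =>
    hq (h.trans hcard)
  have hlow := lower_bound (h9 3 (by norm_num)) (h9 5 (by norm_num)) hA.1.2 hA.2.2
    (fun i => ⟨tA i, Equiv.Perm.mem_alternatingGroup.mpr (tA_even i)⟩)
    (fun i j hij => by simpa [Subtype.ext_iff] using tA_pair i j hij)
  have hup := hA.2.1 B ⟨?_, ?_⟩
  · omega
  · intro X hX h
    have hall : ∀ y : Fin 17, (⟨tA y, Equiv.Perm.mem_alternatingGroup.mpr (tA_even y)⟩ : ↥(alternatingGroup (Fin 5))) ∈ X :=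
      fun y => h ▸ Subgroup.mem_top _
    simp only [B, Finset.mem_union, Finset.mem_image, Finset.mem_univ, true_and, List.mem_toFinset] at hX
    rcases hX with ⟨x, rfl⟩ | ⟨c, hc, rfl⟩
    · have := hall 10
      rw [Subgroup.mem_subgroupOf, MulAction.mem_stabilizer_iff] at this
      exact (by decide +kernel : ∀ x : Fin 5, tA 10 x ≠ x) x this
    · have h1 := hall 0
      rw [Subgroup.mem_subgroupOf, mem_zpowers_iff_mem_range_orderOf] at h1
      obtain ⟨hc1, hc2, hc3⟩ := (by decide +kernel :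
        ∀ c ∈ fives, c ^ 5 = 1 ∧ c ≠ 1 ∧ ∀ k : Fin 5, tA 0 ≠ c ^ (k : ℕ)) c hc
      rw [orderOf_eq_prime (p := 5) (hp := ⟨by norm_num⟩) hc1 hc2] at h1
      obtain ⟨k, hk, hck⟩ := Finset.mem_image.mp h1
      exact hc3 ⟨k, Finset.mem_range.mp hk⟩ hck.symm
  · rintro ⟨g, hg⟩
    rcases coverA5 g (Equiv.Perm.mem_alternatingGroup.mp hg) with ⟨x, hx⟩ | ⟨c, hc, k, hk⟩
    · exact ⟨(MulAction.stabilizer (Equiv.Perm (Fin 5)) x).subgroupOf _, Finset.mem_union_left _
        (Finset.mem_image_of_mem _ (Finset.mem_univ x)), Subgroup.mem_subgroupOf.mpr hx⟩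
    · exact ⟨(Subgroup.zpowers c).subgroupOf _, Finset.mem_union_right _
        (Finset.mem_image_of_mem _ (List.mem_toFinset.mpr hc)),
        Subgroup.mem_subgroupOf.mpr (hk ▸ Subgroup.pow_mem _ (Subgroup.mem_zpowers c) _)⟩

theorem perm_four (A : Finset (Subgroup (Equiv.Perm (Fin 4)))) (hA : Lib.NilpotentCover.IsNilCover A) : False := by
  classical
  let V : List (Equiv.Perm (Fin 4)) := [swap 0 1 * swap 2 3, swap 0 2 * swap 1 3, swap 0 3 * swap 1 2]
  let B : Finset (Subgroup (Equiv.Perm (Fin 4))) :=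
    {alternatingGroup (Fin 4)} ∪ V.toFinset.image fun v => Subgroup.centralizer {v}
  have hB : B.card ≤ 4 := by
    refine (Finset.card_union_le _ _).trans ?_
    have h3 := Finset.card_image_le (s := V.toFinset)
      (f := fun v => Subgroup.centralizer ({v} : Set (Equiv.Perm (Fin 4))))
    have h4 : V.toFinset.card ≤ 3 := V.toFinset_card_le
    rw [Finset.card_singleton]
    omega
  have hcard : Nat.card (Equiv.Perm (Fin 4)) = 24 := by
    rw [Nat.card_eq_fintype_card, Fintype.card_perm, Fintype.card_fin]; rfl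
  have hlow := lower_bound (by rw [hcard]; norm_num) (by rw [hcard]; norm_num) hA.1.2 hA.2.2 t4 t4_pair
  have hup := hA.2.1 B ⟨?_, ?_⟩
  · omega
  · intro X hX
    simp only [B, Finset.mem_union, Finset.mem_singleton, Finset.mem_image, List.mem_toFinset] at hX
    rcases hX with rfl | ⟨v, hv, rfl⟩
    · intro h
      have : swap (0 : Fin 4) 1 ∈ alternatingGroup (Fin 4) := h ▸ Subgroup.mem_top _
      rw [Equiv.Perm.mem_alternatingGroup, sign_swap (by decide)] at this
      exact absurd this (by decide)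
    · intro h
      have h0 : swap (0 : Fin 4) 1 * swap 1 2 ∈ Subgroup.centralizer ({v} : Set (Equiv.Perm (Fin 4))) :=
        h ▸ Subgroup.mem_top _
      rw [Subgroup.mem_centralizer_singleton_iff] at h0
      simp only [V] at hv
      revert h0; clear h; revert hv; revert v; decide +kernel
  · intro g
    rcases cover4 g with h | ⟨v, hv, hg⟩
    · exact ⟨_, by simp [B], Equiv.Perm.mem_alternatingGroup.mpr h⟩
    · exact ⟨Subgroup.centralizer {v}, Finset.mem_union_right _ (Finset.mem_image_of_mem _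
        (List.mem_toFinset.mpr hv)), Subgroup.mem_centralizer_singleton_iff.mpr hg⟩

theorem perm_no_cover (n : ℕ) (hn : 4 ≤ n) (A : Finset (Subgroup (Equiv.Perm (Fin n))))
    (hA : Lib.NilpotentCover.IsNilCover A) : False := by
  rcases Nat.lt_or_ge n 6 with h | h
  · interval_cases n
    · exact perm_four A hA
    · exact perm_five A hA
  · exact large_no_cover h (MonoidHom.id _) Function.injective_id (fun σ _ => ⟨σ, rfl⟩)
      (perm_center_eq_bot (by omega)) A hA

theorem alt_no_cover (n : ℕ) (hn : 5 ≤ n) (A : Finset (Subgroup ↥(alternatingGroup (Fin n))))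
    (hA : Lib.NilpotentCover.IsNilCover A) : False := by
  rcases Nat.lt_or_ge n 6 with h | h
  · interval_cases n
    exact alt_five A hA
  · exact large_no_cover h (alternatingGroup (Fin n)).subtype (Subgroup.subtype_injective _)
      (fun σ hσ => ⟨⟨σ, Equiv.Perm.mem_alternatingGroup.mpr hσ⟩, rfl⟩)
      (alternatingGroup.center_eq_bot (by rw [Nat.card_fin]; omega)) A hA

end

/-- A cover of a group is a finite set of proper subgroups whose union is the whole group; it is minimal when no cover has fewer members, and nilpotent when all its members are nilpotent. The alternating groups of degree at least 5 and the symmetric groups of degree at least 4 have no nilpotent minimal cover. -/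
theorem result (n : ℕ) :
    (5 ≤ n → ¬ ∃ 𝓐 : Finset (Subgroup ↥(alternatingGroup (Fin n))), ((∀ A ∈ 𝓐, A ≠ ⊤) ∧ (∀ g : ↥(alternatingGroup (Fin n)), ∃ A ∈ 𝓐, g ∈ A)) ∧ (∀ 𝓑 : Finset (Subgroup ↥(alternatingGroup (Fin n))), (∀ A ∈ 𝓑, A ≠ ⊤) ∧ (∀ g : ↥(alternatingGroup (Fin n)), ∃ A ∈ 𝓑, g ∈ A) → 𝓐.card ≤ 𝓑.card) ∧ (∀ A ∈ 𝓐, Group.IsNilpotent ↥A)) ∧
    (4 ≤ n → ¬ ∃ 𝓐 : Finset (Subgroup (Equiv.Perm (Fin n))), ((∀ A ∈ 𝓐, A ≠ ⊤) ∧ (∀ g : (Equiv.Perm (Fin n)), ∃ A ∈ 𝓐, g ∈ A)) ∧ (∀ 𝓑 : Finset (Subgroup (Equiv.Perm (Fin n))), (∀ A ∈ 𝓑, A ≠ ⊤) ∧ (∀ g : (Equiv.Perm (Fin n)), ∃ A ∈ 𝓑, g ∈ A) → 𝓐.card ≤ 𝓑.card) ∧ (∀ A ∈ 𝓐, Group.IsNilpotent ↥A)) := by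
  refine ⟨fun hn h => ?_, fun hn h => ?_⟩
  · obtain ⟨A, hA⟩ := h
    exact alt_no_cover n hn A hA
  · obtain ⟨A, hA⟩ := h
    exact perm_no_cover n hn A hA

end Cfsg.Agent.S3892
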