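import Cfsg.Statements.S3893
import Cfsg.Agent.Lib.Suz.Covers

set_option autoImplicit false
open Cfsg

namespace Cfsg.Agent.S3893

/-- A cover of a group is a finite set of proper subgroups whose union is the whole group; it is minimal when no cover has fewer members, and nilpotent when all its members are nilpotent. The Suzuki groups Sz(q), q = 2^(2m+1) with m ≥ 1, have no nilpotent minimal cover. -/
theorem result {F : Type*} [Field F] [Fintype F] (m : ℕ) (hm : 1 ≤ m) (hF : Fintype.card F = 2 ^ (2 * m + 1)) :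
    ¬ ∃ 𝓐 : Finset (Subgroup ↥(Cfsg.Lie.Sz F (2 ^ (m + 1)))), ((∀ A ∈ 𝓐, A ≠ ⊤) ∧ (∀ g : ↥(Cfsg.Lie.Sz F (2 ^ (m + 1))), ∃ A ∈ 𝓐, g ∈ A)) ∧ (∀ 𝓑 : Finset (Subgroup ↥(Cfsg.Lie.Sz F (2 ^ (m + 1)))), (∀ A ∈ 𝓑, A ≠ ⊤) ∧ (∀ g : ↥(Cfsg.Lie.Sz F (2 ^ (m + 1))), ∃ A ∈ 𝓑, g ∈ A) → 𝓐.card ≤ 𝓑.card) ∧ (∀ A ∈ 𝓐, Group.IsNilpotent ↥A) := by
  haveI := Cfsg.Agent.Lib.Suz.charP_two (m := m) ⟨hm, hF⟩
  rintro ⟨𝓐, ⟨-, hcov⟩, hmin, hnil⟩
  classical
  have c : Cfsg.Agent.Lib.Suz.Ctx F m := ⟨hm, hF⟩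
  set e := Cfsg.Agent.Lib.Suz.lieEquiv c
  have hinj : Function.Injective (Subgroup.map e.symm.toMonoidHom) := Subgroup.map_injective e.symm.injective
  have hinj' : Function.Injective (Subgroup.map e.toMonoidHom) := Subgroup.map_injective e.injective
  obtain ⟨𝓑, hB1, hB2, hlt⟩ := Cfsg.Agent.Lib.Suz.no_nilpotent_minimal_cover c
    (𝓐.image (Subgroup.map e.symm.toMonoidHom))
    (fun g => by
      obtain ⟨A, hA, hgA⟩ := hcov (e g)
      exact ⟨_, Finset.mem_image_of_mem _ hA, e g, hgA, e.symm_apply_apply g⟩)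
    (fun A hA => by
      obtain ⟨A', hA', rfl⟩ := Finset.mem_image.1 hA
      haveI := hnil A' hA'
      exact Group.nilpotent_of_mulEquiv (A'.equivMapOfInjective _ e.symm.injective))
  rw [Finset.card_image_of_injective _ hinj] at hlt
  have := hmin (𝓑.image (Subgroup.map e.toMonoidHom)) ⟨fun A hA => by
      obtain ⟨B, hB, rfl⟩ := Finset.mem_image.1 hA
      intro h
      exact hB1 B hB (hinj' (h.trans (Subgroup.map_top_of_surjective _ e.surjective).symm)),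
    fun g => by
      obtain ⟨B, hB, hgB⟩ := hB2 (e.symm g)
      exact ⟨_, Finset.mem_image_of_mem _ hB, e.symm g, hgB, e.apply_symm_apply g⟩⟩
  rw [Finset.card_image_of_injective _ hinj'] at this
  omega

end Cfsg.Agent.S3893
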