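import Cfsg.Statements.S3894
import Cfsg.Agent.Lib.NilCover.Count

set_option autoImplicit false
open Cfsg

namespace Cfsg.Agent.S3894

open Matrix Module Cfsg.Agent.Lib.NilCover

variable {F : Type*} [Field F] [Fintype F] {n : ℕ}

local notation "π" => QuotientGroup.mk' (Subgroup.center (GL (Fin n) F))

/-- The units inside a subalgebra. -/
def unitsIn (a : Subalgebra F (Matrix (Fin n) (Fin n) F)) : Subgroup (GL (Fin n) F) where
  carrier := {g | (g : Matrix (Fin n) (Fin n) F) ∈ a}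
  mul_mem' hx hy := by simp only [Set.mem_setOf_eq, Units.val_mul]; exact mul_mem hx hy
  one_mem' := by simp only [Set.mem_setOf_eq, Units.val_one]; exact one_mem a
  inv_mem' := fun {x} hx => by
    have hx1 : x⁻¹ = x ^ (orderOf x - 1) := by
      apply inv_eq_of_mul_eq_one_right
      rw [← pow_succ', Nat.sub_add_cancel (orderOf_pos x), pow_orderOf_eq_one]
    simp only [Set.mem_setOf_eq] at hx ⊢
    rw [hx1, Units.val_pow_eq_pow_val]
    exact pow_mem hx _

/-- The stabilizer of a subspace. -/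
def stab (W : Submodule F (Fin n → F)) : Subgroup (GL (Fin n) F) where
  carrier := {g | ∀ v ∈ W, (g : Matrix (Fin n) (Fin n) F) *ᵥ v ∈ W}
  mul_mem' := fun {x y} hx hy v hv => by rw [Units.val_mul, ← mulVec_mulVec]; exact hx _ (hy v hv)
  one_mem' := fun v hv => by simpa using hv
  inv_mem' := fun {x} hx => by
    have hx1 : x⁻¹ = x ^ (orderOf x - 1) := by
      apply inv_eq_of_mul_eq_one_right
      rw [← pow_succ', Nat.sub_add_cancel (orderOf_pos x), pow_orderOf_eq_one]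
    simp only [Set.mem_setOf_eq] at hx ⊢
    rw [hx1]
    induction orderOf x - 1 with
    | zero => intro v hv; simpa using hv
    | succ m ih => intro v hv; rw [pow_succ, Units.val_mul, ← mulVec_mulVec]; exact ih _ (hx v hv)

theorem center_scalar {z : GL (Fin n) F} (hz : z ∈ Subgroup.center (GL (Fin n) F)) :
    ∃ c : Fˣ, (z : Matrix (Fin n) (Fin n) F) = algebraMap F (Matrix (Fin n) (Fin n) F) (c : F) := by
  rw [Matrix.GeneralLinearGroup.center_eq_range_scalar] at hz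
  obtain ⟨c, rfl⟩ := hz
  exact ⟨c, rfl⟩

omit [Fintype F] in
/-- A transvection. -/
theorem exists_transvection {v w : Fin n → F} (hvw : LinearIndependent F ![v, w]) :
    ∃ t : Matrix.SpecialLinearGroup (Fin n) F, (t : Matrix (Fin n) (Fin n) F) *ᵥ v = v + w ∧
      ((t : Matrix (Fin n) (Fin n) F) - 1) * ((t : Matrix (Fin n) (Fin n) F) - 1) = 0 := by
  classical
  obtain ⟨φ, hφ⟩ : ∃ φ : (Fin n → F) →ₗ[F] F, φ v = 1 ∧ φ w = 0 := by
    have hv : v ∉ Submodule.span F {w} := by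
      intro h
      obtain ⟨c, hc⟩ := Submodule.mem_span_singleton.1 h
      have := (LinearIndependent.pair_iff.1 hvw) (-1) c (by rw [hc, neg_smul, one_smul, neg_add_cancel])
      simp at this
    obtain ⟨ψ, h1, h2⟩ := Submodule.exists_dual_map_eq_bot_of_notMem hv inferInstance
    refine ⟨(ψ v)⁻¹ • ψ, ?_, ?_⟩
    · simp [h1]
    · have : ψ w ∈ (Submodule.span F {w}).map ψ := ⟨w, Submodule.mem_span_singleton_self w, rfl⟩
      rw [h2, Submodule.mem_bot] at this
      simp [this]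
  let f : Fin n → F := fun i => φ (Pi.single i 1)
  have hf : ∀ u, f ⬝ᵥ u = φ u := by
    intro u
    conv_rhs => rw [pi_eq_sum_univ' u, map_sum]
    exact Finset.sum_congr rfl fun i _ => by rw [map_smul, smul_eq_mul, mul_comm]
  refine ⟨⟨1 + vecMulVec w f, by
    rw [vecMulVec_eq Unit, det_one_add_replicateCol_mul_replicateRow, hf, hφ.2, add_zero]⟩, ?_, ?_⟩
  · show (1 + vecMulVec w f) *ᵥ v = v + w
    rw [add_mulVec, one_mulVec, vecMulVec_mulVec, hf, hφ.1]
    simp
  · show (1 + vecMulVec w f - 1) * (1 + vecMulVec w f - 1) = 0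
    rw [add_sub_cancel_left, vecMulVec_mul_vecMulVec, hf, hφ.2, zero_smul]
    ext i j
    simp [vecMulVec_apply]

theorem exists_indep (hn : 2 ≤ n) {v : Fin n → F} (hv : v ≠ 0) : ∃ w, LinearIndependent F ![v, w] := by
  obtain ⟨w, -, hw⟩ : ∃ w ∈ (⊤ : Submodule F (Fin n → F)), w ∉ Submodule.span F {v} :=
    SetLike.exists_of_lt (lt_top_iff_ne_top.2 fun e => by
      have := finrank_span_singleton (K := F) hv
      rw [e, finrank_top, finrank_pi, Fintype.card_fin] at this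
      omega)
  refine ⟨w, (LinearIndependent.pair_iff' hv).2 fun c hc => hw (hc ▸ Submodule.smul_mem _ c (Submodule.mem_span_singleton_self v))⟩

/-- The special linear group is in none of the covering subgroups. -/
theorem not_sl_le (hn : 2 ≤ n) (B : Subgroup (GL (Fin n) F)) (hB : (∃ a : Tori F n, B = unitsIn a.1) ∨ ∃ W : Small F n, B = stab W.1) :
    ∃ t : Matrix.SpecialLinearGroup (Fin n) F, π (Matrix.SpecialLinearGroup.toGL t) ∉ B.map π := by
  have key : ∀ (t : Matrix.SpecialLinearGroup (Fin n) F), π (Matrix.SpecialLinearGroup.toGL t) ∈ B.map π →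
      ∃ b ∈ B, ∃ c : Fˣ, (t : Matrix (Fin n) (Fin n) F) = (b : Matrix (Fin n) (Fin n) F) * algebraMap F _ (c : F) := by
    rintro t ⟨b, hb, hbt⟩
    obtain ⟨z, hz, hbz⟩ := (QuotientGroup.mk'_eq_mk' (Subgroup.center (GL (Fin n) F))).1 hbt
    obtain ⟨c, hc⟩ := center_scalar hz
    refine ⟨b, hb, c, ?_⟩
    rw [← hc, ← Units.val_mul, hbz]
    rfl
  obtain ⟨a, rfl⟩ | ⟨W, rfl⟩ := hB
  · obtain ⟨v, hv⟩ := exists_ne_vec (F := F) (show 0 < n by omega)
    obtain ⟨w, hw⟩ := exists_indep hn hv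
    obtain ⟨t, ht1, ht2⟩ := exists_transvection hw
    refine ⟨t, fun h => ?_⟩
    obtain ⟨b, hb, c, hbc⟩ := key t h
    have hmem : (t : Matrix (Fin n) (Fin n) F) - 1 ∈ a.1 :=
      sub_mem (hbc ▸ mul_mem hb (algebraMap_mem a.1 _)) (one_mem _)
    have h0 : (t : Matrix (Fin n) (Fin n) F) - 1 = 0 := by
      by_contra h0
      obtain ⟨d, -, hd⟩ := exists_inv a.2.1 hmem h0
      apply h0
      calc (t : Matrix (Fin n) (Fin n) F) - 1
          = d * ((t : Matrix (Fin n) (Fin n) F) - 1) * ((t : Matrix (Fin n) (Fin n) F) - 1) := by rw [hd, Matrix.one_mul]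
        _ = 0 := by rw [Matrix.mul_assoc, ht2, Matrix.mul_zero]
    rw [sub_eq_zero.1 h0, one_mulVec] at ht1
    have := LinearIndependent.ne_zero (1 : Fin 2) hw
    exact this (by simpa using ht1)
  · obtain ⟨h1, h2⟩ := W.2
    obtain ⟨v, hv, hv0⟩ := Submodule.exists_mem_ne_zero_of_ne_bot (Submodule.one_le_finrank_iff.1 h1)
    obtain ⟨w, -, hw⟩ : ∃ w ∈ (⊤ : Submodule F (Fin n → F)), w ∉ W.1 :=
      SetLike.exists_of_lt (lt_top_iff_ne_top.2 fun e => by
        rw [e, finrank_top, finrank_pi, Fintype.card_fin] at h2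
        omega)
    obtain ⟨t, ht1, -⟩ := exists_transvection (v := v) (w := w)
      ((LinearIndependent.pair_iff' hv0).2 fun c hc => hw (hc ▸ Submodule.smul_mem _ c hv))
    refine ⟨t, fun h => ?_⟩
    obtain ⟨b, hb, c, hbc⟩ := key t h
    refine hw ?_
    have : v + w ∈ W.1 := by
      rw [← ht1, hbc, ← mulVec_mulVec]
      refine hb _ ?_
      rw [Algebra.algebraMap_eq_smul_one, smul_mulVec, one_mulVec]
      exact Submodule.smul_mem _ _ hv
    simpa using sub_mem this hv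

theorem covered (hn : 2 ≤ n) (g : GL (Fin n) F) :
    (∃ a : Tori F n, g ∈ unitsIn a.1) ∨ ∃ W : Small F n, g ∈ stab W.1 := by
  by_cases h : ∀ W : Submodule F (Fin n → F),
      (∀ v ∈ W, (g : Matrix (Fin n) (Fin n) F) *ᵥ v ∈ W) → 1 ≤ finrank F W → n / 2 < finrank F W
  · exact Or.inl ⟨⟨_, irreducible_adjoin hn _ h⟩, Algebra.self_mem_adjoin_singleton F _⟩
  · push Not at h
    obtain ⟨W, hW, h1, h2⟩ := h
    exact Or.inr ⟨⟨W, h1, h2⟩, hW⟩


/-- A cover of a group is a finite set of proper subgroups whose union is the whole group; it is minimal when no cover has fewer members, and nilpotent when all its members are nilpotent. Let F be a finite field with q elements and n ≥ 3, or n = 2 and q ≥ 4. Then no subgroup of PGL_n(F) = GL_n(F)/Z(GL_n(F)) containing the image of SL_n(F) has a nilpotent minimal cover. -/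
theorem result {F : Type*} [Field F] [Fintype F] (n : ℕ) (hn : 3 ≤ n ∨ (n = 2 ∧ 4 ≤ Fintype.card F))
    (G : Subgroup (GL (Fin n) F ⧸ Subgroup.center (GL (Fin n) F)))
    (hG : ((Matrix.SpecialLinearGroup.toGL : Matrix.SpecialLinearGroup (Fin n) F →* GL (Fin n) F).range).map
      (QuotientGroup.mk' (Subgroup.center (GL (Fin n) F))) ≤ G) :
    ¬ ∃ 𝓐 : Finset (Subgroup ↥G), ((∀ A ∈ 𝓐, A ≠ ⊤) ∧ (∀ g : ↥G, ∃ A ∈ 𝓐, g ∈ A)) ∧ (∀ 𝓑 : Finset (Subgroup ↥G), (∀ A ∈ 𝓑, A ≠ ⊤) ∧ (∀ g : ↥G, ∃ A ∈ 𝓑, g ∈ A) → 𝓐.card ≤ 𝓑.card) ∧ (∀ A ∈ 𝓐, Group.IsNilpotent ↥A) := by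
  classical
  have hn2 : 2 ≤ n := by omega
  rintro ⟨𝓐, ⟨-, hAcov⟩, hmin, hnil⟩
  obtain ⟨p, hp⟩ := CharP.exists F
  haveI : Fact p.Prime := ⟨CharP.char_is_prime F p⟩
  let Φ := QuotientGroup.mk' (Subgroup.center (GL (Fin n) F))
  -- lifts of members
  let K : Subgroup ↥G → Subgroup (GL (Fin n) F) := fun A => (A.map G.subtype).comap Φ
  have hK : ∀ A ∈ 𝓐, Group.IsNilpotent (K A) := by
    intro A hA
    haveI := hnil A hA
    haveI : Group.IsNilpotent ↥(A.map G.subtype) :=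
      Group.nilpotent_of_mulEquiv (A.equivMapOfInjective G.subtype G.subtype_injective)
    refine Subgroup.isNilpotent_of_ker_le_center (Φ.subgroupComap (A.map G.subtype)) (fun k hk => ?_)
    rw [MonoidHom.mem_ker, Subtype.ext_iff] at hk
    rw [Subgroup.mem_center_iff]
    intro l
    exact Subtype.ext ((Subgroup.mem_center_iff.1 ((QuotientGroup.eq_one_iff (k : GL (Fin n) F)).1 hk)) l)
  -- a member for each element of the special linear group
  have hsl : ∀ w : GL (Fin n) F, (w : Matrix (Fin n) (Fin n) F).det = 1 → ∃ A : 𝓐, w ∈ K A.1 := by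
    intro w hw
    have hG' : Φ w ∈ G := hG ⟨Matrix.SpecialLinearGroup.toGL ⟨_, hw⟩, ⟨_, rfl⟩, congrArg Φ (Units.ext rfl)⟩
    obtain ⟨A, hA, hwA⟩ := hAcov ⟨Φ w, hG'⟩
    exact ⟨⟨A, hA⟩, ⟨_, hwA, rfl⟩⟩
  choose M hM using hsl
  -- the ordinary cover
  haveI := Fintype.ofFinite (Tori F n ⊕ Small F n)
  let B : Tori F n ⊕ Small F n → Subgroup (GL (Fin n) F) := Sum.elim (fun a => unitsIn a.1) (fun W => stab W.1)
  have hB : ∀ i, (∃ a : Tori F n, B i = unitsIn a.1) ∨ ∃ W : Small F n, B i = stab W.1 := by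
    rintro (a | W)
    · exact Or.inl ⟨a, rfl⟩
    · exact Or.inr ⟨W, rfl⟩
  let 𝓑 : Finset (Subgroup ↥G) := Finset.univ.image fun i => ((B i).map Φ).subgroupOf G
  have hle : 𝓐.card ≤ 𝓑.card := by
    refine hmin 𝓑 ⟨fun A hA e => ?_, fun g => ?_⟩
    · obtain ⟨i, -, rfl⟩ := Finset.mem_image.1 hA
      obtain ⟨t, ht⟩ := not_sl_le hn2 (B i) (hB i)
      refine ht ?_
      have hG' : Φ (Matrix.SpecialLinearGroup.toGL t) ∈ G := hG ⟨_, ⟨_, rfl⟩, rfl⟩
      have hm := (e ▸ Subgroup.mem_top _ : (⟨_, hG'⟩ : ↥G) ∈ ((B i).map Φ).subgroupOf G)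
      exact hm
    · obtain ⟨x, hx⟩ := QuotientGroup.mk'_surjective _ (g : GL (Fin n) F ⧸ Subgroup.center (GL (Fin n) F))
      rcases covered hn2 x with ⟨a, ha⟩ | ⟨W, hW⟩
      · exact ⟨_, Finset.mem_image.2 ⟨Sum.inl a, Finset.mem_univ _, rfl⟩, ⟨x, ha, hx⟩⟩
      · exact ⟨_, Finset.mem_image.2 ⟨Sum.inr W, Finset.mem_univ _, rfl⟩, ⟨x, hW, hx⟩⟩
  have hupper : 𝓐.card ≤ Nat.card (Tori F n) + Nat.card (Small F n) := by
    refine (hle.trans Finset.card_image_le).trans ?_
    rw [Finset.card_univ, ← Nat.card_eq_fintype_card, Nat.card_sum]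
  have hrep : ∀ φ : Flags F n, ∃ g : GL (Fin n) F, Fl g = φ.1 := fun φ => φ.2
  choose rep hrep using hrep
  let U : Flags F n → 𝓐 := fun φ => M _ (det_conj_u0 (rep φ))
  have hUinj : Function.Injective U := by
    intro φ ψ h
    apply Subtype.ext
    rw [← hrep φ, ← hrep ψ]
    haveI := hK (U φ).1 (U φ).2
    obtain ⟨P, hP, -, hmem⟩ := exists_pPart (K (U φ).1) p
    exact flags_eq p P hP _ _ (hmem _ (hM _ (det_conj_u0 _)) n (conj_u0_pow _ p))
      (hmem _ (h ▸ hM _ (det_conj_u0 (rep ψ))) n (conj_u0_pow _ p))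
  have hmixed : ∀ (X : Tori F n → GL (Fin n) F) (hX : ∀ a, Wit a (X a)) (a : Tori F n) (φ : Flags F n),
      M _ (hX a).det ≠ U φ := by
    intro X hX a φ h
    haveI := hK (U φ).1 (U φ).2
    exact sep_unip p hn2 (hX a) (K (U φ).1) (h ▸ hM _ (hX a).det) (rep φ) (hM _ (det_conj_u0 _))
  have hXinj : ∀ (X : Tori F n → GL (Fin n) F) (hX : ∀ a, Wit a (X a)),
      (∀ a b, ∀ K : Subgroup (GL (Fin n) F), Group.IsNilpotent K → X a ∈ K → X b ∈ K → a = b) →
      Function.Injective fun a => M _ (hX a).det := by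
    intro X hX hsep a b h
    have h : M _ (hX a).det = M _ (hX b).det := h
    exact hsep a b _ (hK _ (M _ (hX a).det).2) (hM _ (hX a).det) (h ▸ hM _ (hX b).det)
  obtain ⟨hsmall, hsmall'⟩ := small_le (F := F) hn2
  rcases hn with hn3 | ⟨rfl, hq⟩
  · obtain ⟨X, hX, hsep⟩ : ∃ X : Tori F n → GL (Fin n) F, (∀ a, Wit a (X a)) ∧
        ∀ a b, ∀ K : Subgroup (GL (Fin n) F), Group.IsNilpotent K → X a ∈ K → X b ∈ K → a = b := by
      by_cases h6 : Fintype.card F = 2 ∧ n = 6
      · obtain ⟨h2, rfl⟩ := h6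
        exact case_two_six h2
      · obtain ⟨r, hr, hrd, hrp⟩ := Lib.Zsigmondy.exists_primitive_prime (Fintype.card F) n Fintype.one_lt_card
          (by omega) h6 (fun h => by omega)
        haveI : Fact r.Prime := ⟨hr⟩
        obtain ⟨X, hX, hsep⟩ := case_prime (F := F) hn2 hrd hrp
        exact ⟨X, fun a => (hX a).1, hsep⟩
    have hlow := Nat.card_le_card_of_injective (Sum.elim (fun a => M _ (hX a).det) U)
      ((hXinj X hX hsep).sumElim hUinj (hmixed X hX))
    rw [Nat.card_sum, Nat.card_eq_fintype_card (α := 𝓐), Fintype.card_coe] at hlow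
    have := hsmall' hn3
    omega
  · obtain ⟨X, s, hX, hs, hsp, hsep, hXs⟩ := two_witnesses (F := F) p hq
    let S : Unit → 𝓐 := fun _ => M _ hs.1
    have hlow := Nat.card_le_card_of_injective (Sum.elim (Sum.elim (fun a => M _ (hX a).det) U) S)
      (((hXinj X hX hsep).sumElim hUinj (hmixed X hX)).sumElim
        (fun _ _ _ => Subsingleton.elim _ _) (by
          rintro (a | φ) u h
          · have h : M _ (hX a).det = M _ hs.1 := h
            exact hXs a _ (hK _ (M _ hs.1).2) (h ▸ hM _ (hX a).det) (hM _ hs.1)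
          · have h : U φ = M _ hs.1 := h
            haveI := hK (M _ hs.1).1 (M _ hs.1).2
            exact split_not_unip p hs hsp _ (hM _ hs.1) (rep φ) (h ▸ hM _ (det_conj_u0 _))))
    rw [Nat.card_sum, Nat.card_sum, Nat.card_unique (α := Unit), Nat.card_eq_fintype_card (α := 𝓐), Fintype.card_coe] at hlow
    omega

end Cfsg.Agent.S3894
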