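import Cfsg.Statements.S3900
import Cfsg.Agent.Lib.IterComm.Owner

set_option autoImplicit false
open Cfsg

namespace Cfsg.Agent.S3900

/-- A criterion of Baumslag–Wiegold type for a term of the lower central series. Let G be a finite group and k ≥ 0; call an element a left-normed commutator value of length k + 1 when it has the form [[…[x₀, x₁], …], x_k] with k + 1 entries (for k = 0, any element), where [a, b] = aba⁻¹b⁻¹. Then the (k+1)-st term γ_{k+1}(G) of the lower central series (γ₁(G) = G) is nilpotent if and only if for every two such values x, y of coprime orders, either every prime dividing o(x)·o(y) divides o(xy), or o(x)·o(y) ≤ o(xy). -/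
theorem result {G : Type*} [Group G] [Finite G] (k : ℕ) :
    Group.IsNilpotent ↥((⊤ : Subgroup G).lowerCentralSeries k) ↔
      ∀ x y : G, (∃ f : Fin (k + 1) → G, x = ((List.ofFn f).tail).foldl (fun a b => a * b * a⁻¹ * b⁻¹) (f 0)) → (∃ f : Fin (k + 1) → G, y = ((List.ofFn f).tail).foldl (fun a b => a * b * a⁻¹ * b⁻¹) (f 0)) → (orderOf x).Coprime (orderOf y) →
        (∀ r : ℕ, r.Prime → r ∣ orderOf x * orderOf y → r ∣ orderOf (x * y)) ∨ orderOf x * orderOf y ≤ orderOf (x * y) := by
  simp only [← Lib.IterComm.mem_KC_iff]
  refine ⟨fun hn x y hx hy hcop => Or.inr (le_of_eq ?_), fun h => ?_⟩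
  · have hmem : ∀ j : ℕ, ∀ z ∈ Lib.IterComm.KC G j, z ∈ (⊤ : Subgroup G).lowerCentralSeries j := by
      intro j
      induction j with
      | zero => exact fun z _ => Subgroup.mem_top z
      | succ j ih =>
        intro z hz
        simp only [Lib.IterComm.KC, Set.mem_setOf_eq] at hz
        obtain ⟨w, hw, b, rfl⟩ := hz
        rw [Subgroup.lowerCentralSeries_succ]
        exact Subgroup.commutator_mem_commutator (ih w hw) (Subgroup.mem_top b)
    have := hn
    have hc := Lib.Transfer.commute_of_coprime_orderOf
      (G := ((⊤ : Subgroup G).lowerCentralSeries k)) (x := ⟨x, hmem k x hx⟩) (y := ⟨y, hmem k y hy⟩)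
      (by simpa only [Subgroup.orderOf_mk] using hcop)
    exact (Commute.orderOf_mul_eq_mul_orderOf_of_coprime
      (congrArg Subtype.val hc.eq) hcop).symm
  · have hC := Lib.IterComm.cent_of_crit h
    have := Lib.IterComm.isSolvable_of_cent hC
    exact Lib.IterComm.lcs_nilpotent hC

end Cfsg.Agent.S3900
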