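import Cfsg.Statements.S3901
import Cfsg.Agent.S0183
import Cfsg.Agent.Lib.Transfer.Fusion
import Cfsg.Agent.Lib.Coprime.Action
import Cfsg.Agent.Lib.Char.Burnside
import Cfsg.Agent.Lib.FitHeight.Operators

set_option autoImplicit false
open Cfsg

namespace Cfsg.Agent.S3901

open Subgroup
open scoped commutatorElement Pointwise

section

universe u

variable {G : Type u} [Group G] [Finite G]

/-- every nontrivial element has prime power order -/
def AllPrimePow (K : Type*) [Group K] : Prop := ∀ x : K, x ≠ 1 → IsPrimePow (orderOf x)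

theorem false_of_two_primes {K : Type*} [Group K] {n r s : ℕ} (hr : r.Prime) (hs : s.Prime) (hrs : r ≠ s)
    {x : K} (hn : IsPrimePow (orderOf x)) (hdvd : n ∣ orderOf x) (h1 : r ∣ n) (h2 : s ∣ n) : False := by
  obtain ⟨p, k, hp, hk, he⟩ := hn
  have hp' := hp.nat_prime
  exact hrs (((Nat.prime_dvd_prime_iff_eq hr hp').mp (hr.dvd_of_dvd_pow (he ▸ h1.trans hdvd))).trans
    ((Nat.prime_dvd_prime_iff_eq hs hp').mp (hs.dvd_of_dvd_pow (he ▸ h2.trans hdvd))).symm)

theorem coprime_primePow {r s i j : ℕ} (hr : r.Prime) (hs : s.Prime) (hrs : r ≠ s) :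
    (r ^ i).Coprime (s ^ j) := Nat.Coprime.pow i j ((Nat.coprime_primes hr hs).mpr hrs)

theorem pow_dvd_of_ne_one {K : Type*} [Group K] {r k : ℕ} {x : K} (hx : x ≠ 1) (h : orderOf x = r ^ k) :
    r ∣ orderOf x := by
  cases k with
  | zero => rw [pow_zero, orderOf_eq_one_iff] at h; exact absurd h hx
  | succ k => exact h ▸ dvd_pow_self r (Nat.succ_ne_zero k)

theorem isSolvable_of_odd_allPrimePow {K : Type*} [Group K] [Finite K] (hK : AllPrimePow K)
    (hodd : Odd (Nat.card K)) : Group.IsSolvable K := by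
  refine S0183.result hodd fun g hg => ?_
  obtain ⟨p, k, hp, hk, he⟩ := hK g hg
  haveI := Fact.mk hp.nat_prime
  refine IsPGroup.isNilpotent (p := p) fun y => ?_
  by_cases hy : (y : K) = 1
  · exact ⟨0, by simp [OneMemClass.coe_eq_one.mp hy]⟩
  obtain ⟨r, l, hr, hl, he'⟩ := hK y hy
  have hpr : r = p := by
    by_contra hne
    have hc : Commute g (y : K) := (mem_centralizer_singleton_iff.mp y.2).symm
    have ho := hc.orderOf_mul_eq_mul_orderOf_of_coprime
      (by rw [← he, ← he']; exact coprime_primePow hp.nat_prime hr.nat_prime (Ne.symm hne))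
    refine false_of_two_primes hp.nat_prime hr.nat_prime (Ne.symm hne) (hK (g * y) fun h1 => ?_) (dvd_refl _) ?_ ?_
    · rw [h1, orderOf_one] at ho
      exact hg (orderOf_eq_one_iff.mp (Nat.eq_one_of_mul_eq_one_right ho.symm))
    · rw [ho]; exact dvd_mul_of_dvd_left (pow_dvd_of_ne_one hg he.symm) _
    · rw [ho]; exact dvd_mul_of_dvd_right (pow_dvd_of_ne_one hy he'.symm) _
  exact ⟨l, Subtype.ext (by rw [coe_pow, ← hpr, he', pow_orderOf_eq_one, coe_one])⟩

variable {N : Subgroup G} [hNn : N.Normal]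

theorem quotient_allPrimePow (h : ∀ x : G, x ∉ N → IsPrimePow (orderOf x)) : AllPrimePow (G ⧸ N) := by
  intro y hy
  obtain ⟨g, rfl⟩ := QuotientGroup.mk'_surjective N y
  obtain ⟨p, k, hp, hk, he⟩ := h g fun hg => hy ((QuotientGroup.eq_one_iff g).mpr hg)
  obtain ⟨i, hi, he'⟩ := (Nat.dvd_prime_pow hp.nat_prime).mp (he ▸ orderOf_map_dvd (QuotientGroup.mk' N) g)
  refine ⟨p, i, hp, Nat.pos_of_ne_zero fun h0 => hy ?_, he'.symm⟩
  rwa [h0, pow_zero, orderOf_eq_one_iff] at he'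

theorem no_local (h : ∀ x : G, x ∉ N → IsPrimePow (orderOf x)) {r s : ℕ} (hr : r.Prime) (hs : s.Prime)
    (hr2 : r ≠ 2) (hs2 : s ≠ 2) (hrs : r ≠ s) (hsN : s ∣ Nat.card N) (D : Subgroup (G ⧸ N)) (hD : IsPGroup 2 D)
    {xb : G ⧸ N} (hxb : xb ∈ normalizer (D : Set (G ⧸ N))) (hxo : orderOf xb = r) : D = ⊥ := by
  by_contra hD0
  haveI := Fact.mk hr
  haveI := Fact.mk hs
  haveI h2 : Fact (Nat.Prime 2) := ⟨Nat.prime_two⟩
  have hQ := quotient_allPrimePow h
  obtain ⟨T⟩ : Nonempty (Sylow s ↥N) := inferInstance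
  set T' := (T : Subgroup ↥N).map N.subtype with hT'
  set H := normalizer (T' : Set G) with hH
  set π := QuotientGroup.mk' N with hπdef
  set φ := π.comp H.subtype with hφ
  have hπN : ∀ {g : G}, π g = 1 ↔ g ∈ N := fun {g} => QuotientGroup.eq_one_iff g
  have hφs : Function.Surjective φ := fun y => by
    obtain ⟨g, rfl⟩ := QuotientGroup.mk'_surjective N y
    obtain ⟨a, ha, b, hb, hab⟩ := mem_sup_of_normal_right.mp
      (show g ∈ H ⊔ N by rw [hH, hT', Sylow.normalizer_sup_eq_top T]; exact mem_top g)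
    refine ⟨⟨a, ha⟩, ?_⟩
    show π a = π g
    rw [← hab, map_mul, hπN.mpr hb, mul_one]
  set E := D.comap φ with hE
  obtain ⟨S⟩ : Nonempty (Sylow 2 ↥E) := inferInstance
  let f : ↥E →* ↥D := MonoidHom.mk' (fun e => ⟨φ e, e.2⟩) fun a b => Subtype.ext (map_mul φ (a : ↥H) b)
  have hf : Function.Surjective f := fun d => by
    obtain ⟨a, ha⟩ := hφs d
    exact ⟨⟨a, show φ a ∈ D by rw [ha]; exact d.2⟩, Subtype.ext ha⟩
  have hSD : ∀ d ∈ D, ∃ e : ↥E, e ∈ (S : Subgroup ↥E) ∧ φ e = d := by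
    intro d hd
    have htop : ((S.mapSurjective hf : Sylow 2 ↥D) : Subgroup ↥D) = ⊤ :=
      ((S.mapSurjective hf).is_maximal' (hD.to_subgroup ⊤) le_top).symm
    have hmem : (⟨d, hd⟩ : ↥D) ∈ ((S.mapSurjective hf : Sylow 2 ↥D) : Subgroup ↥D) := htop ▸ mem_top _
    rw [Sylow.coe_mapSurjective] at hmem
    obtain ⟨e, he, hfe⟩ := hmem
    exact ⟨e, he, congrArg Subtype.val hfe⟩
  set SG := ((S : Subgroup ↥E).map E.subtype).map H.subtype with hSG
  -- an element of order `r` normalizing the 2-group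
  obtain ⟨x0, hx0⟩ := hφs xb
  have hx0E : x0 ∈ normalizer (E : Set ↥H) := mem_normalizer_iff.mpr fun u => by
    rw [hE, mem_comap, mem_comap, map_mul, map_mul, map_inv, hx0]
    exact mem_normalizer_iff.mp hxb (φ u)
  obtain ⟨e, he⟩ := MulAction.exists_smul_eq ↥E
    ((E.normalizerMonoidHom ⟨x0, hx0E⟩) • S) S
  set w0 : ↥H := (e : ↥H) * x0 with hw0
  have hw0S : ∀ v : ↥E, v ∈ (S : Subgroup ↥E) →
      ∃ v' : ↥E, v' ∈ (S : Subgroup ↥E) ∧ (v' : ↥H) = w0 * v * w0⁻¹ := by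
    intro v hv
    refine ⟨e * E.normalizerMonoidHom ⟨x0, hx0E⟩ v * e⁻¹, ?_, ?_⟩
    · rw [← he, Sylow.coe_subgroup_smul, mem_pointwise_smul_iff_inv_smul_mem, ← map_inv, MulAut.smul_def,
        MulAut.conj_apply]
      have : e⁻¹ * (e * E.normalizerMonoidHom ⟨x0, hx0E⟩ v * e⁻¹) * e⁻¹⁻¹ =
          E.normalizerMonoidHom ⟨x0, hx0E⟩ v := by group
      rw [this, Sylow.pointwise_smul_def]
      exact smul_mem_pointwise_smul v (E.normalizerMonoidHom ⟨x0, hx0E⟩) (S : Subgroup ↥E) hv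
    · show (e : ↥H) * (x0 * v * x0⁻¹) * (e : ↥H)⁻¹ = w0 * v * w0⁻¹
      rw [hw0]; group
  set w : G := (w0 : G) with hw
  have hφw : π w = φ e * xb := by rw [← hx0, ← map_mul]; rfl
  have hwD : π w ∉ D := fun hd => by
    rw [hφw, D.mul_mem_cancel_left e.2] at hd
    obtain ⟨k, hk⟩ := hD ⟨xb, hd⟩
    have h1 : r ∣ 2 ^ k := hxo ▸ orderOf_dvd_of_pow_eq_one (by simpa using congrArg Subtype.val hk)
    exact hr2 ((Nat.prime_dvd_prime_iff_eq hr Nat.prime_two).mp (hr.dvd_of_dvd_pow h1))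
  have hwN : w ∉ N := fun hn => hwD (by rw [hπN.mpr hn]; exact one_mem D)
  have hπwr : π w ^ r ∈ D := by
    set J := D.subgroupOf (normalizer (D : Set (G ⧸ N))) with hJ
    haveI : J.Normal := normal_in_normalizer
    have hen : φ e ∈ normalizer (D : Set (G ⧸ N)) := le_normalizer e.2
    let a : ↥(normalizer (D : Set (G ⧸ N))) := ⟨φ e, hen⟩
    let b : ↥(normalizer (D : Set (G ⧸ N))) := ⟨xb, hxb⟩
    have h1 : QuotientGroup.mk' J ((a * b) ^ r) = 1 := by
      have ha : QuotientGroup.mk' J a = 1 := (QuotientGroup.eq_one_iff a).mpr (mem_subgroupOf.mpr e.2)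
      have hb : b ^ r = 1 := Subtype.ext (show xb ^ r = 1 by rw [← hxo, pow_orderOf_eq_one])
      rw [map_pow, map_mul, ha, one_mul, ← map_pow, hb, map_one]
    have h2 : ((a * b) ^ r : ↥(normalizer (D : Set (G ⧸ N)))).val ∈ D :=
      mem_subgroupOf.mp ((QuotientGroup.eq_one_iff _).mp h1)
    simpa [a, b, ← hφw] using h2
  obtain ⟨t, j, ht, hj, htj⟩ := h w hwN
  have htr : t = r := by
    have h1 : r ∣ orderOf (π w) := by
      by_contra hn
      refine hwD ?_
      obtain ⟨m, hm⟩ := exists_pow_eq_self_of_coprime ((hr.coprime_iff_not_dvd).mpr hn)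
      exact hm ▸ pow_mem hπwr m
    exact ((Nat.prime_dvd_prime_iff_eq hr ht.nat_prime).mp
      (hr.dvd_of_dvd_pow (htj ▸ h1.trans (orderOf_map_dvd π w)))).symm
  rw [htr] at htj
  clear htr ht
  have hwr : w ^ r ∈ N := by
    rw [← hπN, map_pow]
    obtain ⟨i, hi⟩ := hD ⟨π w ^ r, hπwr⟩
    have hd1 : orderOf (π w ^ r) ∣ 2 ^ i := orderOf_dvd_of_pow_eq_one (by simpa using congrArg Subtype.val hi)
    have hd2 : orderOf (π w ^ r) ∣ r ^ j := (orderOf_pow_dvd r).trans (htj ▸ orderOf_map_dvd π w)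
    exact orderOf_eq_one_iff.mp
      (Nat.eq_one_of_dvd_coprimes (coprime_primePow Nat.prime_two hr (Ne.symm hr2)) hd1 hd2)
  have hSGmem : ∀ y ∈ SG, ∃ v : ↥E, v ∈ (S : Subgroup ↥E) ∧ ((v : ↥H) : G) = y := by
    rintro _ ⟨_, ⟨v, hv, rfl⟩, rfl⟩
    exact ⟨v, hv, rfl⟩
  have hmemSG : ∀ v : ↥E, v ∈ (S : Subgroup ↥E) → ((v : ↥H) : G) ∈ SG := fun v hv =>
    mem_map_of_mem _ (mem_map_of_mem _ hv)
  have hwS : w ∈ normalizer (SG : Set G) := by
    have h1 : ∀ v ∈ SG, w * v * w⁻¹ ∈ SG := by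
      intro v hv
      obtain ⟨v0, hv0, rfl⟩ := hSGmem v hv
      obtain ⟨v', hv', hvv⟩ := hw0S v0 hv0
      rw [hw, ← coe_inv, ← coe_mul, ← coe_mul, ← hvv]
      exact hmemSG v' hv'
    have hm : SG.map (MulAut.conj w).toMonoidHom = SG := by
      refine eq_of_le_of_card_ge (by rintro _ ⟨v, hv, rfl⟩; exact h1 v hv) ?_
      rw [Nat.card_congr (SG.equivMapOfInjective (MulAut.conj w).toMonoidHom (MulAut.conj w).injective).toEquiv]
    refine mem_normalizer_iff.mpr fun v => ⟨h1 v, fun hv => ?_⟩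
    rw [← hm] at hv
    obtain ⟨v', hv', he'⟩ := hv
    rwa [← (MulAut.conj w).injective he']
  have hSG2 : IsPGroup 2 SG := (S.isPGroup'.map _).map _
  have hord2 : ∀ c ∈ SG, ∃ i : ℕ, orderOf c = 2 ^ i := fun c hc => by
    obtain ⟨i, hi⟩ := IsPGroup.iff_orderOf.mp hSG2 ⟨c, hc⟩
    exact ⟨i, by rwa [orderOf_mk] at hi⟩
  have bad : ∀ {a b : G} {p q i k : ℕ}, p.Prime → q.Prime → p ≠ q → a ≠ 1 → b ≠ 1 → orderOf a = p ^ i →
      orderOf b = q ^ k → Commute a b → a * b ∈ N := by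
    intro a b p q i k hp hq hpq ha hb hai hbk hab
    by_contra hn
    have ho := hab.orderOf_mul_eq_mul_orderOf_of_coprime (by rw [hai, hbk]; exact coprime_primePow hp hq hpq)
    exact false_of_two_primes hp hq hpq (h _ hn) (dvd_refl _)
      (ho ▸ dvd_mul_of_dvd_left (pow_dvd_of_ne_one ha hai) _)
      (ho ▸ dvd_mul_of_dvd_right (pow_dvd_of_ne_one hb hbk) _)
  obtain ⟨d0, hd0, hd0N⟩ : ∃ d ∈ SG, d ∉ N := by
    obtain ⟨d, hd, hd1⟩ := (Subgroup.bot_or_exists_ne_one D).resolve_left hD0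
    obtain ⟨v, hv, hvd⟩ := hSD d hd
    exact ⟨_, hmemSG v hv, fun hn => hd1 (hvd.symm.trans (hπN.mpr hn))⟩
  have hwr1 : w ^ r = 1 := by
    by_contra hz1
    set z := w ^ r with hz
    have hzn : z ∈ normalizer (SG : Set G) := pow_mem hwS r
    obtain ⟨zi, -, hzi⟩ := (Nat.dvd_prime_pow hr).mp (htj ▸ (orderOf_pow_dvd r : orderOf z ∣ orderOf w))
    have hzA : zpowers z ≤ normalizer ((SG ⊓ N : Subgroup G) : Set G) := by
      refine zpowers_le.mpr (inf_normalizer_le_normalizer_inf ⟨hzn, ?_⟩)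
      rw [normalizer_eq_top_iff.mpr hNn]; trivial
    have hzc : (Nat.card ↥(zpowers z)).Coprime (Nat.card ↥(SG ⊓ N)) := by
      obtain ⟨n', hn'⟩ := IsPGroup.iff_card.mp hSG2
      refine Nat.Coprime.coprime_dvd_right (card_dvd_of_le inf_le_left) ?_
      rw [Nat.card_zpowers, hn', hzi]
      exact coprime_primePow hr Nat.prime_two hr2
    obtain ⟨c, hc, hcd⟩ := Lib.Coprime.exists_centralizer_mem_coset hzA hzc (Or.inl inferInstance) (k := d0)
      fun a ha => by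
        have haN : a ∈ N := zpowers_le.mpr hwr ha
        refine ⟨SG.mul_mem (SG.inv_mem hd0) ((mem_normalizer_iff.mp (zpowers_le.mpr hzn ha) d0).mp hd0), ?_⟩
        show d0⁻¹ * (a * d0 * a⁻¹) ∈ N
        rw [show d0⁻¹ * (a * d0 * a⁻¹) = (d0⁻¹ * a * d0⁻¹⁻¹) * a⁻¹ by group]
        exact mul_mem (hNn.conj_mem a haN d0⁻¹) (inv_mem haN)
    have hcSG : c ∈ SG := by simpa using SG.mul_mem hd0 hcd.1
    have hcN : c ∉ N := fun hcN => hd0N (by
      have h2 : c * (d0⁻¹ * c)⁻¹ ∈ N := mul_mem hcN (inv_mem hcd.2)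
      rwa [show c * (d0⁻¹ * c)⁻¹ = d0 by group] at h2)
    obtain ⟨ci, hci⟩ := hord2 c hcSG
    have hcz : Commute c z := (mem_centralizer_iff.mp hc z (mem_zpowers z)).symm
    exact hcN ((mul_mem_cancel_right hwr).mp
      (bad Nat.prime_two hr (Ne.symm hr2) (fun h1 => hcN (h1 ▸ one_mem N)) hz1 hci hzi hcz))
  have hw1 : w ≠ 1 := fun h1 => hwN (h1 ▸ one_mem N)
  have hwo : orderOf w = r := orderOf_eq_prime hwr1 fun h1 => hwN (h1 ▸ one_mem N)
  have hfpS : ∀ y ∈ SG, w * y = y * w → y = 1 := by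
    intro y hy hc
    by_contra hy1
    obtain ⟨yi, hyi⟩ := hord2 y hy
    have hm := bad Nat.prime_two hr (Ne.symm hr2) hy1 hw1 hyi
      (show orderOf w = r ^ 1 by rw [pow_one, hwo]) (show Commute y w from hc.symm)
    obtain ⟨v, -, rfl⟩ := hSGmem y hy
    refine hwD ?_
    have h1 : φ (v : ↥H) * π w = 1 := by
      show π ((v : ↥H) : G) * π w = 1
      rw [← map_mul, hπN.mpr hm]
    rw [eq_inv_of_mul_eq_one_right h1]
    exact inv_mem v.2
  -- the central module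
  have hT'ne : Nontrivial ↥T' := by
    rw [Subgroup.nontrivial_iff_ne_bot]
    intro h0
    rw [hT', Subgroup.map_eq_bot_iff_of_injective _ N.subtype_injective] at h0
    exact T.not_dvd_index (by rw [h0, Subgroup.index_bot]; exact hsN)
  have hT's : IsPGroup s ↥T' := T.isPGroup'.map _
  haveI : Nontrivial ↥(center ↥T') := hT's.center_nontrivial
  set V := (center ↥T').map T'.subtype with hVdef
  have hVc : ∀ a ∈ V, ∀ b ∈ V, a * b = b * a := by
    rintro _ ⟨a, ha, rfl⟩ _ ⟨b, hb, rfl⟩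
    exact congrArg Subtype.val (Subgroup.mem_center_iff.mp hb a)
  letI : CommGroup ↥V := { (inferInstance : Group ↥V) with mul_comm := fun a b => Subtype.ext (hVc _ a.2 _ b.2) }
  have hVT : V ≤ T' := map_subtype_le _
  have hVN : V ≤ N := hVT.trans (map_subtype_le _)
  have hHV : H ≤ normalizer (V : Set G) := by
    have key : ∀ g ∈ normalizer (T' : Set G), ∀ u ∈ V, g * u * g⁻¹ ∈ V := by
      rintro g hg _ ⟨v, hv, rfl⟩
      let e : ↥T' ≃* ↥T' := T'.normalizerMonoidHom ⟨g, hg⟩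
      exact ⟨e v, (characteristic_iff_map_le.1 inferInstance e) (mem_map_of_mem e.toMonoidHom hv), rfl⟩
    intro g hg
    refine mem_normalizer_iff.mpr fun u => ⟨key g hg u, fun h' => ?_⟩
    have := key g⁻¹ (inv_mem hg) _ h'
    simpa [mul_assoc] using this
  obtain ⟨⟨v0, hv0V⟩, hv01⟩ : ∃ v : ↥V, v ≠ 1 := by
    obtain ⟨c, hc⟩ := exists_ne (1 : ↥(center ↥T'))
    exact ⟨⟨((c : ↥T') : G), mem_map_of_mem _ c.2⟩, fun h1 => hc (Subtype.ext (Subtype.ext (show ((c : ↥T') : G) = 1 from congrArg Subtype.val h1)))⟩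
  have hv0ne : v0 ≠ 1 := fun h1 => hv01 (Subtype.ext h1)
  have hords : ∀ v ∈ V, ∃ i : ℕ, orderOf v = s ^ i := fun v hv => by
    obtain ⟨i, hi⟩ := IsPGroup.iff_orderOf.mp hT's ⟨v, hVT hv⟩
    exact ⟨i, by rwa [orderOf_mk] at hi⟩
  have hSGH : SG ≤ H := map_subtype_le _
  have hwnorm : (⟨w, hHV w0.2⟩ : ↥(normalizer (V : Set G))) ∈
      normalizer ((SG.subgroupOf (normalizer (V : Set G))) : Set ↥(normalizer (V : Set G))) :=
    mem_normalizer_iff.mpr fun u => mem_normalizer_iff.mp hwS (u : G)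
  have hcard : (Nat.card ↥(SG.subgroupOf (normalizer (V : Set G)))).Coprime (Nat.card ↥V) := by
    rw [Nat.card_congr (subgroupOfEquivOfLe (hSGH.trans hHV)).toEquiv]
    obtain ⟨a, ha⟩ := IsPGroup.iff_card.mp hSG2
    obtain ⟨b, hb⟩ := IsPGroup.iff_card.mp (hT's.to_le hVT)
    rw [ha, hb]
    exact coprime_primePow Nat.prime_two hs (Ne.symm hs2)
  have hact := Lib.FitHeight.smul_eq_self_of_fpf (Γ := ↥(normalizer (V : Set G))) (V := ↥V)
    (Q := SG.subgroupOf (normalizer (V : Set G))) (t := ⟨w, hHV w0.2⟩) hr (Subtype.ext hwr1) hwnorm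
    (fun y hy hc => Subtype.ext (hfpS y hy (congrArg Subtype.val hc)))
    (fun v hv => Subtype.ext (by
      by_contra hv1
      obtain ⟨vi, hvi⟩ := hords v v.2
      have hv' : w * (v : G) * w⁻¹ = v := congrArg Subtype.val hv
      have hc : Commute w (v : G) := mul_inv_eq_iff_eq_mul.mp hv'
      exact hwN ((mul_mem_cancel_right (hVN v.2)).mp
        (bad hr hs hrs hw1 hv1 (show orderOf w = r ^ 1 by rw [pow_one, hwo]) hvi hc))))
    hcard (y := ⟨d0, hHV (hSGH hd0)⟩) hd0 ⟨v0, hv0V⟩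
  have hact' : d0 * v0 * d0⁻¹ = v0 := congrArg Subtype.val hact
  obtain ⟨vi, hvi⟩ := hords v0 hv0V
  obtain ⟨di, hdi⟩ := hord2 d0 hd0
  exact hd0N ((mul_mem_cancel_right (hVN hv0V)).mp (bad Nat.prime_two hs (Ne.symm hs2)
    (fun h1 => hd0N (h1 ▸ one_mem N)) hv0ne hdi hvi (mul_inv_eq_iff_eq_mul.mp hact')))

theorem main (N : Subgroup G) [N.Normal] (hns : ¬ Group.IsSolvable ↥N)
    (h : ∀ x : G, x ∉ N → IsPrimePow (orderOf x)) : Group.IsSolvable (G ⧸ N) := by
  haveI : Fact (Nat.Prime 2) := ⟨Nat.prime_two⟩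
  have hQ := quotient_allPrimePow h
  have haut : ∀ D : Subgroup (G ⧸ N), IsPGroup 2 D → Lib.Transfer.AutPGroup 2 D := by
    intro D hD g hg hgo
    by_cases hg1 : g = 1
    · rw [hg1]; exact one_mem _
    obtain ⟨r, k, hr, hk, he⟩ := hQ g hg1
    have hr' := hr.nat_prime
    have hr2 : r ≠ 2 := by
      rintro rfl
      rw [← he, Nat.coprime_pow_left_iff hk] at hgo
      norm_num at hgo
    obtain ⟨s, hs, hsN, hs2, hsr⟩ : ∃ s : ℕ, s.Prime ∧ s ∣ Nat.card N ∧ s ≠ 2 ∧ s ≠ r := by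
      by_contra! hall
      exact hns (Lib.Char.isSolvable_of_card_eq_two_primes Nat.prime_two hr' _ ↥N rfl fun t ht htd =>
        or_iff_not_imp_left.mpr (hall t ht htd))
    have hk' : k - 1 + 1 = k := by omega
    have hbot := no_local h hr' hs hr2 hs2 (Ne.symm hsr) hsN D hD (xb := g ^ r ^ (k - 1)) (pow_mem hg _) (by
      rw [orderOf_pow_of_dvd (pow_ne_zero _ hr'.ne_zero) (he ▸ pow_dvd_pow r (Nat.sub_le k 1)), ← he,
        Nat.pow_div (Nat.sub_le k 1) hr'.pos, show k - (k - 1) = 1 by omega, pow_one])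
    rw [hbot, mem_centralizer_iff]
    intro u hu
    rw [SetLike.mem_coe, mem_bot] at hu
    rw [hu, one_mul, mul_one]
  obtain ⟨P, K, hKn, hKP⟩ := Lib.Transfer.frobenius_criterion haut
  haveI := hKn
  have hKodd : Odd (Nat.card K) := by
    rw [← hKP.index_eq_card, ← Nat.not_even_iff_odd, even_iff_two_dvd]
    exact P.not_dvd_index
  haveI : Group.IsSolvable ↥K := isSolvable_of_odd_allPrimePow (fun x hx => by
    rw [← orderOf_coe]; exact hQ x fun h1 => hx (Subtype.ext h1)) hKodd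
  haveI : Group.IsNilpotent ((G ⧸ N) ⧸ K) := by
    refine IsPGroup.isNilpotent (p := 2) ?_
    obtain ⟨n, hn⟩ := IsPGroup.iff_card.mp P.isPGroup'
    refine IsPGroup.of_card (n := n) ?_
    rw [← Subgroup.index_eq_card, hKP.symm.index_eq_card]
    exact hn
  exact Group.isSolvable_of_ker_le_range K.subtype (QuotientGroup.mk' K) (by rw [QuotientGroup.ker_mk', K.range_subtype])

end

/-- Let N be a non-trivial normal subgroup of the finite group G such that every element of G outside N has prime power order. If N is not solvable, then G/N is solvable. -/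
theorem result {G : Type*} [Group G] [Finite G] (N : Subgroup G) [N.Normal] (hN : N ≠ ⊥) (hns : ¬ Group.IsSolvable ↥N)
    (h : ∀ x : G, x ∉ N → IsPrimePow (orderOf x)) : Group.IsSolvable (G ⧸ N) := by
  exact main N hns h

end Cfsg.Agent.S3901
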