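import Cfsg.Statements.S3904
import Cfsg.Agent.Lib.Coprime.Abelian
import Cfsg.Agent.Lib.Hall.Frobenius
import Cfsg.Agent.S0659

set_option autoImplicit false
open Cfsg

namespace Cfsg.Agent.S3904

open Subgroup
open scoped Pointwise

section

variable {G : Type*} [Group G]

local notation "C[" x "]" => Subgroup.centralizer ({x} : Set _)

/-- The canonical map to the central quotient. -/
abbrev q : G →* G ⧸ center G := QuotientGroup.mk' (center G)

/-- The image of a centralizer in the central quotient. -/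
def cb (x : G) : Subgroup (G ⧸ center G) := (C[x]).map q

theorem mem_C {x y : G} : y ∈ C[x] ↔ y * x = x * y := mem_centralizer_singleton_iff

theorem self_mem (x : G) : x ∈ C[x] := mem_C.mpr rfl

theorem center_le_C (x : G) : center G ≤ C[x] := fun z hz => mem_C.mpr ((mem_center_iff.mp hz x).symm)

theorem q_eq_one {x : G} : q x = 1 ↔ x ∈ center G := QuotientGroup.eq_one_iff x

theorem comap_cb (x : G) : (cb x).comap q = C[x] := by
  rw [cb, comap_map_eq, QuotientGroup.ker_mk', sup_eq_left]
  exact center_le_C x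

theorem q_mem_cb {g x : G} : q g ∈ cb x ↔ g ∈ C[x] := by
  rw [← mem_comap, comap_cb]

theorem C_le_pow (x : G) (k : ℕ) : C[x] ≤ C[x ^ k] :=
  fun g hg => mem_C.mpr ((show Commute g x from mem_C.mp hg).pow_right k).eq

theorem C_mul_central {x z : G} (hz : z ∈ center G) : C[x * z] = C[x] := by
  ext g
  have hc : ∀ a : G, a * z = z * a := mem_center_iff.mp hz
  rw [mem_C, mem_C]
  constructor
  · intro h
    apply mul_right_cancel (b := z)
    rw [mul_assoc, h, mul_assoc x z g, ← hc g, ← mul_assoc]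
  · intro h
    rw [← mul_assoc, h, mul_assoc x g z, hc g, ← mul_assoc]

theorem mem_center_of_commute_coprime {a b : G} {c : G} (hc : c ∈ center G) (hab : a * b = c * (b * a))
    {m n : ℕ} (hmn : m.Coprime n) (ha : a ^ m ∈ center G) (hb : b ^ n ∈ center G) : a * b = b * a := by
  have h1 : a * b * a⁻¹ = c * b := by rw [hab]; group
  have hcb : Commute c b := (mem_center_iff.mp hc b).symm
  have hcn : c ^ n = 1 := by
    have h2 : (a * b * a⁻¹) ^ n = c ^ n * b ^ n := by rw [h1, hcb.mul_pow]
    rw [conj_pow, mem_center_iff.mp hb a, mul_inv_cancel_right] at h2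
    simpa using h2.symm
  have h3 : b * a * b⁻¹ = c⁻¹ * a := by
    have : a = c * (b * a) * b⁻¹ := by rw [← hab]; group
    calc b * a * b⁻¹ = c⁻¹ * (c * (b * a) * b⁻¹) := by group
      _ = c⁻¹ * a := by rw [← this]
  have hca : Commute c⁻¹ a := (mem_center_iff.mp (inv_mem hc) a).symm
  have hcm : c ^ m = 1 := by
    have h2 : (b * a * b⁻¹) ^ m = c⁻¹ ^ m * a ^ m := by rw [h3, hca.mul_pow]
    rw [conj_pow, mem_center_iff.mp ha b, mul_inv_cancel_right] at h2
    simpa using h2.symm
  have : c = 1 := by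
    have hh : c ^ Nat.gcd m n = 1 := pow_gcd_eq_one.mpr ⟨hcm, hcn⟩
    rwa [hmn.gcd_eq_one, pow_one] at hh
  rw [hab, this, one_mul]

theorem exists_pow_orderOf [Finite G] {x : G} (hx : x ∉ center G) :
    ∃ (p k : ℕ), p.Prime ∧ x ^ k ∉ center G ∧ (x ^ k) ^ p ∈ center G := by
  have h1 : orderOf (q x) ≠ 1 := by rwa [Ne, orderOf_eq_one_iff, q_eq_one]
  obtain ⟨p, hp, hdvd⟩ := Nat.exists_prime_and_dvd h1
  have ho := orderOf_pow_orderOf_div (orderOf_pos (q x)).ne' hdvd
  refine ⟨p, orderOf (q x) / p, hp, fun hc => ?_, ?_⟩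
  · rw [← map_pow, q_eq_one.mpr hc, orderOf_one] at ho
    exact hp.one_lt.ne ho
  · rw [← q_eq_one, map_pow, map_pow]
    have h2 := pow_orderOf_eq_one (q x ^ (orderOf (q x) / p))
    rwa [ho] at h2

variable (h : ∀ x : G, x ∉ center G → IsCoatom (C[x]))
include h

theorem eq_of_le {x y : G} (hx : x ∉ center G) (hy : y ∉ center G) (hle : C[x] ≤ C[y]) : C[x] = C[y] := by
  rcases ((h x hx).le_iff).mp hle with h' | h'
  · exact absurd h' (h y hy).1
  · exact h'.symm

theorem eq_of_abelian {x y : G} (hx : x ∉ center G) (hy : y ∉ center G) [IsMulCommutative (C[x] : Subgroup G)]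
    (hyx : y ∈ C[x]) : C[x] = C[y] :=
  eq_of_le h hx hy fun g hg =>
    mem_C.mpr (congrArg Subtype.val (mul_comm' (⟨g, hg⟩ : (C[x] : Subgroup G)) ⟨y, hyx⟩))

theorem cb_isCoatom {x : G} (hx : x ∉ center G) : IsCoatom (cb x) := by
  refine ⟨fun ht => (h x hx).1 (by rw [← comap_cb, ht, comap_top]), fun b hb => ?_⟩
  have hlt : C[x] < b.comap q := by
    rw [← comap_cb]
    exact (comap_lt_comap_of_surjective (QuotientGroup.mk'_surjective _)).mpr hb
  rw [← map_comap_eq_self_of_surjective (f := q) (QuotientGroup.mk'_surjective _) b, (h x hx).2 _ hlt,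
    map_top_of_surjective _ (QuotientGroup.mk'_surjective _)]

omit h in
theorem normal_iff {x : G} : (C[x] : Subgroup G).Normal ↔ (cb x).Normal := by
  constructor
  · intro hn; exact hn.map _ (QuotientGroup.mk'_surjective _)
  · intro hn; rw [← comap_cb]; infer_instance

/-- A nonabelian centralizer has a quotient of prime exponent. -/
theorem exponent_of_nonabelian [Finite G] {x : G} (hx : x ∉ center G)
    (hna : ¬ IsMulCommutative (C[x] : Subgroup G)) {a : G} (ha : a ∉ center G) (haC : C[a] = C[x])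
    {p : ℕ} (hp : p.Prime) (hap : a ^ p ∈ center G) : ∀ g ∈ C[x], g ^ p ∈ center G := by
  have out : ∀ y ∈ C[x], y ∉ center G → C[y] ≠ C[x] → y ^ p ∈ center G := by
    intro y hy hy0 hne
    by_contra hyp
    have hya : Commute a y := (mem_C.mp (haC.symm ▸ hy : y ∈ C[a])).symm
    have hayn : a * y ∉ center G := by
      intro hc
      refine hne ?_
      have h1 : C[a⁻¹ * (a * y)] = C[a⁻¹] := C_mul_central hc
      rw [inv_mul_cancel_left] at h1
      rw [h1, ← haC]
      ext g; rw [mem_C, mem_C]; exact (Commute.inv_right_iff (a := g) (b := a))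
    have h1 : C[a * y] ≤ C[y ^ p] := by
      refine (C_le_pow _ p).trans (le_of_eq ?_)
      rw [hya.mul_pow, ← mem_center_iff.mp hap (y ^ p), C_mul_central hap]
    have h2 : C[y] = C[y ^ p] := eq_of_le h hy0 hyp (C_le_pow y p)
    have h3 : C[a * y] = C[y] := eq_of_le h hayn hy0 (h1.trans h2.ge)
    have h4 : C[y] ≤ C[a] := fun g hg => mem_C.mpr <| by
      have e1 := mem_C.mp hg
      have e2 := mem_C.mp (h3.symm ▸ hg : g ∈ C[a * y])
      apply mul_right_cancel (b := y)
      rw [mul_assoc, e2, mul_assoc a g y, e1, ← mul_assoc]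
    exact hne (by rw [eq_of_le h hy0 ha h4, haC])
  obtain ⟨y, hy, hy0, hyne⟩ : ∃ y ∈ C[x], y ∉ center G ∧ C[y] ≠ C[x] := by
    by_contra hno
    push Not at hno
    refine hna ⟨⟨fun u v => Subtype.ext ?_⟩⟩
    by_cases hv : (v : G) ∈ center G
    · exact mem_center_iff.mp hv _
    · exact mem_C.mp ((hno _ v.2 hv).symm ▸ u.2 : (u : G) ∈ C[(v : G)])
  intro g hg
  by_cases hg0 : g ∈ center G
  · exact pow_mem hg0 p
  by_cases hgne : C[g] = C[x]
  · have hgy : Commute g y := (mem_C.mp (hgne.symm ▸ hy : y ∈ C[g])).symm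
    have hne2 : C[g * y] ≠ C[x] := by
      intro he
      refine hyne (eq_of_le h hx hy0 fun u hu => mem_C.mpr ?_).symm
      have e1 := mem_C.mp (hgne.symm ▸ hu : u ∈ C[g])
      have e2 := mem_C.mp (he.symm ▸ hu : u ∈ C[g * y])
      apply mul_left_cancel (a := g)
      rw [← mul_assoc, ← e1, mul_assoc, e2, mul_assoc]
    have hgy0 : g * y ∉ center G := by
      intro hc
      refine hyne ?_
      have h1 : C[g⁻¹ * (g * y)] = C[g⁻¹] := C_mul_central hc
      rw [inv_mul_cancel_left] at h1
      rw [h1, ← hgne]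
      ext u; rw [mem_C, mem_C]; exact (Commute.inv_right_iff (a := u) (b := g))
    have h5 := out (g * y) ((C[x]).mul_mem hg hy) hgy0 hne2
    rw [hgy.mul_pow] at h5
    exact ((center G).mul_mem_cancel_right (out y hy hy0 hyne)).mp h5
  · exact out g hg hg0 hgne

/-- The image of a nonabelian centralizer is a group of prime exponent. -/
theorem exists_exponent [Finite G] {x : G} (hx : x ∉ center G)
    (hna : ¬ IsMulCommutative (C[x] : Subgroup G)) :
    ∃ p, p.Prime ∧ ∀ g ∈ C[x], g ^ p ∈ center G := by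
  obtain ⟨p, k, hp, hk, hkp⟩ := exists_pow_orderOf hx
  exact ⟨p, hp, exponent_of_nonabelian h hx hna hk (eq_of_le h hx hk (C_le_pow x k)).symm hp hkp⟩

omit h in
theorem mem_conj_cb {g x w : G} : q w ∈ MulAut.conj (q g) • cb x ↔ w ∈ C[g * x * g⁻¹] := by
  rw [Lib.Coprime.mem_conj_smul, ← map_inv, ← map_mul, ← map_mul, q_mem_cb, mem_C, mem_C]
  constructor
  · intro e
    calc w * (g * x * g⁻¹) = g * ((g⁻¹ * w * g) * x) * g⁻¹ := by group
      _ = g * (x * (g⁻¹ * w * g)) * g⁻¹ := by rw [e]
      _ = g * x * g⁻¹ * w := by group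
  · intro e
    calc g⁻¹ * w * g * x = g⁻¹ * (w * (g * x * g⁻¹)) * g := by group
      _ = g⁻¹ * (g * x * g⁻¹ * w) * g := by rw [e]
      _ = x * (g⁻¹ * w * g) := by group

omit h in
theorem conj_not_center' {g x : G} (hx : x ∉ center G) : g * x * g⁻¹ ∉ center G := fun hc => hx (by
  have := (inferInstance : (center G).Normal).conj_mem _ hc g⁻¹
  simpa [mul_assoc] using this)

omit h in
theorem normal_of_conj_smul {H : Subgroup (G ⧸ center G)} {g : G ⧸ center G}
    (hn : (MulAut.conj g • H).Normal) : H.Normal := by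
  rwa [← Lib.Coprime.conj_inv_smul_smul g H, Lib.Coprime.conj_smul_of_normal (MulAut.conj g • H)]

omit h in
theorem card_sup_of_disjoint {H K : Subgroup (G ⧸ center G)} (hle : K ≤ normalizer (H : Set (G ⧸ center G)))
    (hd : H ⊓ K = ⊥) : Nat.card (H ⊔ K : Subgroup (G ⧸ center G)) = Nat.card H * Nat.card K := by
  have h1 : (H ⊔ K : Subgroup (G ⧸ center G)) = K ⊔ H := sup_comm H K
  rw [h1, mul_comm]
  have h2 := Lib.Coprime.card_sup_mul_card_inf_of_le_normalizer hle
  rw [inf_comm, hd, card_bot, mul_one] at h2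
  exact h2

omit h in
theorem normal_le_sylow {p : ℕ} {W : Subgroup (G ⧸ center G)} (hW : W.Normal) (hWp : IsPGroup p W)
    (S : Sylow p (G ⧸ center G)) : W ≤ S :=
  (S.3 (S.2.to_sup_of_normal_right hWp) le_sup_left) ▸ le_sup_right

omit h in
theorem cb_conj (g x : G) : cb (g * x * g⁻¹) = MulAut.conj (q g) • cb x := by
  ext w
  obtain ⟨w, rfl⟩ := QuotientGroup.mk'_surjective (center G) w
  exact q_mem_cb.trans mem_conj_cb.symm

/-- A nonnormal centralizer is abelian. -/
theorem abelian_of_not_normal [Finite G] {x : G} (hx : x ∉ center G)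
    (hn : ¬ (C[x] : Subgroup G).Normal) : IsMulCommutative (C[x] : Subgroup G) := by
  by_contra hna
  obtain ⟨p, hp, hexp⟩ := exists_exponent h hx hna
  have : Fact p.Prime := ⟨hp⟩
  set M := cb x with hMdef
  have hxM : q x ∈ M := q_mem_cb.mpr (self_mem x)
  have hx1 : q x ≠ 1 := fun e => hx (q_eq_one.mp e)
  have hMexp : ∀ w ∈ M, w ^ p = 1 := by
    rintro _ ⟨g, hg, rfl⟩; rw [← map_pow, q_eq_one]; exact hexp g hg
  have hMp : IsPGroup p M := fun w => ⟨1, Subtype.ext (by simpa using hMexp w w.2)⟩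
  have hMn : ¬ M.Normal := fun hM => hn (normal_iff.mpr hM)
  have hΓ : ¬ IsPGroup p (G ⧸ center G) := fun hpg => by
    have := hpg.isNilpotent
    exact hMn (NormalizerCondition.normal_of_coatom _ Group.normalizerCondition_of_isNilpotent (cb_isCoatom h hx))
  have syl : ∀ y ∈ C[x], y ∉ center G → ∃ Q : Sylow p (G ⧸ center G), (Q : Subgroup (G ⧸ center G)) = cb y := by
    intro y hy hy0
    have hyp : IsPGroup p (cb y) := by
      by_cases he : C[y] = C[x]
      · unfold cb; rw [he]; exact hMp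
      · have hxy : x ∈ C[y] := mem_C.mpr (mem_C.mp hy).symm
        have hnay : ¬ IsMulCommutative (C[y] : Subgroup G) := fun hc =>
          he (eq_of_abelian h hy0 hx hxy)
        obtain ⟨p', hp', hexp'⟩ := exists_exponent h hy0 hnay
        have : p' = p := by
          have h1 : orderOf (q x) ∣ p' := orderOf_dvd_of_pow_eq_one (by rw [← map_pow, q_eq_one]; exact hexp' x hxy)
          have h2 : orderOf (q x) ∣ p := orderOf_dvd_of_pow_eq_one (hMexp _ hxM)
          have h3 : orderOf (q x) = p := ((Nat.dvd_prime hp).mp h2).resolve_left (by rwa [orderOf_eq_one_iff])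
          rw [h3] at h1
          exact ((Nat.prime_dvd_prime_iff_eq hp hp').mp h1).symm
        subst this
        rintro ⟨w, g, hg, rfl⟩
        exact ⟨1, Subtype.ext (by rw [pow_one, coe_pow, OneMemClass.coe_one, ← map_pow, q_eq_one]; exact hexp' g hg)⟩
    obtain ⟨Q, hQ⟩ := hyp.exists_le_sylow
    refine ⟨Q, ((cb_isCoatom h hy0).le_iff.mp hQ).resolve_left fun ht => hΓ ?_⟩
    exact ((Q : Sylow p _).2.of_equiv ((MulEquiv.subgroupCongr ht).trans topEquiv))
  obtain ⟨P, hP⟩ := syl x (self_mem x) hx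
  rw [← hMdef] at hP
  have noW : ∀ W : Subgroup (G ⧸ center G), W.Normal → IsPGroup p W → W = ⊥ := by
    intro W hW hWp
    by_contra hWne
    obtain ⟨w, hwW, hw1⟩ := (bot_or_exists_ne_one W).resolve_left hWne
    obtain ⟨w, rfl⟩ := QuotientGroup.mk'_surjective (center G) w
    have hwP : ∀ g, w ∈ C[g * x * g⁻¹] := fun g => by
      rw [← mem_conj_cb, ← hMdef, ← hP, ← Sylow.coe_subgroup_smul]
      exact normal_le_sylow hW hWp _ hwW
    have hw0 : w ∉ center G := fun hc => hw1 (q_eq_one.mpr hc)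
    have hwx : w ∈ C[x] := by simpa using hwP 1
    obtain ⟨Q, hQ⟩ := syl w hwx hw0
    let L : Subgroup (G ⧸ center G) := Subgroup.normalClosure {q x}
    have hLn : L.Normal := normalClosure_normal
    have hxL : q x ∈ L := subset_normalClosure (Set.mem_singleton _)
    have hLQ : L ≤ Q := by
      rw [hQ]
      refine (closure_le (cb w)).mpr ?_
      intro u hu
      obtain ⟨_, rfl, hu⟩ := Group.mem_conjugatesOfSet_iff.mp hu
      obtain ⟨c, rfl⟩ := isConj_iff.mp hu
      obtain ⟨c, rfl⟩ := QuotientGroup.mk'_surjective (center G) c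
      show q c * q x * (q c)⁻¹ ∈ cb w
      rw [← map_inv, ← map_mul, ← map_mul, q_mem_cb]
      exact mem_C.mpr (mem_C.mp (hwP c)).symm
    have hLp : IsPGroup p L := Q.2.to_le hLQ
    refine hn ?_
    have key : ∀ g : G, C[x] ≤ C[g * x * g⁻¹] := by
      intro g y hy
      by_cases hy0 : y ∈ center G
      · exact center_le_C _ hy0
      obtain ⟨Q', hQ'⟩ := syl y hy hy0
      have h1 : q (g * x * g⁻¹) ∈ L := by
        rw [map_mul, map_mul, map_inv]
        exact hLn.conj_mem (q x) hxL (q g)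
      have h2 := normal_le_sylow hLn hLp Q' h1
      rw [hQ', q_mem_cb] at h2
      exact mem_C.mpr (mem_C.mp h2).symm
    refine ⟨fun m hm g => ?_⟩
    have he := eq_of_le h hx (conj_not_center' hx) (key g)
    rw [he, mem_C, show g * m * g⁻¹ * (g * x * g⁻¹) = g * (m * x) * g⁻¹ by group, mem_C.mp hm]
    group
  have hnorm : normalizer (M : Set (G ⧸ center G)) = M := ((cb_isCoatom h hx).le_iff.mp le_normalizer).resolve_left
    fun ht => hMn (normalizer_eq_top_iff.mp ht)
  have hPne : (P : Subgroup (G ⧸ center G)) ≠ ⊥ := by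
    rw [hP]; exact fun hb => hx1 (by rwa [hb, mem_bot] at hxM)
  have npc : ∃ K : Subgroup (G ⧸ center G), K.Normal ∧ K.IsComplement' (P : Subgroup (G ⧸ center G)) := by
    by_cases hp2 : p = 2
    · subst hp2
      have hc : IsMulCommutative (M : Subgroup (G ⧸ center G)) := by
        refine ⟨⟨fun a b => Subtype.ext ?_⟩⟩
        have ha := hMexp _ a.2
        have hb := hMexp _ b.2
        have hab := hMexp _ (M.mul_mem a.2 b.2)
        rw [sq] at ha hb hab
        show (a : G ⧸ center G) * b = b * a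
        rw [← inv_eq_of_mul_eq_one_right hab, mul_inv_rev, inv_eq_of_mul_eq_one_right ha,
          inv_eq_of_mul_eq_one_right hb]
      have hle : normalizer ((P : Subgroup (G ⧸ center G)) : Set (G ⧸ center G)) ≤
          centralizer ((P : Subgroup (G ⧸ center G)) : Set (G ⧸ center G)) := by
        rw [hP, hnorm]; exact le_centralizer M
      exact ⟨_, inferInstance, MonoidHom.ker_transferSylow_isComplement' P hle⟩
    · set W := Cfsg.centerThompsonAOf (P : Subgroup (G ⧸ center G)) with hWdef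
      have hWle : W ≤ P := inf_le_left.trans (map_subtype_le _)
      have hW1 : W ≠ ⊥ := S0659.zj_ne_bot P.2 hPne
      have hPN : (P : Subgroup (G ⧸ center G)) ≤ normalizer (W : Set (G ⧸ center G)) :=
        le_normalizer.trans (Lib.Thompson.normalizer_le_normalizer_functor (S0659.functor p hp2) _)
      rcases (cb_isCoatom h hx).le_iff.mp (hP ▸ hPN : M ≤ normalizer (W : Set (G ⧸ center G))) with ht | heq
      · exact absurd (noW W (normalizer_eq_top_iff.mp ht) (P.2.to_le hWle)) hW1
      · have hN : Cfsg.HasNormalPComplement p (normalizer (W : Set (G ⧸ center G))) := by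
          obtain ⟨T⟩ : Nonempty (Sylow p (normalizer (W : Set (G ⧸ center G)))) := inferInstance
          refine ⟨T, ⊥, inferInstance, ?_⟩
          have hpg : IsPGroup p (normalizer (W : Set (G ⧸ center G))) := by rw [heq]; exact hMp
          have hT : (T : Subgroup (normalizer (W : Set (G ⧸ center G)))) = ⊤ :=
            (T.is_maximal' (hpg.to_subgroup ⊤) le_top).symm
          rw [hT]
          exact isComplement'_bot_top
        obtain ⟨T, K, hK, hKT⟩ := S0659.result hp2 P hN
        obtain ⟨g, hg⟩ := MulAction.exists_smul_eq (G ⧸ center G) T P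
        refine ⟨K, hK, isComplement'_of_coprime ?_ ?_⟩
        · rw [Sylow.card_eq_multiplicity P, ← Sylow.card_eq_multiplicity T]
          exact hKT.card_mul
        · rw [← hKT.index_eq_card]
          obtain ⟨e, he⟩ := IsPGroup.iff_card.mp P.2
          rw [he]
          exact (Nat.Coprime.pow_right _ (hp.coprime_iff_not_dvd.mpr T.not_dvd_index).symm)
  obtain ⟨K, hK, hKP⟩ := npc
  obtain ⟨y, hy, hy0, hyne⟩ : ∃ y ∈ C[x], y ∉ center G ∧ C[y] ≠ C[x] := by
    by_contra hno
    push Not at hno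
    refine hna ⟨⟨fun u v => Subtype.ext ?_⟩⟩
    by_cases hv : (v : G) ∈ center G
    · exact mem_center_iff.mp hv _
    · exact mem_C.mp ((hno _ v.2 hv).symm ▸ u.2 : (u : G) ∈ C[(v : G)])
  have hqy : q y ∈ M := q_mem_cb.mpr hy
  have hcom : q x * q y = q y * q x := by rw [← map_mul, ← map_mul, mem_C.mp hy]
  set E := closure ({q x, q y} : Set (G ⧸ center G))
  have hEM : E ≤ M := by rw [closure_le]; rintro _ (rfl | rfl) <;> assumption
  have : IsMulCommutative E := isMulCommutative_closure (by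
    rintro a (rfl | rfl) b (rfl | rfl) <;> first | rfl | exact hcom | exact hcom.symm)
  have hEc : ¬ IsCyclic E := by
    intro hc
    obtain ⟨g, hg⟩ := hc.exists_generator
    have hxE : q x ∈ E := subset_closure (Set.mem_insert _ _)
    have hyE : q y ∈ E := subset_closure (Set.mem_insert_of_mem _ rfl)
    have hzp : ∀ z ∈ E, z ∈ zpowers (g : G ⧸ center G) := fun z hz => by
      obtain ⟨k, hk⟩ := mem_zpowers_iff.mp (hg ⟨z, hz⟩)
      exact ⟨k, by simpa using congrArg Subtype.val hk⟩
    have hgo : Nat.card (zpowers (g : G ⧸ center G)) ∣ p := by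
      rw [Nat.card_zpowers]; exact orderOf_dvd_of_pow_eq_one (hMexp _ (hEM g.2))
    have hxo : orderOf (q x) = p := ((Nat.dvd_prime hp).mp (orderOf_dvd_of_pow_eq_one (hMexp _ hxM))).resolve_left
      (by rwa [orderOf_eq_one_iff])
    have heq : zpowers (q x) = zpowers (g : G ⧸ center G) := by
      refine eq_of_le_of_card_ge (zpowers_le.mpr (hzp _ hxE)) ?_
      rw [Nat.card_zpowers (q x), hxo]; exact Nat.le_of_dvd hp.pos hgo
    obtain ⟨k, hk⟩ := mem_zpowers_iff.mp (heq ▸ hzp _ hyE : q y ∈ zpowers (q x))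
    refine hyne (eq_of_le h hx hy0 fun u hu => ?_).symm
    have hz : (x ^ k)⁻¹ * y ∈ center G := by
      rw [← q_eq_one, map_mul, map_inv, map_zpow, hk, inv_mul_cancel]
    rw [← mul_inv_cancel_left (x ^ k) y, C_mul_central hz]
    exact mem_C.mpr ((show Commute u x from mem_C.mp hu).zpow_right k).eq
  have hcop : (Nat.card M).Coprime (Nat.card K) := by
    rw [← hP, ← hKP.index_eq_card]
    obtain ⟨e, he⟩ := IsPGroup.iff_card.mp P.2
    rw [he]
    exact (hp.coprime_iff_not_dvd.mpr P.not_dvd_index).pow_left _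
  have hK1 : K = ⊥ := by
    rw [← Lib.Coprime.fixGen_eq (A := E) (K := K) hEc le_normalizer_of_normal
      (hcop.coprime_dvd_left (card_dvd_of_le hEM)), eq_bot_iff]
    refine iSup₂_le fun e he => ?_
    rintro k ⟨hk, hk'⟩
    rw [mem_bot]
    obtain ⟨k, rfl⟩ := QuotientGroup.mk'_surjective (center G) k
    have heM := hEM he.1
    obtain ⟨e', he', rfl⟩ := heM
    have he0 : e' ∉ center G := fun hc => he.2 (q_eq_one.mpr hc)
    have hcz : k * e' * (e' * k)⁻¹ ∈ center G := by
      rw [← q_eq_one, map_mul, map_inv, map_mul, map_mul, mem_centralizer_singleton_iff.mp hk', mul_inv_cancel]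
    have hkn : k ^ Nat.card K ∈ center G := by
      rw [← q_eq_one, map_pow]
      exact orderOf_dvd_iff_pow_eq_one.mp (orderOf_dvd_natCard K hk)
    have hcop' : (Nat.card K).Coprime p := (hcop.coprime_dvd_left (by
      rw [← hP]
      obtain ⟨e, he'⟩ := IsPGroup.iff_card.mp P.2
      rw [he']
      refine dvd_pow_self p fun h0 => hPne ?_
      exact card_eq_one.mp (by rw [he', h0, pow_zero]))).symm
    have hkC : k ∈ C[e'] := mem_C.mpr
      (mem_center_of_commute_coprime hcz (by group) hcop' hkn (hexp e' he'))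
    obtain ⟨Q, hQ⟩ := syl e' he' he0
    have h1 : orderOf (q k) ∣ Nat.card (cb e') := orderOf_dvd_natCard _ (q_mem_cb.mpr hkC)
    have h2 : orderOf (q k) ∣ Nat.card K := orderOf_dvd_natCard K hk
    have h3 : Nat.card (cb e') = Nat.card M := by
      rw [← hQ, ← hP, Sylow.card_eq_multiplicity, Sylow.card_eq_multiplicity]
    exact orderOf_eq_one_iff.mp (Nat.eq_one_of_dvd_coprimes (h3 ▸ hcop) h1 h2)
  subst hK1
  have := hKP.sup_eq_top
  rw [bot_sup_eq, hP] at this
  exact (cb_isCoatom h hx).1 this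

omit h in
theorem index_prime_of_normal_coatom [Finite G] {N : Subgroup G} [N.Normal] (hN : IsCoatom N) :
    N.index.Prime := by
  have h1 : N.index ≠ 1 := fun e => hN.1 (index_eq_one.mp e)
  obtain ⟨r, hr, hdvd⟩ := Nat.exists_prime_and_dvd h1
  have : Fact r.Prime := ⟨hr⟩
  rw [index_eq_card] at hdvd ⊢
  obtain ⟨g, hg⟩ := exists_prime_orderOf_dvd_card' r hdvd
  have htop : zpowers g = ⊤ := by
    have hlt : N < (zpowers g).comap (QuotientGroup.mk' N) := by
      refine lt_of_le_of_ne (fun a ha => mem_comap.mpr ?_) fun e => ?_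
      · rw [QuotientGroup.mk'_apply, (QuotientGroup.eq_one_iff a).mpr ha]; exact one_mem _
      · obtain ⟨a, rfl⟩ := QuotientGroup.mk'_surjective N g
        have ha : a ∈ N := e ▸ mem_zpowers (QuotientGroup.mk' N a)
        rw [QuotientGroup.mk'_apply, (QuotientGroup.eq_one_iff a).mpr ha, orderOf_one] at hg
        exact hr.one_lt.ne hg
    rw [← map_comap_eq_self_of_surjective (f := QuotientGroup.mk' N) (QuotientGroup.mk'_surjective _)
      (zpowers g), hN.2 _ hlt, map_top_of_surjective _ (QuotientGroup.mk'_surjective _)]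
  rw [← card_top (G := G ⧸ N), ← htop, Nat.card_zpowers, hg]
  exact hr

/-- The case in which all centralizers are normal. -/
theorem all_normal [Finite G] (hna : ¬ IsMulCommutative G)
    (hn : ∀ x, x ∉ center G → (C[x] : Subgroup G).Normal) :
    ∃ p : ℕ, p.Prime ∧ Cfsg.IsElementaryAbelian p (⊤ : Subgroup (G ⧸ center G)) := by
  have hcomm : ∀ a b : G, a * b * a⁻¹ * b⁻¹ ∈ center G := by
    intro a b
    rw [mem_center_iff]
    intro u
    by_cases hu : u ∈ center G
    · exact (mem_center_iff.mp hu _).symm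
    have := hn u hu
    have hpr := index_prime_of_normal_coatom (h u hu)
    rw [index_eq_card] at hpr
    have : Fact (Nat.card (G ⧸ C[u])).Prime := ⟨hpr⟩
    have hcyc : IsCyclic (G ⧸ C[u]) := isCyclic_of_prime_card rfl
    have h1 : (QuotientGroup.mk' (C[u])) (a * b * a⁻¹ * b⁻¹) = 1 := by
      letI := hcyc.commGroup
      simp only [map_mul, map_inv]
      rw [mul_comm (QuotientGroup.mk' (C[u]) a) (QuotientGroup.mk' (C[u]) b)]
      group
    exact (mem_C.mp ((QuotientGroup.eq_one_iff _).mp h1)).symm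
  have hqc : ∀ a b : G ⧸ center G, a * b = b * a := by
    intro a b
    obtain ⟨a, rfl⟩ := QuotientGroup.mk'_surjective (center G) a
    obtain ⟨b, rfl⟩ := QuotientGroup.mk'_surjective (center G) b
    have := q_eq_one.mpr (hcomm a b)
    simp only [map_mul, map_inv, mul_inv_eq_one] at this
    rwa [mul_inv_eq_iff_eq_mul] at this
  obtain ⟨x0, hx0⟩ : ∃ x, x ∉ center G := by
    by_contra hno
    push Not at hno
    exact hna ⟨⟨fun a b => mem_center_iff.mp (hno b) a⟩⟩
  have prim : ∀ {u v : G} {r s : ℕ}, u ∉ center G → v ∉ center G → r.Prime → s.Prime → r ≠ s →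
      u ^ r ∈ center G → v ^ s ∈ center G → C[u] = C[v] := by
    intro u v r s hu hv hr hs hrs hur hvs
    have hcop : r.Coprime s := (Nat.coprime_primes hr hs).mpr hrs
    have huv : Commute u v := mem_center_of_commute_coprime (hcomm u v) (by group) hcop hur hvs
    have key : ∀ {u v : G} {r s : ℕ}, u ∉ center G → v ∉ center G → Commute u v → r.Coprime s →
        u ^ r ∈ center G → v ^ s ∈ center G → C[u * v] ≤ C[v] := by
      intro u v r s _ hv huv hcop hur hvs
      obtain ⟨k, hk1, hk2⟩ := Nat.chineseRemainder hcop 0 1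
      obtain ⟨i, rfl⟩ := (Nat.modEq_zero_iff_dvd.mp hk1)
      have e1 : v⁻¹ * v ^ (r * i) ∈ center G := by
        rw [← q_eq_one, map_mul, map_inv, map_pow, inv_mul_eq_one]
        have h1 : orderOf (q v) ∣ s := orderOf_dvd_of_pow_eq_one (by rw [← map_pow, q_eq_one]; exact hvs)
        have h4 := (pow_eq_pow_iff_modEq (x := q v)).mpr (hk2.of_dvd h1)
        rw [pow_one] at h4; exact h4.symm
      have e2 : (u * v) ^ (r * i) = v * ((v⁻¹ * v ^ (r * i)) * (u ^ r) ^ i) := by
        rw [huv.mul_pow, ← pow_mul, ← mul_assoc, mul_inv_cancel_left]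
        exact (huv.pow_pow _ _).eq
      refine (C_le_pow (u * v) (r * i)).trans (le_of_eq ?_)
      rw [e2, C_mul_central ((center G).mul_mem e1 (pow_mem hur i))]
    have huv0 : u * v ∉ center G := fun hc => by
      have h3 : C[u * v] ≤ C[v] := key hu hv huv hcop hur hvs
      exact (h v hv).1 (top_unique (fun g _ => h3 (mem_C.mpr (mem_center_iff.mp hc g))))
    have h1 := eq_of_le h huv0 hv (key hu hv huv hcop hur hvs)
    have h2 : C[v * u] ≤ C[u] := key hv hu huv.symm hcop.symm hvs hur
    rw [← huv.eq] at h2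
    exact (eq_of_le h huv0 hu h2).symm.trans h1
  obtain ⟨p, k, hp, hk, hkp⟩ := exists_pow_orderOf hx0
  set x := x0 ^ k
  have : Fact p.Prime := ⟨hp⟩
  have hpg : IsPGroup p (G ⧸ center G) := by
    refine IsPGroup.of_card (Nat.eq_prime_pow_of_unique_prime_dvd Nat.card_pos.ne' ?_)
    intro r hr hrd
    by_contra hrp
    have : Fact r.Prime := ⟨hr⟩
    obtain ⟨y, hy⟩ := exists_prime_orderOf_dvd_card' r hrd
    obtain ⟨y, rfl⟩ := QuotientGroup.mk'_surjective (center G) y
    have hy0 : y ∉ center G := fun hc => by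
      rw [q_eq_one.mpr hc, orderOf_one] at hy; exact hr.one_lt.ne hy
    have hyr : y ^ r ∈ center G := by
      rw [← q_eq_one, map_pow, ← hy]; exact pow_orderOf_eq_one _
    refine hk (mem_center_iff.mpr fun u => ?_)
    by_cases hu : u ∈ center G
    · exact (mem_center_iff.mp hu x).symm
    obtain ⟨t, j, ht, hj, hjt⟩ := exists_pow_orderOf hu
    have h1 : C[u] = C[u ^ j] := eq_of_le h hu hj (C_le_pow u j)
    have h2 : C[u ^ j] = C[x] := by
      by_cases htp : t = p
      · exact (prim hj hy0 ht hr (htp ▸ Ne.symm hrp) hjt hyr).trans (prim hk hy0 hp hr (Ne.symm hrp) hkp hyr).symm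
      · exact prim hj hk ht hp htp hjt hkp
    exact mem_C.mp ((h1.trans h2) ▸ self_mem u : u ∈ C[x])
  refine ⟨p, hp, ⟨⟨fun a b => Subtype.ext (hqc a b)⟩⟩, fun a _ => ?_⟩
  obtain ⟨a, rfl⟩ := QuotientGroup.mk'_surjective (center G) a
  rw [← map_pow, q_eq_one, mem_center_iff]
  intro u
  by_cases hu : u ∈ center G
  · exact (mem_center_iff.mp hu _).symm
  have := hn u hu
  have hidx : C[u].index = p := by
    have hd : C[u].index ∣ (center G).index := index_dvd_of_le (center_le_C u)
    obtain ⟨e, he⟩ := IsPGroup.iff_card.mp hpg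
    rw [← index_eq_card] at he
    rw [he] at hd
    exact (Nat.prime_dvd_prime_iff_eq (index_prime_of_normal_coatom (h u hu)) hp).mp
      ((index_prime_of_normal_coatom (h u hu)).dvd_of_dvd_pow hd)
  exact (mem_C.mp (hidx ▸ pow_index_mem (C[u]) a : a ^ p ∈ C[u])).symm

theorem main [Finite G] (hna : ¬ IsMulCommutative G) :
    (∃ p : ℕ, p.Prime ∧ Cfsg.IsElementaryAbelian p (⊤ : Subgroup (G ⧸ center G))) ∨
    (¬ IsMulCommutative (G ⧸ center G) ∧ (∀ H : Subgroup (G ⧸ center G), H ≠ ⊤ → IsMulCommutative ↥H) ∧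
      ∃ p q a : ℕ, p.Prime ∧ q.Prime ∧ p ≠ q ∧ Nat.card (G ⧸ center G) = p ^ a * q ∧
        ∀ P : Subgroup (G ⧸ center G), Nat.card ↥P = p ^ a → P.Normal) := by
  by_cases hall : ∀ x, x ∉ center G → (C[x] : Subgroup G).Normal
  · exact Or.inl (all_normal h hna hall)
  right
  push Not at hall
  obtain ⟨x, hx, hxn⟩ := hall
  have hab := abelian_of_not_normal h hx hxn
  set M := cb x with hMdef
  have hMco : IsCoatom M := cb_isCoatom h hx
  have hMn : ¬ M.Normal := fun hM => hxn (normal_iff.mpr hM)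
  have hconj : ∀ g, IsMulCommutative (C[g * x * g⁻¹] : Subgroup G) := fun g => by
    refine abelian_of_not_normal h (conj_not_center' hx) fun hn => hMn ?_
    have := normal_iff.mp hn
    rw [cb_conj] at this
    exact normal_of_conj_smul this
  have inConj : ∀ {w g : G}, w ∉ center G → w ∈ C[g * x * g⁻¹] → C[w] = C[g * x * g⁻¹] := fun {w g} hw hwg => by
    have := hconj g
    exact (eq_of_abelian h (conj_not_center' hx) hw hwg).symm
  have hMne : M ≠ ⊥ := fun hb => hx (q_eq_one.mp (by
    have : q x ∈ M := q_mem_cb.mpr (self_mem x)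
    rwa [hb, mem_bot] at this))
  have hnorm : normalizer (M : Set (G ⧸ center G)) = M :=
    (hMco.le_iff.mp le_normalizer).resolve_left fun ht => hMn (normalizer_eq_top_iff.mp ht)
  have hFC : Cfsg.IsFrobeniusComplement M := by
    refine ⟨hMne, hMco.1, fun g hg => eq_bot_iff.mpr ?_⟩
    obtain ⟨g, rfl⟩ := QuotientGroup.mk'_surjective (center G) g
    rintro w ⟨hw1, hw2⟩
    obtain ⟨w, rfl⟩ := QuotientGroup.mk'_surjective (center G) w
    rw [mem_bot]
    by_contra hw
    have hw0 : w ∉ center G := fun hc => hw (q_eq_one.mpr hc)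
    have e1 : C[w] = C[x] := by simpa using inConj (g := 1) hw0 (by simpa using q_mem_cb.mp hw1)
    have e2 := inConj hw0 (mem_conj_cb.mp hw2)
    refine hg ?_
    rw [← hnorm]
    refine Lib.Coprime.mem_normalizer_of_conj_smul_eq ?_
    rw [hMdef, ← cb_conj]
    unfold cb; rw [← e2, e1]
  have hcov : ∀ {u : G}, q u ∈ Lib.Hall.covered M → ∃ g, u ∈ C[g * x * g⁻¹] ∧ u ∉ center G := by
    rintro u ⟨hu1, g, hg⟩
    obtain ⟨g, rfl⟩ := QuotientGroup.mk'_surjective (center G) g
    exact ⟨g, mem_conj_cb.mp hg, fun hc => hu1 (q_eq_one.mpr hc)⟩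
  have hker : ∀ u, u ∉ center G → q u ∉ Lib.Hall.covered M → (C[u] : Subgroup G).Normal := by
    intro u hu hunc
    by_contra hun
    have habu := abelian_of_not_normal h hu hun
    have hconju : ∀ g, IsMulCommutative (C[g * u * g⁻¹] : Subgroup G) := fun g => by
      refine abelian_of_not_normal h (conj_not_center' hu) fun hn => hun (normal_iff.mpr ?_)
      have := normal_iff.mp hn
      rw [cb_conj] at this
      exact normal_of_conj_smul this
    have hFCu : Cfsg.IsFrobeniusComplement (cb u) := by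
      refine ⟨fun hb => hu (q_eq_one.mp (by
        have : q u ∈ cb u := q_mem_cb.mpr (self_mem u)
        rwa [hb, mem_bot] at this)), (cb_isCoatom h hu).1, fun g hg => eq_bot_iff.mpr ?_⟩
      obtain ⟨g, rfl⟩ := QuotientGroup.mk'_surjective (center G) g
      rintro w ⟨hw1, hw2⟩
      obtain ⟨w, rfl⟩ := QuotientGroup.mk'_surjective (center G) w
      rw [mem_bot]
      by_contra hw
      have hw0 : w ∉ center G := fun hc => hw (q_eq_one.mpr hc)
      have e1 := eq_of_abelian h hu hw0 (q_mem_cb.mp hw1)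
      have := hconju g
      have e2 := eq_of_abelian h (conj_not_center' hu) hw0 (mem_conj_cb.mp hw2)
      refine hg ?_
      have hnu : normalizer (cb u : Set (G ⧸ center G)) = cb u :=
        ((cb_isCoatom h hu).le_iff.mp le_normalizer).resolve_left
          fun ht => hun (normal_iff.mpr (normalizer_eq_top_iff.mp ht))
      rw [← hnu]
      refine Lib.Coprime.mem_normalizer_of_conj_smul_eq ?_
      rw [← cb_conj]
      unfold cb; rw [e2, e1]
    have hdis : Disjoint (Lib.Hall.covered M) (Lib.Hall.covered (cb u)) := by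
      rw [Set.disjoint_left]
      rintro w hw ⟨hw1, g, hg⟩
      obtain ⟨w, rfl⟩ := QuotientGroup.mk'_surjective (center G) w
      obtain ⟨g, rfl⟩ := QuotientGroup.mk'_surjective (center G) g
      obtain ⟨a, ha, hw0⟩ := hcov hw
      have e1 := inConj hw0 ha
      have := hconju g
      have e2 := eq_of_abelian h (conj_not_center' hu) hw0 (mem_conj_cb.mp hg)
      refine hunc ⟨fun e => hu (q_eq_one.mp e), q (g⁻¹ * a), ?_⟩
      rw [mem_conj_cb, ← q_mem_cb, cb_conj, map_mul, map_inv, Lib.Coprime.conj_smul_mul, ← cb_conj]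
      have e3 : cb (a * x * a⁻¹) = cb (g * u * g⁻¹) := by unfold cb; rw [← e1, e2]
      rw [e3, cb_conj, Lib.Coprime.conj_inv_smul_smul]
      exact q_mem_cb.mpr (self_mem u)
    have hsub : Lib.Hall.covered M ∪ Lib.Hall.covered (cb u) ⊆ {1}ᶜ := by
      rintro w (⟨hw, -⟩ | ⟨hw, -⟩) <;> exact hw
    have hcard := Set.ncard_le_ncard hsub (Set.toFinite _)
    rw [Set.ncard_union_eq hdis (Set.toFinite _) (Set.toFinite _), Set.ncard_compl, Set.ncard_singleton,
      ← Nat.card_coe_set_eq, ← Nat.card_coe_set_eq] at hcard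
    have e1 := Lib.Hall.card_covered_add_index hFC
    have e2 := Lib.Hall.card_covered_add_index hFCu
    have d1 := M.card_mul_index
    have d2 := (cb u).card_mul_index
    have g1 : 2 ≤ Nat.card M := (one_lt_card_iff_ne_bot M).mpr hMne
    have g2 : 2 ≤ Nat.card (cb u) := (one_lt_card_iff_ne_bot _).mpr hFCu.1
    have := Nat.mul_le_mul_right M.index g1
    have := Nat.mul_le_mul_right (cb u).index g2
    have := Nat.card_pos (α := G ⧸ center G)
    omega
  have hKcard : Nat.card (Cfsg.frobeniusKernel M) = M.index := Lib.Hall.card_frobeniusKernel hFC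
  obtain ⟨u0, hu0, hu0c⟩ : ∃ u : G, u ∉ center G ∧ q u ∉ Lib.Hall.covered M := by
    by_contra hno
    push Not at hno
    have hsub : Cfsg.frobeniusKernel M ⊆ {1} := by
      rw [Lib.Hall.frobeniusKernel_eq_compl]
      intro w hw
      obtain ⟨w, rfl⟩ := QuotientGroup.mk'_surjective (center G) w
      by_contra hw1
      exact hw (hno w fun hc => hw1 (q_eq_one.mpr hc))
    have hle := Set.ncard_le_ncard hsub (Set.toFinite _)
    rw [Set.ncard_singleton, ← Nat.card_coe_set_eq, hKcard] at hle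
    have := one_lt_index_of_ne_top hMco.1
    omega
  set N := cb u0 with hNdef
  have hNn : N.Normal := normal_iff.mp (hker u0 hu0 hu0c)
  have meet : ∀ {u : G}, u ∉ center G → q u ∉ Lib.Hall.covered M → ∀ w ∈ C[u], w ∉ center G →
      ∀ g, w ∉ C[g * x * g⁻¹] := by
    intro u hu huc w hw hw0 g hwg
    refine huc ⟨fun e => hu (q_eq_one.mp e), q g, mem_conj_cb.mpr ?_⟩
    rw [← inConj hw0 hwg]
    exact mem_C.mpr (mem_C.mp hw).symm
  have kerset : ∀ u, u ∉ center G → q u ∉ Lib.Hall.covered M →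
      (cb u : Set (G ⧸ center G)) = Cfsg.frobeniusKernel M := by
    intro u hu huc
    have := normal_iff.mp (hker u hu huc)
    have hsub : (cb u : Set (G ⧸ center G)) ⊆ Cfsg.frobeniusKernel M := by
      rw [Lib.Hall.frobeniusKernel_eq_compl]
      rintro _ ⟨w, hw, rfl⟩ hwc
      obtain ⟨g, hg, hw0⟩ := hcov hwc
      exact meet hu huc w hw hw0 g hg
    have hinf : cb u ⊓ M = ⊥ := by
      rw [eq_bot_iff]
      rintro _ ⟨⟨w, hw, rfl⟩, hw'⟩
      rw [mem_bot]
      by_contra hne
      have := hsub ⟨w, hw, rfl⟩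
      rw [Lib.Hall.frobeniusKernel_eq_compl] at this
      exact this ⟨hne, 1, by simpa using hw'⟩
    have hsup : cb u ⊔ M = ⊤ := by
      refine (hMco.le_iff.mp le_sup_right).resolve_right fun e => ?_
      have hm : q u ∈ cb u := q_mem_cb.mpr (self_mem u)
      exact huc ⟨fun e1 => hu (q_eq_one.mp e1), 1, by simpa using (le_of_eq e) (mem_sup_left hm)⟩
    have hcard := card_sup_of_disjoint (H := cb u) (K := M) le_normalizer_of_normal hinf
    rw [hsup, card_top, ← M.index_mul_card] at hcard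
    refine Set.eq_of_subset_of_ncard_le hsub (le_of_eq ?_) (Set.toFinite _)
    rw [← Nat.card_coe_set_eq, hKcard, ← Nat.card_coe_set_eq]
    exact (Nat.mul_right_cancel Nat.card_pos hcard)
  have hNset := kerset u0 hu0 hu0c
  have notcov : ∀ w, q w ∈ N → q w ∉ Lib.Hall.covered M := fun w hw hwc => by
    have : q w ∈ Cfsg.frobeniusKernel M := hNset ▸ hw
    rw [Lib.Hall.frobeniusKernel_eq_compl] at this
    exact this hwc
  have hinf : N ⊓ M = ⊥ := by
    rw [eq_bot_iff]
    rintro _ ⟨⟨w, hw, rfl⟩, hw'⟩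
    rw [mem_bot]
    by_contra hne
    exact notcov w ⟨w, hw, rfl⟩ ⟨hne, 1, by simpa using hw'⟩
  have hsup : N ⊔ M = ⊤ := by
    refine (hMco.le_iff.mp le_sup_right).resolve_right fun e => ?_
    have hm : q u0 ∈ N := q_mem_cb.mpr (self_mem u0)
    exact hu0c ⟨fun e1 => hu0 (q_eq_one.mp e1), 1, by simpa using (le_of_eq e) (mem_sup_left hm)⟩
  have hcard : Nat.card (G ⧸ center G) = Nat.card N * Nat.card M := by
    rw [← card_sup_of_disjoint (H := N) (K := M) le_normalizer_of_normal hinf, hsup, card_top]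
  have hr : (Nat.card M).Prime := by
    have hi : N.index.Prime := index_prime_of_normal_coatom (cb_isCoatom h hu0)
    rw [← N.card_mul_index] at hcard
    rwa [← Nat.eq_of_mul_eq_mul_left Nat.card_pos hcard]
  have hNab : ∀ a ∈ N, ∀ b ∈ N, a * b = b * a := by
    rintro _ ⟨a, ha, rfl⟩ _ ⟨b, hb, rfl⟩
    rw [← map_mul, ← map_mul]
    congr 1
    by_cases ha0 : a ∈ center G
    · exact (mem_center_iff.mp ha0 b).symm
    have hset := (kerset a ha0 (notcov a ⟨a, ha, rfl⟩)).trans hNset.symm
    have hb' : q b ∈ cb a := by rw [← SetLike.mem_coe, hset]; exact ⟨b, hb, rfl⟩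
    exact (mem_C.mp (q_mem_cb.mp hb')).symm
  have hnab : ¬ IsMulCommutative (G ⧸ center G) := fun hc => hMn
    ⟨fun m hm g => by rwa [mul_comm' g m, mul_inv_cancel_right]⟩
  refine ⟨hnab, fun H hH => ?_, ?_⟩
  · by_cases hHN : H ≤ N
    · exact ⟨⟨fun a b => Subtype.ext (hNab _ (hHN a.2) _ (hHN b.2))⟩⟩
    obtain ⟨w, hwH, hwN⟩ := SetLike.not_le_iff_exists.mp hHN
    have hwc : w ∈ Lib.Hall.covered M := by
      by_contra hwc
      refine hwN ?_
      rw [← SetLike.mem_coe, hNset, Lib.Hall.frobeniusKernel_eq_compl]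
      exact hwc
    obtain ⟨hw1, g, hg⟩ := hwc
    set M' := MulAut.conj g • M
    have hM'c : Nat.card M' = Nat.card M := Nat.card_congr (equivSMul (MulAut.conj g) M).toEquiv.symm
    have : Fact (Nat.card M).Prime := ⟨hr⟩
    have hz : zpowers w = M' := by
      refine eq_of_le_of_card_ge (zpowers_le.mpr hg) (le_of_eq ?_)
      rw [hM'c, Nat.card_zpowers]
      refine (((Nat.dvd_prime hr).mp ?_).resolve_left ?_).symm
      · exact hM'c ▸ orderOf_dvd_natCard M' hg
      · rwa [orderOf_eq_one_iff]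
    obtain ⟨g', hg'⟩ := QuotientGroup.mk'_surjective (center G) g
    have hco : IsCoatom M' := by
      show IsCoatom (MulAut.conj g • M)
      rw [← hg', hMdef, ← cb_conj]
      exact cb_isCoatom h (conj_not_center' hx)
    rcases hco.le_iff.mp (hz ▸ zpowers_le.mpr hwH : M' ≤ H) with ht | he
    · exact absurd ht hH
    · rw [he, ← hz]; infer_instance
  have hNne : Nat.card N ≠ 1 := fun e => hu0 (q_eq_one.mp (by
    have hm : q u0 ∈ N := q_mem_cb.mpr (self_mem u0)
    rwa [card_eq_one.mp e, mem_bot] at hm))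
  obtain ⟨p, hp, hpd⟩ := Nat.exists_prime_and_dvd hNne
  have : Fact p.Prime := ⟨hp⟩
  let L : Subgroup (G ⧸ center G) :=
    { carrier := {n | n ∈ N ∧ n ^ p = 1}
      one_mem' := ⟨one_mem _, one_pow _⟩
      mul_mem' := fun {a b} ha hb => ⟨mul_mem ha.1 hb.1, by
        rw [(show Commute a b from hNab a ha.1 b hb.1).mul_pow, ha.2, hb.2, one_mul]⟩
      inv_mem' := fun {a} ha => ⟨inv_mem ha.1, by rw [inv_pow, ha.2, inv_one]⟩ }
  have : L.Normal := ⟨fun a ha g => ⟨hNn.conj_mem a ha.1 g, by rw [conj_pow, ha.2, mul_one, mul_inv_cancel]⟩⟩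
  have hLN : L ≤ N := fun a ha => ha.1
  have hL : L = N := by
    obtain ⟨n, hn⟩ := exists_prime_orderOf_dvd_card' p hpd
    have hnL : (n : G ⧸ center G) ∈ L := ⟨n.2, by rw [← coe_pow, ← hn, pow_orderOf_eq_one, coe_one]⟩
    have hinfL : L ⊓ M = ⊥ := eq_bot_iff.mpr ((inf_le_inf_right M hLN).trans hinf.le)
    have hsupL : L ⊔ M = ⊤ := by
      refine (hMco.le_iff.mp le_sup_right).resolve_right fun e => ?_
      have : (n : G ⧸ center G) ∈ N ⊓ M := ⟨n.2, (le_of_eq e) (mem_sup_left hnL)⟩
      rw [hinf, mem_bot, OneMemClass.coe_eq_one] at this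
      rw [this, orderOf_one] at hn
      exact hp.one_lt.ne hn
    have hc := card_sup_of_disjoint (H := L) (K := M) le_normalizer_of_normal hinfL
    rw [hsupL, card_top, hcard] at hc
    exact eq_of_le_of_card_ge hLN (Nat.mul_right_cancel Nat.card_pos hc).le
  have hNp : IsPGroup p N := fun n => ⟨1, Subtype.ext (by
    rw [pow_one, coe_pow, coe_one]; exact (hL.symm ▸ n.2 : (n : G ⧸ center G) ∈ L).2)⟩
  obtain ⟨a, ha⟩ := IsPGroup.iff_card.mp hNp
  refine ⟨p, Nat.card M, a, hp, hr, fun e => ?_, by rw [hcard, ha], fun P hP => ?_⟩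
  · have hpg : IsPGroup p (G ⧸ center G) := IsPGroup.of_card (n := a + 1) (by rw [hcard, ha, ← e, pow_succ])
    have := hpg.isNilpotent
    exact hMn (NormalizerCondition.normal_of_coatom _ Group.normalizerCondition_of_isNilpotent hMco)
  · have hPN : P ≤ N := by
      intro w hw
      by_contra hwN
      have hwc : w ∈ Lib.Hall.covered M := by
        by_contra hwc
        refine hwN ?_
        rw [← SetLike.mem_coe, hNset, Lib.Hall.frobeniusKernel_eq_compl]
        exact hwc
      obtain ⟨hw1, g, hg⟩ := hwc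
      have h1 : orderOf w ∣ Nat.card M :=
        (Nat.card_congr (equivSMul (MulAut.conj g) M).toEquiv) ▸ orderOf_dvd_natCard _ hg
      have h2 : orderOf w ∣ p ^ a := hP ▸ orderOf_dvd_natCard P hw
      have h3 : (Nat.card M).Coprime (p ^ a) := by
        refine Nat.Coprime.pow_right _ ((Nat.coprime_primes hr hp).mpr fun e => ?_)
        have hpg : IsPGroup p (G ⧸ center G) := IsPGroup.of_card (n := a + 1) (by rw [hcard, ha, e, pow_succ])
        have := hpg.isNilpotent
        exact hMn (NormalizerCondition.normal_of_coatom _ Group.normalizerCondition_of_isNilpotent hMco)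
      exact hw1 (orderOf_eq_one_iff.mp (Nat.eq_one_of_dvd_coprimes h3 h1 h2))
    rw [eq_of_le_of_card_ge hPN (ha ▸ hP.ge)]
    exact hNn

end

/-- Let G be a non-abelian finite group in which the centralizer of every non-central element is a maximal subgroup. Then G/Z(G) is either an elementary abelian p-group for some prime p, or a minimal non-abelian group (non-abelian with all proper subgroups abelian) of order p^a · q for distinct primes p, q with a normal Sylow p-subgroup. -/
theorem result {G : Type*} [Group G] [Finite G] (hna : ¬ IsMulCommutative G)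
    (h : ∀ x : G, x ∉ Subgroup.center G → IsCoatom (Subgroup.centralizer ({x} : Set G))) :
    (∃ p : ℕ, p.Prime ∧ Cfsg.IsElementaryAbelian p (⊤ : Subgroup (G ⧸ Subgroup.center G))) ∨
    (¬ IsMulCommutative (G ⧸ Subgroup.center G) ∧ (∀ H : Subgroup (G ⧸ Subgroup.center G), H ≠ ⊤ → IsMulCommutative ↥H) ∧
      ∃ p q a : ℕ, p.Prime ∧ q.Prime ∧ p ≠ q ∧ Nat.card (G ⧸ Subgroup.center G) = p ^ a * q ∧
        ∀ P : Subgroup (G ⧸ Subgroup.center G), Nat.card ↥P = p ^ a → P.Normal) := by
  exact main h hna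

end Cfsg.Agent.S3904
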