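import Cfsg.Statements.S3905
import Cfsg.Agent.S0183
import Cfsg.Agent.Lib.CNGroup.Basic
import Cfsg.Agent.Lib.Hall.Schmidt
import Cfsg.Agent.Lib.Hall.Solvable
import Cfsg.Agent.Lib.Hall.Frobenius

set_option autoImplicit false
open Cfsg

namespace Cfsg.Agent.S3905

open Subgroup
open scoped commutatorElement Pointwise

section

variable {G : Type*} [Group G]

/-- centralisers of the elements outside the centre of `N` are maximal -/
def MaxCent (N : Subgroup G) : Prop :=
  ∀ x : G, x ∈ N → x ∉ centralizer (N : Set G) → IsCoatom (centralizer ({x} : Set G))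

variable {N : Subgroup G}

theorem cent_ne_top {y : G} (hy : y ∉ centralizer (N : Set G)) : centralizer ({y} : Set G) ≠ ⊤ := fun h =>
  hy (mem_centralizer_iff.mpr fun n _ =>
    mem_centralizer_singleton_iff.mp (show n ∈ centralizer ({y} : Set G) by rw [h]; exact mem_top n))

theorem cent_eq_of_le (h : MaxCent N) {x y : G} (hx : x ∈ N) (hxZ : x ∉ centralizer (N : Set G))
    (hy : y ∉ centralizer (N : Set G)) (hle : centralizer ({x} : Set G) ≤ centralizer ({y} : Set G)) :
    centralizer ({x} : Set G) = centralizer ({y} : Set G) :=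
  (((h x hx hxZ).le_iff.mp hle).resolve_left (cent_ne_top hy)).symm

theorem cent_le_of_mem_zpowers {x y : G} (hy : y ∈ zpowers x) :
    centralizer ({x} : Set G) ≤ centralizer ({y} : Set G) := by
  obtain ⟨i, rfl⟩ := hy
  intro c hc
  exact mem_centralizer_singleton_iff.mpr
    ((show Commute c x from mem_centralizer_singleton_iff.mp hc).zpow_right i).eq

theorem cent_eq_of_coprime (h : MaxCent N) {a b : G} (ha : a ∈ N) (hb : b ∈ N)
    (haZ : a ∉ centralizer (N : Set G)) (hbZ : b ∉ centralizer (N : Set G)) (hab : a * b = b * a)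
    (hco : (orderOf a).Coprime (orderOf b)) :
    centralizer ({a} : Set G) = centralizer ({b} : Set G) := by
  have key : ∀ {u v : G}, u * v = v * u → (orderOf u).Coprime (orderOf v) → u ∈ zpowers (u * v) := by
    intro u v huv huvc
    obtain ⟨m, hm⟩ := exists_pow_eq_self_of_coprime huvc.symm
    refine ⟨(orderOf v * m : ℕ), ?_⟩
    show (u * v) ^ ((orderOf v * m : ℕ) : ℤ) = u
    rw [zpow_natCast, pow_mul, (show Commute u v from huv).mul_pow, pow_orderOf_eq_one, mul_one, hm]
  have h1 := key hab hco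
  have h2 := key hab.symm hco.symm
  rw [← hab] at h2
  have hZ : a * b ∉ centralizer (N : Set G) := fun hc => haZ (zpowers_le.mpr hc h1)
  exact (cent_eq_of_le h (mul_mem ha hb) hZ haZ (cent_le_of_mem_zpowers h1)).symm.trans
    (cent_eq_of_le h (mul_mem ha hb) hZ hbZ (cent_le_of_mem_zpowers h2))

theorem mem_center_iff_centralizer (y : ↥N) : y ∈ center ↥N ↔ (y : G) ∈ centralizer (N : Set G) := by
  rw [Subgroup.mem_center_iff, mem_centralizer_iff]
  exact ⟨fun h n hn => congrArg Subtype.val (h ⟨n, hn⟩), fun h n => Subtype.ext (h n n.2)⟩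

theorem maxCent_sub (h : MaxCent N) {K : Subgroup G} (hK : K ≤ N) : MaxCent K := fun x hx hxK =>
  h x (hK hx) fun hc => hxK (centralizer_le hK hc)

variable [Finite G]

theorem exists_part (C : Subgroup G) {g : G} (hg : g ∉ C) :
    ∃ x ∈ zpowers g, x ∉ C ∧ ∃ p k : ℕ, p.Prime ∧ orderOf x = p ^ k :=
  Lib.Hall.exists_primePow_not_mem C hg

theorem coprime_of_ne {p q k l : ℕ} (hp : p.Prime) (hq : q.Prime) (hpq : p ≠ q) {a b : G}
    (ha : orderOf a = p ^ k) (hb : orderOf b = q ^ l) : (orderOf a).Coprime (orderOf b) := by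
  rw [ha, hb]; exact Nat.Coprime.pow k l ((Nat.coprime_primes hp hq).mpr hpq)

/-- every element has a power of `p`-power exponent in `S` once all its `p'`-parts are in `S` -/
theorem exists_pPow_mem (S : Subgroup G) {p : ℕ} (hp : p.Prime) {g : G}
    (h : ∀ x ∈ zpowers g, ∀ q k : ℕ, q.Prime → q ≠ p → orderOf x = q ^ k → x ∈ S) :
    ∃ k : ℕ, g ^ p ^ k ∈ S := by
  obtain ⟨k, m, hm, hgm⟩ := Nat.exists_eq_pow_mul_and_not_dvd (orderOf_pos g).ne' p hp.ne_one
  refine ⟨k, ?_⟩
  by_contra hg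
  obtain ⟨x, hx, hxS, q, l, hq, hxl⟩ := exists_part S hg
  have hxm : orderOf x ∣ m := by
    have h1 : orderOf x ∣ orderOf (g ^ p ^ k) := by
      obtain ⟨i, rfl⟩ := hx
      exact orderOf_dvd_of_pow_eq_one (by rw [← zpow_natCast, zpow_comm, zpow_natCast, pow_orderOf_eq_one, one_zpow])
    exact h1.trans (orderOf_dvd_of_pow_eq_one (by rw [← pow_mul, ← hgm, pow_orderOf_eq_one]))
  by_cases hqp : q = p
  · subst hqp
    cases l with
    | zero => rw [pow_zero, orderOf_eq_one_iff] at hxl; exact hxS (hxl ▸ one_mem S)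
    | succ l => exact hm ((dvd_pow_self q (Nat.succ_ne_zero l)).trans (hxl ▸ hxm))
  · exact hxS (h x (zpowers_le.mpr (pow_mem (mem_zpowers g) _) hx) q l hq hqp hxl)

theorem isNilpotent_of_pPow {p : ℕ} [Fact p.Prime] {D : Subgroup G}
    (h : ∀ d ∈ D, ∃ k : ℕ, d ^ p ^ k ∈ centralizer (D : Set G)) : Group.IsNilpotent D := by
  haveI : Group.IsNilpotent (↥D ⧸ center ↥D) := by
    refine IsPGroup.isNilpotent (p := p) fun x => ?_
    induction x using QuotientGroup.induction_on with
    | H d =>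
      obtain ⟨k, hk⟩ := h d d.2
      exact ⟨k, (QuotientGroup.eq_one_iff (d ^ p ^ k)).mpr ((mem_center_iff_centralizer _).mpr (by simpa using hk))⟩
  exact Subgroup.isNilpotent_of_ker_le_center (QuotientGroup.mk' (center ↥D)) (QuotientGroup.ker_mk' _).le

theorem nilpotent_inf_cent (h : MaxCent N) {y : G} (hy : y ∈ N) (hyZ : y ∉ centralizer (N : Set G)) :
    Group.IsNilpotent ↥(N ⊓ centralizer ({y} : Set G)) := by
  obtain ⟨a, ha, haZ, p, k, hp, hak⟩ := exists_part (centralizer (N : Set G)) hyZ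
  have haN : a ∈ N := zpowers_le.mpr hy ha
  have hC := cent_eq_of_le h hy hyZ haZ (cent_le_of_mem_zpowers ha)
  haveI := Fact.mk hp
  refine isNilpotent_of_pPow (p := p) fun d hd => exists_pPow_mem _ hp fun x hx q l hq hqp hxl => ?_
  have hxD : x ∈ N ⊓ centralizer ({y} : Set G) := zpowers_le.mpr hd hx
  by_cases hxZ : x ∈ centralizer (N : Set G)
  · exact centralizer_le (inf_le_left : N ⊓ centralizer ({y} : Set G) ≤ N) hxZ
  have hax : a * x = x * a :=
    (mem_centralizer_singleton_iff.mp (cent_le_of_mem_zpowers ha hxD.2)).symm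
  have hCx := hC.trans (cent_eq_of_coprime h haN hxD.1 haZ hxZ hax (coprime_of_ne hp hq (Ne.symm hqp) hak hxl))
  exact mem_centralizer_iff.mpr fun u hu => mem_centralizer_singleton_iff.mp (hCx ▸ hu.2)

theorem minimal_abelian (hN : MaxCent N) (A : Subgroup G) [A.Normal] (hA : A = N ⊓ centralizer (N : Set G))
    [N.Normal] (hAN : A < N) (hmin : ∀ L : Subgroup G, L.Normal → A < L → L ≤ N → L = N) :
    ⁅N, N⁆ ≤ A := by
  by_contra hnc
  set π := QuotientGroup.mk' A with hπdef
  have hπ : Function.Surjective π := QuotientGroup.mk'_surjective A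
  have hker : π.ker = A := QuotientGroup.ker_mk' A
  set T := N.map π with hT
  haveI hTn : T.Normal := Subgroup.Normal.map inferInstance π hπ
  have hTab : ¬ ∀ a ∈ T, ∀ b ∈ T, a * b = b * a := fun hh => hnc (by
    rw [commutator_le]
    intro a ha b hb
    rw [← hker, MonoidHom.mem_ker, map_commutatorElement, commutatorElement_eq_one_iff_mul_comm]
    exact hh _ (mem_map_of_mem π ha) _ (mem_map_of_mem π hb))
  have hTmin : ∀ L : Subgroup (G ⧸ A), L.Normal → L ≤ T → L ≠ ⊥ → L = T := by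
    intro L hL hLT hL0
    have h1 : A ≤ L.comap π := hker.symm.le.trans (ker_le_comap π L)
    have h2 : L.comap π ≤ N := (comap_mono hLT).trans (by rw [hT, comap_map_eq, hker, sup_eq_left.mpr hAN.le])
    have h3 : L.comap π = N := hmin _ inferInstance (lt_of_le_of_ne h1 fun he => hL0 (by
      rw [← map_comap_eq_self_of_surjective hπ L, ← he, Subgroup.map_eq_bot_iff, hker])) h2
    rw [hT, ← h3, map_comap_eq_self_of_surjective hπ]
  have hNC : ∀ {y : G}, y ∈ N → y ∉ A → y ∉ centralizer (N : Set G) := fun hy hyA hc => hyA (hA ▸ ⟨hy, hc⟩)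
  have hC' : ∀ {y : G}, y ∈ N → y ∉ A →
      (centralizer ({π y} : Set (G ⧸ A))).comap π = centralizer ({y} : Set G) := by
    intro y hy hyA
    have hle : centralizer ({y} : Set G) ≤ (centralizer ({π y} : Set (G ⧸ A))).comap π := fun g hg =>
      mem_comap.mpr (mem_centralizer_singleton_iff.mpr
        (by rw [← map_mul, ← map_mul, mem_centralizer_singleton_iff.mp hg]))
    refine ((hN y hy (hNC hy hyA)).le_iff.mp hle).resolve_left fun htop => hTab ?_
    have hc : T ⊓ center (G ⧸ A) = T := by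
      refine hTmin _ inferInstance inf_le_left fun h0 => hyA ?_
      rw [← hker, MonoidHom.mem_ker, ← mem_bot, ← h0]
      refine ⟨mem_map_of_mem π hy, Subgroup.mem_center_iff.mpr fun u => ?_⟩
      obtain ⟨g, rfl⟩ := hπ u
      exact mem_centralizer_singleton_iff.mp (show g ∈ (centralizer ({π y} : Set (G ⧸ A))).comap π by
        rw [htop]; exact mem_top g)
    exact fun a ha b _ => ((Subgroup.mem_center_iff.mp (inf_eq_left.mp hc ha)) b).symm
  have hTne : T ≠ ⊥ := fun h0 => hTab fun a ha b hb => by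
    rw [h0, mem_bot] at ha hb
    rw [ha, hb]
  -- the order of `T` is odd
  have hodd : Odd (Nat.card T) := by
    rw [← Nat.not_even_iff_odd, even_iff_two_dvd]
    intro h2
    obtain ⟨t0, ht0⟩ := exists_prime_orderOf_dvd_card' (hp := ⟨Nat.prime_two⟩) 2 h2
    set I := {t : G ⧸ A | t ∈ T ∧ t * t = 1} with hI
    have hcomm : ∀ t ∈ I, ∀ u ∈ I, t * u = u * t := by
      rintro t ⟨ht, ht2⟩ u ⟨hu, hu2⟩
      by_contra hne
      set w := t * u with hw
      have htinv : t⁻¹ = t := inv_eq_of_mul_eq_one_right ht2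
      have huinv : u⁻¹ = u := inv_eq_of_mul_eq_one_right hu2
      obtain ⟨y, hy, hyw⟩ := (mul_mem ht hu : w ∈ T)
      have hyA : y ∉ A := fun hy' => hne (by
        rw [← hker, MonoidHom.mem_ker, hyw] at hy'
        rw [hw, ← inv_eq_of_mul_eq_one_left (hy' : t * u = 1), inv_mul_cancel, mul_inv_cancel])
      have hCw : IsCoatom (centralizer ({w} : Set (G ⧸ A))) := by
        have hC := hN y hy (hNC hy hyA)
        rw [← hC' hy hyA, hyw] at hC
        refine ⟨fun he => hC.1 (by rw [he, comap_top]), fun L hL => ?_⟩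
        have h1 := hC.2 (L.comap π) ((comap_lt_comap_of_surjective hπ).mpr hL)
        exact comap_injective hπ (h1.trans (comap_top π).symm)
      have hle : centralizer ({w} : Set (G ⧸ A)) ≤ normalizer (zpowers w : Set (G ⧸ A)) := by
        refine le_trans ?_ (Subgroup.centralizer_le_normalizer _)
        rw [zpowers_eq_closure, centralizer_closure]
      have htw : t * w * t⁻¹ = w⁻¹ := by
        rw [hw, _root_.mul_inv_rev, htinv, huinv, ← mul_assoc t t u, ht2, one_mul]
      have htN : t ∈ normalizer (zpowers w : Set (G ⧸ A)) := by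
        have hz : ∀ i : ℤ, t * w ^ i * t⁻¹ = (w ^ i)⁻¹ := fun i => by
          rw [← conj_zpow, htw, inv_zpow]
        refine mem_normalizer_iff.mpr fun v => ⟨?_, ?_⟩
        · rintro ⟨i, rfl⟩
          exact hz i ▸ inv_mem (zpow_mem (mem_zpowers w) i)
        · rintro ⟨i, hi⟩
          refine ⟨-i, ?_⟩
          have hv : v = t⁻¹ * w ^ i * t := by
            rw [show w ^ i = t * v * t⁻¹ from hi]; group
          show w ^ (-i) = v
          rw [hv, htinv, zpow_neg, ← hz i, htinv]
      have htC : t ∉ centralizer ({w} : Set (G ⧸ A)) := fun hc => hne (by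
        have h1 : t * w = w * t := mem_centralizer_singleton_iff.mp hc
        rw [hw, ← mul_assoc, ht2, one_mul] at h1
        calc t * u = t * u * (t * t) := by rw [ht2, mul_one]
          _ = u * t := by rw [← mul_assoc, ← h1])
      have htop := (hCw.le_iff.mp hle).resolve_right fun he => htC (he ▸ htN)
      haveI : (zpowers w).Normal := normalizer_eq_top_iff.mp htop
      have hwT := hTmin (zpowers w) inferInstance (zpowers_le.mpr (mul_mem ht hu))
        (zpowers_ne_bot.mpr fun h1 => hne (by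
          rw [hw, ← inv_eq_of_mul_eq_one_left (h1 : t * u = 1), inv_mul_cancel, mul_inv_cancel]))
      exact hTab fun a ha b hb => by
        rw [← hwT] at ha hb
        exact congrArg Subtype.val (IsMulCommutative.is_comm.comm (⟨a, ha⟩ : ↥(zpowers w)) ⟨b, hb⟩)
    have hIconj : ∀ g : G ⧸ A, ∀ t ∈ I, g * t * g⁻¹ ∈ I := fun g t ht => ⟨hTn.conj_mem t ht.1 g, by
      rw [show g * t * g⁻¹ * (g * t * g⁻¹) = g * (t * t) * g⁻¹ by group, ht.2, mul_one, mul_inv_cancel]⟩
    haveI : (closure I).Normal := ⟨fun x hx g => by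
      have : closure I ≤ (closure I).comap (MulAut.conj g).toMonoidHom :=
        closure_le _ |>.mpr fun t ht => subset_closure (hIconj g t ht)
      exact this hx⟩
    have hIT : closure I = T := by
      refine hTmin _ inferInstance ((closure_le _).mpr fun t ht => ht.1) fun h0 => ?_
      have hmem : (t0 : G ⧸ A) ∈ closure I := subset_closure ⟨t0.2, by
        rw [← sq, ← Subgroup.coe_pow, ← ht0, pow_orderOf_eq_one, coe_one]⟩
      rw [h0, mem_bot, OneMemClass.coe_eq_one] at hmem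
      rw [hmem, orderOf_one] at ht0
      omega
    refine hTab fun a ha b hb => ?_
    rw [← hIT] at ha hb
    have h1 : closure I ≤ centralizer I := (closure_le _).mpr fun x hx => mem_centralizer_iff.mpr fun u hu => hcomm u hu x hx
    have h2 : closure I ≤ centralizer (closure I : Set (G ⧸ A)) := by rwa [centralizer_closure]
    exact (mem_centralizer_iff.mp (h2 hb) a ha)
  -- `T` is a CN-group
  have hCN : Cfsg.IsCNGroup ↥T := by
    rintro ⟨_, y, hy, rfl⟩ hne
    have hyA : y ∉ A := fun h' => hne (Subtype.ext (by rw [← hker, MonoidHom.mem_ker] at h'; exact h'))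
    haveI := nilpotent_inf_cent hN hy (hNC hy hyA)
    let f : ↥(N ⊓ centralizer ({y} : Set G)) →* ↥(centralizer ({(⟨π y, mem_map_of_mem π hy⟩ : ↥T)} : Set ↥T)) :=
      MonoidHom.mk' (fun d => ⟨⟨π d, mem_map_of_mem π d.2.1⟩, mem_centralizer_singleton_iff.mpr (Subtype.ext (by
        show π d * π y = π y * π d
        rw [← map_mul, ← map_mul, mem_centralizer_singleton_iff.mp d.2.2]))⟩)
        fun a b => Subtype.ext (Subtype.ext (map_mul π (a : G) b))
    refine Group.nilpotent_of_surjective f ?_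
    rintro ⟨⟨_, d, hd, rfl⟩, hdc⟩
    refine ⟨⟨d, hd, ?_⟩, rfl⟩
    rw [← hC' hy hyA]
    exact mem_centralizer_singleton_iff.mpr (congrArg Subtype.val (mem_centralizer_singleton_iff.mp hdc))
  haveI : Group.IsSolvable ↥T := S0183.result hodd hCN
  obtain ⟨hc, -⟩ := Lib.Hall.minimal_normal_solvable T hTne fun M hM hMT => or_iff_not_imp_left.mpr (hTmin M hM hMT)
  exact hTab fun a ha b hb => congrArg Subtype.val (hc.is_comm.comm (⟨a, ha⟩ : ↥T) ⟨b, hb⟩)

theorem exists_fitting (N : Subgroup G) [hN : N.Normal] :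
    ∃ F : Subgroup G, F.Normal ∧ F ≤ N ∧ Group.IsNilpotent F ∧
      ∀ L : Subgroup G, L.Normal → L ≤ N → Group.IsNilpotent L → L ≤ F := by
  refine ⟨(Cfsg.fittingSubgroup ↥N).map N.subtype, ?_, map_subtype_le _, ?_, fun L hL hLN hLnil => ?_⟩
  · haveI : (Cfsg.fittingSubgroup ↥N).Characteristic := inferInstance
    infer_instance
  · haveI := Lib.Hall.fittingSubgroup_isNilpotent (G := ↥N)
    exact Group.nilpotent_of_mulEquiv ((Cfsg.fittingSubgroup ↥N).equivMapOfInjective _ N.subtype_injective)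
  · haveI := hLnil
    have h1 : L.subgroupOf N ≤ Cfsg.fittingSubgroup ↥N :=
      Lib.Hall.le_fittingSubgroup (Group.nilpotent_of_mulEquiv (subgroupOfEquivOfLe hLN).symm)
    exact (map_subgroupOf_eq_of_le hLN).symm.le.trans (map_mono h1)

/-- The contribution of a nilpotent normal subgroup to every maximal subgroup. -/
theorem mem_coatom {F M : Subgroup G} [F.Normal] (hF : Group.IsNilpotent F) (hM : IsCoatom M) :
    (∀ a ∈ F, ∀ b ∈ F, ⁅a, b⁆ ∈ M) ∧ ∀ y ∈ F, ∀ r k : ℕ, r.Prime → orderOf y = r ^ k → y ^ r ∈ M := by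
  by_cases hFM : F ≤ M
  · refine ⟨fun a ha b hb => ?_, fun y hy r _ _ _ => pow_mem (hFM hy) r⟩
    rw [commutatorElement_def]
    exact hFM (mul_mem (mul_mem (mul_mem ha hb) (inv_mem ha)) (inv_mem hb))
  have hsup : M ⊔ F = ⊤ := hM.2 _ (lt_of_le_of_ne le_sup_left fun h => hFM (h ▸ le_sup_right))
  set D := M ⊓ F with hD
  haveI hFn : Group.IsNilpotent F := hF
  have hDlt : D.subgroupOf F < ⊤ := lt_top_iff_ne_top.mpr fun h =>
    hFM ((subgroupOf_eq_top.mp h).trans inf_le_left)
  obtain ⟨u, hu, huD⟩ := SetLike.exists_of_lt (normalizerCondition_of_isNilpotent _ hDlt)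
  haveI hDn : D.Normal := by
    have hMD : M ≤ normalizer (D : Set G) := fun m hm => mem_normalizer_iff.mpr fun v =>
      ⟨fun hv => ⟨M.mul_mem (M.mul_mem hm hv.1) (M.inv_mem hm), (inferInstance : F.Normal).conj_mem v hv.2 m⟩,
        fun hv => ⟨by simpa [mul_assoc] using M.mul_mem (M.mul_mem (M.inv_mem hm) hv.1) hm,
          by simpa [mul_assoc] using (inferInstance : F.Normal).conj_mem _ hv.2 m⁻¹⟩⟩
    have huN : (u : G) ∈ normalizer (D : Set G) := by
      refine mem_normalizer_iff.mpr fun v => ?_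
      have h1 := mem_normalizer_iff.mp hu
      constructor
      · intro hv
        exact (h1 ⟨v, hv.2⟩).mp hv
      · intro hv
        have hvF : v ∈ F := by
          simpa [mul_assoc] using mul_mem (mul_mem (inv_mem u.2) hv.2) u.2
        exact (h1 ⟨v, hvF⟩).mpr hv
    have huM : (u : G) ∉ M := fun h => huD ⟨h, u.2⟩
    exact normalizer_eq_top_iff.mp (hM.2 _ (lt_of_le_of_ne hMD fun h => huM (h.symm ▸ huN)))
  set π := QuotientGroup.mk' D with hπdef
  have hπ : Function.Surjective π := QuotientGroup.mk'_surjective D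
  have hker : π.ker = D := QuotientGroup.ker_mk' D
  haveI : (F.map π).Normal := Subgroup.Normal.map inferInstance π hπ
  haveI : Group.IsNilpotent ↥(F.map π) :=
    Group.nilpotent_of_surjective (π.subgroupMap F) (π.subgroupMap_surjective F)
  have hne : F.map π ≠ ⊥ := fun h => by
    rw [Subgroup.map_eq_bot_iff, hker] at h
    exact hFM (h.trans inf_le_left)
  obtain ⟨hc, p, hp, hpow⟩ := Lib.Hall.minimal_normal_solvable (F.map π) hne fun L hL hLF => by
    have h1 : D ≤ L.comap π := hker.symm.le.trans (ker_le_comap π L)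
    have h2 : L.comap π ≤ F := (comap_mono hLF).trans (by rw [comap_map_eq, hker, sup_eq_left.mpr inf_le_right])
    by_cases h3 : L.comap π ≤ M
    · left
      rw [← map_comap_eq_self_of_surjective hπ L, Subgroup.map_eq_bot_iff, hker]
      exact le_inf h3 h2
    · right
      haveI : (L.comap π).Normal := inferInstance
      have hs : M ⊔ L.comap π = ⊤ := hM.2 _ (lt_of_le_of_ne le_sup_left fun h => h3 (h ▸ le_sup_right))
      have hFL : F ≤ L.comap π := fun f hf => by
        obtain ⟨m, hm, l, hl, rfl⟩ := mem_sup_of_normal_right.mp (show f ∈ M ⊔ L.comap π by rw [hs]; exact mem_top f)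
        refine mul_mem (h1 ⟨hm, ?_⟩) hl
        simpa using mul_mem hf (inv_mem (h2 hl))
      rw [← le_antisymm h2 hFL, map_comap_eq_self_of_surjective hπ]
  refine ⟨fun a ha b hb => ?_, fun y hy r k hr hyk => ?_⟩
  · refine (show ⁅a, b⁆ ∈ D from ?_).1
    rw [← hker, MonoidHom.mem_ker, map_commutatorElement, commutatorElement_eq_one_iff_mul_comm]
    exact congrArg Subtype.val
      (hc.is_comm.comm (⟨π a, mem_map_of_mem π ha⟩ : ↥(F.map π)) ⟨π b, mem_map_of_mem π hb⟩)
  · refine (show y ^ r ∈ D from ?_).1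
    rw [← hker, MonoidHom.mem_ker, map_pow]
    have h1 := hpow _ (mem_map_of_mem π hy)
    by_cases hrp : r = p
    · rw [hrp]; exact h1
    · have h2 : π y ^ r ^ k = 1 := by rw [← map_pow, ← hyk, pow_orderOf_eq_one, map_one]
      have h3 : orderOf (π y) = 1 := Nat.eq_one_of_dvd_coprimes
        (Nat.Coprime.pow_left k ((Nat.coprime_primes hr hp).mpr hrp))
        (orderOf_dvd_of_pow_eq_one h2) (orderOf_dvd_of_pow_eq_one h1)
      rw [orderOf_eq_one_iff.mp h3, one_pow]

theorem main (N : Subgroup G) [hNn : N.Normal] (h : MaxCent N) :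
    (∃ p : ℕ, p.Prime ∧ Cfsg.IsElementaryAbelian p (⊤ : Subgroup (↥N ⧸ center ↥N))) ∨
    (∃ (Q K : Subgroup (↥N ⧸ center ↥N)) (p : ℕ), p.Prime ∧ Cfsg.IsFrobeniusComplement Q ∧ (Nat.card ↥Q).Prime ∧
      K.Normal ∧ (K : Set (↥N ⧸ center ↥N)) = Cfsg.frobeniusKernel Q ∧ Cfsg.IsElementaryAbelian p K) := by
  set CN := centralizer (N : Set G) with hCNdef
  haveI : CN.Normal := Subgroup.normal_centralizer
  set Z := N ⊓ CN with hZdef
  haveI hZn : Z.Normal := inferInstance
  by_cases hab : ∀ a ∈ N, a ∈ CN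
  · refine Or.inl ⟨2, Nat.prime_two, ⟨⟨fun a b => ?_⟩⟩, fun a _ => ?_⟩
    all_goals
      have hall : ∀ x : ↥N ⧸ center ↥N, x = 1 := fun x => QuotientGroup.induction_on x fun d =>
        (QuotientGroup.eq_one_iff d).mpr ((mem_center_iff_centralizer d).mpr (hab d d.2))
    · exact Subtype.ext (by simp [hall (a : ↥N ⧸ center ↥N), hall (b : ↥N ⧸ center ↥N)])
    · rw [hall a, one_pow]
  obtain ⟨F, hFn, hFN, hFnil, hFmax⟩ := exists_fitting N
  haveI := hFn
  have hZF : Z ≤ F := hFmax Z inferInstance inf_le_left (by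
    haveI : IsMulCommutative ↥Z := ⟨⟨fun a b => Subtype.ext (mem_centralizer_iff.mp b.2.2 a a.2.1)⟩⟩
    letI : CommGroup ↥Z := { (inferInstance : Group ↥Z) with mul_comm := fun a b => IsMulCommutative.is_comm.comm a b }
    exact CommGroup.isNilpotent)
  -- the intersection with all maximal subgroups is central
  have hΦ : ∀ f ∈ N, (∀ M : Subgroup G, IsCoatom M → f ∈ M) → f ∈ Z := fun f hf hM =>
    ⟨hf, mem_centralizer_iff.mpr fun x hx => by
      by_cases hxC : x ∈ CN
      · exact (mem_centralizer_iff.mp hxC f hf).symm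
      · exact (mem_centralizer_singleton_iff.mp (hM _ (h x hx hxC))).symm⟩
  have hFab : ∀ a ∈ F, ∀ b ∈ F, ⁅a, b⁆ ∈ Z := fun a ha b hb => hΦ _
    (by rw [commutatorElement_def]; exact hFN (mul_mem (mul_mem (mul_mem ha hb) (inv_mem ha)) (inv_mem hb)))
    fun M hM => (mem_coatom hFnil hM).1 a ha b hb
  have hFpow : ∀ y ∈ F, ∀ r k : ℕ, r.Prime → orderOf y = r ^ k → y ^ r ∈ Z := fun y hy r k hr hk =>
    hΦ _ (pow_mem (hFN hy) r) fun M hM => (mem_coatom hFnil hM).2 y hy r k hr hk
  set π := QuotientGroup.mk' Z with hπdef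
  have hπ : Function.Surjective π := QuotientGroup.mk'_surjective Z
  have hker : π.ker = Z := QuotientGroup.ker_mk' Z
  have hπ1 : ∀ {g : G}, π g = 1 ↔ g ∈ Z := fun {g} => by rw [← MonoidHom.mem_ker, hker]
  set V := F.map π with hVdef
  haveI hVn : V.Normal := Subgroup.Normal.map inferInstance π hπ
  have hVc : ∀ a ∈ V, ∀ b ∈ V, a * b = b * a := by
    rintro _ ⟨a, ha, rfl⟩ _ ⟨b, hb, rfl⟩
    rw [← commutatorElement_eq_one_iff_mul_comm, ← map_commutatorElement, hπ1]
    exact hFab a ha b hb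
  have hNZ : ∀ {a : G}, a ∈ N → a ∉ Z → a ∉ CN := fun ha haZ hc => haZ ⟨ha, hc⟩
  -- `C_N(F) ≤ F`
  have hCF : N ⊓ centralizer (F : Set G) ≤ F := by
    by_contra hnle
    haveI : (centralizer (F : Set G)).Normal := Subgroup.normal_centralizer
    set C := N ⊓ centralizer (F : Set G) with hC
    set A := F ⊓ centralizer (F : Set G) with hA
    have hAC : A < C := lt_of_le_of_ne (le_inf (inf_le_left.trans hFN) inf_le_right)
      fun he => hnle (he ▸ inf_le_left)
    obtain ⟨K, ⟨hKn, hAK, hKC⟩, hKmin⟩ := (Set.toFinite {L : Subgroup G | L.Normal ∧ A < L ∧ L ≤ C}).exists_minimal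
      ⟨C, inferInstance, hAC, le_rfl⟩
    haveI := hKn
    have hKN : K ≤ N := hKC.trans inf_le_left
    have hmin : ∀ L : Subgroup G, L.Normal → A < L → L ≤ K → L = K := fun L hL h1 h2 =>
      le_antisymm h2 (hKmin ⟨hL, h1, h2.trans hKC⟩ h2)
    have hcenA : A ≤ centralizer (K : Set G) := fun a ha => mem_centralizer_iff.mpr fun k hk =>
      (mem_centralizer_iff.mp (hKC hk).2 a ha.1).symm
    haveI : (centralizer (K : Set G)).Normal := Subgroup.normal_centralizer
    have hnotF : ¬ K ≤ F := fun hKF => hAK.not_ge fun k hk => ⟨hKF hk, (hKC hk).2⟩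
    have hcomm : ⁅K, K⁆ ≤ centralizer (K : Set G) := by
      by_cases hKK : K ⊓ centralizer (K : Set G) = A
      · exact (minimal_abelian (maxCent_sub h hKN) A hKK.symm hAK hmin).trans hcenA
      · have h1 : K ⊓ centralizer (K : Set G) = K :=
          hmin _ inferInstance (lt_of_le_of_ne (le_inf hAK.le hcenA) (Ne.symm hKK)) inf_le_left
        exact (commutator_le_self K).trans (inf_eq_left.mp h1)
    refine hnotF (hFmax K hKn hKN ((isNilpotent_iff_lowerCentralSeries K).mpr ⟨2, ?_⟩))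
    rw [Subgroup.lowerCentralSeries_succ, Subgroup.lowerCentralSeries_succ, Subgroup.lowerCentralSeries_zero,
      commutator_eq_bot_iff_le_centralizer]
    exact hcomm
  have hFC : ∀ {x : G}, x ∈ N → x ∉ F → ¬ F ≤ centralizer ({x} : Set G) := fun {x} hx hxF hle =>
    hxF (hCF ⟨hx, mem_centralizer_iff.mpr fun f hf => mem_centralizer_singleton_iff.mp (hle hf)⟩)
  -- a prime
  obtain ⟨a, ha, haC⟩ : ∃ a ∈ F, a ∉ CN := by
    by_contra! hall
    refine hab fun n hn => ?_
    exact hall n (hCF ⟨hn, mem_centralizer_iff.mpr fun f hf => (mem_centralizer_iff.mp (hall f hf) n hn).symm⟩)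
  obtain ⟨a', ha', ha'C, p, ka, hp, hak⟩ := exists_part CN haC
  replace ha' : a' ∈ F := zpowers_le.mpr ha ha'
  haveI := Fact.mk hp
  have hnotCN : ∀ {x : G}, x ∈ N → x ∉ F → x ∉ CN := fun {x} hx hxF hc => hxF (hZF ⟨hx, hc⟩)
  have hGCF : ∀ {x : G}, x ∈ N → x ∉ F → centralizer ({x} : Set G) ⊔ F = ⊤ := fun {x} hx hxF =>
    (h x hx (hnotCN hx hxF)).2 _ (lt_of_le_of_ne le_sup_left fun he => hFC hx hxF (he ▸ le_sup_right))
  -- only one prime occurs in `F/Z`
  have hone : ∀ y ∈ F, ∀ r k : ℕ, r.Prime → r ≠ p → orderOf y = r ^ k → y ∈ CN := by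
    by_contra! hcon
    obtain ⟨b, hb, r, kb, hr, hrp, hbk, hbC⟩ := hcon
    haveI := hFnil
    have hcommF : ∀ {u v : G}, u ∈ F → v ∈ F → ∀ {s t i j : ℕ}, s.Prime → t.Prime → s ≠ t →
        orderOf u = s ^ i → orderOf v = t ^ j → u * v = v * u := fun {u v} hu hv {s t i j} hs ht hst hui hvj =>
      Lib.CNGroup.commute_of_nil hFnil hu hv (coprime_of_ne hs ht hst hui hvj)
    have hC0 : centralizer ({a'} : Set G) = centralizer ({b} : Set G) :=
      cent_eq_of_coprime h (hFN ha') (hFN hb) ha'C hbC (hcommF ha' hb hp hr (Ne.symm hrp) hak hbk)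
        (coprime_of_ne hp hr (Ne.symm hrp) hak hbk)
    set C0 := centralizer ({a'} : Set G) with hC0def
    have hFle : F ≤ C0 := by
      intro f hf
      by_contra hfC
      obtain ⟨v, hv, hvC, s, j, hs, hvj⟩ := exists_part C0 hfC
      have hvF : v ∈ F := zpowers_le.mpr hf hv
      by_cases hsp : s = p
      · subst hsp
        exact hvC (hC0 ▸ mem_centralizer_singleton_iff.mpr (hcommF hvF hb hs hr (Ne.symm hrp) hvj hbk))
      · exact hvC (mem_centralizer_singleton_iff.mpr (hcommF hvF ha' hs hp hsp hvj hak))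
    have hall : ∀ {y : G}, y ∈ F → ∀ {s j : ℕ}, s.Prime → orderOf y = s ^ j → y ∉ CN →
        centralizer ({y} : Set G) = C0 := by
      intro y hy s j hs hyj hyC
      by_cases hsp : s = p
      · subst hsp
        rw [hC0]
        exact cent_eq_of_coprime h (hFN hy) (hFN hb) hyC hbC (hcommF hy hb hs hr (Ne.symm hrp) hyj hbk)
          (coprime_of_ne hs hr (Ne.symm hrp) hyj hbk)
      · exact cent_eq_of_coprime h (hFN hy) (hFN ha') hyC ha'C (hcommF hy ha' hs hp hsp hyj hak)
          (coprime_of_ne hs hp hsp hyj hak)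
    have hNF : ¬ N ≤ F := fun hle => ha'C (mem_centralizer_iff.mpr fun n hn =>
      mem_centralizer_singleton_iff.mp (hFle (hle hn)))
    obtain ⟨x, hx, hxF⟩ := SetLike.not_le_iff_exists.mp hNF
    have hxC0 : x ∉ C0 := by
      intro hxC
      refine hxF (hCF ⟨hx, mem_centralizer_iff.mpr fun f hf => ?_⟩)
      by_contra hne
      obtain ⟨v, hv, hvC, s, j, hs, hvj⟩ := exists_part (centralizer ({x} : Set G))
        (fun hf' : f ∈ centralizer ({x} : Set G) => hne (mem_centralizer_singleton_iff.mp hf'))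
      have hvF : v ∈ F := zpowers_le.mpr hf hv
      by_cases hvC' : v ∈ CN
      · exact hvC (mem_centralizer_singleton_iff.mpr (mem_centralizer_iff.mp hvC' x hx).symm)
      · rw [← hall hvF hs hvj hvC'] at hxC
        exact hvC (mem_centralizer_singleton_iff.mpr (mem_centralizer_singleton_iff.mp hxC).symm)
    have hLZ : ∀ l ∈ F, l ∈ centralizer ({x} : Set G) → l ∈ Z := by
      intro l hl hlx
      by_contra hlZ
      obtain ⟨v, hv, hvC, s, j, hs, hvj⟩ := exists_part CN (hNZ (hFN hl) hlZ)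
      refine hxC0 (hall (zpowers_le.mpr hl hv) hs hvj hvC ▸ mem_centralizer_singleton_iff.mpr ?_)
      exact (mem_centralizer_singleton_iff.mp (zpowers_le.mpr hlx hv)).symm
    -- the `p`-part of `F/Z`
    let L : Subgroup G :=
      { carrier := {f | f ∈ F ∧ ∃ k : ℕ, π f ^ p ^ k = 1}
        one_mem' := ⟨one_mem F, 0, by simp⟩
        mul_mem' := by
          rintro u v ⟨hu, i, hi⟩ ⟨hv, j, hj⟩
          refine ⟨mul_mem hu hv, i + j, ?_⟩
          rw [map_mul, (show Commute (π u) (π v) from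
            hVc _ (mem_map_of_mem π hu) _ (mem_map_of_mem π hv)).mul_pow, pow_add, pow_mul,
            hi, one_pow, one_mul, mul_comm, pow_mul, hj, one_pow]
        inv_mem' := by
          rintro u ⟨hu, i, hi⟩
          exact ⟨inv_mem hu, i, by rw [map_inv, inv_pow, hi, inv_one]⟩ }
    haveI hLn : L.Normal := ⟨fun u hu g => ⟨hFn.conj_mem u hu.1 g, hu.2.elim fun i hi => ⟨i, by
      rw [map_mul, map_mul, map_inv, conj_pow, hi, mul_one, mul_inv_cancel]⟩⟩⟩
    have haL : a' ∈ L := ⟨ha', ka, by rw [← map_pow, ← hak, pow_orderOf_eq_one, map_one]⟩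
    have hLx : ¬ L ≤ centralizer ({x} : Set G) := fun hle => ha'C (hLZ a' ha' (hle haL)).2
    have hsup := (h x hx (hnotCN hx hxF)).2 _ (lt_of_le_of_ne le_sup_left
      fun he => hLx (he ▸ le_sup_right) : centralizer ({x} : Set G) < centralizer ({x} : Set G) ⊔ L)
    obtain ⟨c, hc, l, hl, hcl⟩ := mem_sup_of_normal_right.mp
      (show b ∈ centralizer ({x} : Set G) ⊔ L by rw [hsup]; exact mem_top b)
    have hcZ : c ∈ Z := hLZ c (by rw [eq_mul_inv_of_mul_eq hcl]; exact mul_mem hb (inv_mem hl.1)) hc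
    obtain ⟨-, i, hi⟩ := hl
    have hb1 : π b ^ p ^ i = 1 := by rw [← hcl, map_mul, hπ1.mpr hcZ, one_mul, hi]
    have hb2 : π b ^ r ^ kb = 1 := by rw [← map_pow, ← hbk, pow_orderOf_eq_one, map_one]
    have hb3 : orderOf (π b) = 1 := Nat.eq_one_of_dvd_coprimes
      (Nat.Coprime.pow i kb ((Nat.coprime_primes hp hr).mpr (Ne.symm hrp)))
      (orderOf_dvd_of_pow_eq_one hb1) (orderOf_dvd_of_pow_eq_one hb2)
    exact hbC (hπ1.mp (orderOf_eq_one_iff.mp hb3)).2
  have hFp : ∀ f ∈ F, f ^ p ∈ Z := by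
    intro f hf
    let T : Subgroup G :=
      { carrier := {v | v ∈ F ∧ π v ^ p = 1}
        one_mem' := ⟨one_mem F, by simp⟩
        mul_mem' := by
          rintro u v ⟨hu, hu'⟩ ⟨hv, hv'⟩
          exact ⟨mul_mem hu hv, by rw [map_mul, (show Commute (π u) (π v) from
            hVc _ (mem_map_of_mem π hu) _ (mem_map_of_mem π hv)).mul_pow, hu', hv', one_mul]⟩
        inv_mem' := by rintro u ⟨hu, hu'⟩; exact ⟨inv_mem hu, by rw [map_inv, inv_pow, hu', inv_one]⟩ }
    have hT : f ∈ T := by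
      by_contra hfT
      obtain ⟨v, hv, hvT, s, j, hs, hvj⟩ := exists_part T hfT
      have hvF : v ∈ F := zpowers_le.mpr hf hv
      refine hvT ⟨hvF, ?_⟩
      by_cases hsp : s = p
      · subst hsp
        rw [← map_pow, hπ1]; exact hFpow v hvF s j hs hvj
      · rw [hπ1.mpr ⟨hFN hvF, hone v hvF s j hs hsp hvj⟩, one_pow]
    exact hπ1.mp (by rw [map_pow]; exact hT.2)
  have hquot : ∀ d : ↥N, (d : G) ∈ Z → (QuotientGroup.mk d : ↥N ⧸ center ↥N) = 1 := fun d hd =>
    (QuotientGroup.eq_one_iff d).mpr ((mem_center_iff_centralizer d).mpr hd.2)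
  by_cases hNF : N ≤ F
  · refine Or.inl ⟨p, hp, ⟨⟨fun u v => ?_⟩⟩, fun u _ => ?_⟩
    · refine Subtype.ext ?_
      obtain ⟨u, -⟩ := u
      obtain ⟨v, -⟩ := v
      induction u using QuotientGroup.induction_on with
      | H u => induction v using QuotientGroup.induction_on with
        | H v =>
          show (QuotientGroup.mk u : ↥N ⧸ center ↥N) * QuotientGroup.mk v = QuotientGroup.mk v * QuotientGroup.mk u
          rw [← commutatorElement_eq_one_iff_mul_comm, ← QuotientGroup.mk'_apply, ← QuotientGroup.mk'_apply,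
            ← map_commutatorElement]
          exact hquot _ (by simpa [commutatorElement_def] using hFab u (hNF u.2) v (hNF v.2))
    · induction u using QuotientGroup.induction_on with
      | H u => exact hquot (u ^ p) (by simpa using hFp u (hNF u.2))
  -- `N/F` is central in `G/F`
  have hcen : ∀ x ∈ N, ∀ g : G, g * x * g⁻¹ * x⁻¹ ∈ F := by
    intro x hx g
    by_cases hxF : x ∈ F
    · exact mul_mem (hFn.conj_mem x hxF g) (inv_mem hxF)
    obtain ⟨c, hc, e, he, rfl⟩ := mem_sup_of_normal_right.mp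
      (show g ∈ centralizer ({x} : Set G) ⊔ F by rw [hGCF hx hxF]; exact mem_top g)
    have hcx : c * x = x * c := mem_centralizer_singleton_iff.mp hc
    rw [show c * e * x * (c * e)⁻¹ * x⁻¹ = c * (e * (x * e⁻¹ * x⁻¹)) * c⁻¹ * (c * x * c⁻¹ * x⁻¹) by group,
      show c * x * c⁻¹ * x⁻¹ = 1 by rw [hcx]; group, mul_one]
    exact hFn.conj_mem _ (mul_mem he (hFn.conj_mem _ (inv_mem he) x)) c
  -- the `p`-part of `N/F`
  have hP1 : ∀ n ∈ N, (∃ k : ℕ, n ^ p ^ k ∈ F) → n ∈ F := by
    set ρ := QuotientGroup.mk' F with hρ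
    have hρ1 : ∀ {g : G}, ρ g = 1 ↔ g ∈ F := fun {g} => QuotientGroup.eq_one_iff g
    have hρc : ∀ x ∈ N, ∀ g : G, Commute (ρ g) (ρ x) := fun x hx g => by
      show ρ g * ρ x = ρ x * ρ g
      have := hρ1.mpr (hcen x hx g)
      rwa [map_mul, map_mul, map_mul, map_inv, map_inv, mul_inv_eq_one, mul_inv_eq_iff_eq_mul] at this
    let P1 : Subgroup G :=
      { carrier := {n | n ∈ N ∧ ∃ k : ℕ, ρ n ^ p ^ k = 1}
        one_mem' := ⟨one_mem N, 0, by simp⟩
        mul_mem' := by
          rintro u v ⟨hu, i, hi⟩ ⟨hv, j, hj⟩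
          refine ⟨mul_mem hu hv, i + j, ?_⟩
          rw [map_mul, (hρc v hv u).mul_pow, pow_add, pow_mul, hi, one_pow, one_mul, mul_comm, pow_mul, hj,
            one_pow]
        inv_mem' := by
          rintro u ⟨hu, i, hi⟩
          exact ⟨inv_mem hu, i, by rw [map_inv, inv_pow, hi, inv_one]⟩ }
    haveI hP1n : P1.Normal := ⟨fun u ⟨hu, i, hi⟩ g => ⟨hNn.conj_mem u hu g, i, by
      rw [map_mul, map_mul, map_inv, conj_pow, hi, mul_one, mul_inv_cancel]⟩⟩
    have hle : P1 ≤ F := hFmax P1 hP1n (fun u hu => hu.1) (isNilpotent_of_pPow (p := p) fun d hd => by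
      obtain ⟨hdN, i, hi⟩ := hd
      rw [← map_pow, hρ1] at hi
      refine ⟨i + 1, ?_⟩
      rw [pow_succ, pow_mul]
      exact centralizer_le (show P1 ≤ N from fun u hu => hu.1) (hFp _ hi).2)
    exact fun n hn ⟨k, hk⟩ => hle ⟨hn, k, by rw [← map_pow, hρ1]; exact hk⟩
  -- coprime action of a `p'`-element on `F/Z`
  have fix_of_comm : ∀ {x : G} {q k : ℕ}, x ∈ N → q.Prime → q ≠ p → orderOf x = q ^ k →
      ∀ f ∈ F, Commute (π x) (π f) → f ∈ centralizer ({x} : Set G) := by
    intro x q k hx hq hqp hxk f hf hcom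
    set z := x * f * x⁻¹ * f⁻¹ with hz
    have hzZ : z ∈ Z := hπ1.mp (by
      rw [hz, map_mul, map_mul, map_mul, map_inv, map_inv, hcom.eq]; group)
    have hzN : ∀ n ∈ N, Commute n z := fun n hn => mem_centralizer_iff.mp hzZ.2 n hn
    have e1 : x * f = z * f * x := by rw [hz]; group
    have e2 : ∀ m : ℕ, x ^ m * f = z ^ m * f * x ^ m := by
      intro m
      induction m with
      | zero => simp
      | succ m ih =>
        calc x ^ (m + 1) * f = x * (x ^ m * f) := by rw [pow_succ', mul_assoc]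
          _ = (x * z ^ m) * f * x ^ m := by rw [ih]; group
          _ = z ^ m * (x * f) * x ^ m := by rw [((hzN x hx).pow_right m).eq]; group
          _ = z ^ (m + 1) * f * x ^ (m + 1) := by rw [e1, pow_succ, pow_succ']; group
    have h1 : z ^ q ^ k = 1 := by
      have := e2 (q ^ k)
      rwa [← hxk, pow_orderOf_eq_one, one_mul, mul_one, eq_comm, mul_eq_right, hxk] at this
    have e3 : (x * f * x⁻¹) = z * f := by rw [e1]; group
    have h2 : z ^ p = 1 := by
      have hfz : Commute z f := (hzN f (hFN hf)).symm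
      have h4 : x * f ^ p * x⁻¹ = z ^ p * f ^ p := by rw [← conj_pow, e3, hfz.mul_pow]
      rw [mem_centralizer_iff.mp (hFp f hf).2 x hx, mul_inv_cancel_right, eq_comm, mul_eq_right] at h4
      exact h4
    have h3 : orderOf z = 1 := Nat.eq_one_of_dvd_coprimes
      (Nat.Coprime.pow_left k ((Nat.coprime_primes hq hp).mpr hqp))
      (orderOf_dvd_of_pow_eq_one h1) (orderOf_dvd_of_pow_eq_one h2)
    rw [orderOf_eq_one_iff] at h3
    rw [h3, one_mul] at e1
    exact mem_centralizer_singleton_iff.mpr e1.symm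
  -- `x` acts without fixed points on `F/Z`
  have hfpf : ∀ {x : G} {q k : ℕ}, x ∈ N → x ∉ F → q.Prime → q ≠ p → orderOf x = q ^ k →
      ∀ l ∈ F, l ∈ centralizer ({x} : Set G) → l ∈ Z := by
    intro x q k hx hxF hq hqp hxk l hl hlx
    by_contra hlZ
    obtain ⟨e, he, hex⟩ := SetLike.not_le_iff_exists.mp (hFC hx hxF)
    have hew : ¬ Commute (π x) (π e) := fun hc => hex (fix_of_comm hx hq hqp hxk e he hc)
    set xb := π x with hxb
    have hcg : ∀ g : G, ∀ v ∈ V, π g * (xb * v * xb⁻¹) * (π g)⁻¹ = xb * (π g * v * (π g)⁻¹) * xb⁻¹ := by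
      intro g v hv
      obtain ⟨c, hc, e', he', rfl⟩ := mem_sup_of_normal_right.mp
        (show g ∈ centralizer ({x} : Set G) ⊔ F by rw [hGCF hx hxF]; exact mem_top g)
      have hfix : ∀ w ∈ V, π e' * w * (π e')⁻¹ = w := fun w hw => by
        rw [hVc _ (mem_map_of_mem π he') w hw, mul_inv_cancel_right]
      have hcx : Commute (π c) xb := (show Commute c x from mem_centralizer_singleton_iff.mp hc).map π
      calc π (c * e') * (xb * v * xb⁻¹) * (π (c * e'))⁻¹
          = π c * (π e' * (xb * v * xb⁻¹) * (π e')⁻¹) * (π c)⁻¹ := by rw [map_mul]; group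
        _ = (π c * xb) * v * (π c * xb)⁻¹ := by rw [hfix _ (hVn.conj_mem v hv xb)]; group
        _ = (xb * π c) * v * (xb * π c)⁻¹ := by rw [hcx.eq]
        _ = xb * (π c * (π e' * v * (π e')⁻¹) * (π c)⁻¹) * xb⁻¹ := by rw [hfix v hv]; group
        _ = xb * (π (c * e') * v * (π (c * e'))⁻¹) * xb⁻¹ := by rw [map_mul]; group
    let d : G ⧸ Z → G ⧸ Z := fun v => v * (xb * v * xb⁻¹)⁻¹
    have hdV : ∀ v ∈ V, d v ∈ V := fun v hv => mul_mem hv (inv_mem (hVn.conj_mem v hv xb))
    have hdmul : ∀ u ∈ V, ∀ v ∈ V, d (u * v) = d u * d v := fun u hu v hv => by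
      show u * v * (xb * (u * v) * xb⁻¹)⁻¹ = u * (xb * u * xb⁻¹)⁻¹ * (v * (xb * v * xb⁻¹)⁻¹)
      have hu' := hVn.conj_mem u hu xb
      have hv' := hVn.conj_mem v hv xb
      calc u * v * (xb * (u * v) * xb⁻¹)⁻¹ = u * (v * (xb * v * xb⁻¹)⁻¹) * (xb * u * xb⁻¹)⁻¹ := by group
        _ = u * ((xb * u * xb⁻¹)⁻¹ * (v * (xb * v * xb⁻¹)⁻¹)) := by
          rw [mul_assoc, hVc _ (mul_mem hv (inv_mem hv')) _ (inv_mem hu')]
        _ = _ := by group
    have hdeq : ∀ g : G, ∀ v ∈ V, d (π g * v * (π g)⁻¹) = π g * d v * (π g)⁻¹ := fun g v hv => by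
      show π g * v * (π g)⁻¹ * (xb * (π g * v * (π g)⁻¹) * xb⁻¹)⁻¹ = π g * (v * (xb * v * xb⁻¹)⁻¹) * (π g)⁻¹
      rw [← hcg g v hv]; group
    have hd1 : ∀ v, d v = 1 ↔ Commute xb v := fun v => by
      show v * (xb * v * xb⁻¹)⁻¹ = 1 ↔ _
      rw [mul_inv_eq_one, eq_mul_inv_iff_mul_eq]
      exact ⟨fun h => h.symm, fun h => h.symm⟩
    have hdd : ∀ v ∈ V, d (d v) = 1 → d v = 1 := by
      intro v hv hdd
      have hc : Commute xb (d v) := (hd1 _).mp hdd
      have hbase : xb * v = (d v)⁻¹ * v * xb := by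
        show xb * v = (v * (xb * v * xb⁻¹)⁻¹)⁻¹ * v * xb
        group
      have hn : ∀ m : ℕ, xb ^ m * v = ((d v)⁻¹) ^ m * v * xb ^ m := by
        intro m
        induction m with
        | zero => simp
        | succ m ih =>
          calc xb ^ (m + 1) * v = xb * (xb ^ m * v) := by rw [pow_succ', mul_assoc]
            _ = (xb * ((d v)⁻¹) ^ m) * v * xb ^ m := by rw [ih]; group
            _ = ((d v)⁻¹) ^ m * (xb * v) * xb ^ m := by rw [((hc.inv_right).pow_right m).eq]; group
            _ = ((d v)⁻¹) ^ (m + 1) * v * xb ^ (m + 1) := by rw [hbase, pow_succ, pow_succ']; group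
      have h1 := hn (q ^ k)
      have hx1 : xb ^ q ^ k = 1 := by rw [hxb, ← map_pow, ← hxk, pow_orderOf_eq_one, map_one]
      rw [hx1, one_mul, mul_one, eq_comm, mul_eq_right, inv_pow, inv_eq_one] at h1
      obtain ⟨w, hw, hwd⟩ := hdV v hv
      have h2 : d v ^ p = 1 := by rw [← hwd, ← map_pow, hπ1]; exact hFp w hw
      exact orderOf_eq_one_iff.mp (Nat.eq_one_of_dvd_coprimes
        (Nat.Coprime.pow_left k ((Nat.coprime_primes hq hp).mpr hqp))
        (orderOf_dvd_of_pow_eq_one h1) (orderOf_dvd_of_pow_eq_one h2))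
    have hevV : π e ∈ V := mem_map_of_mem π he
    set wb := d (π e) with hwb
    obtain ⟨w, hw, hww⟩ : ∃ w ∈ F, π w = wb := hdV _ hevV
    have hwb1 : wb ≠ 1 := fun h1 => hew ((hd1 _).mp h1)
    have hlbV : π l ∈ V := mem_map_of_mem π hl
    have hlb : d (π l) = 1 :=
      (hd1 _).mpr ((show Commute x l from (mem_centralizer_singleton_iff.mp hlx).symm).map π)
    have hsplit : ∀ g : G, Commute (π g) (π l * wb) → Commute (π g) wb ∧ Commute (π g) (π l) := by
      intro g hg
      have hga : π g * π l * (π g)⁻¹ * (π l)⁻¹ = wb * (π g * wb * (π g)⁻¹)⁻¹ := by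
        have h1 : π g * π l * (π g)⁻¹ * (π g * wb * (π g)⁻¹) = π l * wb := by
          rw [show π g * π l * (π g)⁻¹ * (π g * wb * (π g)⁻¹) = π g * (π l * wb) * (π g)⁻¹ by group, hg.eq,
            mul_inv_cancel_right]
        rw [eq_mul_inv_iff_mul_eq.mpr h1,
          show π l * wb * (π g * wb * (π g)⁻¹)⁻¹ * (π l)⁻¹ = π l * (wb * (π g * wb * (π g)⁻¹)⁻¹) * (π l)⁻¹ by group,
          hVc _ hlbV _ (V.mul_mem (hdV _ hevV) (V.inv_mem (hVn.conj_mem _ (hdV _ hevV) (π g)))), mul_inv_cancel_right]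
      have hlin : ∀ v ∈ V, d v⁻¹ = (d v)⁻¹ := fun v hv => by
        have h1 := hdmul v hv v⁻¹ (inv_mem hv)
        rw [mul_inv_cancel] at h1
        have h0 : d 1 = 1 := by show (1 : G ⧸ Z) * (xb * 1 * xb⁻¹)⁻¹ = 1; group
        rw [h0] at h1
        exact eq_inv_of_mul_eq_one_right h1.symm
      have hgl : π g * π l * (π g)⁻¹ ∈ V := hVn.conj_mem _ hlbV _
      have h3 : d (π g * π l * (π g)⁻¹ * (π l)⁻¹) = 1 := by
        rw [hdmul _ hgl _ (inv_mem hlbV), hlin _ hlbV, hlb, hdeq g _ hlbV, hlb]; group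
      set u := π e * (π g * π e * (π g)⁻¹)⁻¹ with hu
      have huV : u ∈ V := mul_mem hevV (inv_mem (hVn.conj_mem _ hevV _))
      have h4 : wb * (π g * wb * (π g)⁻¹)⁻¹ = d u := by
        rw [hu, hdmul _ hevV _ (inv_mem (hVn.conj_mem _ hevV _)), hlin _ (hVn.conj_mem _ hevV _),
          hdeq g _ hevV]
      rw [hga, h4] at h3
      have h5 := hdd u huV h3
      constructor
      · rw [h5, mul_inv_eq_one, eq_mul_inv_iff_mul_eq] at h4
        exact h4.symm
      · rw [h4, h5, mul_inv_eq_one, mul_inv_eq_iff_eq_mul] at hga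
        exact hga
    have hwN : w ∈ N := hFN hw
    have hwC : w ∉ CN := fun hc => hwb1 (by rw [← hww]; exact hπ1.mpr ⟨hwN, hc⟩)
    have hxw : x ∉ (centralizer ({π w} : Set (G ⧸ Z))).comap π := fun hm => hwb1 (hdd _ hevV ((hd1 _).mpr (by
      show Commute xb wb
      rw [← hww]
      exact mem_centralizer_singleton_iff.mp hm)))
    have hCw : (centralizer ({π w} : Set (G ⧸ Z))).comap π = centralizer ({w} : Set G) := by
      refine ((h w hwN hwC).le_iff.mp fun g hg => mem_comap.mpr (mem_centralizer_singleton_iff.mpr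
        (by rw [← map_mul, ← map_mul, mem_centralizer_singleton_iff.mp hg]))).resolve_left fun htop => ?_
      exact hxw (htop ▸ mem_top x)
    have hle : centralizer ({l * w} : Set G) ≤ centralizer ({w} : Set G) := fun g hg => by
      rw [← hCw]
      refine mem_comap.mpr (mem_centralizer_singleton_iff.mpr ?_)
      rw [hww]
      refine (hsplit g ?_).1.eq
      rw [← hww, ← map_mul]
      exact (show Commute g (l * w) from mem_centralizer_singleton_iff.mp hg).map π
    have hlwN : l * w ∈ N := mul_mem (hFN hl) hwN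
    have hlwC : l * w ∉ CN := fun hc => by
      have h1 : π l * wb = 1 := by rw [← hww, ← map_mul]; exact hπ1.mpr ⟨hlwN, hc⟩
      have h2 := congrArg d h1
      rw [hdmul _ hlbV _ (hdV _ hevV), hlb, one_mul] at h2
      exact hwb1 (hdd _ hevV (h2.trans (by show (1 : G ⧸ Z) * (xb * 1 * xb⁻¹)⁻¹ = 1; group)))
    have heq := cent_eq_of_le h hlwN hlwC hwC hle
    have hwl : centralizer ({w} : Set G) ≤ centralizer ({l} : Set G) := fun g hg => by
      have h1 : Commute g (l * w) := mem_centralizer_singleton_iff.mp (heq.symm ▸ hg)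
      have h2 : Commute g w := mem_centralizer_singleton_iff.mp hg
      refine mem_centralizer_singleton_iff.mpr ?_
      simpa using (h1.mul_right h2.inv_right).eq
    have heq2 := cent_eq_of_le h hwN hwC (hNZ (hFN hl) hlZ) hwl
    refine hxw ?_
    rw [hCw, heq2]
    exact mem_centralizer_singleton_iff.mpr (mem_centralizer_singleton_iff.mp hlx).symm
  have hfpf' : ∀ {x : G}, x ∈ N → x ∉ F → ∀ l ∈ F, l ∈ centralizer ({x} : Set G) → l ∈ Z := by
    intro x hx hxF l hl hlx
    have hex : ∃ y ∈ zpowers x, y ∉ F ∧ ∃ q k : ℕ, q.Prime ∧ q ≠ p ∧ orderOf y = q ^ k := by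
      by_contra! hall
      exact hxF (hP1 x hx (exists_pPow_mem F hp fun y hy q k hq hqp hyk => by
        by_contra hyF
        exact hall y hy hyF q k hq hqp hyk))
    obtain ⟨y, hy, hyF, q, k, hq, hqp, hyk⟩ := hex
    exact hfpf (zpowers_le.mpr hx hy) hyF hq hqp hyk l hl (cent_le_of_mem_zpowers hy hlx)
  obtain ⟨n, hn, hnF⟩ := SetLike.not_le_iff_exists.mp hNF
  obtain ⟨y, q, k, hy, hyF, hq, hqp, hyk, hyq⟩ : ∃ (y : G) (q k : ℕ), y ∈ N ∧ y ∉ F ∧ q.Prime ∧ q ≠ p ∧
      orderOf y = q ^ k ∧ y ^ q ∈ F := by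
    have hex : ∃ y ∈ zpowers n, y ∉ F ∧ ∃ q k : ℕ, q.Prime ∧ q ≠ p ∧ orderOf y = q ^ k := by
      by_contra! hall
      exact hnF (hP1 n hn (exists_pPow_mem F hp fun y hy q k hq hqp hyk => by
        by_contra hyF
        exact hall y hy hyF q k hq hqp hyk))
    obtain ⟨y, hy, hyF, q, k, hq, hqp, hyk⟩ := hex
    replace hy : y ∈ N := zpowers_le.mpr hn hy
    clear hn hnF
    induction k generalizing y with
    | zero => rw [pow_zero, orderOf_eq_one_iff] at hyk; exact absurd (hyk ▸ one_mem F) hyF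
    | succ k ih =>
      by_cases hyq : y ^ q ∈ F
      · exact ⟨y, q, k + 1, hy, hyF, hq, hqp, hyk, hyq⟩
      · refine ih (y ^ q) hyq ?_ (pow_mem hy q)
        rw [orderOf_pow_of_dvd hq.ne_zero (hyk ▸ dvd_pow_self q (Nat.succ_ne_zero k)), hyk, pow_succ,
          Nat.mul_div_cancel _ hq.pos]
  -- `F` is abelian
  have hCf : ∀ f ∈ F, f ∉ Z → F ≤ centralizer ({f} : Set G) := by
    intro f hf hfZ
    have hC' : (centralizer ({π f} : Set (G ⧸ Z))).comap π = centralizer ({f} : Set G) := by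
      refine ((h f (hFN hf) (hNZ (hFN hf) hfZ)).le_iff.mp fun g hg => mem_comap.mpr
        (mem_centralizer_singleton_iff.mpr
          (by rw [← map_mul, ← map_mul, mem_centralizer_singleton_iff.mp hg]))).resolve_left fun htop => ?_
      have hc : Commute (π y) (π f) :=
        mem_centralizer_singleton_iff.mp (show y ∈ (centralizer ({π f} : Set (G ⧸ Z))).comap π by
          rw [htop]; exact mem_top y)
      exact hfZ (hfpf hy hyF hq hqp hyk f hf (fix_of_comm hy hq hqp hyk f hf hc))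
    intro g hg
    rw [← hC']
    exact mem_comap.mpr (mem_centralizer_singleton_iff.mpr (hVc _ (mem_map_of_mem π hg) _ (mem_map_of_mem π hf)))
  have haF : F ≤ centralizer ({a'} : Set G) := hCf a' ha' fun hZ => ha'C hZ.2
  set D := centralizer ({a'} : Set G) with hD
  have hDN : ∀ g ∈ D, g ∈ N → g ∈ F := fun g hgD hgN => by
    by_contra hgF
    exact ha'C (hfpf' hgN hgF a' ha' (mem_centralizer_singleton_iff.mpr
      (mem_centralizer_singleton_iff.mp hgD).symm)).2
  set J := F ⊔ zpowers y with hJ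
  haveI hJn : J.Normal := by
    refine ⟨fun u hu g => ?_⟩
    have hle : J ≤ J.comap (MulAut.conj g).toMonoidHom := by
      refine sup_le (fun f hf => mem_comap.mpr (le_sup_left (a := F) (hFn.conj_mem f hf g))) (zpowers_le.mpr ?_)
      refine mem_comap.mpr ?_
      show g * y * g⁻¹ ∈ J
      rw [show g * y * g⁻¹ = (g * y * g⁻¹ * y⁻¹) * y by group]
      exact mul_mem (le_sup_left (a := F) (hcen y hy g)) (le_sup_right (b := zpowers y) (mem_zpowers y))
    exact hle hu
  have hNJ : N ≤ J := fun g hg => by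
    have htop : D ⊔ J = ⊤ := (h a' (hFN ha') ha'C).2 _ (lt_of_le_of_ne le_sup_left fun he => hyF
      (hDN y ((le_sup_right.trans he.symm.le : J ≤ D) (le_sup_right (b := zpowers y) (mem_zpowers y))) hy))
    obtain ⟨c, hc, j, hj, rfl⟩ := mem_sup_of_normal_right.mp (show g ∈ D ⊔ J by rw [htop]; exact mem_top g)
    have hJN : J ≤ N := sup_le hFN (zpowers_le.mpr hy)
    have hcN : c ∈ N := by simpa using mul_mem hg (inv_mem (hJN hj))
    exact mul_mem (le_sup_left (a := F) (hDN c hc hcN)) hj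
  -- the Frobenius group
  refine Or.inr ?_
  set σ := QuotientGroup.mk' (center ↥N) with hσ
  have hσs : Function.Surjective σ := QuotientGroup.mk'_surjective _
  have hσ1 : ∀ u : ↥N, σ u = 1 ↔ (u : G) ∈ Z := fun u =>
    ⟨fun h1 => ⟨u.2, (mem_center_iff_centralizer u).mp ((QuotientGroup.eq_one_iff u).mp h1)⟩, hquot u⟩
  set K := (F.subgroupOf N).map σ with hK
  haveI : (F.subgroupOf N).Normal := inferInstance
  haveI hKn : K.Normal := Subgroup.Normal.map inferInstance σ hσs
  set yb := σ ⟨y, hy⟩ with hyb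
  set Q := zpowers yb with hQ
  haveI := Fact.mk hq
  have hyqZ : y ^ q ∈ Z := ⟨pow_mem hy q, by
    cases k with
    | zero => rw [pow_zero, orderOf_eq_one_iff] at hyk; rw [hyk, one_pow]; exact one_mem CN
    | succ k =>
      refine hone _ hyq q k hq hqp ?_
      rw [orderOf_pow_of_dvd hq.ne_zero (hyk ▸ dvd_pow_self q (Nat.succ_ne_zero k)), hyk, pow_succ,
        Nat.mul_div_cancel _ hq.pos]⟩
  have hyo : orderOf yb = q := orderOf_eq_prime
    (by rw [hyb, ← map_pow]; exact (hσ1 _).mpr (by simpa using hyqZ))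
    fun h1 => hyF (hZF ((hσ1 ⟨y, hy⟩).mp h1))
  have hQc : Nat.card ↥Q = q := by rw [hQ, Nat.card_zpowers, hyo]
  have hmemK : ∀ u : ↥N, σ u ∈ K → (u : G) ∈ F := by
    rintro u ⟨v, hv, hvu⟩
    have h1 : σ (v⁻¹ * u) = 1 := by rw [map_mul, map_inv, hvu, inv_mul_cancel]
    have h2 : ((v : G))⁻¹ * (u : G) ∈ F := hZF (by simpa using (hσ1 _).mp h1)
    simpa using mul_mem (show (v : G) ∈ F from hv) h2
  have hKQ : K ⊓ Q = ⊥ := by
    rw [eq_bot_iff]
    rintro u ⟨huK, huQ⟩
    rw [mem_bot]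
    by_contra hu1
    have hdvd : orderOf u ∣ q := hQc ▸ (orderOf_coe (⟨u, huQ⟩ : ↥Q)) ▸ orderOf_dvd_natCard _
    have huo : orderOf u = q := (hq.eq_one_or_self_of_dvd _ hdvd).resolve_left fun h1 =>
      hu1 (orderOf_eq_one_iff.mp h1)
    obtain ⟨v, hv, rfl⟩ := huK
    have h2 : σ v ^ p = 1 := by rw [← map_pow]; exact (hσ1 _).mpr (by simpa using hFp v hv)
    have h3 := orderOf_dvd_of_pow_eq_one h2
    rw [huo] at h3
    exact hqp ((Nat.prime_dvd_prime_iff_eq hq hp).mp h3)
  have hKtop : K ⊔ Q = ⊤ := by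
    rw [eq_top_iff]
    intro u _
    obtain ⟨u, rfl⟩ := hσs u
    have hle : J ≤ ((K ⊔ Q).comap σ).map N.subtype := sup_le
      (fun f hf => ⟨⟨f, hFN hf⟩, le_sup_left (a := K) (mem_map_of_mem σ (show (⟨f, hFN hf⟩ : ↥N) ∈ F.subgroupOf N from hf)), rfl⟩)
      (zpowers_le.mpr ⟨⟨y, hy⟩, le_sup_right (b := Q) (mem_zpowers yb), rfl⟩)
    obtain ⟨v, hv, hvu⟩ := hle (hNJ u.2)
    rw [← Subtype.ext hvu]
    exact hv
  have hKcomm : ∀ u ∈ K, ∀ v ∈ K, u * v = v * u := by
    rintro _ ⟨u, hu, rfl⟩ _ ⟨v, hv, rfl⟩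
    rw [← commutatorElement_eq_one_iff_mul_comm, ← map_commutatorElement, hσ1]
    simpa [commutatorElement_def] using hFab u hu v hv
  have hself : ∀ g, g * yb * g⁻¹ ∈ Q → g ∈ Q := by
    intro g hg
    obtain ⟨c, hc, t, ht, rfl⟩ := mem_sup_of_normal_left.mp (show g ∈ K ⊔ Q by rw [hKtop]; exact mem_top g)
    have htc : t * yb * t⁻¹ = yb := by
      obtain ⟨i, rfl⟩ := ht
      group
    rw [show c * t * yb * (c * t)⁻¹ = c * (t * yb * t⁻¹) * c⁻¹ by group, htc] at hg
    have h1 : c * yb * c⁻¹ * yb⁻¹ ∈ K ⊓ Q := ⟨by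
      rw [show c * yb * c⁻¹ * yb⁻¹ = c * (yb * c⁻¹ * yb⁻¹) by group]
      exact K.mul_mem hc (hKn.conj_mem _ (K.inv_mem hc) yb), Q.mul_mem hg (Q.inv_mem (mem_zpowers yb))⟩
    rw [hKQ, mem_bot, mul_inv_eq_one, mul_inv_eq_iff_eq_mul] at h1
    obtain ⟨v, hv, rfl⟩ := hc
    have hcom : Commute (π y) (π (v : G)) := by
      have h2 : σ (⁅(⟨y, hy⟩ : ↥N), v⁆) = 1 := by
        rw [map_commutatorElement, commutatorElement_eq_one_iff_mul_comm]; exact h1.symm
      have h3 := hπ1.mpr ((hσ1 _).mp h2)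
      simp only [commutatorElement_def, Subgroup.coe_mul, InvMemClass.coe_inv] at h3
      rw [← commutatorElement_def, map_commutatorElement, commutatorElement_eq_one_iff_mul_comm] at h3
      exact h3
    have hvZ := hfpf hy hyF hq hqp hyk v hv (fix_of_comm hy hq hqp hyk v hv hcom)
    rw [(hσ1 v).mpr hvZ, one_mul]
    exact ht
  have hQfc : Cfsg.IsFrobeniusComplement Q := by
    refine ⟨fun h0 => ?_, fun h0 => ?_, fun g hg => ?_⟩
    · rw [h0, Subgroup.card_bot] at hQc
      exact hq.ne_one hQc.symm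
    · rw [h0, inf_top_eq, hK, Subgroup.map_eq_bot_iff, QuotientGroup.ker_mk'] at hKQ
      exact ha'C ((mem_center_iff_centralizer (⟨a', hFN ha'⟩ : ↥N)).mp (hKQ ha'))
    · by_contra hne
      haveI : Fact (Nat.card ↥Q).Prime := ⟨hQc ▸ hq⟩
      refine hg (hself g ?_)
      have h1 : (Q ⊓ MulAut.conj g • Q).subgroupOf Q = ⊤ :=
        ((Q ⊓ MulAut.conj g • Q).subgroupOf Q).eq_bot_or_eq_top_of_prime_card.resolve_left fun hb =>
          hne (by rw [← map_subgroupOf_eq_of_le (inf_le_left : Q ⊓ MulAut.conj g • Q ≤ Q), hb, Subgroup.map_bot])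
      have h2 : Q ≤ MulAut.conj g • Q := (subgroupOf_eq_top.mp h1).trans inf_le_right
      have hcardeq : Nat.card ↥Q = Nat.card ↥(MulAut.conj g • Q) := (Lib.Coprime.card_conj_smul g Q).symm
      have h3 : Q = MulAut.conj g • Q := eq_of_le_of_card_ge h2 hcardeq.ge
      conv => arg 1; rw [h3]
      exact smul_mem_pointwise_smul yb (MulAut.conj g) Q (mem_zpowers yb)
  refine ⟨Q, K, p, hp, hQfc, hQc ▸ hq, hKn, ?_, ⟨⟨fun u v => Subtype.ext (hKcomm u u.2 v v.2)⟩⟩, ?_⟩
  · have hsub : (K : Set (↥N ⧸ center ↥N)) ⊆ Cfsg.frobeniusKernel Q := by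
      intro u hu
      by_cases hu1 : u = 1
      · exact Or.inl hu1
      refine Or.inr fun g hg => hu1 ?_
      have h1 : g⁻¹ * u * g ∈ K ⊓ Q := ⟨by simpa using hKn.conj_mem u hu g⁻¹, Lib.Coprime.mem_conj_smul.mp hg⟩
      rw [hKQ, mem_bot] at h1
      calc u = g * (g⁻¹ * u * g) * g⁻¹ := by group
        _ = 1 := by rw [h1]; group
    refine Set.eq_of_subset_of_ncard_le hsub ?_ (Set.toFinite _)
    have hcomp : K.IsComplement' Q := by
      refine Subgroup.isComplement'_of_disjoint_and_mul_eq_univ (disjoint_iff.mpr hKQ) ?_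
      rw [← Subgroup.normal_mul, hKtop, coe_top]
    rw [← Nat.card_coe_set_eq, Lib.Hall.card_frobeniusKernel hQfc, hcomp.index_eq_card,
      ← Nat.card_coe_set_eq]
    rfl
  · rintro _ ⟨u, hu, rfl⟩
    rw [← map_pow]
    exact (hσ1 _).mpr (by simpa using hFp u hu)

end

/-- Let N be a normal subgroup of the finite group G such that for every element x of N outside the center of N the centralizer C_G(x) is a maximal subgroup of G. Then N/Z(N) is either an elementary abelian p-group for some prime p, or a Frobenius group whose kernel is an elementary abelian normal subgroup and whose complement has prime order. -/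
theorem result {G : Type*} [Group G] [Finite G] (N : Subgroup G) [N.Normal]
    (h : ∀ x : G, x ∈ N → x ∉ Subgroup.centralizer (N : Set G) → IsCoatom (Subgroup.centralizer ({x} : Set G))) :
    (∃ p : ℕ, p.Prime ∧ Cfsg.IsElementaryAbelian p (⊤ : Subgroup (↥N ⧸ Subgroup.center ↥N))) ∨
    (∃ (Q K : Subgroup (↥N ⧸ Subgroup.center ↥N)) (p : ℕ), p.Prime ∧ Cfsg.IsFrobeniusComplement Q ∧ (Nat.card ↥Q).Prime ∧
      K.Normal ∧ (K : Set (↥N ⧸ Subgroup.center ↥N)) = Cfsg.frobeniusKernel Q ∧ Cfsg.IsElementaryAbelian p K) := by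
  exact main N h

end Cfsg.Agent.S3905
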