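import Cfsg.Statements.S3919
import Cfsg.Agent.Lib.Thompson.CyclicNormalAbelian
import Cfsg.Agent.Lib.Thompson.MaxClassTwo
import Cfsg.Agent.Lib.Thompson.PGroup
import Cfsg.Agent.Lib.Coprime.Action

set_option autoImplicit false
open Cfsg

namespace Cfsg.Agent.S3919

open Subgroup
open scoped commutatorElement

/-- A nonidentity element of order dividing 2 in a cyclic group is the unique one. -/
theorem zpow_half {G : Type*} [Group G] {a : G} {m : ℕ} (hm : 1 ≤ m) (ha : orderOf a = 2 ^ m) (x : G)
    (hx : x ∈ zpowers a) (hx2 : x ^ 2 = 1) : x = 1 ∨ x = a ^ 2 ^ (m - 1) := by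
  obtain ⟨i, rfl⟩ := hx
  have h2 : ((2 ^ (m - 1) : ℕ) : ℤ) ∣ i := by
    have h : (a ^ i) ^ (2 : ℤ) = 1 := by rw [zpow_ofNat]; exact hx2
    rw [← zpow_mul, ← orderOf_dvd_iff_zpow_eq_one, ha] at h
    have e : ((2 ^ m : ℕ) : ℤ) = ((2 ^ (m - 1) : ℕ) : ℤ) * 2 := by
      conv_lhs => rw [show m = m - 1 + 1 by omega, pow_succ]
      push_cast; ring
    rw [e] at h
    exact (mul_dvd_mul_iff_right (two_ne_zero' ℤ)).mp h
  obtain ⟨q, rfl⟩ := h2
  show a ^ (((2 ^ (m - 1) : ℕ) : ℤ) * q) = 1 ∨ a ^ (((2 ^ (m - 1) : ℕ) : ℤ) * q) = _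
  rw [zpow_mul, zpow_natCast]
  have hz : (a ^ 2 ^ (m - 1)) ^ (2 : ℤ) = 1 := by
    rw [zpow_ofNat, ← pow_mul, ← pow_succ, show m - 1 + 1 = m by omega, ← ha, pow_orderOf_eq_one]
  rcases Int.even_or_odd' q with ⟨q', rfl | rfl⟩
  · exact Or.inl (by rw [zpow_mul, hz, one_zpow])
  · exact Or.inr (by rw [zpow_add, zpow_mul, hz, one_zpow, one_mul, zpow_one])


/-- Say that a group has self-centralizing non-cyclic subgroups when every non-cyclic subgroup H satisfies C_G(H) ≤ H. A finite non-abelian 2-group G of order 2^n has self-centralizing non-cyclic subgroups if and only if G has nilpotency class n − 1 (that is, G is dihedral, semidihedral or generalized quaternion). -/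
theorem result {G : Type*} [Group G] [Finite G] (hna : ¬ IsMulCommutative G) (n : ℕ) (hG : Nat.card G = 2 ^ n) :
    (∀ H : Subgroup G, ¬ IsCyclic ↥H → Subgroup.centralizer (H : Set G) ≤ H) ↔ (⊤ : Subgroup G).lowerCentralSeries (n - 2) ≠ ⊥ := by
  classical
  haveI : Fact (Nat.Prime 2) := ⟨Nat.prime_two⟩
  have h2 : IsPGroup 2 G := IsPGroup.of_card hG
  have hn3 : 3 ≤ n := by
    by_contra hlt
    refine hna ⟨⟨?_⟩⟩
    rcases Nat.lt_or_ge n 2 with h | h
    · have : IsCyclic G := by
        rcases Nat.le_one_iff_eq_zero_or_eq_one.mp (by omega : n ≤ 1) with rfl | rfl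
        · haveI := (Nat.card_eq_one_iff_unique.mp (by simpa using hG : Nat.card G = 1)).1
          infer_instance
        · exact isCyclic_of_prime_card (p := 2) (by simpa using hG)
      exact fun x y => (IsCyclic.commutative (α := G)).is_comm.comm x y
    · exact IsPGroup.commutative_of_card_eq_prime_sq (p := 2) (by rw [hG, show n = 2 by omega])
  have hnc : ¬ IsCyclic G := fun h => hna IsCyclic.commutative
  constructor
  · intro hsc
    by_cases hcyc : ∀ A : Subgroup G, A.Normal → IsMulCommutative A → IsCyclic A
    · obtain ⟨a, x, j, r, hao, hx, hgen, hxr, hr⟩ :=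
        Lib.Thompson.exists_inverting_of_normal_abelian_cyclic h2 hcyc hnc
      have hidx : (Subgroup.zpowers a).index = 2 := by
        have hxx : x * x ∈ Subgroup.zpowers a := by
          rcases hgen (x * x) with h | h
          · exact h
          · exact absurd (by simpa using h) hx
        rw [Subgroup.index_eq_two_iff]
        refine ⟨x, fun b => ?_⟩
        rcases hgen b with h | h
        · exact Or.inr ⟨h, fun hb => hx (by simpa using mul_mem (inv_mem h) hb)⟩
        · refine Or.inl ⟨by simpa [mul_assoc] using mul_mem h hxx, fun hb => hx ?_⟩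
          simpa [mul_assoc] using mul_mem (inv_mem h) hb
      have hc := (Subgroup.zpowers a).card_mul_index
      rw [hidx, Nat.card_zpowers, hao, hG, ← pow_succ] at hc
      have hn : 2 + j + 1 = n := Nat.pow_right_injective le_rfl hc
      intro hbot
      have hmem := Lib.Thompson.pow_mem_lcs hao hxr hr (n - 2)
      rw [hbot, mem_bot, ← orderOf_dvd_iff_pow_eq_one, hao, Nat.pow_dvd_pow_iff_le_right (by norm_num : 1 < 2)] at hmem
      omega
    · -- a noncyclic normal abelian subgroup forces order eight
      push Not at hcyc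
      obtain ⟨A, hAn, hAc, hAnc⟩ := hcyc
      haveI := Fintype.ofFinite ↥A
      have hAC : ∀ B : Subgroup G, IsMulCommutative B → ¬ IsCyclic B → centralizer (B : Set G) = B :=
        fun B hB hBn => le_antisymm (hsc B hBn) (le_centralizer_iff_isMulCommutative.mpr hB)
      have hsq2 : ∀ V : Subgroup G, (∀ v ∈ V, v ^ 2 = 1) → ∀ u ∈ V, u ≠ 1 → ∀ w ∈ V, w ≠ 1 → u ≠ w → ¬ IsCyclic V := by
        intro V hV u hu hu1 w hw hw1 huw hcy
        obtain ⟨g, hg⟩ := IsCyclic.exists_ofOrder_eq_natCard (α := ↥V)
        have h1 : orderOf g ≤ 2 := orderOf_le_of_pow_eq_one two_pos (Subtype.ext (hV g g.2))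
        have h3 := Nat.card_le_card_of_injective
          (fun i : Fin 3 => (![1, ⟨u, hu⟩, ⟨w, hw⟩] i : ↥V)) (fun i k hik => by
            fin_cases i <;> fin_cases k <;> simp [Subtype.ext_iff] at hik ⊢ <;>
              first
              | exact hu1 hik
              | exact hu1 hik.symm
              | exact hw1 hik
              | exact hw1 hik.symm
              | exact huw hik
              | exact huw hik.symm)
        rw [Nat.card_fin] at h3
        omega
      -- a second involution in `A`
      obtain ⟨z, hzA, hzc, hzo⟩ := Lib.Thompson.exists_central_order_p h2 (N := A)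
        (fun h => hAnc (h ▸ inferInstance))
      have hz2 : z ^ 2 = 1 := by rw [← hzo, pow_orderOf_eq_one]
      have hz1 : z ≠ 1 := fun e => by rw [e, orderOf_one] at hzo; norm_num at hzo
      have hcA : ∀ u ∈ A, ∀ v ∈ A, u * v = v * u := fun u hu v hv =>
        congrArg Subtype.val (hAc.is_comm.comm (⟨u, hu⟩ : ↥A) ⟨v, hv⟩)
      let Ω : Subgroup G :=
        { carrier := {g | g ∈ A ∧ g ^ 2 = 1}
          one_mem' := ⟨one_mem A, one_pow 2⟩
          mul_mem' := fun {u v} hu hv => ⟨mul_mem hu.1 hv.1, by
            rw [(show Commute u v from hcA u hu.1 v hv.1).mul_pow, hu.2, hv.2, one_mul]⟩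
          inv_mem' := fun {u} hu => ⟨inv_mem hu.1, by rw [inv_pow, hu.2, inv_one]⟩ }
      haveI : Ω.Normal := ⟨fun u hu g => ⟨hAn.conj_mem u hu.1 g, by
        rw [conj_pow, hu.2, mul_one, mul_inv_cancel]⟩⟩
      have hzΩ : z ∈ Ω := ⟨hzA, hz2⟩
      obtain ⟨w, hwΩ, hw1, hwz⟩ : ∃ w ∈ Ω, w ≠ 1 ∧ w ≠ z := by
        by_contra! h
        refine hAnc (isCyclic_of_card_pow_eq_one_le fun k hk => ?_)
        rcases Nat.even_or_odd k with hke | hko
        swap
        · refine le_trans (Finset.card_le_one.mpr fun u hu v hv => ?_) hk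
          simp only [Finset.mem_filter] at hu hv
          have hone : ∀ t : ↥A, t ^ k = 1 → t = 1 := fun t ht => by
            obtain ⟨e, he⟩ := h2.to_subgroup A t
            exact orderOf_eq_one_iff.mp (Nat.eq_one_of_dvd_coprimes
              ((Nat.coprime_two_left.mpr hko).pow_left e).symm (orderOf_dvd_of_pow_eq_one ht)
              (orderOf_dvd_of_pow_eq_one he))
          rw [hone u hu.2, hone v hv.2]
        · -- an abelian 2-group with one involution
          induction k using Nat.strong_induction_on with
          | _ k ih =>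
            obtain ⟨l, rfl⟩ := hke
            let sq : ↥A → ↥A := fun t => t ^ 2
            have hfib : ∀ b ∈ Finset.univ.filter (fun t : ↥A => t ^ l = 1),
                (Finset.univ.filter (fun t : ↥A => t ^ 2 = b)).card ≤ 2 := by
              intro b _
              rcases (Finset.univ.filter (fun t : ↥A => t ^ 2 = b)).eq_empty_or_nonempty with he | ⟨t₀, ht₀⟩
              · rw [he]; simp
              refine le_trans (Finset.card_le_card (t := ({t₀, t₀ * ⟨z, hzA⟩} : Finset ↥A)) fun t ht => ?_)
                Finset.card_le_two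
              simp only [Finset.mem_filter] at ht ht₀
              have hd : (t₀⁻¹ * t) ^ 2 = 1 := by
                rw [(show Commute t₀⁻¹ t from hAc.is_comm.comm _ _).mul_pow, inv_pow, ht.2, ht₀.2, inv_mul_cancel]
              simp only [Finset.mem_insert, Finset.mem_singleton]
              by_cases hd1 : t₀⁻¹ * t = 1
              · exact Or.inl (inv_mul_eq_one.mp hd1).symm
              · right
                have := h _ (show ((t₀⁻¹ * t : ↥A) : G) ∈ Ω from ⟨(t₀⁻¹ * t).2, congrArg Subtype.val hd⟩)
                  (fun e => hd1 (Subtype.ext e))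
                rw [← show t₀⁻¹ * t = (⟨z, hzA⟩ : ↥A) from Subtype.ext this, mul_inv_cancel_left]
            have hmain := Finset.card_le_mul_card_image_of_maps_to
              (s := Finset.univ.filter (fun t : ↥A => t ^ (l + l) = 1))
              (t := Finset.univ.filter (fun t : ↥A => t ^ l = 1)) (f := sq)
              (fun t ht => Finset.mem_filter.mpr ⟨Finset.mem_univ _, by
                show (t ^ 2) ^ l = 1
                rw [← pow_mul, two_mul]; exact (Finset.mem_filter.mp ht).2⟩) 2
              (fun b hb => le_trans (Finset.card_le_card fun t ht =>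
                Finset.mem_filter.mpr ⟨Finset.mem_univ _, (Finset.mem_filter.mp ht).2⟩) (hfib b hb))
            have hl : (Finset.univ.filter (fun t : ↥A => t ^ l = 1)).card ≤ l := by
              rcases Nat.even_or_odd l with hle | hlo
              · exact ih l (by omega) (by omega) hle
              · refine le_trans (Finset.card_le_one.mpr fun u hu v hv => ?_) (by omega)
                simp only [Finset.mem_filter] at hu hv
                have hone : ∀ t : ↥A, t ^ l = 1 → t = 1 := fun t ht => by
                  obtain ⟨e, he⟩ := h2.to_subgroup A t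
                  exact orderOf_eq_one_iff.mp (Nat.eq_one_of_dvd_coprimes
                    ((Nat.coprime_two_left.mpr hlo).pow_left e).symm (orderOf_dvd_of_pow_eq_one ht)
                    (orderOf_dvd_of_pow_eq_one he))
                rw [hone u hu.2, hone v hv.2]
            omega
      -- a normal four group
      haveI : (Subgroup.zpowers z).Normal := Lib.Thompson.normal_of_le_center (Subgroup.zpowers_le.mpr hzc)
      let π := QuotientGroup.mk' (Subgroup.zpowers z)
      have hΩne : Ω.map π ≠ ⊥ := fun e => by
        have hwk : w ∈ Subgroup.zpowers z := by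
          have := Subgroup.mem_map_of_mem π hwΩ
          rw [e, mem_bot] at this
          exact (QuotientGroup.eq_one_iff w).mp this
        rcases zpow_half le_rfl (by rw [hzo]; norm_num) w hwk hwΩ.2 with h | h
        · exact hw1 h
        · exact hwz (by simpa using h)
      haveI : (Ω.map π).Normal := Subgroup.Normal.map inferInstance π (QuotientGroup.mk'_surjective _)
      obtain ⟨_, ⟨v, hv, rfl⟩, hvc, hvo⟩ :=
        Lib.Thompson.exists_central_order_p (h2.to_quotient (Subgroup.zpowers z)) hΩne
      have hvz : v ∉ Subgroup.zpowers z := fun h => by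
        rw [show π v = 1 from (QuotientGroup.eq_one_iff v).mpr h, orderOf_one] at hvo
        norm_num at hvo
      have hvcom : ∀ g : G, g * v * g⁻¹ * v⁻¹ = 1 ∨ g * v * g⁻¹ * v⁻¹ = z := by
        intro g
        have hd : g * v * g⁻¹ * v⁻¹ ∈ Subgroup.zpowers z := by
          rw [← QuotientGroup.eq_one_iff]
          show π (g * v * g⁻¹ * v⁻¹) = 1
          rw [map_mul, map_mul, map_mul, map_inv, map_inv, mem_center_iff.mp hvc (π g), mul_inv_cancel_right,
            mul_inv_cancel]
        rcases zpow_half le_rfl (by rw [hzo]; norm_num) _ hd (by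
          obtain ⟨i, hi⟩ := hd
          rw [← hi, ← zpow_natCast, ← zpow_mul, mul_comm, zpow_mul, zpow_natCast, hz2, one_zpow]) with h | h
        · exact Or.inl h
        · exact Or.inr (by simpa using h)
      let V : Subgroup G := closure {z, v}
      have hzv : z * v = v * z := (mem_center_iff.mp hzc v).symm
      have hVc : IsMulCommutative V := isMulCommutative_closure (by
        rintro s (rfl | rfl) t (rfl | rfl) <;> first | rfl | exact hzv | exact hzv.symm)
      have hV2 : ∀ s ∈ V, s ^ 2 = 1 := fun s hs =>
        ((closure_le (K := Ω)).mpr (by rintro _ (rfl | rfl); exacts [hzΩ, hv]) hs).2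
      have hVnc : ¬ IsCyclic V := hsq2 V hV2 z (subset_closure (Or.inl rfl)) hz1 v (subset_closure (Or.inr rfl))
        (fun e => hvz (e ▸ one_mem _)) (fun e => hvz (e ▸ Subgroup.mem_zpowers z))
      have hCV := hAC V hVc hVnc
      let κ : G → Bool := fun g => decide (g * v * g⁻¹ * v⁻¹ = 1)
      have hkey : ∀ x : G, x * v = v * x → x ∈ centralizer (V : Set G) := fun x hx => by
        show x ∈ centralizer ((closure {z, v} : Subgroup G) : Set G)
        rw [centralizer_closure, mem_centralizer_iff]
        rintro _ (rfl | rfl)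
        · exact (mem_center_iff.mp hzc _).symm
        · exact hx.symm
      have hinj : Nat.card G ≤ 2 * Nat.card V := by
        have hle : (centralizer (V : Set G)).index ≤ 2 := by
          rw [index_eq_card]
          refine (Nat.card_le_card_of_injective (fun q : G ⧸ centralizer (V : Set G) => κ q.out) ?_).trans
            (by simp)
          intro q q' e
          have e' : decide (q.out * v * q.out⁻¹ * v⁻¹ = 1) = decide (q'.out * v * q'.out⁻¹ * v⁻¹ = 1) := e
          rw [decide_eq_decide] at e'
          have heq : q.out * v * q.out⁻¹ * v⁻¹ = q'.out * v * q'.out⁻¹ * v⁻¹ := by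
            rcases hvcom q.out with h | h
            · rw [h, e'.mp h]
            · rcases hvcom q'.out with h' | h'
              · rw [h', e'.mpr h']
              · rw [h, h']
          rw [← q.out_eq', ← q'.out_eq', QuotientGroup.eq]
          have hcv : (q.out⁻¹ * q'.out) * v = v * (q.out⁻¹ * q'.out) := by
            rw [mul_left_inj, mul_inv_eq_iff_eq_mul] at heq
            calc q.out⁻¹ * q'.out * v = q.out⁻¹ * (q'.out * v * q'.out⁻¹) * q'.out := by group
              _ = q.out⁻¹ * (q'.out * v * q'.out⁻¹ * q.out) * (q.out⁻¹ * q'.out) := by group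
              _ = q.out⁻¹ * (q.out * v) * (q.out⁻¹ * q'.out) := by rw [← heq]
              _ = v * (q.out⁻¹ * q'.out) := by rw [inv_mul_cancel_left]
          exact hkey _ hcv
        calc Nat.card G = Nat.card (centralizer (V : Set G)) * (centralizer (V : Set G)).index :=
              (card_mul_index _).symm
          _ ≤ Nat.card V * 2 := by rw [hCV] at hle ⊢; exact Nat.mul_le_mul_left _ hle
          _ = 2 * Nat.card V := mul_comm _ _
      have hV4 : Nat.card V ≤ 4 := by
        have e : V = Subgroup.zpowers v ⊔ Subgroup.zpowers z := by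
          rw [sup_comm, zpowers_eq_closure, zpowers_eq_closure, ← Subgroup.closure_union, Set.singleton_union]
        have hn : Subgroup.zpowers v ≤ normalizer (Subgroup.zpowers z : Set G) := by
          rw [normalizer_eq_top]; exact le_top
        have h1 := Lib.Coprime.card_sup_mul_card_inf_of_le_normalizer hn
        have h3 : Nat.card (Subgroup.zpowers v) ≤ 2 := by
          rw [Nat.card_zpowers]; exact orderOf_le_of_pow_eq_one two_pos hv.2
        rw [← e, Nat.card_zpowers z, hzo] at h1
        refine (Nat.le_mul_of_pos_right _ Nat.card_pos).trans (h1.le.trans ?_)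
        omega
      have hn : n = 3 := by
        by_contra h
        have := Nat.pow_le_pow_right (show 0 < 2 by norm_num) (show 4 ≤ n by omega)
        omega
      subst hn
      rw [show (⊤ : Subgroup G).lowerCentralSeries (3 - 2) = _root_.commutator G from
        Subgroup.top_lowerCentralSeries_one]
      intro h
      refine hna ⟨⟨fun s t => ?_⟩⟩
      have hst := commutator_mem_commutator (mem_top s) (mem_top t)
      rw [← _root_.commutator_def, h, mem_bot] at hst
      exact commutatorElement_eq_one_iff_mul_comm.mp hst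
  · intro hlcs H hH c hc
    have hc1 : Group.nilpotencyClass G = n - 1 := by
      haveI : Group.IsNilpotent G := h2.isNilpotent
      have hle : Group.nilpotencyClass G ≤ n - 1 :=
        Subgroup.lowerCentralSeries_eq_bot_iff_nilpotencyClass_le.mp
          (Lib.Thompson.lcs_eq_bot hG (by omega) (by omega))
      have hgt : ¬ Group.nilpotencyClass G ≤ n - 2 := fun h =>
        hlcs (Subgroup.lowerCentralSeries_eq_bot_iff_nilpotencyClass_le.mpr h)
      omega
    have h4 : (_root_.commutator G).index = 4 := by
      have h := Lib.Thompson.index_lcs_of_maxClass hG hn3 hc1 (k := 1) le_rfl (by omega)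
      rwa [Subgroup.top_lowerCentralSeries_one] at h
    obtain ⟨a, b, r, hao, hb, hb2, hbr, -, hidx, hr4⟩ :=
      Lib.Thompson.maxClassTwo_structure (m := n - 1) (by omega) (by rw [hG, show n - 1 + 1 = n by omega]) h4
    haveI : (Subgroup.zpowers a).Normal := Subgroup.normal_of_index_eq_two hidx
    -- an element of `H` outside the cyclic subgroup
    obtain ⟨h, hhH, hha⟩ : ∃ h ∈ H, h ∉ Subgroup.zpowers a := by
      by_contra! hall
      exact hH (Subgroup.isCyclic_of_le hall)
    let z := a ^ 2 ^ (n - 1 - 1)
    -- `h` inverts modulo four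
    have hinv : ∀ s : ℤ, h * a ^ s * h⁻¹ = a ^ (r * s) := by
      intro s
      have hbh : b⁻¹ * h ∈ Subgroup.zpowers a := by
        rw [Subgroup.mul_mem_iff_of_index_two hidx, inv_mem_iff]
        exact iff_of_false hb hha
      obtain ⟨i, hi⟩ := hbh
      have hh : h = b * a ^ i := by rw [show a ^ i = b⁻¹ * h from hi, mul_inv_cancel_left]
      rw [hh, ← Lib.Thompson.conj_zpow_of_eq hbr s]
      group
    have hcent : ∀ s : ℤ, h * a ^ s * h⁻¹ = a ^ s → a ^ s = 1 ∨ a ^ s = z := by
      intro s hs
      rw [hinv] at hs
      refine zpow_half (by omega) hao _ ⟨s, rfl⟩ ?_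
      have hd : ((2 : ℤ) ^ (n - 1)) ∣ (r - 1) * s := by
        have : a ^ ((r - 1) * s) = 1 := by rw [sub_mul, one_mul, zpow_sub, hs, mul_inv_cancel]
        rw [← orderOf_dvd_iff_zpow_eq_one, hao] at this
        exact_mod_cast this
      obtain ⟨k, hk⟩ := hr4
      rw [show r - 1 = 2 * (2 * k - 1) by linarith, show 2 * (2 * k - 1) * s = (2 * s) * (2 * k - 1) by ring] at hd
      have hcop : IsCoprime ((2 : ℤ) ^ (n - 1)) (2 * k - 1) :=
        IsCoprime.pow_left ⟨k, -1, by ring⟩
      have := hcop.dvd_of_dvd_mul_right hd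
      rw [← zpow_natCast, ← zpow_mul, ← orderOf_dvd_iff_zpow_eq_one, hao, mul_comm]
      push_cast
      exact this
    have hzH : z ∈ H := by
      have hne : ∃ u ∈ H, u ≠ 1 ∧ u ∈ Subgroup.zpowers a := by
        by_contra! hall
        refine hH (Subgroup.isCyclic_iff_exists_zpowers_eq_top H |>.mpr ⟨h, le_antisymm (zpowers_le.mpr hhH) fun u hu => ?_⟩)
        by_cases hu1 : u = 1
        · rw [hu1]; exact one_mem _
        have huA : u ∉ Subgroup.zpowers a := hall u hu hu1
        have hm : h⁻¹ * u ∈ Subgroup.zpowers a := by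
          rw [Subgroup.mul_mem_iff_of_index_two hidx, inv_mem_iff]
          exact iff_of_false hha huA
        have := hall (h⁻¹ * u) (mul_mem (inv_mem hhH) hu)
        by_cases h1 : h⁻¹ * u = 1
        · rw [← inv_mul_eq_one.mp h1]; exact mem_zpowers h
        · exact absurd hm (this h1)
      obtain ⟨u, hu, hu1, hua⟩ := hne
      obtain ⟨e, he⟩ := (Nat.dvd_prime_pow Nat.prime_two).mp (hao ▸ orderOf_dvd_of_mem_zpowers hua)
      have he1 : 1 ≤ e := by
        by_contra h0
        exact hu1 (orderOf_eq_one_iff.mp (by rw [he.2, show e = 0 by omega, pow_zero]))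
      have hw2 : (u ^ 2 ^ (e - 1)) ^ 2 = 1 := by
        rw [← pow_mul, ← pow_succ, show e - 1 + 1 = e by omega, ← he.2, pow_orderOf_eq_one]
      rcases zpow_half (by omega) hao _ (pow_mem hua _) hw2 with h' | h'
      · exfalso
        rw [← orderOf_dvd_iff_pow_eq_one, he.2, Nat.pow_dvd_pow_iff_le_right (by norm_num : 1 < 2)] at h'
        omega
      · show a ^ 2 ^ (n - 1 - 1) ∈ H
        rw [← h']; exact pow_mem hu _
    have hch : h * c = c * h := mem_centralizer_iff.mp hc h hhH
    by_cases hca : c ∈ Subgroup.zpowers a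
    · obtain ⟨s, rfl⟩ := hca
      show a ^ s ∈ H
      rcases hcent s (mul_inv_eq_iff_eq_mul.mpr hch) with e | e <;> rw [e]
      exacts [one_mem H, hzH]
    · have hm : h⁻¹ * c ∈ Subgroup.zpowers a := by
        rw [Subgroup.mul_mem_iff_of_index_two hidx, inv_mem_iff]
        exact iff_of_false hha hca
      obtain ⟨s, hs⟩ := hm
      have hs' : a ^ s = h⁻¹ * c := hs
      have hcs : h * a ^ s * h⁻¹ = a ^ s := by
        rw [hs', mul_inv_eq_iff_eq_mul, mul_inv_cancel_left, mul_assoc, ← hch, inv_mul_cancel_left]
      rw [show c = h * a ^ s by rw [hs', mul_inv_cancel_left]]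
      rcases hcent s hcs with e | e <;> rw [e]
      exacts [by simpa using hhH, mul_mem hhH hzH]

end Cfsg.Agent.S3919
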