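import Cfsg.Statements.S4016
import Cfsg.Agent.Lib.CyclicAb.Counting
import Cfsg.Agent.Lib.Transfer.Fusion
import Cfsg.Agent.Lib.Block.Exist
import Cfsg.Agent.Lib.Char.Degree
import Cfsg.Agent.Lib.CharTools.Basic
import Cfsg.Agent.S0182
import Cfsg.Agent.S0948
import Cfsg.Agent.S4479

set_option autoImplicit false
open Cfsg

namespace Cfsg.Agent.S4016

open Subgroup Cfsg.Agent.Lib.CyclicAb

universe u

variable {G : Type u} [Group G] [Finite G] {p : ℕ} [hp : Fact p.Prime]

theorem even_false (H : Hyp p G) (P : Sylow p G) {x : G} (hx1 : x ≠ 1) (hxo : ¬ p ∣ orderOf x)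
    (hxC : x ∈ centralizer ((P : Subgroup G) : Set G)) : False := by
  classical
  haveI := Fintype.ofFinite G
  haveI := H.simple
  obtain ⟨t, S, N, I, hN, ht, htS, hS4, hexp, hCS, hone, hCt, hG, hI⟩ := H.involution_bound P hx1 hxo hxC
  haveI hK : IsKleinFour (S : Subgroup G) := ⟨hS4, by
    refine Nat.dvd_antisymm ((Monoid.exponent_dvd_iff_forall_pow_eq_one).2 fun a => Subtype.ext (hexp a a.2)) ?_
    have := Monoid.order_dvd_exponent (⟨t, htS⟩ : (S : Subgroup G))
    rwa [Subgroup.orderOf_mk, ht] at this⟩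
  obtain ⟨M, hM⟩ := Lib.Block.exists_isPModular Nat.prime_two
  obtain ⟨z₂, z₃, z₄, ε, hε, hz2, hz3, h23, h24, h34, hB, hval, hd2, hd3, hd4, -⟩ := S0948.result M hM S hK hone
  obtain ⟨hv2, hv3, hv4⟩ := hval t ht
  have hz4 : (z₄ : G → ℂ) ≠ fun _ => 1 := fun e => by
    rw [e] at hv4
    norm_num at hv4
  have hperf : commutator G = ⊤ := by
    refine H.normal_eq_top inferInstance fun e => H.ncomm fun a b => ?_
    exact commutatorElement_eq_one_iff_mul_comm.1 (Subgroup.mem_bot.1 (e ▸
      (Subgroup.commutator_mem_commutator (Subgroup.mem_top a) (Subgroup.mem_top b))))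
  have hdeg : ∀ χ : IrrCharacter G, (χ : G → ℂ) ≠ (fun _ => 1) → 2 ≤ Cfsg.charDegree (χ : G → ℂ) := by
    intro χ hχ
    have h0 := Lib.Char.charDegree_pos χ.2
    by_contra h1
    have h1' : Cfsg.charDegree (χ : G → ℂ) = 1 := by omega
    obtain ⟨l, hl⟩ := Lib.CharTools.irr_mem_linear χ.2 ((Lib.Char.charDegree_eq_one_iff χ.2).mp h1')
    refine hχ (funext fun g => ?_)
    rw [hl, Lib.CharTools.linear_commutator (by rw [hperf]; exact Subgroup.mem_top g), Units.val_one]
  have hg₀ : Odd ((S : Subgroup G).index) := Nat.not_even_iff_odd.1 fun h => S.not_dvd_index h.two_dvd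
  have hG4 : Nat.card G = 4 * (S : Subgroup G).index := by rw [← Subgroup.card_mul_index (S : Subgroup G), hS4]
  have hnc : ¬ ∃ K : Subgroup G, K.Normal ∧ Nat.card K = (S : Subgroup G).index := by
    rintro ⟨K, hK, hKc⟩
    by_cases hKb : K = ⊥
    · rw [hKb, Subgroup.card_bot] at hKc
      rw [← hKc] at hG4
      rw [hG4] at hG
      rcases Nat.eq_zero_or_pos I with hI0 | hI0
      · rw [hI0] at hG; omega
      · have : 3 * 1 ≤ N * I := Nat.mul_le_mul hN hI0
        rw [mul_assoc] at hG
        omega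
    · rw [H.normal_eq_top hK hKb, Subgroup.card_top, hG4] at hKc
      have : 0 < (S : Subgroup G).index := Nat.pos_of_ne_zero Subgroup.index_ne_zero_of_finite
      omega
  have hf := S4479.result M hM _ hg₀ hG4 hnc S t htS ht z₂ z₃ z₄ 1 ε (-1) hB ⟨hz2, hz3, hz4, h23, h24, h34⟩
    ⟨Or.inl rfl, hε, Or.inr rfl⟩ ⟨by exact_mod_cast hv2, hv3, by exact_mod_cast hv4⟩
  rw [hG, hCt, hCS, hS4] at hf
  have ha : 5 ≤ Cfsg.charDegree (z₂ : G → ℂ) := by have := hdeg z₂ hz2; omega
  have hb2 := hdeg z₃ hz3
  have hc2 := hdeg z₄ hz4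
  have hb5 : ε = 1 → 5 ≤ Cfsg.charDegree (z₃ : G → ℂ) := fun e => by subst e; omega
  push_cast at hf
  set a : ℚ := (Cfsg.charDegree (z₂ : G → ℂ) : ℚ) with hadef
  set b : ℚ := (Cfsg.charDegree (z₃ : G → ℂ) : ℚ) with hbdef
  set c : ℚ := (Cfsg.charDegree (z₄ : G → ℂ) : ℚ) with hcdef
  have ha' : (5 : ℚ) ≤ a := by rw [hadef]; exact_mod_cast ha
  have hb' : (2 : ℚ) ≤ b := by rw [hbdef]; exact_mod_cast hb2
  have hc' : (2 : ℚ) ≤ c := by rw [hcdef]; exact_mod_cast hc2
  have hbε : 5 * (b + (ε : ℚ)) ≤ 6 * b ∧ 0 < b + (ε : ℚ) := by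
    rcases hε with e | e
    · have : (5 : ℚ) ≤ b := by rw [hbdef]; exact_mod_cast hb5 e
      rw [e]; push_cast; constructor <;> linarith
    · rw [e]; push_cast; constructor <;> linarith
  have hpos : 0 < (a + 1) * (b + (ε : ℚ)) * (c + -1) := by
    have : 0 < c + -1 := by linarith
    have : 0 < a + 1 := by linarith
    have := hbε.2
    positivity
  have hα : (25 : ℚ) / 36 ≤ a * b * c / ((a + 1) * (b + (ε : ℚ)) * (c + -1)) := by
    rw [le_div_iff₀ hpos]
    have h1 : 5 * (a + 1) ≤ 6 * a := by linarith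
    have h2 : (5 * (a + 1)) * (5 * (b + (ε : ℚ))) ≤ (6 * a) * (6 * b) :=
      mul_le_mul h1 hbε.1 (by linarith [hbε.2]) (by linarith)
    have h3 : ((5 * (a + 1)) * (5 * (b + (ε : ℚ)))) * (c + -1) ≤ ((6 * a) * (6 * b)) * c :=
      mul_le_mul h2 (by linarith) (by linarith) (by positivity)
    linarith
  set α : ℚ := a * b * c / ((a + 1) * (b + (ε : ℚ)) * (c + -1)) with hαdef
  have hN' : (3 : ℚ) ≤ (N : ℚ) := by exact_mod_cast hN
  have hI' : (I : ℚ) ≤ 4 * (N : ℚ) * N + 2 * N + 2 := by exact_mod_cast hI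
  have hNpos : (0 : ℚ) < (N : ℚ) := by linarith
  have h5 : (I : ℚ) = 8 * α * (N : ℚ) ^ 2 := by
    have h6 : 4 * (N : ℚ) * I = 4 * (N : ℚ) * (8 * α * (N : ℚ) ^ 2) := by rw [hf]; ring
    exact mul_left_cancel₀ (by positivity) h6
  have h7 : (25 / 36 : ℚ) * (8 * (N : ℚ) ^ 2) ≤ α * (8 * (N : ℚ) ^ 2) := mul_le_mul_of_nonneg_right hα (by positivity)
  nlinarith

theorem simple_false (H : Hyp p G) : False := by
  have hself := H.centralizer_le_self_of fun P x hx1 hxo hxC => even_false H P hx1 hxo hxC
  have hodd := H.odd_card fun P => hself P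
  haveI := H.simple
  refine H.ncomm (IsSimpleGroup.comm_iff_isSolvable.2 (S0182.result hodd fun x hx a ha b hb => ?_))
  by_cases hd : p ∣ Nat.card ↥(centralizer ({x} : Set G))
  · obtain ⟨⟨w, hw⟩, hwo⟩ := exists_prime_orderOf_dvd_card' p hd
    rw [Subgroup.orderOf_mk] at hwo
    obtain ⟨Q, hQ⟩ := exists_sylow_conj_mem (p := p) (Classical.arbitrary _) (w := w)
      ⟨1, by rw [pow_one]; exact orderOf_dvd_iff_pow_eq_one.1 hwo.dvd⟩
    have hxQ : x ∈ (Q : Subgroup G) := hself Q (H.centralizer_le Q hQ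
      (fun e => hp.out.ne_one (by rw [← hwo, e, orderOf_one]))
      (mem_centralizer_singleton_iff.2 ((mem_centralizer_singleton_iff.1 hw).symm)))
    exact H.sylow_comm Q (hself Q (H.centralizer_le Q hxQ hx ha)) (hself Q (H.centralizer_le Q hxQ hx hb))
  · exact H.commute_of_not_dvd hd ha hb

/-- the conclusion -/
def Concl (p : ℕ) (G : Type u) [Group G] : Prop :=
  Cfsg.HasNormalPComplement p G ∨ ∀ P : Sylow p G, (P : Subgroup G).Normal

theorem main : ∀ (n : ℕ) (G : Type u) [Group G] [Finite G], Nat.card G = n →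
    (∀ Q : Subgroup G, IsPGroup p Q → IsCyclic Q) →
    (∀ H : Subgroup G, ¬ p ∣ Nat.card H → IsMulCommutative H) → Concl p G := by
  intro n
  induction n using Nat.strong_induction_on with
  | _ n ih =>
  intro G _ _ hn hcyc hab
  subst hn
  by_contra hcon
  rw [Concl, not_or] at hcon
  obtain ⟨hcon1, hcon2⟩ := hcon
  push Not at hcon2
  obtain ⟨P₀, hP₀⟩ := hcon2
  -- subgroups inherit the hypotheses
  have hsub0 : ∀ M : Subgroup G, M ≠ ⊤ → Concl p M := by
    intro M hM
    have hlt : Nat.card M < Nat.card G :=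
      lt_of_le_of_ne (Subgroup.card_le_card_group M) fun e => hM ((Subgroup.card_eq_iff_eq_top M).1 e)
    refine ih _ hlt M rfl (fun Q hQ => ?_) (fun K hK => ?_)
    · haveI := hcyc (Q.map M.subtype) (hQ.map _)
      exact isCyclic_of_surjective _ (equivMapOfInjective Q _ M.subtype_injective).symm.surjective
    · haveI := hab (K.map M.subtype) (by
        rwa [Nat.card_congr (equivMapOfInjective K _ M.subtype_injective).toEquiv.symm])
      refine ⟨⟨fun a b => ?_⟩⟩
      exact (equivMapOfInjective K _ M.subtype_injective).injective (by rw [map_mul, map_mul, mul_comm'])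
  have hsub : ∀ M : Subgroup G, M ≠ ⊤ → ∀ Q : Sylow p G, (Q : Subgroup G) ≤ M →
      M ≤ normalizer ((Q : Subgroup G) : Set G) ∨
        ∀ a ∈ M, a ∈ normalizer ((Q : Subgroup G) : Set G) → a ∈ centralizer ((Q : Subgroup G) : Set G) := by
    intro M hM Q hQ
    rcases hsub0 M hM with h | h
    · right
      obtain ⟨K, hK, hKc⟩ := (Lib.Transfer.hasNormalPComplement_iff_forall.1 h) (Q.subtype hQ)
      intro a haM haN
      rw [mem_centralizer_iff]
      intro w hw
      haveI := hcyc _ Q.2
      have hcomm : ∀ u v : G, u ∈ (Q : Subgroup G) → v ∈ (Q : Subgroup G) → u * v = v * u := fun u v hu hv =>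
        congrArg Subtype.val (mul_comm' (⟨u, hu⟩ : (Q : Subgroup G)) ⟨v, hv⟩)
      obtain ⟨⟨k, u⟩, hku⟩ := (Subgroup.isComplement_iff_existsUnique.1 hKc ⟨a, haM⟩).exists
      have huQ : ((u : M) : G) ∈ (Q : Subgroup G) := u.2
      have hka : ((k : M) : G) * ((u : M) : G) = a := congrArg Subtype.val hku
      set c : M := ⟨a, haM⟩ * ⟨w, hQ hw⟩ * (⟨a, haM⟩ : M)⁻¹ * (⟨w, hQ hw⟩ : M)⁻¹ with hc
      have hcQ : (c : G) ∈ (Q : Subgroup G) :=
        mul_mem ((mem_normalizer_iff.1 haN w).1 hw) (inv_mem hw)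
      have hcK : c ∈ K := by
        have e : c = (k : M) * ((⟨w, hQ hw⟩ : M) * (k : M)⁻¹ * (⟨w, hQ hw⟩ : M)⁻¹) := by
          refine Subtype.ext ?_
          show a * w * a⁻¹ * w⁻¹ = ((k : M) : G) * (w * ((k : M) : G)⁻¹ * w⁻¹)
          rw [← hka]
          calc ((k : M) : G) * ((u : M) : G) * w * (((k : M) : G) * ((u : M) : G))⁻¹ * w⁻¹
              = ((k : M) : G) * (((u : M) : G) * w) * ((u : M) : G)⁻¹ * ((k : M) : G)⁻¹ * w⁻¹ := by group
            _ = ((k : M) : G) * (w * ((u : M) : G)) * ((u : M) : G)⁻¹ * ((k : M) : G)⁻¹ * w⁻¹ := by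
                rw [hcomm _ _ huQ hw]
            _ = _ := by group
        rw [e]
        exact mul_mem k.2 (hK.conj_mem _ (inv_mem k.2) _)
      have h1 : c = 1 := by
        have h2 : c ∈ K ⊓ (Q.subtype hQ : Subgroup M) := ⟨hcK, hcQ⟩
        rwa [hKc.disjoint.eq_bot, Subgroup.mem_bot] at h2
      have h3 : a * w * a⁻¹ * w⁻¹ = 1 := congrArg Subtype.val h1
      rw [mul_inv_eq_one, mul_inv_eq_iff_eq_mul] at h3
      exact h3.symm
    · left
      have := h (Q.subtype hQ)
      exact (normal_subgroupOf_iff_le_normalizer hQ).1 this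
  have hnc : ∀ Q : Sylow p G, ¬ normalizer ((Q : Subgroup G) : Set G) ≤ centralizer ((Q : Subgroup G) : Set G) :=
    fun Q h => hcon1 (Lib.Transfer.hasNormalPComplement_of_normalizer_le_centralizer Q h)
  have hpdvd : p ∣ Nat.card G := by
    rcases P₀.2.card_eq_or_dvd with h | h
    · exact (hP₀ (by rw [Subgroup.card_eq_one.1 h]; infer_instance)).elim
    · exact h.trans (card_subgroup_dvd_card _)
  have hp2 : p ≠ 2 := by
    intro e
    subst e
    refine hnc P₀ ?_
    have hmin : (Nat.card G).minFac = 2 := (Nat.minFac_eq_two_iff _).2 hpdvd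
    exact IsCyclic.normalizer_le_centralizer hmin (hcyc _ P₀.2)
  -- no normal subgroup of order prime to `p`
  have hpcore : ∀ K : Subgroup G, K.Normal → ¬ p ∣ Nat.card K → K = ⊥ := by
    intro K hKn hKp
    by_contra hK1
    haveI := hKn
    have hlt : Nat.card (G ⧸ K) < Nat.card G := by
      have h2 := K.one_lt_card_iff_ne_bot.2 hK1
      have h3 : 0 < Nat.card (G ⧸ K) := Nat.card_pos
      rw [Subgroup.card_eq_card_quotient_mul_card_subgroup K]
      nlinarith
    have hconcl : Concl p (G ⧸ K) := by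
      refine ih _ hlt (G ⧸ K) rfl (fun Q hQ => ?_) (fun X hX => ?_)
      · obtain ⟨R, hR⟩ := hQ.exists_le_sylow
        obtain ⟨R₀, hR₀⟩ := Sylow.mapSurjective_surjective (QuotientGroup.mk'_surjective K) p R
        haveI := hcyc _ R₀.2
        haveI : IsCyclic (R : Subgroup (G ⧸ K)) := by
          rw [← hR₀]
          exact isCyclic_of_surjective ((QuotientGroup.mk' K).subgroupMap (R₀ : Subgroup G))
            ((QuotientGroup.mk' K).subgroupMap_surjective _)
        exact isCyclic_of_injective (inclusion hR) (inclusion_injective hR)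
      · have hcard : Nat.card (X.comap (QuotientGroup.mk' K)) = Nat.card K * Nat.card X := by
          rw [← Subgroup.card_mul_index (K.subgroupOf (X.comap (QuotientGroup.mk' K))),
            Nat.card_congr (subgroupOfEquivOfLe (QuotientGroup.le_comap_mk' K X)).toEquiv]
          congr 1
          have e : K.subgroupOf (X.comap (QuotientGroup.mk' K)) =
              ((QuotientGroup.mk' K).subgroupComap X).ker := by
            ext z
            rw [mem_subgroupOf, MonoidHom.mem_ker, Subtype.ext_iff]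
            exact (QuotientGroup.eq_one_iff _).symm
          rw [e, Subgroup.index_ker, MonoidHom.range_eq_top.2
            ((QuotientGroup.mk' K).subgroupComap_surjective_of_surjective X (QuotientGroup.mk'_surjective K)),
            Subgroup.card_top]
        haveI := hab (X.comap (QuotientGroup.mk' K)) (by
          rw [hcard]; exact fun h => (hp.out.dvd_mul.1 h).elim hKp hX)
        refine ⟨⟨fun a b => ?_⟩⟩
        obtain ⟨a', rfl⟩ := (QuotientGroup.mk' K).subgroupComap_surjective_of_surjective X (QuotientGroup.mk'_surjective K) a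
        obtain ⟨b', rfl⟩ := (QuotientGroup.mk' K).subgroupComap_surjective_of_surjective X (QuotientGroup.mk'_surjective K) b
        rw [← map_mul, ← map_mul, mul_comm' a' b']
    rcases hconcl with h | h
    · apply hcon1
      rw [Lib.Transfer.hasNormalPComplement_iff] at h ⊢
      rw [← Lib.Transfer.map_pResidual_of_surjective (QuotientGroup.mk' K) (QuotientGroup.mk'_surjective K)] at h
      intro hd
      obtain ⟨⟨w, hw⟩, hwo⟩ := exists_prime_orderOf_dvd_card' p hd
      rw [Subgroup.orderOf_mk] at hwo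
      apply h
      have h1 : orderOf (QuotientGroup.mk' K w) = p := by
        refine orderOf_eq_prime ?_ fun e => ?_
        · rw [← map_pow, ← hwo, pow_orderOf_eq_one, map_one]
        · have hwK : w ∈ K := (QuotientGroup.eq_one_iff w).1 e
          apply hKp
          rw [← hwo, ← Subgroup.orderOf_mk w hwK]
          exact orderOf_dvd_natCard _
      have := orderOf_dvd_natCard (⟨QuotientGroup.mk' K w, Subgroup.mem_map_of_mem (QuotientGroup.mk' K) hw⟩ :
        ↥((pResidual p G).map (QuotientGroup.mk' K)))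
      rwa [Subgroup.orderOf_mk, h1] at this
    · apply hP₀
      set P₁ := P₀.mapSurjective (QuotientGroup.mk'_surjective K) with hP₁
      haveI hn1 : ((P₀ : Subgroup G).map (QuotientGroup.mk' K)).Normal := h P₁
      set L := (P₀ : Subgroup G) ⊔ K with hL
      have hLn : L.Normal := by
        have := Subgroup.Normal.comap hn1 (QuotientGroup.mk' K)
        rwa [Subgroup.comap_map_eq, QuotientGroup.ker_mk'] at this
      -- Frattini
      have hfr : normalizer ((P₀ : Subgroup G) : Set G) ⊔ L = ⊤ := by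
        haveI := hLn
        have := Sylow.normalizer_sup_eq_top (P₀.subtype (le_sup_left : (P₀ : Subgroup G) ≤ L))
        rwa [Sylow.coe_subtype, map_subgroupOf_eq_of_le le_sup_left] at this
      have hNK : normalizer ((P₀ : Subgroup G) : Set G) ⊔ K = ⊤ := by
        rw [eq_top_iff, ← hfr]
        exact sup_le le_sup_left (sup_le (le_normalizer.trans le_sup_left) le_sup_right)
      -- a complement of `P₀` in its normalizer centralizes `K`
      set C := centralizer (K : Set G) with hC
      obtain ⟨a, haN, hao, haC⟩ : ∃ a ∈ normalizer ((P₀ : Subgroup G) : Set G), ¬ p ∣ orderOf a ∧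
          a ∉ centralizer ((P₀ : Subgroup G) : Set G) := by
        by_contra hall
        push Not at hall
        refine hnc P₀ fun g hg => mem_of_parts hp.out _ _ hall (fun b hb hbk => ?_) hg
        haveI := hcyc _ P₀.2
        rw [mem_centralizer_iff]
        intro w hw
        exact congrArg Subtype.val (mul_comm' (⟨w, hw⟩ : (P₀ : Subgroup G)) ⟨b, mem_sylow_of_normalizer P₀ hb hbk⟩)
      have haK : a ∈ C := by
        have hT := not_dvd_sup (A := zpowers a) (B := K) ((Subgroup.normalizer_eq_top (H := K)).symm ▸ le_top)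
          (not_dvd_zpowers hao) hKp
        haveI := hab _ hT
        rw [hC, mem_centralizer_iff]
        intro z hz
        exact congrArg Subtype.val (mul_comm' (⟨z, mem_sup_right hz⟩ : ↥(zpowers a ⊔ K))
          ⟨a, mem_sup_left (mem_zpowers a)⟩)
      haveI hCn : C.Normal := by rw [hC]; infer_instance
      have hPC : (P₀ : Subgroup G) ≤ C := by
        haveI := hcyc _ P₀.2
        let f : ↥(P₀ : Subgroup G) → ↥(P₀ : Subgroup G) := fun y =>
          ⟨a * (y : G) * a⁻¹ * (y : G)⁻¹, mul_mem ((mem_normalizer_iff.1 haN y).1 y.2) (inv_mem y.2)⟩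
        have hf : Function.Injective f := by
          intro y z e
          by_contra hne
          have e' : a * (y : G) * a⁻¹ * (y : G)⁻¹ = a * (z : G) * a⁻¹ * (z : G)⁻¹ := congrArg Subtype.val e
          apply haC
          refine cent_of_fix P₀ haN (mul_mem (inv_mem z.2) y.2) (fun h => hne (Subtype.ext (inv_mul_eq_one.1 h).symm)) ?_
          have hcomm : (y : G)⁻¹ * (z : G) = (z : G) * (y : G)⁻¹ :=
            congrArg Subtype.val (mul_comm' y⁻¹ z)
          calc a * ((z : G)⁻¹ * y) = (a * (z : G) * a⁻¹)⁻¹ * (a * y * a⁻¹ * (y : G)⁻¹) * (y : G) * a := by group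
            _ = (a * (z : G) * a⁻¹)⁻¹ * (a * z * a⁻¹ * (z : G)⁻¹) * (y : G) * a := by rw [e']
            _ = (z : G)⁻¹ * y * a := by group
        intro w hw
        obtain ⟨y, hy⟩ := (Finite.injective_iff_bijective.1 hf).2 ⟨w, hw⟩
        have hy' : a * (y : G) * a⁻¹ * (y : G)⁻¹ = w := congrArg Subtype.val hy
        rw [← hy', show a * (y : G) * a⁻¹ * (y : G)⁻¹ = a * ((y : G) * a⁻¹ * (y : G)⁻¹) by group]
        exact mul_mem haK (hCn.conj_mem _ (inv_mem haK) y)
      have hKN : K ≤ normalizer ((P₀ : Subgroup G) : Set G) := (fun k hk => centralizer_le_normalizer _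
        (mem_centralizer_iff.2 fun z hz => (mem_centralizer_iff.1 (hPC hz) k hk).symm))
      rw [sup_eq_left.2 hKN] at hNK
      exact normalizer_eq_top_iff.1 hNK
  -- no normal `p`-subgroup
  have hpsub : ∀ Z : Subgroup G, Z.Normal → IsPGroup p Z → Z = ⊥ := by
    intro Z hZn hZp
    by_contra hZ1
    obtain ⟨R, hR⟩ := hZp.exists_le_sylow
    haveI := hcyc _ R.2
    obtain ⟨z, hz, hz1⟩ := Z.bot_or_exists_ne_one.resolve_left hZ1
    set C := centralizer (Z : Set G)
    haveI : C.Normal := by haveI := hZn; infer_instance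
    have hRC : (R : Subgroup G) ≤ C := fun r hr => mem_centralizer_iff.2 fun w hw =>
      congrArg Subtype.val (mul_comm' (⟨w, hR hw⟩ : (R : Subgroup G)) ⟨r, hr⟩)
    by_cases hCtop : C = ⊤
    · exact hnc R fun g hg => cent_of_fix R hg (hR hz) hz1
        ((mem_centralizer_iff.1 (hCtop ▸ mem_top g : g ∈ C) z hz).symm)
    · rcases hsub0 C hCtop with h | h
      · obtain ⟨K, hK, hKc⟩ := (Lib.Transfer.hasNormalPComplement_iff_forall.1 h) (R.subtype hRC)
        have hKp : ¬ p ∣ Nat.card K := by
          rw [← hKc.index_eq_card]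
          exact (R.subtype hRC).not_dvd_index
        have hKmem : ∀ x : C, x ∈ K ↔ ¬ p ∣ orderOf x := by
          intro x
          refine ⟨fun hx hd => hKp ?_, fun hx => ?_⟩
          · rw [← Subgroup.orderOf_mk x hx] at hd
            exact hd.trans (orderOf_dvd_natCard _)
          · have hq : IsPGroup p (C ⧸ K) := by
              obtain ⟨n, hn⟩ := IsPGroup.iff_card.mp (R.subtype hRC).2
              exact IsPGroup.of_card (n := n) (by rw [← index_eq_card, hKc.symm.index_eq_card, hn])
            exact Lib.Transfer.pResidual_le hq (Lib.Transfer.mem_pResidual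
              ((hp.out.coprime_iff_not_dvd.2 hx).symm))
        have hKn : (K.map C.subtype).Normal := by
          refine ⟨fun x hx g => ?_⟩
          obtain ⟨⟨v, hv⟩, hvK, rfl⟩ := hx
          have hgv : g * v * g⁻¹ ∈ C := ‹C.Normal›.conj_mem v hv g
          refine ⟨⟨g * v * g⁻¹, hgv⟩, (hKmem _).2 ?_, rfl⟩
          have := (hKmem _).1 hvK
          rw [Subgroup.orderOf_mk] at this ⊢
          rwa [Lib.Involution.orderOf_conj]
        have hb := hpcore _ hKn (by rwa [Nat.card_congr (equivMapOfInjective K _ C.subtype_injective).toEquiv.symm])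
        rw [Subgroup.map_eq_bot_iff, Subgroup.ker_subtype, le_bot_iff] at hb
        rw [hb, Subgroup.isComplement'_bot_left, Sylow.coe_subtype, subgroupOf_eq_top] at hKc
        have hCR : C = (R : Subgroup G) := le_antisymm hKc hRC
        have hRn : (R : Subgroup G).Normal := hCR ▸ ‹C.Normal›
        obtain ⟨g, hg⟩ := MulAction.exists_smul_eq G R P₀
        apply hP₀
        have : R = P₀ := by
          rw [← hg]
          exact (Sylow.smul_eq_iff_mem_normalizer.2 ((normalizer_eq_top_iff.2 hRn).symm ▸ mem_top g)).symm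
        exact this ▸ hRn
      · have hRn : ((R : Subgroup G).subgroupOf C).Normal := h (R.subtype hRC)
        have htop := Sylow.normalizer_sup_eq_top (R.subtype hRC)
        rw [Sylow.coe_subtype, map_subgroupOf_eq_of_le hRC,
          sup_eq_left.2 ((normal_subgroupOf_iff_le_normalizer hRC).1 hRn)] at htop
        obtain ⟨g, hg⟩ := MulAction.exists_smul_eq G R P₀
        apply hP₀
        have : R = P₀ := by
          rw [← hg]
          exact (Sylow.smul_eq_iff_mem_normalizer.2 (htop ▸ mem_top g)).symm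
        exact this ▸ normalizer_eq_top_iff.1 htop
  have hncomm : ¬ ∀ a b : G, a * b = b * a := fun h => hP₀ ⟨fun x hx g => by
    rw [h g x, mul_inv_cancel_right]; exact hx⟩
  have hsimple : IsSimpleGroup G := by
    haveI : Nontrivial G := by
      by_contra hnt
      rw [not_nontrivial_iff_subsingleton] at hnt
      exact hncomm fun a b => Subsingleton.elim _ _
    refine ⟨fun M hM => ?_⟩
    by_contra hcase
    push Not at hcase
    obtain ⟨hM1, hM2⟩ := hcase
    obtain ⟨Q⟩ : Nonempty (Sylow p M) := inferInstance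
    have hMn := hM
    rcases hsub0 M hM2 with h | h
    · obtain ⟨K, hK, hKc⟩ := (Lib.Transfer.hasNormalPComplement_iff_forall.1 h) Q
      have hKp : ¬ p ∣ Nat.card K := by
        rw [← hKc.index_eq_card]
        exact Q.not_dvd_index
      have hKmem : ∀ x : M, x ∈ K ↔ ¬ p ∣ orderOf x := by
        intro x
        refine ⟨fun hx hd => hKp ?_, fun hx => ?_⟩
        · rw [← Subgroup.orderOf_mk x hx] at hd
          exact hd.trans (orderOf_dvd_natCard _)
        · have hq : IsPGroup p (M ⧸ K) := by
            obtain ⟨n, hn⟩ := IsPGroup.iff_card.mp Q.2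
            exact IsPGroup.of_card (n := n) (by rw [← index_eq_card, hKc.symm.index_eq_card, hn])
          exact Lib.Transfer.pResidual_le hq (Lib.Transfer.mem_pResidual
            ((hp.out.coprime_iff_not_dvd.2 hx).symm))
      have hKn : (K.map M.subtype).Normal := by
        refine ⟨fun x hx g => ?_⟩
        obtain ⟨⟨v, hv⟩, hvK, rfl⟩ := hx
        refine ⟨⟨g * v * g⁻¹, hMn.conj_mem v hv g⟩, (hKmem _).2 ?_, rfl⟩
        have := (hKmem _).1 hvK
        rw [Subgroup.orderOf_mk] at this ⊢
        rwa [Lib.Involution.orderOf_conj]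
      have hb := hpcore _ hKn (by rwa [Nat.card_congr (equivMapOfInjective K _ M.subtype_injective).toEquiv.symm])
      rw [Subgroup.map_eq_bot_iff, Subgroup.ker_subtype, le_bot_iff] at hb
      rw [hb, Subgroup.isComplement'_bot_left] at hKc
      have hMp : IsPGroup p M := (Q.2.of_equiv (MulEquiv.subgroupCongr hKc)).of_equiv Subgroup.topEquiv
      exact hM1 (hpsub M hM hMp)
    · haveI hQn := h Q
      haveI := hM
      have hZn : ((Q : Subgroup M).map M.subtype).Normal := by
        haveI := Sylow.characteristic_of_normal Q hQn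
        exact ConjAct.normal_of_characteristic_of_normal
      have hb := hpsub _ hZn (Q.2.map _)
      rw [Subgroup.map_eq_bot_iff, Subgroup.ker_subtype, le_bot_iff] at hb
      have hMp : ¬ p ∣ Nat.card M := fun hd => Q.ne_bot_of_dvd_card hd hb
      exact hM1 (hpcore M hM hMp)
  exact simple_false (G := G) ⟨hp2, hsimple, hncomm, hcyc, hab, hsub, hnc⟩

/-- Let G be a finite group and p a prime such that a Sylow p-subgroup P of G is cyclic and every subgroup of G of order prime to p is abelian. Then G has a normal p-complement or P is normal in G. -/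
theorem result {G : Type*} [Group G] [Finite G] {p : ℕ}
    [Fact p.Prime] (P : Sylow p G) (hcyc : IsCyclic P)
    (hab : ∀ H : Subgroup G, ¬ p ∣ Nat.card H → IsMulCommutative H) :
    Cfsg.HasNormalPComplement p G ∨ (P : Subgroup G).Normal := by
  refine (main _ G rfl (fun Q hQ => ?_) hab).imp_right fun h => h P
  obtain ⟨R, hR⟩ := hQ.exists_le_sylow
  obtain ⟨g, hg⟩ := MulAction.exists_smul_eq G P R
  haveI : IsCyclic (R : Subgroup G) := by
    rw [← hg]
    exact isCyclic_of_surjective _ (P.equiv (g • P)).surjective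
  exact isCyclic_of_injective (inclusion hR) (inclusion_injective hR)

end Cfsg.Agent.S4016
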