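import Cfsg.Statements.S4017
import Cfsg.Agent.Lib.Mixed.Final
-- import your own Cfsg.Agent.* helpers here

set_option autoImplicit false
open Cfsg

namespace Cfsg.Agent.S4017

universe u

open Cfsg.Agent.Lib Cfsg.Agent.Lib.Mixed in
theorem main : ∀ (N : ℕ) (G : Type u) [Group G] [Finite G], Nat.card G = N → ∀ {p q : ℕ}, p.Prime → q.Prime → p ≠ q →
    p ≠ 2 → p ∣ Nat.card G → q ∣ Nat.card G → MixHyp p q G →
    (q ^ (Nat.card G).factorization q - 1 < p ∨
      (p = q ^ (Nat.card G).factorization q - 1 ∧ ∀ P : Sylow p G, IsMulCommutative P)) →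
    ∀ r : ℕ, r.Prime → r ∣ Nat.card G → r = p ∨ r = q := by
  intro N
  induction N using Nat.strong_induction_on with
  | _ N ih =>
  intro G _ _ hN p q hp hq hpq hp2 hpG hqG hmix hlarge
  by_contra! hcon
  obtain ⟨r, hr, hrG, hrp, hrq⟩ := hcon
  haveI := Fact.mk hp
  haveI := Fact.mk hq
  have noV : ∀ {U : Subgroup G} {l : ℕ}, l.Prime → l ≠ p → l ≠ q → ∀ y : G, y ∈ Subgroup.normalizer (U : Set G) →
      ((IsPGroup q U ∧ U ≠ ⊥ ∧ orderOf y = l) ∨ (IsPGroup l U ∧ U ≠ ⊥ ∧ orderOf y = q)) → False := by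
    intro U l hl hlp hlq y hy hcase
    haveI := Fact.mk hl
    set V := U ⊔ Subgroup.zpowers y
    have hyV : orderOf y ∣ Nat.card V := Subgroup.orderOf_dvd_natCard V (Subgroup.mem_sup_right (Subgroup.mem_zpowers y))
    have hUV : Nat.card U ∣ Nat.card V := Subgroup.card_dvd_of_le le_sup_left
    rcases hcase with ⟨hU, hU1, ho⟩ | ⟨hU, hU1, ho⟩
    · have hqV : q ∣ Nat.card V := (hU.card_eq_or_dvd.resolve_left (by rwa [Subgroup.card_eq_one])).trans hUV
      obtain ⟨k, hk⟩ := IsPGroup.iff_card.1 hU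
      have hd := ThreeTr.Triple.card_sup_zpowers_dvd U y hy (n := l) (by rw [← ho, pow_orderOf_eq_one])
      rw [hk] at hd
      rcases hp.dvd_mul.1 ((hmix V (fun h => by
        obtain ⟨m, hm⟩ := IsPGroup.iff_card.1 h
        rw [ho, hm] at hyV
        exact hlq ((Nat.prime_dvd_prime_iff_eq hl hq).1 (hl.dvd_of_dvd_pow hyV))) hqV).trans hd) with h | h
      · exact hpq ((Nat.prime_dvd_prime_iff_eq hp hq).1 (hp.dvd_of_dvd_pow h))
      · exact hlp ((Nat.prime_dvd_prime_iff_eq hp hl).1 h).symm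
    · have hlV : l ∣ Nat.card V := (hU.card_eq_or_dvd.resolve_left (by rwa [Subgroup.card_eq_one])).trans hUV
      obtain ⟨k, hk⟩ := IsPGroup.iff_card.1 hU
      have hd := ThreeTr.Triple.card_sup_zpowers_dvd U y hy (n := q) (by rw [← ho, pow_orderOf_eq_one])
      rw [hk] at hd
      rcases hp.dvd_mul.1 ((hmix V (fun h => by
        obtain ⟨m, hm⟩ := IsPGroup.iff_card.1 h
        rw [hm] at hlV
        exact hlq ((Nat.prime_dvd_prime_iff_eq hl hq).1 (hl.dvd_of_dvd_pow hlV))) (ho ▸ hyV)).trans hd) with h | h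
      · exact hlp ((Nat.prime_dvd_prime_iff_eq hp hl).1 (hp.dvd_of_dvd_pow h)).symm
      · exact hpq ((Nat.prime_dvd_prime_iff_eq hp hq).1 h)
  by_cases hA : ∀ U : Subgroup G, IsPGroup q U → Transfer.AutPGroup q U
  · obtain ⟨P, K, hK, hc⟩ := Transfer.frobenius_criterion hA
    haveI := hK
    haveI := Fact.mk hr
    have hqK : ¬ q ∣ Nat.card K := fun h => by
      have h2 := hc.index_eq_card
      exact P.not_dvd_index (h2 ▸ h)
    have hrK : r ∣ Nat.card K := by
      rw [← hc.card_mul] at hrG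
      refine (hr.dvd_mul.1 hrG).resolve_right fun h => ?_
      obtain ⟨m, hm⟩ := IsPGroup.iff_card.1 P.2
      rw [hm] at h
      exact hrq ((Nat.prime_dvd_prime_iff_eq hr hq).1 (hr.dvd_of_dvd_pow h))
    obtain ⟨R⟩ : Nonempty (Sylow r K) := inferInstance
    obtain ⟨y, hy⟩ := exists_prime_orderOf_dvd_card' q (dvd_card_of_sup hq hqG (Sylow.normalizer_sup_eq_top R) hqK)
    exact noV hr hrp hrq (y : G) y.2 (Or.inr ⟨R.2.map K.subtype, fun h => R.ne_bot_of_dvd_card hrK
      ((Subgroup.map_eq_bot_iff_of_injective _ K.subtype_injective).1 h), by rw [Subgroup.orderOf_coe, hy]⟩)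
  simp only [Transfer.AutPGroup, not_forall] at hA
  obtain ⟨U, hU, g, hg, hgo, hgc⟩ := hA
  have hU1 : U ≠ ⊥ := fun h => hgc (Subgroup.mem_centralizer_iff.2 fun s hs => by
    rw [h] at hs
    rw [Subgroup.mem_bot.1 hs, one_mul, mul_one])
  have hgp : ∀ {l : ℕ}, l.Prime → l ∣ orderOf g → l = p := by
    intro l hl hd
    by_contra hlp
    have hlq : l ≠ q := fun h => by
      subst h
      exact hl.not_dvd_one (hgo ▸ Nat.dvd_gcd hd dvd_rfl)
    obtain ⟨j, hj⟩ := hd
    have hj0 : j ≠ 0 := fun h => by rw [h, mul_zero] at hj; exact (orderOf_pos g).ne' hj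
    refine noV hl hlp hlq (g ^ j) (pow_mem hg j) (Or.inl ⟨hU, hU1, ?_⟩)
    rw [orderOf_pow_of_dvd hj0 ⟨l, by rw [hj, mul_comm]⟩, hj, Nat.mul_div_cancel _ (Nat.pos_of_ne_zero hj0)]
  obtain ⟨n, hn⟩ : ∃ n, g ^ p ^ n = 1 := ⟨_, by
    rw [← Nat.eq_prime_pow_of_unique_prime_dvd (orderOf_pos g).ne' hgp]; exact pow_orderOf_eq_one g⟩
  obtain ⟨t, ht, hne⟩ : ∃ t ∈ U, g * t * g⁻¹ ≠ t := by
    by_contra! h
    exact hgc (Subgroup.mem_centralizer_iff.2 fun s hs => (mul_inv_eq_iff_eq_mul.1 (h s hs)).symm)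
  have hmv := (move hn hg ht hne).1
  have hUle : Nat.card U ∣ q ^ (Nat.card G).factorization q := by
    obtain ⟨k, hk⟩ := IsPGroup.iff_card.1 hU
    rw [hk]
    exact Nat.pow_dvd_pow q ((hq.pow_dvd_iff_le_factorization Nat.card_pos.ne').1 (hk ▸ Subgroup.card_subgroup_dvd_card U))
  have hle := Nat.le_of_dvd (Nat.pow_pos hq.pos) hUle
  rcases hlarge with hlt | ⟨hpe, hab⟩
  · omega
  have hUc : Nat.card U = p + 1 := by omega
  have hsyl : ∀ Q : Sylow q G, Nat.card (Q : Subgroup G) = p + 1 := fun Q => by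
    rw [Q.card_eq_multiplicity]; omega
  have hq2 : q = 2 := by
    have h2 : 2 ∣ q ^ (Nat.card G).factorization q := by
      rw [show q ^ (Nat.card G).factorization q = p + 1 by omega]
      exact even_iff_two_dvd.1 ((hp.odd_of_ne_two hp2).add_one)
    exact ((Nat.prime_dvd_prime_iff_eq Nat.prime_two hq).1 (Nat.prime_two.dvd_of_dvd_pow h2)).symm
  subst hq2
  have hc : Ctx p G := by
    refine ⟨hp2, hmix, hsyl, hab, fun H hH h2 s hs hd => ?_, ⟨r, hr, hrq, hrp, hrG⟩, fun Q => ?_⟩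
    · by_cases hH2 : IsPGroup 2 H
      · obtain ⟨m, hm⟩ := IsPGroup.iff_card.1 hH2
        rw [hm] at hd
        exact Or.inl ((Nat.prime_dvd_prime_iff_eq hs Nat.prime_two).1 (hs.dvd_of_dvd_pow hd))
      have hlt : Nat.card H < N := hN ▸ lt_of_le_of_ne (Subgroup.card_le_card_group H)
        (fun h => hH (Subgroup.eq_top_of_card_eq H h))
      have hfac : 2 ^ (Nat.card H).factorization 2 ≤ p + 1 := by
        refine (Nat.le_of_dvd (Nat.pow_pos hq.pos) (Nat.pow_dvd_pow 2 ((Nat.prime_two.pow_dvd_iff_le_factorization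
          Nat.card_pos.ne').1 ((Nat.ordProj_dvd (Nat.card H) 2).trans (Subgroup.card_subgroup_dvd_card H))))).trans ?_
        omega
      have hl : 2 ^ (Nat.card H).factorization 2 - 1 < p ∨
          (p = 2 ^ (Nat.card H).factorization 2 - 1 ∧ ∀ P : Sylow p H, IsMulCommutative P) := by
        have hpos : 0 < 2 ^ (Nat.card H).factorization 2 := Nat.pow_pos (by norm_num)
        rcases Nat.lt_or_ge (2 ^ (Nat.card H).factorization 2) (p + 1) with h | h
        · left; omega
        refine Or.inr ⟨by omega, fun P => ?_⟩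
        obtain ⟨P', hP'⟩ := (P.2.map H.subtype).exists_le_sylow
        haveI := hab P'
        refine ⟨⟨fun a b => Subtype.ext (Subtype.ext ?_)⟩⟩
        have := congrArg Subtype.val ((IsMulCommutative.is_comm (M := (P' : Subgroup G))).comm
          ⟨((a : H) : G), hP' (Subgroup.mem_map_of_mem _ a.2)⟩ ⟨((b : H) : G), hP' (Subgroup.mem_map_of_mem _ b.2)⟩)
        exact this
      exact (ih _ hlt H rfl hp hq hpq hp2 (hmix H hH2 h2) h2 (hmix.subgroup H) hl s hs hd).symm
    · obtain ⟨Q₀, hQ₀⟩ := hU.exists_le_sylow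
      have hUQ : U = (Q₀ : Subgroup G) := Subgroup.eq_of_le_of_card_ge hQ₀ (by rw [hsyl Q₀, hUc])
      obtain ⟨e, he⟩ := MulAction.exists_smul_eq G Q₀ Q
      refine ⟨e * g * e⁻¹, e * t * e⁻¹, n, pPow_conj e hn, ?_, he ▸ conj_mem_smul e (hUQ ▸ ht), fun h => hne ?_⟩
      · refine Sylow.smul_eq_iff_mem_normalizer.1 ?_
        rw [← he, ← mul_smul, show e * g * e⁻¹ * e = e * g by group, mul_smul,
          Sylow.smul_eq_iff_mem_normalizer.2 (show g ∈ Subgroup.normalizer ((Q₀ : Subgroup G) : Set G) by rw [← hUQ]; exact hg)]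
      · calc g * t * g⁻¹ = e⁻¹ * (e * g * e⁻¹ * (e * t * e⁻¹) * (e * g * e⁻¹)⁻¹) * e := by group
          _ = t := by rw [h]; group
  exact hc.false

/-- Let G be a finite group and let p and q be distinct primes dividing the order of G, with p odd. Suppose that p divides the order of every proper subgroup of G that is neither a q-group nor of order prime to q. Let q^a be the q-part of the order of G. If p > q^a − 1, or if p = q^a − 1 and the Sylow p-subgroups of G are abelian, then p and q are the only primes dividing the order of G. -/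
theorem result {G : Type*} [Group G] [Finite G]
    {p q : ℕ} (hp : p.Prime) (hq : q.Prime) (hpq : p ≠ q) (hp2 : p ≠ 2)
    (hpG : p ∣ Nat.card G) (hqG : q ∣ Nat.card G)
    (hmix : ∀ H : Subgroup G, H ≠ ⊤ → ¬ IsPGroup q H → q ∣ Nat.card H → p ∣ Nat.card H)
    (hlarge : q ^ (Nat.card G).factorization q - 1 < p ∨
      (p = q ^ (Nat.card G).factorization q - 1 ∧ ∀ P : Sylow p G, IsMulCommutative P)) :
    ∀ r : ℕ, r.Prime → r ∣ Nat.card G → r = p ∨ r = q := by
  refine main (Nat.card G) G rfl hp hq hpq hp2 hpG hqG (fun H hH hd => ?_) hlarge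
  by_cases hT : H = ⊤
  · rw [hT, Subgroup.card_top]; exact hpG
  · exact hmix H hT hH hd

end Cfsg.Agent.S4017
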