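import Cfsg.Statements.S4018
import Cfsg.Agent.Lib.GS.SmallThreeCount
import Cfsg.Agent.Lib.Char.ThreeTI
import Cfsg.Agent.Lib.Block.Exist

set_option autoImplicit false
open Cfsg

namespace Cfsg.Agent.S4018

open Cfsg.Agent.Lib Cfsg.Agent.Lib.Char Cfsg.Agent.Lib.GS.SmallThree
open scoped ComplexConjugate

universe u

/-- The final arithmetic. -/
theorem arith_false {q n : ℕ} {X s : ℤ} (hq : 9 ≤ q) (hqo : Odd q) (hn2 : ¬ 2 ∣ n)
    (hnq : Nat.Coprime n q) (hn : n + 2 * q ≤ 4 * q ^ 2 + 1) (hX : X ≠ 0) (hX1 : X + 1 ≠ 0)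
    (hs : ((q : ℤ) - 1) * (1 + s) ^ 2 ≤ 8 * q)
    (heq : (X - s) ^ 2 * n = 8 * (q : ℤ) ^ 2 * (X * (X + 1))) : False := by
  have hs' : (1 + s) ^ 2 ≤ 9 := by
    by_contra h
    push Not at h
    have : (8 : ℤ) * q + 2 ≤ ((q : ℤ) - 1) * 10 := by
      have : (9 : ℤ) ≤ q := by exact_mod_cast hq
      linarith
    nlinarith
  have hs1 : -4 ≤ s := by nlinarith
  have hs2 : s ≤ 2 := by nlinarith
  obtain ⟨w, hw⟩ : ∃ w, X - s = w := ⟨_, rfl⟩
  rw [hw] at heq
  have hnat : (w.natAbs) ^ 2 * n = 8 * q ^ 2 * (X * (X + 1)).natAbs := by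
    have := congrArg Int.natAbs heq
    simpa [Int.natAbs_mul, Int.natAbs_pow] using this
  have hcop : Nat.Coprime (8 * q ^ 2) n := by
    refine Nat.Coprime.mul_left ?_ (Nat.Coprime.pow_left 2 hnq.symm)
    rw [show (8 : ℕ) = 2 ^ 3 by norm_num]
    exact Nat.Coprime.pow_left 3 ((Nat.prime_two.coprime_iff_not_dvd).2 hn2)
  have hd : 8 * q ^ 2 ∣ w.natAbs ^ 2 := hcop.dvd_of_dvd_mul_right ⟨_, hnat⟩
  have hqd : q ∣ w.natAbs :=
    (Nat.pow_dvd_pow_iff two_ne_zero).1 ((dvd_mul_left _ _).trans hd)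
  obtain ⟨r, hr⟩ := hqd
  have h8 : 8 ∣ r ^ 2 := by
    rw [hr, mul_pow, mul_comm 8] at hd
    exact (Nat.mul_dvd_mul_iff_left (by positivity)).1 hd
  have h2 : 2 ∣ r := Nat.prime_two.dvd_of_dvd_pow ((by norm_num : 2 ∣ 8).trans h8)
  obtain ⟨r', rfl⟩ := h2
  have h2' : 2 ∣ r' := by
    rw [mul_pow, show (8 : ℕ) = 2 ^ 2 * 2 by norm_num] at h8
    exact Nat.prime_two.dvd_of_dvd_pow ((Nat.mul_dvd_mul_iff_left (by norm_num)).1 h8)
  obtain ⟨i₀, rfl⟩ := h2'
  obtain ⟨i, hi⟩ : ∃ i : ℤ, w = 4 * q * i := by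
    rcases Int.natAbs_eq w with h | h
    · exact ⟨i₀, by rw [h, hr]; push_cast; ring⟩
    · exact ⟨-i₀, by rw [h, hr]; push_cast; ring⟩
  have hq0 : (q : ℤ) ≠ 0 := by have : q ≠ 0 := by omega
                               exact_mod_cast this
  have e : 2 * i ^ 2 * (n : ℤ) = X * (X + 1) := by
    have h8q : (8 : ℤ) * (q : ℤ) ^ 2 ≠ 0 := by positivity
    refine mul_left_cancel₀ h8q ?_
    rw [← heq, hi]; ring
  have hi0 : i ≠ 0 := by
    rintro rfl
    have : X * (X + 1) = 0 := by rw [← e]; ring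
    rcases mul_eq_zero.1 this with h | h
    · exact hX h
    · exact hX1 h
  have hnb : (n : ℤ) + 2 * q ≤ 4 * (q : ℤ) ^ 2 + 1 := by exact_mod_cast hn
  have hq9 : (9 : ℤ) ≤ q := by exact_mod_cast hq
  have hup : 2 * i ^ 2 * (n : ℤ) ≤ 8 * (q : ℤ) ^ 2 * i ^ 2 := by
    have : (n : ℤ) ≤ 4 * (q : ℤ) ^ 2 := by linarith
    nlinarith [sq_nonneg i]
  have hXe : X = 4 * q * i + s := by linarith
  rw [e, hXe] at hup
  rcases lt_or_gt_of_ne hi0 with hneg | hpos
  · have hi1 : i ≤ -1 := by omega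
    have hA : 4 * (q : ℤ) * i + s + 1 ≤ 4 * (q : ℤ) * i + 4 := by linarith
    have hB : 4 * (q : ℤ) * i + 4 ≤ 0 := by nlinarith
    have hp : (4 * (q : ℤ) * i + 4) ^ 2 ≤ (4 * q * i + s) * (4 * q * i + s + 1) := by nlinarith
    have hqi : (q : ℤ) * i ≤ -9 := by nlinarith
    nlinarith
  · have hi1 : 1 ≤ i := by omega
    have hA : 4 * (q : ℤ) * i - 4 ≤ 4 * (q : ℤ) * i + s := by linarith
    have hB : 0 ≤ 4 * (q : ℤ) * i - 4 := by nlinarith
    have hp : (4 * (q : ℤ) * i - 4) ^ 2 ≤ (4 * q * i + s) * (4 * q * i + s + 1) := by nlinarith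
    have hqi : (9 : ℤ) ≤ (q : ℤ) * i := by nlinarith
    nlinarith

/-- The case `|P| = 3`. -/
theorem three_false {G : Type u} [Group G] [Finite G] {P : Sylow 3 G} (h : Hyp P)
    (hq : Nat.card P = 3) : False := by
  have hle := h.index_le
  rw [hq] at hle
  set N := Subgroup.normalizer ((P : Subgroup G) : Set G) with hN
  have hs := h.simp
  have hcard : Nat.card G = 12 * N.index := by rw [← N.card_mul_index, h.cardN, hq]
  have hn3 : N.index % 3 = 1 := by
    have := card_sylow_modEq_one 3 G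
    rw [Sylow.card_eq_index_normalizer P] at this
    exact this
  have hn2 : ¬ 2 ∣ N.index := by
    intro h2
    haveI : Fact (Nat.Prime 2) := ⟨Nat.prime_two⟩
    obtain ⟨S⟩ : Nonempty (Sylow 2 G) := inferInstance
    have h4 := h.card_sylow_two S
    have h8 : 2 ^ 3 ∣ Nat.card G := by
      obtain ⟨c, hc⟩ := h2
      exact ⟨3 * c, by rw [hcard, hc]; ring⟩
    have := Nat.pow_dvd_pow 2 ((Nat.prime_two.pow_dvd_iff_le_factorization Nat.card_pos.ne').1 h8)
    rw [← S.card_eq_multiplicity] at this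
    change 2 ^ 3 ∣ Nat.card S at this
    rw [h4] at this
    omega
  have hn1 : N.index ≠ 1 := fun e => h.N_ne_top (Subgroup.index_eq_one.1 e)
  have hle' : N.index ≤ 31 := by omega
  -- a prime `r` dividing the index, whose Sylow number is at most twelve
  have key : ∀ (r : ℕ) [Fact r.Prime], r ∣ N.index → ∀ R : Sylow r G,
      Nat.card (Sylow r G) ∣ Nat.card G ∧ ¬ r ∣ Nat.card (Sylow r G) ∧
        Nat.card (Sylow r G) ≠ 1 := by
    intro r _ hr R
    refine ⟨R.card_dvd_index.trans (Subgroup.index_dvd_card _), not_dvd_card_sylow r G, fun e => ?_⟩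
    haveI : (R : Subgroup G).Normal := by
      rw [← Subgroup.normalizer_eq_top_iff, ← Subgroup.index_eq_one]
      exact (Sylow.card_eq_index_normalizer R).symm.trans e
    have hne : Nat.card (R : Subgroup G) ≠ 1 := by
      intro e1
      have hr' : r ∣ Nat.card G := hr.trans (Subgroup.index_dvd_card _)
      have := R.dvd_card_of_dvd_card hr'
      rw [e1] at this
      exact (Fact.out : r.Prime).one_lt.ne' (Nat.dvd_one.1 this)
    rcases IsSimpleGroup.eq_bot_or_eq_top_of_normal (R : Subgroup G) inferInstance with hb | ht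
    · exact hne (by rw [hb, Subgroup.card_bot])
    · obtain ⟨j, hj⟩ := IsPGroup.iff_card.1 R.2
      have h2 : 2 ∣ Nat.card G := ⟨6 * N.index, by rw [hcard]; ring⟩
      rw [ht, Subgroup.card_top] at hj
      rw [hj] at h2
      have := (Nat.prime_dvd_prime_iff_eq Nat.prime_two Fact.out).1 (Nat.prime_two.dvd_of_dvd_pow h2)
      exact hn2 (this ▸ hr)
  have prime_case : ∀ (r : ℕ) [Fact r.Prime], 13 ≤ r + 6 → N.index = r →
      (∀ d, d ∣ 12 → d % r = 1 → d = 1) → False := by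
    intro r _ hr hi hd
    obtain ⟨R⟩ : Nonempty (Sylow r G) := inferInstance
    obtain ⟨h1, h2, h3⟩ := key r (hi ▸ dvd_rfl) R
    refine h3 (hd _ ?_ ?_)
    · rw [hcard, hi] at h1
      exact (((Fact.out : r.Prime).coprime_iff_not_dvd).2 h2).symm.dvd_of_dvd_mul_right h1
    · have := card_sylow_modEq_one r G
      rwa [Nat.ModEq, Nat.mod_eq_of_lt (Fact.out : r.Prime).one_lt] at this
  have hd12 : ∀ d, d ∣ 12 → d = 1 ∨ d = 2 ∨ d = 3 ∨ d = 4 ∨ d = 6 ∨ d = 12 := by
    intro d hd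
    have := Nat.le_of_dvd (by norm_num) hd
    interval_cases d <;> omega
  have hcases : N.index = 7 ∨ N.index = 13 ∨ N.index = 19 ∨ N.index = 25 ∨ N.index = 31 := by omega
  rcases hcases with hi | hi | hi | hi | hi
  · haveI : Fact (Nat.Prime 7) := ⟨by norm_num⟩
    exact prime_case 7 (by norm_num) hi fun d hd e => by rcases hd12 d hd with h|h|h|h|h|h <;> omega
  · haveI : Fact (Nat.Prime 13) := ⟨by norm_num⟩
    exact prime_case 13 (by norm_num) hi fun d hd e => by rcases hd12 d hd with h|h|h|h|h|h <;> omega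
  · haveI : Fact (Nat.Prime 19) := ⟨by norm_num⟩
    exact prime_case 19 (by norm_num) hi fun d hd e => by rcases hd12 d hd with h|h|h|h|h|h <;> omega
  · haveI : Fact (Nat.Prime 5) := ⟨by norm_num⟩
    obtain ⟨R⟩ : Nonempty (Sylow 5 G) := inferInstance
    obtain ⟨h1, h2, h3⟩ := key 5 (hi ▸ by norm_num) R
    rw [hcard, hi] at h1
    have h12 : Nat.card (Sylow 5 G) ∣ 12 := by
      have hco : Nat.Coprime (Nat.card (Sylow 5 G)) 25 :=
        (((Fact.out : (5:ℕ).Prime).coprime_iff_not_dvd).2 h2).symm.pow_right 2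
      exact hco.dvd_of_dvd_mul_right h1
    have hmod := card_sylow_modEq_one 5 G
    rw [Nat.ModEq] at hmod
    have h6 : Nat.card (Sylow 5 G) = 6 := by
      rcases hd12 _ h12 with h|h|h|h|h|h <;> omega
    set M := Subgroup.normalizer ((R : Subgroup G) : Set G) with hM
    have hMi : M.index = 6 := (Sylow.card_eq_index_normalizer R).symm.trans h6
    have hMc : Nat.card M = 50 := by
      have := M.card_mul_index
      rw [hMi, hcard, hi] at this
      omega
    have hMt : M ≠ ⊤ := fun e => by rw [e, Subgroup.index_top] at hMi; omega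
    have := h.even M hMt (by rw [hMc]; norm_num)
    rw [hMc, hq] at this
    have := Nat.le_of_dvd (by norm_num) this
    omega
  · haveI : Fact (Nat.Prime 31) := ⟨by norm_num⟩
    exact prime_case 31 (by norm_num) hi fun d hd e => by rcases hd12 d hd with h|h|h|h|h|h <;> omega

theorem main {G : Type u} [Group G] [Finite G] {P : Sylow 3 G} (h : Hyp P) : False := by
  classical
  haveI := Fintype.ofFinite G
  obtain ⟨a, ha⟩ := card_P P
  rcases Nat.lt_or_ge (Nat.card P) 9 with hlt | hq9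
  · refine three_false h ?_
    have h1 := h.card_ne_one
    rw [ha] at hlt h1 ⊢
    have : a < 2 := (Nat.pow_lt_pow_iff_right (show 1 < 3 by norm_num)).1 (by simpa using hlt)
    interval_cases a <;> simp_all
  set q := Nat.card P with hq
  set t := h.t with ht
  set N := Subgroup.normalizer ((P : Subgroup G) : Set G) with hN
  set C := Subgroup.centralizer (P : Set G) with hC
  set n := N.index with hn
  obtain ⟨M, hM⟩ := Block.exists_isPModular Nat.prime_three
  haveI := hM.2.1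
  have hCN : (Subgroup.centralizer ((P : Subgroup G) : Set G)).relIndex N = 2 := by
    have h1 := (C.subgroupOf N).card_mul_index
    rw [Nat.card_congr (Subgroup.subgroupOfEquivOfLe (C_le_N P)).toEquiv, h.cardC, h.cardN,
      show 4 * Nat.card P = 2 * Nat.card P * 2 by ring] at h1
    exact Nat.eq_of_mul_eq_mul_left (Nat.mul_pos two_pos Nat.card_pos) h1
  have hfrob : ∀ y : G, y ∈ (P : Subgroup G) → y ≠ 1 → Subgroup.centralizer ({y} : Set G) ⊓ N =
      Subgroup.centralizer ((P : Subgroup G) : Set G) := fun y hy hy1 => by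
    rw [h.centralizer_of_P hy hy1]; exact inf_eq_left.2 (C_le_N P)
  obtain ⟨X, a', d, δ, ι, _, rep, μ, hδ, hμi, hμX, hmem, hrep1, huniq, htm, ht2, ha0, hone, haone,
    hXv, hYv, heq, hYreg, hrel⟩ :=
      Char.ATI.ti_principal P hM h.ab h.card_ne_one (m := 2) (by omega) hCN hfrob
  have hk4 : (4 : ℤ) ≤ Fintype.card ι := by
    have : 4 ≤ Fintype.card ι := by omega
    exact_mod_cast this
  have hs1 : 1 ≤ ∑ χ ∈ X, a' χ ^ 2 :=
    le_trans (by rw [haone]; norm_num)
      (Finset.single_le_sum (f := fun χ => a' χ ^ 2) (fun χ _ => sq_nonneg _) hone)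
  have hd0 : d = 0 := by
    by_contra hd
    have h1 : 1 ≤ d ^ 2 := sq_pos_iff.2 hd
    have h2 : (4 : ℤ) * d ^ 2 ≤ Fintype.card ι * d ^ 2 := mul_le_mul_of_nonneg_right hk4 (sq_nonneg d)
    have h3 : 2 * δ * d ≤ 1 + d ^ 2 := by
      rcases hδ with rfl | rfl
      · nlinarith [sq_nonneg (d - 1)]
      · nlinarith [sq_nonneg (d + 1)]
    push_cast at heq
    linarith
  have hrest : ∑ χ ∈ X.erase (Block.oneIrr G), a' χ ^ 2 = 1 := by
    have := Finset.add_sum_erase X (fun χ => a' χ ^ 2) hone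
    simp only [haone, one_pow] at this
    rw [hd0] at heq
    push_cast at heq
    linarith
  obtain ⟨χ, hχe⟩ : ∃ χ, X.erase (Block.oneIrr G) = {χ} := by
    rw [← Finset.card_eq_one]
    apply le_antisymm
    · have h1 : ∑ χ ∈ X.erase (Block.oneIrr G), (1 : ℤ) ≤ ∑ χ ∈ X.erase (Block.oneIrr G), a' χ ^ 2 :=
        Finset.sum_le_sum fun χ hχ => sq_pos_iff.2 (ha0 χ (Finset.mem_erase.1 hχ).2)
      rw [hrest, Finset.sum_const, nsmul_eq_mul, mul_one] at h1
      exact_mod_cast h1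
    · rw [Nat.one_le_iff_ne_zero, Finset.card_ne_zero]
      by_contra hne
      rw [Finset.not_nonempty_iff_eq_empty] at hne
      rw [hne] at hrest
      simp at hrest
  have hχX : χ ∈ X ∧ χ ≠ Block.oneIrr G := by
    have : χ ∈ X.erase (Block.oneIrr G) := by rw [hχe]; exact Finset.mem_singleton_self _
    exact ⟨(Finset.mem_erase.1 this).2, (Finset.mem_erase.1 this).1⟩
  set ε := a' χ with hε
  have hε2 : ε ^ 2 = 1 := by rw [hχe] at hrest; simpa using hrest
  have hεC : (ε : ℂ) ^ 2 = 1 := by exact_mod_cast hε2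
  have hXeq : X = {Block.oneIrr G, χ} := by
    rw [← Finset.insert_erase hone, hχe]
  set B := X ∪ Finset.univ.image μ with hB
  have hBmem : ∀ ψ, ψ ∈ B ↔ ψ ∈ principalBlock M G := fun ψ => by
    rw [hmem]; simp [hB]
  have hsumB : ∀ f : IrrCharacter G → ℂ,
      ∑ ψ ∈ B, f ψ = f (Block.oneIrr G) + f χ + ∑ i, f (μ i) := by
    intro f
    rw [hB, Finset.sum_union, Finset.sum_image (fun i _ j _ e => hμi e), hXeq,
      Finset.sum_pair (fun e => hχX.2 e.symm)]
    rw [Finset.disjoint_left]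
    intro ψ hψ hψ'
    obtain ⟨i, -, rfl⟩ := Finset.mem_image.1 hψ'
    exact hμX i hψ
  -- the characters on regular elements
  obtain ⟨i₀⟩ : Nonempty ι := Fintype.card_pos_iff.1 (by omega)
  have hreg : ∀ i, ∀ g : G, ¬ 3 ∣ orderOf g →
      (μ i : G → ℂ) g = (δ : ℂ) * (1 + (ε : ℂ) * (χ : G → ℂ) g) := by
    intro i g hg
    have h1 := hrel i g hg
    rw [hd0, hXeq, Finset.sum_pair (fun e => hχX.2 e.symm), haone, Block.oneIrr_apply] at h1
    push_cast at h1
    have hδ2 : (δ : ℂ) * δ = 1 := by rcases hδ with rfl | rfl <;> norm_num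
    linear_combination (-(μ i : G → ℂ) g) * hδ2 - (δ : ℂ) * h1
  have hreg1 : ¬ 3 ∣ orderOf (1 : G) := by simp
  have hregt : ¬ 3 ∣ orderOf t := by
    rw [orderOf_eq_prime (p := 2) (by rw [pow_two]; exact h.t_sq) h.t_ne]; norm_num
  obtain ⟨s₀, hs₀⟩ : ∃ z : ℤ, (χ : G → ℂ) t = z := Block.exists_int_of_sq_eq_one (isCharacter_of_isIrr χ.2) h.t_sq
  set x := charDegree (χ : G → ℂ) with hx
  have hx0 : 0 < x := CharAux.charDegree_pos χ.2
  have hx1 : (χ : G → ℂ) 1 = (x : ℂ) := CharAux.charDegree_eq (isCharacter_of_isIrr χ.2)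
  obtain ⟨Z, hZ⟩ : ∃ Z : ℤ, Z = ε * x := ⟨_, rfl⟩
  obtain ⟨s, hs⟩ : ∃ s : ℤ, s = ε * s₀ := ⟨_, rfl⟩
  have hμ1 : ∀ i, (μ i : G → ℂ) 1 = (δ : ℂ) * (1 + (Z : ℂ)) := fun i => by
    rw [hreg i 1 hreg1, hx1, hZ]; push_cast; ring
  have hμt : ∀ i, (μ i : G → ℂ) t = (δ : ℂ) * (1 + (s : ℂ)) := fun i => by
    rw [hreg i t hregt, hs₀, hs]; push_cast; ring
  have hZ0 : Z ≠ 0 := by
    rw [hZ]
    refine mul_ne_zero (fun e => ?_) (by exact_mod_cast hx0.ne')
    rw [e] at hε2; norm_num at hε2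
  have hZ1 : Z + 1 ≠ 0 := by
    intro e
    refine irr_degree_ne_zero (μ i₀).2 ?_
    rw [hμ1, show (Z : ℂ) = -1 by exact_mod_cast (eq_neg_of_add_eq_zero_left e)]
    simp
  have hδC : (δ : ℂ) ^ 2 = 1 := by rcases hδ with rfl | rfl <;> norm_num
  -- a non-identity element of `P`
  obtain ⟨y, hy, hy1⟩ : ∃ y ∈ (P : Subgroup G), y ≠ 1 := by
    by_contra hcon
    push Not at hcon
    exact h.card_ne_one (by
      rw [show Nat.card P = Nat.card (P : Subgroup G) from rfl, (Subgroup.eq_bot_iff_forall _).2 hcon,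
        Subgroup.card_bot])
  have hcomm : ∀ u ∈ (P : Subgroup G), ∀ v ∈ (P : Subgroup G), u * v = v * u :=
    fun u hu v hv => h.P_comm hu hv
  have hqo : Odd q := odd_P P
  have hyC : y ∈ C := h.P_le_C hy
  have hCy : Subgroup.centralizer ({y} : Set G) = C := h.centralizer_of_P hy hy1
  set y' := y * t with hy'
  have hy'C : y' ∈ C := mul_mem hyC h.t_mem
  have hyt : Commute y t := (h.t_comm_P hy).symm
  have hyq : y ^ q = 1 := h.pow_card_eq hy
  have hy'pow : y' ^ (q + 1) = y := by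
    rw [hy', hyt.mul_pow, pow_succ y, hyq, one_mul]
    obtain ⟨j, hj⟩ := hqo
    rw [hj, show 2 * j + 1 + 1 = 2 * (j + 1) by ring, pow_mul, pow_two t, h.t_sq, one_pow, mul_one]
  have hCy' : Subgroup.centralizer ({y'} : Set G) = C := by
    refine le_antisymm (fun g hg => ?_) fun g hg => Subgroup.mem_centralizer_singleton_iff.2
      (h.C_comm hg hy'C)
    rw [← hCy, Subgroup.mem_centralizer_singleton_iff, ← hy'pow]
    exact (Commute.pow_right (show Commute g y' from Subgroup.mem_centralizer_singleton_iff.1 hg) _).eq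
  have hnc : ¬ IsConj y y' := by
    intro hc
    obtain ⟨g, hg⟩ := isConj_iff.1 hc
    have : y' ^ q = 1 := by rw [← hg, conj_pow, hyq, mul_one, mul_inv_cancel]
    rw [hy', hyt.mul_pow, hyq, one_mul] at this
    obtain ⟨j, hj⟩ := hqo
    rw [hj, pow_succ, pow_mul, pow_two, h.t_sq, one_pow, one_mul] at this
    exact h.t_ne this
  have hy2 : y * y ≠ 1 := h.sq_ne_one hy hy1
  have hy'2 : y' * y' ≠ 1 := by
    intro e
    apply hy2
    rw [hy'] at e
    calc y * y = y * y * (t * t) := by rw [h.t_sq, mul_one]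
      _ = y * (y * t) * t := by group
      _ = y * (t * y) * t := by rw [hyt.eq]
      _ = y * t * (y * t) := by group
      _ = 1 := e
  -- principal block characters on `y'`
  have hy't : ∀ ψ ∈ B, (ψ : G → ℂ) y' = (ψ : G → ℂ) y := fun ψ hψ =>
    Char.ATI.section_value hM P hcomm hfrob ((hBmem ψ).1 hψ)
      (Block.isPPart_mul (Block.isPElem_of_mem P.2 hy) hregt hyt) hy hy1
  have hcc : (Nat.card (Subgroup.centralizer ((P : Subgroup G) : Set G)) : ℂ) = 2 * (q : ℂ) := by
    rw [show Nat.card (Subgroup.centralizer ((P : Subgroup G) : Set G)) = 2 * q from h.cardC]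
    push_cast; rfl
  have hq0 : (q : ℂ) ≠ 0 := Nat.cast_ne_zero.2 (by omega)
  have hcol1 : ∑ ψ ∈ B, (ψ : G → ℂ) 1 * conj ((ψ : G → ℂ) y) = 0 := by
    have h1 := Char.ATI.column_orth P hM hcomm hfrob B hBmem hy hy1 (one_mem _)
    rw [hcc, Finset.filter_eq_empty_iff.2 (fun g _ hg => hy1 (by
      have := congrArg (fun z => g⁻¹ * z * g) hg.2
      simpa [mul_assoc] using this)), Finset.card_empty, Nat.cast_zero, mul_zero] at h1
    exact (mul_eq_zero.1 h1).resolve_left (mul_ne_zero two_ne_zero hq0)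
  have hcoly : ∑ ψ ∈ B, (ψ : G → ℂ) y * conj ((ψ : G → ℂ) y) = (q : ℂ) := by
    have h1 := Char.ATI.column_orth P hM hcomm hfrob B hBmem hy hy1 hy
    have hcardf : (Finset.univ.filter fun g : G => g ∈ N ∧ g * y * g⁻¹ = y).card = 2 * q := by
      rw [← Fintype.card_subtype, ← Nat.card_eq_fintype_card, ← h.cardC]
      refine Nat.card_congr (Equiv.subtypeEquivRight fun g => ?_)
      constructor
      · rintro ⟨-, hg⟩
        rw [← hC, ← hCy]
        exact Subgroup.mem_centralizer_singleton_iff.2 (mul_inv_eq_iff_eq_mul.1 hg)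
      · intro hg
        exact ⟨C_le_N P hg, mul_inv_eq_iff_eq_mul.2 (h.C_comm hg hyC)⟩
    rw [hcc, hcardf] at h1
    push_cast at h1
    refine mul_left_cancel₀ (mul_ne_zero two_ne_zero hq0) (h1.trans ?_)
    rw [← hq]; ring
  -- the two sections cancel outside the principal block
  set T : IrrCharacter G → ℂ := fun ψ => (ψ : G → ℂ) y + (ψ : G → ℂ) y' with hT
  have hTB : ∀ ψ ∈ B, T ψ = 2 * (ψ : G → ℂ) y := fun ψ hψ => by
    simp only [hT]; rw [hy't ψ hψ]; ring
  have hcardC : ∀ z, Subgroup.centralizer ({z} : Set G) = C →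
      (Nat.card (Subgroup.centralizer ({z} : Set G)) : ℂ) = 2 * (q : ℂ) := fun z hz => by
    rw [hz, hC, show Nat.card (Subgroup.centralizer (P : Set G)) = 2 * q from h.cardC]; push_cast; rfl
  have hTnorm : ∑ ψ, T ψ * conj (T ψ) = 4 * (q : ℂ) := by
    have hexp : ∀ ψ : IrrCharacter G, T ψ * conj (T ψ) =
        (ψ : G → ℂ) y * conj ((ψ : G → ℂ) y) + (ψ : G → ℂ) y * conj ((ψ : G → ℂ) y') +
        ((ψ : G → ℂ) y' * conj ((ψ : G → ℂ) y) + (ψ : G → ℂ) y' * conj ((ψ : G → ℂ) y')) := by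
      intro ψ; simp only [hT, map_add]; ring
    simp only [hexp, Finset.sum_add_distrib, CharTools.sum_irr_mul_conj']
    rw [if_pos (IsConj.refl y), if_neg hnc, if_neg (fun e => hnc e.symm), if_pos (IsConj.refl y'),
      hcardC y hCy, hcardC y' hCy']
    ring
  have hTout : ∀ ψ, ψ ∉ B → T ψ = 0 := by
    intro ψ hψ
    have h1 : ∑ ψ ∈ B, T ψ * conj (T ψ) = 4 * (q : ℂ) := by
      rw [← hcoly, Finset.mul_sum]
      refine Finset.sum_congr rfl fun ψ hψ => ?_
      rw [hTB ψ hψ, map_mul, map_ofNat]; ring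
    have h2 : ∑ ψ ∈ Bᶜ, T ψ * conj (T ψ) = 0 := by
      rw [← Finset.sum_add_sum_compl B, h1] at hTnorm
      linear_combination hTnorm
    simp only [Complex.mul_conj] at h2
    rw [← Complex.ofReal_sum, Complex.ofReal_eq_zero] at h2
    exact Complex.normSq_eq_zero.1
      ((Finset.sum_eq_zero_iff_of_nonneg fun _ _ => Complex.normSq_nonneg _).1 h2 ψ
        (Finset.mem_compl.2 hψ))
  -- pairs of involutions
  set F : G → ℂ := CharTools.classInd t with hF
  have hidx : ((Subgroup.centralizer ({t} : Set G)).index : ℂ) = (n : ℂ) := by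
    rw [ht, h.centralizer_t]
  have hCidx : ∀ z, Subgroup.centralizer ({z} : Set G) = C →
      (Finset.univ.filter fun x => IsConj x z).card = 2 * n := by
    intro z hz
    have h1 := CharAux.card_conj_mul_card_centralizer z
    rw [hz, hC, show Nat.card (Subgroup.centralizer (P : Set G)) = 2 * q from h.cardC,
      ← N.card_mul_index, show Nat.card N = 4 * q from h.cardN, ← hn] at h1
    refine Nat.eq_of_mul_eq_mul_right (show 0 < 2 * q by omega) (h1.trans ?_)
    ring
  have hpairs : ∀ z, z ∈ C → z * z ≠ 1 → Subgroup.centralizer ({z} : Set G) = C →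
      ∑ a : G, ∑ b : G, F a * F b * (if IsConj (a * b) z then (1 : ℂ) else 0) =
        4 * (n : ℂ) * q := by
    intro z hz hz2 hzC
    have hfib : ∑ a : G, F a * F (a⁻¹ * z) = 2 * (q : ℂ) := by
      have : ∀ a : G, F a * F (a⁻¹ * z) = if a ∈ N ∧ a ∉ C then 1 else 0 := by
        intro a
        by_cases h' : IsConj a t ∧ IsConj (a⁻¹ * z) t
        · rw [if_pos ((h.fibre_iff hz hz2).1 h'), hF, CharTools.classInd_of h'.1,
            CharTools.classInd_of h'.2, one_mul]
        · rw [if_neg (fun e => h' ((h.fibre_iff hz hz2).2 e)), hF]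
          rcases not_and_or.1 h' with h'' | h'' <;> rw [CharTools.classInd_of_not h''] <;> simp
      simp only [this, Finset.sum_boole]
      rw [show (Finset.univ.filter fun y : G => y ∈ N ∧ y ∉ C) =
        (Finset.univ.filter fun y : G => y ∈ N) \ (Finset.univ.filter fun y : G => y ∈ C) by
          ext; simp, Finset.card_sdiff_of_subset (fun w hw => by
          simp only [Finset.mem_filter] at hw ⊢; exact ⟨hw.1, C_le_N P hw.2⟩),
        ← Fintype.card_subtype, ← Fintype.card_subtype, ← Nat.card_eq_fintype_card,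
        ← Nat.card_eq_fintype_card, show Nat.card N = 4 * q from h.cardN,
        show Nat.card C = 2 * q from h.cardC, show 4 * q - 2 * q = 2 * q by omega]
      push_cast; rfl
    calc ∑ a : G, ∑ b : G, F a * F b * (if IsConj (a * b) z then (1 : ℂ) else 0)
        = ∑ a : G, ∑ w : G, F a * F (a⁻¹ * w) * (if IsConj w z then (1 : ℂ) else 0) := by
          refine Finset.sum_congr rfl fun a _ => ?_
          exact Fintype.sum_equiv (Equiv.mulLeft a) _ _ fun b => by simp
      _ = ∑ w : G, (if IsConj w z then (1 : ℂ) else 0) * ∑ a : G, F a * F (a⁻¹ * w) := by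
          rw [Finset.sum_comm]
          refine Finset.sum_congr rfl fun w _ => ?_
          rw [Finset.mul_sum]
          exact Finset.sum_congr rfl fun a _ => mul_comm _ _
      _ = ∑ w : G, (if IsConj w z then (1 : ℂ) else 0) * (2 * (q : ℂ)) := by
          refine Finset.sum_congr rfl fun w _ => ?_
          by_cases hw : IsConj w z
          · obtain ⟨g, hg⟩ := isConj_iff.1 hw
            rw [if_pos hw, ← hfib]
            congr 1
            refine Fintype.sum_equiv (MulAut.conj g).toEquiv _ _ fun a => ?_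
            show F a * F (a⁻¹ * w) = F (g * a * g⁻¹) * F ((g * a * g⁻¹)⁻¹ * z)
            rw [hF, CharTools.classInd_conj, ← hg,
              show (g * a * g⁻¹)⁻¹ * (g * w * g⁻¹) = g * (a⁻¹ * w) * g⁻¹ by group,
              CharTools.classInd_conj]
          · rw [if_neg hw]; simp
      _ = 4 * (n : ℂ) * q := by
          rw [← Finset.sum_mul, Finset.sum_boole, hCidx z hzC]; push_cast; ring
  have hkey : ∑ ψ : IrrCharacter G, (n : ℂ) ^ 2 * ((ψ : G → ℂ) t ^ 2 / (ψ : G → ℂ) 1) * conj (T ψ) =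
      16 * (n : ℂ) * q ^ 2 := by
    have hterm : ∀ ψ : IrrCharacter G,
        (n : ℂ) ^ 2 * ((ψ : G → ℂ) t ^ 2 / (ψ : G → ℂ) 1) * conj (T ψ) =
        ∑ a : G, ∑ b : G, F a * F b * ((ψ : G → ℂ) (a * b) * conj ((ψ : G → ℂ) y) +
          (ψ : G → ℂ) (a * b) * conj ((ψ : G → ℂ) y')) := by
      intro ψ
      have h1 := CharTools.sum_classes_mul ψ.2 t t
      rw [hidx] at h1
      rw [show (n : ℂ) ^ 2 * ((ψ : G → ℂ) t ^ 2 / (ψ : G → ℂ) 1) =
        (n : ℂ) * n * ((ψ : G → ℂ) t * (ψ : G → ℂ) t) / (ψ : G → ℂ) 1 by ring, ← h1, Finset.sum_mul]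
      refine Finset.sum_congr rfl fun a _ => ?_
      rw [Finset.sum_mul]
      refine Finset.sum_congr rfl fun b _ => ?_
      simp only [hT, hF, map_add]; ring
    rw [Finset.sum_congr rfl fun ψ _ => hterm ψ, Finset.sum_comm,
      Finset.sum_congr rfl fun a _ => Finset.sum_comm]
    have hin : ∀ a b : G, ∑ ψ : IrrCharacter G, F a * F b *
        ((ψ : G → ℂ) (a * b) * conj ((ψ : G → ℂ) y) + (ψ : G → ℂ) (a * b) * conj ((ψ : G → ℂ) y')) =
        2 * (q : ℂ) * (F a * F b * (if IsConj (a * b) y then (1 : ℂ) else 0)) +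
          2 * (q : ℂ) * (F a * F b * (if IsConj (a * b) y' then (1 : ℂ) else 0)) := by
      intro a b
      rw [← Finset.mul_sum, Finset.sum_add_distrib, CharTools.sum_irr_mul_conj',
        CharTools.sum_irr_mul_conj', hcardC y hCy, hcardC y' hCy']
      split_ifs <;> ring
    simp only [hin, Finset.sum_add_distrib, ← Finset.mul_sum]
    rw [hpairs y hyC hy2 hCy, hpairs y' hy'C hy'2 hCy']
    ring
  -- evaluate in the principal block
  have hn0 : (n : ℂ) ≠ 0 := Nat.cast_ne_zero.2 N.index_ne_zero_of_finite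
  have hχy : (χ : G → ℂ) y = (ε : ℂ) := hXv χ hχX.1 y hy hy1
  obtain ⟨Sm, hSm⟩ : ∃ z : ℂ, ∑ i, conj ((μ i : G → ℂ) y) = z := ⟨_, rfl⟩
  have hrel1 : 1 + (Z : ℂ) + (δ : ℂ) * (1 + (Z : ℂ)) * Sm = 0 := by
    have h1 := hcol1
    rw [hsumB] at h1
    simp only [Block.oneIrr_apply, hμ1, map_one, mul_one, hχy, hx1, map_intCast, ← Finset.mul_sum,
      hSm] at h1
    rw [hZ] at h1 ⊢
    push_cast at h1 ⊢
    linear_combination h1
  have hZC : 1 + (Z : ℂ) ≠ 0 := by
    rw [add_comm]; exact_mod_cast hZ1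
  have hSig : (δ : ℂ) * Sm = -1 := mul_left_cancel₀ hZC (by linear_combination hrel1)
  have hmain : (n : ℂ) * (1 + (s : ℂ) ^ 2 / (Z : ℂ) - (1 + (s : ℂ)) ^ 2 / (1 + (Z : ℂ))) =
      8 * (q : ℂ) ^ 2 := by
    have h1 := hkey
    rw [← Finset.sum_subset (Finset.subset_univ B) (fun ψ _ hψ => by rw [hTout ψ hψ]; simp),
      Finset.sum_congr rfl fun ψ hψ => by rw [hTB ψ hψ], hsumB] at h1
    simp only [Block.oneIrr_apply, hμ1, hμt, map_mul, map_ofNat, map_one, hχy, hx1, hs₀,
      map_intCast, ← Finset.mul_sum, hSm] at h1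
    have hx0' : (x : ℂ) ≠ 0 := Nat.cast_ne_zero.2 hx0.ne'
    have hδ0 : (δ : ℂ) ≠ 0 := by rcases hδ with rfl | rfl <;> norm_num
    have hε0 : (ε : ℂ) ≠ 0 := fun e => by rw [e] at hεC; norm_num at hεC
    have e1 : (s : ℂ) ^ 2 / (Z : ℂ) = (s₀ : ℂ) ^ 2 / (x : ℂ) * (ε : ℂ) := by
      rw [hs, hZ]; push_cast; field_simp
    have e2 : ((δ : ℂ) * (1 + (s : ℂ))) ^ 2 / ((δ : ℂ) * (1 + (Z : ℂ))) * Sm =
        -((1 + (s : ℂ)) ^ 2 / (1 + (Z : ℂ))) := by
      rw [show ((δ : ℂ) * (1 + (s : ℂ))) ^ 2 / ((δ : ℂ) * (1 + (Z : ℂ))) =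
        (δ : ℂ) * ((1 + (s : ℂ)) ^ 2 / (1 + (Z : ℂ))) by field_simp]
      linear_combination ((1 + (s : ℂ)) ^ 2 / (1 + (Z : ℂ))) * hSig
    refine mul_left_cancel₀ (mul_ne_zero two_ne_zero hn0) ?_
    rw [e1, sub_eq_add_neg, ← e2]
    linear_combination h1
  have heqZ : (Z - s) ^ 2 * (n : ℤ) = 8 * (q : ℤ) ^ 2 * (Z * (Z + 1)) := by
    have hZC0 : (Z : ℂ) ≠ 0 := by exact_mod_cast hZ0
    have h2 : ((Z : ℂ) - s) ^ 2 * (n : ℂ) = 8 * (q : ℂ) ^ 2 * ((Z : ℂ) * ((Z : ℂ) + 1)) := by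
      rw [← hmain]
      field_simp
      ring
    exact_mod_cast h2
  -- the bound on `s`
  have hsb : ((q : ℤ) - 1) * (1 + s) ^ 2 ≤ 8 * q := by
    have h1 : ∑ ψ ∈ B, Complex.normSq ((ψ : G → ℂ) t) ≤ (4 * q : ℝ) := by
      refine (Finset.sum_le_univ_sum_of_nonneg fun _ => Complex.normSq_nonneg _).trans ?_
      rw [CharAux.sum_irr_normSq, ht, h.centralizer_t, h.cardN]
      push_cast; rfl
    have h2 : ∑ i, Complex.normSq ((μ i : G → ℂ) t) ≤ (4 * q : ℝ) := by
      refine le_trans ?_ h1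
      rw [← Finset.sum_image (f := fun ψ : IrrCharacter G => Complex.normSq ((ψ : G → ℂ) t))
        (fun i _ j _ e => hμi e)]
      exact Finset.sum_le_sum_of_subset_of_nonneg Finset.subset_union_right
        fun _ _ _ => Complex.normSq_nonneg _
    have h3 : ∀ i, Complex.normSq ((μ i : G → ℂ) t) = ((1 + (s : ℝ)) ^ 2) := fun i => by
      rw [hμt i, show (δ : ℂ) * (1 + (s : ℂ)) = ((δ * (1 + s) : ℤ) : ℂ) by push_cast; ring,
        ← Complex.ofReal_intCast, Complex.normSq_ofReal]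
      push_cast
      rcases hδ with rfl | rfl <;> push_cast <;> ring
    rw [Finset.sum_congr rfl fun i _ => h3 i, Finset.sum_const, Finset.card_univ, nsmul_eq_mul] at h2
    have h4 : (Fintype.card ι : ℤ) * (1 + s) ^ 2 ≤ 4 * q := by exact_mod_cast h2
    have h5 : (q : ℤ) - 1 = (Fintype.card ι : ℤ) * 2 := by
      have h6 : q = Fintype.card ι * 2 + 1 := by omega
      rw [h6]; push_cast; ring
    rw [h5]; linarith
  -- arithmetic of the index
  have hn3 : Nat.Coprime n q := by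
    rw [ha]
    refine Nat.Coprime.pow_right _ ((Nat.prime_three.coprime_iff_not_dvd).2 fun h3 => ?_).symm
    have := card_sylow_modEq_one 3 G
    rw [show Nat.card (Sylow 3 G) = n from Sylow.card_eq_index_normalizer P, Nat.ModEq] at this
    omega
  have hn2 : ¬ 2 ∣ n := by
    intro h2
    haveI : Fact (Nat.Prime 2) := ⟨Nat.prime_two⟩
    obtain ⟨S⟩ : Nonempty (Sylow 2 G) := inferInstance
    have h4 := h.card_sylow_two S
    have h8 : 2 ^ 3 ∣ Nat.card G := by
      obtain ⟨c, hc⟩ := h2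
      rw [← N.card_mul_index, show Nat.card N = 4 * q from h.cardN, ← hn, hc]
      exact ⟨q * c, by ring⟩
    have := Nat.pow_dvd_pow 2 ((Nat.prime_two.pow_dvd_iff_le_factorization Nat.card_pos.ne').1 h8)
    rw [← S.card_eq_multiplicity] at this
    change 2 ^ 3 ∣ Nat.card S at this
    rw [h4] at this
    omega
  exact arith_false hq9 hqo hn2 hn3 h.index_le hZ0 hZ1 hsb heqZ


/-- Let G be a finite group with an abelian Sylow 3-subgroup P such that the normalizer of P has order 4·#P, the centralizer C of P has order 2·#P, C meets each of its conjugates by elements outside its normalizer trivially, and every proper subgroup of G of even order has order dividing 4·#P. Then G is not simple. -/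
theorem result {G : Type*} [Group G] [Finite G]
    (P : Sylow 3 G) (hab : IsMulCommutative P)
    (hN : Nat.card (Subgroup.normalizer ((P : Subgroup G) : Set G)) = 4 * Nat.card P)
    (hC : Nat.card (Subgroup.centralizer (P : Set G)) = 2 * Nat.card P)
    (hTI : Cfsg.IsTISubset (Subgroup.centralizer (P : Set G) : Set G))
    (heven : ∀ H : Subgroup G, H ≠ ⊤ → 2 ∣ Nat.card H → Nat.card H ∣ 4 * Nat.card P) :
    ¬ IsSimpleGroup G := by
  intro hs
  exact main ⟨hab, hN, hC, hTI, heven, hs⟩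

end Cfsg.Agent.S4018
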