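import Cfsg.Statements.S4113
import Mathlib
-- import your own Cfsg.Agent.* helpers here

set_option autoImplicit false
open Cfsg

namespace Cfsg.Agent.S4113


/-- Let G be a finite group, M ≤ N non-trivial proper normal subgroups, and H a subgroup with HM = G and H ∩ M = 1. Then every element of G outside N acts fixed-point-freely on M (C_G(x) ≤ N for every x ∈ M, x ≠ 1) if and only if H ∩ gHg⁻¹ ≤ H ∩ N for every g outside H, with H proper and non-trivial and H ∩ N proper in H. -/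
theorem result {G : Type*} [Group G] [Finite G] (N M : Subgroup G) [N.Normal] [M.Normal] (hMN : M ≤ N) (hM1 : M ≠ ⊥) (hN2 : N ≠ ⊤)
    (H : Subgroup G) (hHM : H ⊔ M = ⊤) (hHM' : H ⊓ M = ⊥) :
    (∀ x ∈ M, x ≠ 1 → Subgroup.centralizer ({x} : Set G) ≤ N) ↔
      (H ≠ ⊥ ∧ H ≠ ⊤ ∧ H ⊓ N < H ∧ ∀ g : G, g ∉ H → H ⊓ H.map (MulAut.conj g).toMonoidHom ≤ N) := by
  have hn : ∀ g : G, ∃ h ∈ H, ∃ m ∈ M, h * m = g := fun g => by
    have : g ∈ ((H ⊔ M : Subgroup G) : Set G) := by rw [hHM]; trivial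
    rw [Subgroup.mul_normal] at this
    exact Set.mem_mul.1 this
  have hone : ∀ k, k ∈ H → k ∈ M → k = 1 := fun k hk hk' => by
    have : k ∈ H ⊓ M := ⟨hk, hk'⟩
    rwa [hHM', Subgroup.mem_bot] at this
  constructor
  · intro hC
    refine ⟨?_, ?_, ?_, ?_⟩
    · rintro rfl
      rw [bot_sup_eq] at hHM
      exact hN2 (top_unique (hHM ▸ hMN))
    · rintro rfl
      exact hM1 (by simpa using hHM')
    · refine lt_of_le_of_ne inf_le_left fun h => hN2 (top_unique ?_)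
      rw [← hHM]
      exact sup_le (inf_eq_left.1 h) hMN
    · intro g hg a ha
      obtain ⟨ha1, x, hx, hxa⟩ := ha
      obtain ⟨h, hh, m, hm, rfl⟩ := hn g
      have hm1 : m ≠ 1 := fun h1 => hg (by rw [h1, mul_one]; exact hh)
      have hxa' : h * m * x * (h * m)⁻¹ = a := hxa
      have hb : m * x * m⁻¹ ∈ H := by
        rw [show m * x * m⁻¹ = h⁻¹ * a * h by rw [← hxa']; group]
        exact mul_mem (mul_mem (inv_mem hh) ha1) hh
      have hxH : x ∈ H := hx
      have h1 : x⁻¹ * (m * x * m⁻¹) = 1 := hone _ (mul_mem (inv_mem hxH) hb) (by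
        rw [show x⁻¹ * (m * x * m⁻¹) = (x⁻¹ * m * x) * m⁻¹ by group]
        exact mul_mem (Subgroup.Normal.conj_mem' inferInstance m hm x) (inv_mem hm))
      rw [inv_mul_eq_one] at h1
      have hxN : x ∈ N := hC m hm hm1 (Subgroup.mem_centralizer_singleton_iff.2 (by
        nth_rewrite 1 [h1]; group))
      rw [← hxa']
      exact Subgroup.Normal.conj_mem inferInstance x hxN _
  · rintro ⟨-, -, -, hTI⟩ x hxM hx1 g hgx
    by_contra hgN
    let A := {mh : M × H // (mh.2 : G) ∉ N}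
    let B := {g : G // g ∉ N}
    have hmN : ∀ (a : M × H), (a.1 : G) * a.2 ∈ N ↔ (a.2 : G) ∈ N := fun a =>
      Subgroup.mul_mem_cancel_left _ (hMN a.1.2)
    let f1 : A → B := fun a => ⟨(a.1.1 : G) * a.1.2, fun h => a.2 ((hmN _).1 h)⟩
    have hf1 : Function.Bijective f1 := by
      constructor
      · rintro ⟨⟨m, h⟩, _⟩ ⟨⟨m', h'⟩, _⟩ e
        have e' : (m : G) * h = (m' : G) * h' := congrArg Subtype.val e
        have : (m' : G)⁻¹ * m = (h' : G) * (h : G)⁻¹ := by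
          calc (m' : G)⁻¹ * m = (m' : G)⁻¹ * (m * h) * (h : G)⁻¹ := by group
            _ = _ := by rw [e']; group
        have h2 := hone _ (mul_mem h'.2 (inv_mem h.2)) (this ▸ mul_mem (inv_mem m'.2) m.2)
        rw [h2, inv_mul_eq_one] at this
        have e3 : m' = m := Subtype.ext this
        subst e3
        have : h = h' := Subtype.ext (mul_left_cancel e')
        subst this
        rfl
      · rintro ⟨b, hb⟩
        obtain ⟨h, hh, m, hm, rfl⟩ := hn b
        refine ⟨⟨(⟨h * m * h⁻¹, Subgroup.Normal.conj_mem inferInstance m hm h⟩, ⟨h, hh⟩), fun hN' => hb (mul_mem hN' (hMN hm))⟩, Subtype.ext ?_⟩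
        show h * m * h⁻¹ * h = h * m
        group
    let f2 : A → B := fun a => ⟨(a.1.1 : G) * a.1.2 * (a.1.1 : G)⁻¹, fun h => a.2 (by
      have := Subgroup.Normal.conj_mem' inferInstance _ h (a.1.1 : G)
      rwa [show (a.1.1 : G)⁻¹ * ((a.1.1 : G) * a.1.2 * (a.1.1 : G)⁻¹) * a.1.1 = a.1.2 by group] at this)⟩
    have hf2i : ∀ (k k' : G), k ∈ M → k' ∈ M → ∀ h h' : G, h ∈ H → h' ∈ H → h ∉ N → k * h * k⁻¹ = k' * h' * k'⁻¹ → k = k' ∧ h = h' := by
      intro k k' hk hk' h h' hh hh' hhN e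
      have e2 : (k'⁻¹ * k) * h * (k'⁻¹ * k)⁻¹ = h' := by
        rw [show (k'⁻¹ * k) * h * (k'⁻¹ * k)⁻¹ = k'⁻¹ * (k * h * k⁻¹) * k' by group, e]; group
      have hk1 : k'⁻¹ * k = 1 := by
        refine hone _ ?_ (mul_mem (inv_mem hk') hk)
        by_contra hnH
        have : h' ∈ N := hTI _ hnH ⟨hh', h, hh, e2⟩
        apply hhN
        rw [← e2] at this
        have := Subgroup.Normal.conj_mem' inferInstance _ this (k'⁻¹ * k)
        rwa [show (k'⁻¹ * k)⁻¹ * ((k'⁻¹ * k) * h * (k'⁻¹ * k)⁻¹) * (k'⁻¹ * k) = h by group] at this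
      rw [hk1] at e2
      exact ⟨(inv_mul_eq_one.1 hk1).symm, by simpa using e2⟩
    have hi : Function.Injective f2 := by
      rintro ⟨⟨m, h⟩, ha⟩ ⟨⟨m', h'⟩, _⟩ e
      obtain ⟨e1, e2⟩ := hf2i m m' m.2 m'.2 h h' h.2 h'.2 ha (congrArg Subtype.val e)
      apply Subtype.ext
      exact Prod.ext (Subtype.ext e1) (Subtype.ext e2)
    obtain ⟨⟨⟨m, h⟩, ha⟩, he⟩ := ((Nat.bijective_iff_injective_and_card f2).2 ⟨hi, Nat.card_eq_of_bijective f1 hf1⟩).2 ⟨g, hgN⟩
    have he' : (m : G) * h * (m : G)⁻¹ = g := congrArg Subtype.val he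
    rw [Subgroup.mem_centralizer_singleton_iff] at hgx
    obtain ⟨e1, -⟩ := hf2i (x * m) m (mul_mem hxM m.2) m.2 h h h.2 h.2 ha (by
      calc x * m * h * (x * m)⁻¹ = x * ((m : G) * h * (m : G)⁻¹) * x⁻¹ := by group
        _ = x * g * x⁻¹ := by rw [he']
        _ = g := by rw [← hgx]; group
        _ = _ := he'.symm)
    exact hx1 (mul_eq_right.1 e1)

end Cfsg.Agent.S4113
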