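import Cfsg.Statements.S4125
import Cfsg.Agent.Lib.QBaer.Structure

set_option autoImplicit false
open Cfsg

namespace Cfsg.Agent.S4125

/-- Let G be a finite group and q a prime dividing its order such that every element of q-power order has a conjugacy class of prime-power size. Then G is q-solvable of q-length 1: there are normal subgroups K ≤ L of G with K of order prime to q, L/K a q-group and L of index prime to q. Moreover there is a prime p such that every element of q-power order has a class of p-power size (one prime serving for all of them), and for a Sylow q-subgroup Q: if p = q then Q is normal with a normal complement (a direct factor), while if p ≠ q then Q is abelian, the product of Q with the largest normal p-subgroup O_p(G) is normal in G, and G/O_{q'}(G) is solvable, where O_{q'}(G) is the largest normal subgroup of order prime to q. -/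
theorem result {G : Type*} [Group G] [Finite G] (q : ℕ) [Fact q.Prime] (hq : q ∣ Nat.card G)
    (hBaer : ∀ x : G, (∃ k : ℕ, orderOf x = q ^ k) → ∃ (r : ℕ) (a : ℕ), r.Prime ∧ (Subgroup.centralizer ({x} : Set G)).index = r ^ a) (Q : Sylow q G) :
    (∃ K L : Subgroup G, K.Normal ∧ L.Normal ∧ K ≤ L ∧ (Nat.card K).Coprime q ∧ (∃ m : ℕ, K.relIndex L = q ^ m) ∧ L.index.Coprime q) ∧
    ∃ p : ℕ, p.Prime ∧ (∀ x : G, (∃ k : ℕ, orderOf x = q ^ k) → ∃ a : ℕ, (Subgroup.centralizer ({x} : Set G)).index = p ^ a) ∧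
      (p = q → (Q : Subgroup G).Normal ∧ ∃ N : Subgroup G, N.Normal ∧ N.IsComplement' (Q : Subgroup G)) ∧
      (p ≠ q → IsMulCommutative (Q : Subgroup G) ∧ (Cfsg.pCore p G ⊔ (Q : Subgroup G)).Normal ∧
        ∀ _h : (Cfsg.pPrimeCore q G).Normal, Group.IsSolvable (G ⧸ Cfsg.pPrimeCore q G)) := by
  classical
  have hB : Lib.QBaer.IsBaer q G := hBaer
  have hK : (Cfsg.pPrimeCore q G).Normal := by
    have : ∀ N ∈ {N : Subgroup G | N.Normal ∧ (Nat.card N).Coprime q}, N.Normal := fun N h => h.1
    infer_instance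
  set K := Cfsg.pPrimeCore q G with hKdef
  have hsup := Lib.QBaer.sup_sylow_eq hB Q
  have hLn : (K ⊔ (Q : Subgroup G)).Normal := by
    rw [hKdef, hsup]
    have : ∀ N ∈ {N : Subgroup (G ⧸ K) | N.Normal ∧ IsPGroup q N}, N.Normal := fun N h => h.1
    exact Subgroup.Normal.comap inferInstance _
  have hinf := Lib.QBaer.sylow_inf_core (G := G) Q
  refine ⟨⟨K, K ⊔ (Q : Subgroup G), hK, hLn, le_sup_left, Lib.Components.pPrimeCore_coprime q, ?_, ?_⟩, ?_⟩
  · obtain ⟨m, hm⟩ := Q.isPGroup'.exists_card_eq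
    refine ⟨m, ?_⟩
    rw [Subgroup.relIndex_sup_left, ← Subgroup.inf_relIndex_right, inf_comm, hinf, Subgroup.relIndex_bot_left, hm]
  · exact Nat.Coprime.coprime_dvd_left (Subgroup.index_dvd_of_le le_sup_right)
      ((Fact.out : q.Prime).coprime_iff_not_dvd.2 Q.not_dvd_index).symm
  by_cases hab : ∀ x ∈ (Q : Subgroup G), ∀ y ∈ (Q : Subgroup G), x * y = y * x
  · by_cases hcen : ∀ x ∈ (Q : Subgroup G), ∀ g : G, x * g = g * x
    · have hQn : (Q : Subgroup G).Normal := ⟨fun x hx g => by
        rw [← hcen x hx g, mul_inv_cancel_right]; exact hx⟩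
      obtain ⟨hidx, hN⟩ := Lib.QBaer.direct_factor Q hQn fun g _ _ _ _ _ x hx => (hcen x hx g).symm
      exact ⟨q, Fact.out, hidx, fun _ => ⟨hQn, hN⟩, fun h => absurd rfl h⟩
    · push Not at hcen
      obtain ⟨x₀, hx₀, g₀, hne⟩ := hcen
      obtain ⟨p, hp, hpq, hidx⟩ := Lib.QBaer.one_prime hB Q hab hx₀ hne
      have := Fact.mk hp
      refine ⟨p, hp, hidx, fun h => absurd h hpq, fun _ => ⟨⟨⟨fun a b => Subtype.ext (hab a a.2 b b.2)⟩⟩,
        Lib.QBaer.sup_pCore_normal hpq Q (fun x hx => hidx x (Lib.QBaer.qElement_of_mem Q.isPGroup' hx)), ?_⟩⟩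
      intro _
      set π := QuotientGroup.mk' K
      have hsurj : Function.Surjective π := QuotientGroup.mk'_surjective K
      have hmap := Lib.QBaer.map_sylow_eq hB Q
      have hAn : ((Q : Subgroup G).map π).Normal := by
        rw [hmap]
        have : ∀ N ∈ {N : Subgroup (G ⧸ K) | N.Normal ∧ IsPGroup q N}, N.Normal := fun N h => h.1
        infer_instance
      refine Lib.QBaer.solvable_of_self_centralizing (q := q) hp hpq ((Q : Subgroup G).map π)
        (Q.isPGroup'.map π) ?_ ?_ ?_ ?_
      · exact (Q.mapSurjective hsurj).not_dvd_index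
      · rintro _ ⟨x, hx, rfl⟩ _ ⟨y, hy, rfl⟩
        rw [← map_mul, ← map_mul, hab x hx y hy]
      · rintro _ ⟨x, hx, rfl⟩
        obtain ⟨a, ha⟩ := hidx x (Lib.QBaer.qElement_of_mem Q.isPGroup' hx)
        obtain ⟨b, -, hb⟩ := (Nat.dvd_prime_pow hp).1
          ((Lib.Kazarin.index_centralizer_map_dvd hsurj x).trans (dvd_of_eq ha))
        exact ⟨b, hb⟩
      · intro N hN hc
        have hn : (N.comap π).Normal := hN.comap π
        have hle : N.comap π ≤ K := by
          refine Lib.Components.le_pPrimeCore (hN := hn) ?_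
          have h1 := Subgroup.card_mul_index (N.comap π)
          rw [Subgroup.index_comap_of_surjective _ hsurj, ← K.card_mul_index,
            show K.index = Nat.card (G ⧸ K) from rfl, ← N.card_mul_index, ← mul_assoc] at h1
          rw [Nat.eq_of_mul_eq_mul_right (Nat.pos_of_ne_zero Subgroup.index_ne_zero_of_finite) h1]
          exact Nat.Coprime.mul_left (Lib.Components.pPrimeCore_coprime q) hc
        rw [eq_bot_iff, ← Subgroup.map_comap_eq_self_of_surjective hsurj N]
        refine (Subgroup.map_mono hle).trans (le_of_eq ?_)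
        rw [Subgroup.map_eq_bot_iff, QuotientGroup.ker_mk']
  · push Not at hab
    obtain ⟨x₀, hx₀, y₀, hy₀, hne⟩ := hab
    obtain ⟨hQn, hcent⟩ := Lib.QBaer.case_nonabelian hB Q hx₀ hy₀ hne
    obtain ⟨hidx, hN⟩ := Lib.QBaer.direct_factor Q hQn hcent
    exact ⟨q, Fact.out, hidx, fun _ => ⟨hQn, hN⟩, fun h => absurd rfl h⟩

end Cfsg.Agent.S4125
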