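import Cfsg.Statements.S4188
import Cfsg.Agent.Lib.TwoLinearRank

set_option autoImplicit false
open Cfsg

namespace Cfsg.Agent.S4188

/-- Let G be a finite group that is the semidirect product of a normal abelian subgroup N of odd order by a 2-subgroup P, and suppose N is the unique minimal normal subgroup of G. Then the index of the Frattini subgroup of P in P is at most #N − 1. -/
theorem result {G : Type*} [Group G] [Finite G] (N P : Subgroup G) (hN : N.Normal) (hNab : IsMulCommutative ↥N) (hNodd : Odd (Nat.card ↥N)) (hP : IsPGroup 2 ↥P) (hdisj : N ⊓ P = ⊥) (hprod : N ⊔ P = ⊤) (hmin : N ≠ ⊥ ∧ ∀ M : Subgroup G, M.Normal → M ≠ ⊥ → N ≤ M) : (frattini ↥P).index ≤ Nat.card ↥N - 1 := by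
  haveI := hN
  haveI := hNab
  letI : CommGroup ↥N := { (inferInstance : Group ↥N) with mul_comm := fun a b => hNab.is_comm.comm a b }
  obtain ⟨hne, huniq⟩ := hmin
  have hN1 : 1 < Nat.card ↥N :=
    Finite.one_lt_card_iff_nontrivial.mpr ((Subgroup.nontrivial_iff_ne_bot N).mpr hne)
  set q := (Nat.card ↥N).minFac with hqdef
  haveI hq : Fact q.Prime := ⟨Nat.minFac_prime (by omega)⟩
  have hq2 : q ≠ 2 := fun h => by
    have := Nat.minFac_dvd (Nat.card ↥N)
    rw [← hqdef, h] at this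
    exact (Nat.not_even_iff_odd.mpr hNodd) (even_iff_two_dvd.mpr this)
  -- `N` is elementary abelian
  let T : Subgroup G := ((powMonoidHom q : ↥N →* ↥N).ker).map N.subtype
  have hT : T.Normal := by
    refine ⟨?_⟩
    rintro _ ⟨x, hx, rfl⟩ g
    refine ⟨MulAut.conjNormal g x, ?_, by simp [MulAut.conjNormal_apply]⟩
    show (MulAut.conjNormal g x) ^ q = 1
    rw [← map_pow, show x ^ q = 1 from hx, map_one]
  have hTne : T ≠ ⊥ := by
    obtain ⟨x, hx⟩ := exists_prime_orderOf_dvd_card' (G := ↥N) q (Nat.minFac_dvd _)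
    intro h
    have hm : (x : G) ∈ T := ⟨x, show x ^ q = 1 by rw [← hx, pow_orderOf_eq_one], rfl⟩
    rw [h, Subgroup.mem_bot, ← orderOf_eq_one_iff, Subgroup.orderOf_coe, hx] at hm
    exact hq.out.ne_one hm
  have hexp : ∀ v : ↥N, v ^ q = 1 := by
    intro v
    obtain ⟨x, hx, he⟩ := huniq T hT hTne v.2
    rwa [show v = x from Subtype.ext he.symm]
  obtain ⟨n, hn⟩ : ∃ n, Nat.card ↥N = q ^ n :=
    IsPGroup.iff_card.mp fun v => ⟨1, by rw [pow_one]; exact hexp v⟩
  have hn1 : 1 ≤ n := by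
    rcases Nat.eq_zero_or_pos n with rfl | h
    · rw [pow_zero] at hn; omega
    · exact h
  -- the action of `P`
  let φ : ↥P →* MulAut ↥N := (MulAut.conjNormal : G →* MulAut ↥N).comp P.subtype
  have happ : ∀ (g : ↥P) (v : ↥N), ((φ g v : ↥N) : G) = (g : G) * v * (g : G)⁻¹ := fun g v =>
    MulAut.conjNormal_apply (g : G) v
  have htop : ∀ S : Subgroup G, (∀ g ∈ N, ∀ x ∈ S, g * x * g⁻¹ ∈ S) →
      (∀ g ∈ P, ∀ x ∈ S, g * x * g⁻¹ ∈ S) → S.Normal := by
    intro S h1 h2
    rw [← Subgroup.normalizer_eq_top_iff, eq_top_iff, ← hprod]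
    refine sup_le ?_ ?_
    all_goals
      intro g hg
      rw [Subgroup.mem_normalizer_iff]
      intro x
      constructor
      · intro hx
        first | exact h1 g hg x hx | exact h2 g hg x hx
      · intro hx
        first
          | (have := h1 g⁻¹ (inv_mem hg) _ hx; simpa [mul_assoc] using this)
          | (have := h2 g⁻¹ (inv_mem hg) _ hx; simpa [mul_assoc] using this)
  have hinj : Function.Injective φ := by
    rw [injective_iff_map_eq_one]
    intro g hg
    let K : Subgroup G := φ.ker.map P.subtype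
    have hK : K.Normal := by
      refine htop K ?_ ?_
      · rintro a ha _ ⟨x, hx, rfl⟩
        have := congrArg (fun t : MulAut ↥N => ((t ⟨a, ha⟩ : ↥N) : G)) hx
        simp only [happ, MulAut.one_apply] at this
        refine ⟨x, hx, ?_⟩
        show (x : G) = a * x * a⁻¹
        rw [eq_mul_inv_iff_mul_eq]
        exact (mul_inv_eq_iff_eq_mul.mp this)
      · rintro a ha _ ⟨x, hx, rfl⟩
        exact ⟨⟨a, ha⟩ * x * ⟨a, ha⟩⁻¹, φ.normal_ker.conj_mem x hx ⟨a, ha⟩, rfl⟩
    by_contra hg1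
    have hKne : K ≠ ⊥ := by
      intro h
      have hm : (g : G) ∈ K := ⟨g, hg, rfl⟩
      rw [h, Subgroup.mem_bot] at hm
      exact hg1 (Subtype.ext hm)
    exact hne (le_bot_iff.mp (hdisj ▸ le_inf le_rfl ((huniq K hK hKne).trans (Subgroup.map_subtype_le _))))
  have hirr : ∀ X : Subgroup ↥N, (∀ ψ ∈ φ.range, ∀ v ∈ X, ψ v ∈ X) → X = ⊥ ∨ X = ⊤ := by
    intro X hX
    by_cases h : X = ⊥
    · exact Or.inl h
    refine Or.inr (eq_top_iff.mpr fun v _ => ?_)
    have hXn : (X.map N.subtype).Normal := by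
      refine htop _ ?_ ?_
      · rintro a ha _ ⟨x, hx, rfl⟩
        refine ⟨x, hx, ?_⟩
        show (x : G) = a * x * a⁻¹
        rw [eq_mul_inv_iff_mul_eq]
        exact congrArg Subtype.val (mul_comm x ⟨a, ha⟩)
      · rintro a ha _ ⟨x, hx, rfl⟩
        exact ⟨φ ⟨a, ha⟩ x, hX _ ⟨⟨a, ha⟩, rfl⟩ x hx, happ _ _⟩
    obtain ⟨x, hx, he⟩ := huniq _ hXn (by
      rwa [Ne, Subgroup.map_eq_bot_iff_of_injective _ N.subtype_injective]) v.2
    rwa [show v = x from Subtype.ext he.symm]
  have hle := Lib.TwoLinearRank.fr_index_le_of_injective hP φ.rangeRestrict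
    (fun a b h => hinj (congrArg Subtype.val h))
  have hRp : IsPGroup 2 ↥φ.range := hP.of_surjective φ.rangeRestrict φ.rangeRestrict_surjective
  obtain ⟨b1, b3, b5⟩ :=
    Lib.TwoLinearRank.irreducible_bound q hq2 n ↥N hn hexp hn1 φ.range hRp hirr φ.rangeRestrict.range
  refine hle.trans ?_
  rw [hn]
  generalize (frattini ↥φ.rangeRestrict.range).index = d at b1 b3 b5 ⊢
  have hq3 : 3 ≤ q := by have := hq.out.two_le; omega
  by_cases h3 : q = 3
  · rcases Nat.lt_or_ge n 2 with hlt | hge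
    · obtain rfl : n = 1 := by omega
      have := b1 rfl
      rw [h3]; omega
    · have h := b3 h3 hge
      rw [h3]
      have hlt : (2 * d) ^ 2 < (3 ^ n) ^ 2 := by
        calc (2 * d) ^ 2 = 4 * d ^ 2 := by ring
          _ ≤ 8 ^ n := h
          _ < 9 ^ n := Nat.pow_lt_pow_left (by norm_num) (by omega)
          _ = (3 ^ n) ^ 2 := by rw [← pow_mul, mul_comm n, pow_mul]; norm_num
      have := (Nat.pow_lt_pow_iff_left two_ne_zero).mp hlt
      omega
  · have h := b5 h3
    have h5 : 5 ≤ q := by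
      by_contra hlt
      have h4 : q = 4 := by omega
      exact absurd hq.out (by rw [h4]; norm_num)
    have : 4 ^ n < q ^ n := Nat.pow_lt_pow_left (by omega) (by omega)
    omega

end Cfsg.Agent.S4188
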