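import Cfsg.Statements.S4355
import Cfsg.Agent.Lib.Fusion.CentralClasses
import Cfsg.Agent.Lib.Fusion.GroupSimple

set_option autoImplicit false
open Cfsg Cfsg.FusionSystem Cfsg.Agent.Lib.Fusion
open scoped commutatorElement

namespace Cfsg.Agent.S4355

/-- If every element of 2-power order of a finite group has a conjugacy class of odd size, then the Sylow 2-subgroups of the group are abelian. -/
theorem result {G : Type*} [Group G] [Finite G]
    (h : ∀ x : G, (∃ k : ℕ, orderOf x = 2 ^ k) → ¬ 2 ∣ (Subgroup.centralizer ({x} : Set G)).index) (P : Sylow 2 G) :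
    IsMulCommutative P := by
  have := Fact.mk Nat.prime_two
  refine CentralClasses.abelian P.2 (groupFusionSystem_saturated P) fun x hx => ?_
  set C := Subgroup.centralizer ({x} : Set G) with hC
  obtain ⟨k, hk⟩ := P.2 ⟨x, hx⟩
  obtain ⟨j, -, hj⟩ := (Nat.dvd_prime_pow Nat.prime_two).1
    (orderOf_dvd_of_pow_eq_one (congrArg Subtype.val hk : x ^ 2 ^ k = 1))
  have hodd : ¬ 2 ∣ C.index := h x ⟨j, hj⟩
  obtain ⟨R⟩ : Nonempty (Sylow 2 C) := inferInstance
  obtain ⟨Q, hQ⟩ := (R.2.map C.subtype).exists_le_sylow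
  have hQC : (Q : Subgroup G) ≤ C := by
    have : (R : Subgroup C).map C.subtype = (Q : Subgroup G) := by
      refine Subgroup.eq_of_le_of_card_ge hQ (le_of_eq ?_)
      rw [Subgroup.card_map_of_injective C.subtype_injective, R.card_eq_multiplicity, Q.card_eq_multiplicity,
        ← C.card_mul_index, Nat.factorization_mul Nat.card_pos.ne' Subgroup.index_ne_zero_of_finite]
      simp [Nat.factorization_eq_zero_of_not_dvd hodd]
    exact this.ge.trans (Subgroup.map_subtype_le _)
  obtain ⟨g, hg⟩ := MulAction.exists_smul_eq G Q P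
  set z := g * x * g⁻¹ with hz
  have hzc : ∀ y ∈ (P : Subgroup G), y * z = z * y := by
    intro y hy
    rw [← hg, Sylow.coe_subgroup_smul] at hy
    obtain ⟨q, hq, rfl⟩ := hy
    show g * q * g⁻¹ * (g * x * g⁻¹) = g * x * g⁻¹ * (g * q * g⁻¹)
    rw [show g * q * g⁻¹ * (g * x * g⁻¹) = g * (q * x) * g⁻¹ by group,
      show g * x * g⁻¹ * (g * q * g⁻¹) = g * (x * q) * g⁻¹ by group,
      (Subgroup.mem_centralizer_iff.1 (hQC hq) x rfl).symm]
  have hzP : z ∈ (P : Subgroup G) := by
    have hzn : Subgroup.zpowers z ≤ Subgroup.normalizer ((P : Subgroup G) : Set G) :=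
      Subgroup.zpowers_le.2 (centralizer_le_normalizer' _ (Subgroup.mem_centralizer_iff.2 hzc))
    have hzp : IsPGroup 2 (Subgroup.zpowers z) := by
      refine IsPGroup.of_card (n := j) ?_
      rw [Nat.card_zpowers, hz, show g * x * g⁻¹ = MulAut.conj g x from rfl, MulEquiv.orderOf_eq, hj]
    exact (P.3 (IsPGroup.to_sup_of_normal_right' hzp P.2 hzn) le_sup_right).le
      (Subgroup.mem_sup_left (Subgroup.mem_zpowers z))
  refine ⟨z, ⟨hzP, Subgroup.mem_centralizer_iff.2 hzc⟩, conjHom (Subgroup.zpowers x) g,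
    ⟨Subgroup.zpowers_le.2 hx, fun w => ?_, g, fun w => rfl⟩, rfl⟩
  obtain ⟨w, i, rfl⟩ := w
  show g * x ^ i * g⁻¹ ∈ (P : Subgroup G)
  rw [← conj_zpow]
  exact zpow_mem hzP i

end Cfsg.Agent.S4355
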