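import Cfsg.Statements.S4194
import Cfsg.Agent.S4355

set_option autoImplicit false
open Cfsg Cfsg.FusionSystem Cfsg.Agent.Lib.Fusion
open scoped commutatorElement

namespace Cfsg.Agent.S4194

/-- A finite group G has commutative Sylow 2-subgroups if and only if every 2-element of G (element of order a power of 2) is 2-central, that is, its centralizer contains a Sylow 2-subgroup of G. -/
theorem result {G : Type*} [Group G] [Finite G] (P : Sylow 2 G) :
    IsMulCommutative (P : Subgroup G) ↔ ∀ x : G, (∃ k : ℕ, orderOf x = 2 ^ k) → (∃ Q : Sylow 2 G, (Q : Subgroup G) ≤ Subgroup.centralizer ({x} : Set G)) := by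
  have := Fact.mk Nat.prime_two
  constructor
  · rintro hab x ⟨k, hk⟩
    have hx : IsPGroup 2 (Subgroup.zpowers x) := IsPGroup.of_card (n := k) ((Nat.card_zpowers x).trans hk)
    obtain ⟨Q, hQ⟩ := hx.exists_le_sylow
    refine ⟨Q, fun q hq => Subgroup.mem_centralizer_iff.2 fun w hw => ?_⟩
    rw [Set.mem_singleton_iff] at hw
    rw [hw]
    let e := Q.equiv P
    have h1 : e ⟨x, hQ (Subgroup.mem_zpowers x)⟩ * e ⟨q, hq⟩ = e ⟨q, hq⟩ * e ⟨x, hQ (Subgroup.mem_zpowers x)⟩ :=
      hab.is_comm.comm _ _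
    rw [← map_mul, ← map_mul] at h1
    exact congrArg Subtype.val (e.injective h1)
  · intro h
    refine Cfsg.Agent.S4355.result (fun x hx h2 => ?_) P
    obtain ⟨Q, hQ⟩ := h x hx
    exact Q.not_dvd_index (h2.trans (Subgroup.index_dvd_of_le hQ))

end Cfsg.Agent.S4194
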