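-- Statement S4302: Thompson factorization in solvable groups with Fitting subgroup a 2-group.
import Cfsg.Statements.S4302
import Cfsg.Agent.Lib.Offender.SymThree
import Cfsg.Agent.Lib.HallHigman.Solvable
import Cfsg.Agent.Lib.Hall.Solvable

set_option autoImplicit false
open Cfsg

namespace Cfsg.Agent.S4302

open Subgroup Cfsg.Agent.Lib.Offender
open scoped commutatorElement

universe u

variable {X : Type u} [Group X] [Finite X]

/-- An element of odd order fixing the involutions of an abelian 2-group fixes all of it. -/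
theorem commute_of_fix_omega {V : Subgroup X} (hab : ∀ x ∈ V, ∀ y ∈ V, x * y = y * x) {g : X}
    (hg : g ∈ normalizer (V : Set X)) (hodd : Odd (orderOf g))
    (hfix : ∀ v ∈ V, v ^ 2 = 1 → Commute g v) : ∀ (k : ℕ), ∀ v ∈ V, v ^ 2 ^ k = 1 → Commute g v := by
  intro k
  induction k with
  | zero => intro v _ h; rw [pow_zero, pow_one] at h; rw [h]; exact Commute.one_right g
  | succ k ih =>
    intro v hv h
    have h2 : Commute g (v ^ 2) := ih _ (pow_mem hv 2) (by rw [← pow_mul, ← pow_succ']; exact h)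
    have hu : g * v * g⁻¹ ∈ V := (mem_normalizer_iff.mp hg v).mp hv
    set f := g * v * g⁻¹ * v⁻¹ with hf
    have hfV : f ∈ V := mul_mem hu (inv_mem hv)
    have hf2 : f ^ 2 = 1 := by
      have hc : Commute (g * v * g⁻¹) v⁻¹ := hab _ hu _ (inv_mem hv)
      rw [hf, hc.mul_pow, conj_pow, h2.eq, mul_inv_cancel_right, inv_pow, mul_inv_cancel]
    have hgf : Commute g f := hfix f hfV hf2
    have hiter : ∀ j : ℕ, g ^ j * v * (g ^ j)⁻¹ = f ^ j * v := by
      intro j
      induction j with
      | zero => simp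
      | succ j ihj =>
        calc g ^ (j + 1) * v * (g ^ (j + 1))⁻¹ = g * (g ^ j * v * (g ^ j)⁻¹) * g⁻¹ := by
              rw [pow_succ']; group
          _ = (g * f ^ j * g⁻¹) * (g * v * g⁻¹) := by rw [ihj]; group
          _ = f ^ j * (g * v * g⁻¹) := by rw [(hgf.pow_right j).eq, mul_inv_cancel_right]
          _ = f ^ (j + 1) * v := by rw [pow_succ, hf]; group
    have h1 := hiter (orderOf g)
    rw [pow_orderOf_eq_one, one_mul, inv_one, mul_one] at h1
    have h3 : f ^ orderOf g = 1 := mul_eq_right.mp h1.symm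
    obtain ⟨r, hr⟩ := hodd
    rw [hr, pow_succ, pow_mul, hf2, one_pow, one_mul] at h3
    exact mul_inv_eq_iff_eq_mul.mp (by rw [hf, mul_inv_eq_one] at h3; exact h3)

/-- The image of a subgroup modulo a normal one as a quotient. -/
theorem quotient_equiv_map {Y : Type*} [Group Y] (f : X →* Y) (L N : Subgroup X) [N.Normal] (hf : f.ker = N) :
    Nonempty ((↥L ⧸ N.subgroupOf L) ≃* ↥(L.map f)) := by
  have hk : (f.subgroupMap L).ker = N.subgroupOf L := by
    ext z
    rw [MonoidHom.mem_ker, Subtype.ext_iff, mem_subgroupOf, ← hf, MonoidHom.mem_ker]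
    rfl
  exact ⟨(QuotientGroup.quotientMulEquivOfEq hk.symm).trans
    (QuotientGroup.quotientKerEquivOfSurjective (f.subgroupMap L) (f.subgroupMap_surjective L))⟩

theorem main [Group.IsSolvable X] (hF : fittingSubgroup X = pCore 2 X) (T : Sylow 2 X) :
    ((centralizer (((T : Subgroup X) ⊓ centralizer ((T : Subgroup X) : Set X) : Subgroup X) : Set X)).normalCore ⊔
        normalClosure (thompsonSubgroupAOf (T : Subgroup X) : Set X) ⊔
        normalizer (thompsonSubgroupAOf (T : Subgroup X) : Set X) = ⊤) ∧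
      (normalClosure (thompsonSubgroupAOf (T : Subgroup X) : Set X) ≤
          (centralizer (((T : Subgroup X) ⊓ centralizer ((T : Subgroup X) : Set X) : Subgroup X) : Set X)).normalCore ∨
        ∃ n : ℕ, 1 ≤ n ∧ Nonempty
          (↥(normalClosure (thompsonSubgroupAOf (T : Subgroup X) : Set X)) ⧸
            ((centralizer (((T : Subgroup X) ⊓ centralizer ((T : Subgroup X) : Set X) : Subgroup X) :
              Set X)).normalCore).subgroupOf (normalClosure (thompsonSubgroupAOf (T : Subgroup X) : Set X)) ≃*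
            (Fin n → Equiv.Perm (Fin 3)))) := by
  classical
  haveI : Fact (Nat.Prime 2) := ⟨Nat.prime_two⟩
  set JA := thompsonSubgroupAOf (T : Subgroup X)
  set Z := (T : Subgroup X) ⊓ centralizer ((T : Subgroup X) : Set X)
  set N₀ := (centralizer (Z : Set X)).normalCore with hN₀
  set L := normalClosure (JA : Set X)
  haveI hLn : L.Normal := normalClosure_normal
  have hJAT : JA ≤ (T : Subgroup X) := map_subtype_le _
  refine ⟨?_, ?_⟩
  · -- the Frattini argument
    set P := T.subtype le_rfl with hP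
    set TL : Subgroup X := (T : Subgroup X) ⊓ L
    have hJTL : JA ≤ TL := le_inf hJAT le_normalClosure
    obtain ⟨Q, hQ⟩ := Lib.Thompson.exists_sylow_inf_normal T L
    have hfr := Sylow.normalizer_sup_eq_top Q
    rw [hQ] at hfr
    rw [eq_top_iff, ← hfr]
    refine sup_le ?_ (le_sup_right.trans le_sup_left)
    refine le_trans (fun g hg => ?_) le_sup_right
    refine mem_normalizer_fintype fun x hx => ?_
    have hle : JA ≤ JA.comap (MulAut.conj g).toMonoidHom := by
      rw [show JA = (sSup (maxAbelianSubgroups ↥(T : Subgroup X))).map (T : Subgroup X).subtype from rfl]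
      rw [map_le_iff_le_comap]
      refine sSup_le fun A hA => map_le_iff_le_comap.mp ?_
      rw [← map_le_iff_le_comap]
      set A' := (A.map (T : Subgroup X).subtype).map (MulAut.conj g).toMonoidHom
      have hA'T : A' ≤ (T : Subgroup X) := by
        rintro _ ⟨y, hy, rfl⟩
        have hyJ : y ∈ TL := hJTL (map_mono (le_sSup hA) hy)
        exact ((mem_normalizer_iff.mp hg y).mp hyJ).1
      have hA'c : Nat.card (A'.subgroupOf (T : Subgroup X)) = Nat.card A := by
        rw [Lib.Coprime.card_subgroupOf hA'T, card_map_of_injective (MulAut.conj g).injective,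
          card_map_of_injective (T : Subgroup X).subtype_injective]
      have hA'mem : A'.subgroupOf (T : Subgroup X) ∈ maxAbelianSubgroups ↥(T : Subgroup X) := by
        refine ⟨⟨⟨fun u v => ?_⟩⟩, fun B hB => (hA.2 B hB).trans hA'c.ge⟩
        obtain ⟨_, ⟨a, ha, rfl⟩, e1⟩ := (mem_subgroupOf.mp u.2 : _ ∈ A')
        obtain ⟨_, ⟨b, hb, rfl⟩, e2⟩ := (mem_subgroupOf.mp v.2 : _ ∈ A')
        haveI := hA.1
        have hab : (a : X) * b = b * a :=
          congrArg (fun z : A => ((z : ↥(T : Subgroup X)) : X)) (mul_comm' (⟨a, ha⟩ : A) ⟨b, hb⟩)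
        refine Subtype.ext (Subtype.ext ?_)
        show _ * _ = _ * _
        rw [← e1, ← e2]; simp only [← map_mul]
        exact congrArg _ (congrArg _ (Subtype.ext hab))
      have := map_mono (f := (T : Subgroup X).subtype) (le_sSup hA'mem)
      rw [map_subgroupOf_eq_of_le hA'T] at this
      exact this
    exact hle hx
  -- the module
  set V := normalClosure (Z : Set X)
  set Q₂ := pCore 2 X
  have hQp : IsPGroup 2 Q₂ := Lib.Hall.isPGroup_pCore 2
  haveI hQn : Q₂.Normal := Cfsg.pCore_normal 2 X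
  have hQT : Q₂ ≤ (T : Subgroup X) := hQp.le_sylow_of_normal T
  have hcQ : centralizer (Q₂ : Set X) ≤ Q₂ := by
    have := Lib.Hall.centralizer_fittingSubgroup_le (G := X)
    rwa [hF] at this
  have hZQ : Z ≤ Q₂ ⊓ centralizer (Q₂ : Set X) := by
    have hc : Z ≤ centralizer (Q₂ : Set X) := inf_le_right.trans (centralizer_le hQT)
    exact le_inf (hc.trans hcQ) hc
  have hVQ : V ≤ Q₂ ⊓ centralizer (Q₂ : Set X) := normalClosure_le_normal hZQ
  have hVab : ∀ x ∈ V, ∀ y ∈ V, x * y = y * x := fun x hx y hy =>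
    (mem_centralizer_iff.mp (hVQ hy).2 x (hVQ hx).1)
  have hCV : centralizer (V : Set X) = N₀ := by
    apply le_antisymm
    · haveI : (centralizer (V : Set X)).Normal := inferInstance
      exact Subgroup.normal_le_normalCore.mpr (centralizer_le le_normalClosure)
    · have hle : V ≤ centralizer (N₀ : Set X) := normalClosure_le_normal fun z hz =>
        mem_centralizer_iff.mpr fun g hg => (mem_centralizer_iff.mp (normalCore_le _ hg) z hz).symm
      exact le_centralizer_iff.mp hle
  let W : Subgroup X :=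
    { carrier := {v | v ∈ V ∧ v ^ 2 = 1}
      one_mem' := ⟨one_mem _, one_pow 2⟩
      mul_mem' := fun {a b} ha hb => ⟨mul_mem ha.1 hb.1, by
        rw [(show Commute a b from hVab a ha.1 b hb.1).mul_pow, ha.2, hb.2, one_mul]⟩
      inv_mem' := fun {a} ha => ⟨inv_mem ha.1, by rw [inv_pow, ha.2, inv_one]⟩ }
  haveI hWn : W.Normal := ⟨fun v hv g => ⟨normalClosure_normal.conj_mem v hv.1 g, by
    rw [conj_pow, hv.2, mul_one, mul_inv_cancel]⟩⟩
  have hWV : W ≤ V := fun v hv => hv.1
  have hWel : IsElementaryAbelian 2 W :=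
    ⟨⟨⟨fun a b => Subtype.ext (hVab a a.2.1 b b.2.1)⟩⟩, fun x hx => hx.2⟩
  -- a normal subgroup which is a 2-group modulo `C(V)` centralizes `V`
  haveI hN₀n : N₀.Normal := normalCore_normal _
  have hnorm : ∀ D : Subgroup X, D.Normal → N₀ ≤ D → (∀ g ∈ D, Odd (orderOf g) → g ∈ N₀) → D ≤ N₀ := by
    intro D hDn hND hodd
    refine Subgroup.normal_le_normalCore.mpr ?_
    set π := QuotientGroup.mk' N₀
    have hDp : IsPGroup 2 (D.map π) := by
      rintro ⟨_, ⟨g, hg, rfl⟩⟩
      obtain ⟨k, m, hm, hkm⟩ := Nat.exists_eq_two_pow_mul_odd (orderOf_pos g).ne'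
      refine ⟨k, Subtype.ext ?_⟩
      show (π g) ^ 2 ^ k = 1
      rw [← map_pow]
      refine (QuotientGroup.eq_one_iff _).mpr (hodd _ (pow_mem hg _) ?_)
      rw [orderOf_pow_of_dvd (by positivity) ⟨m, hkm⟩, hkm, Nat.mul_div_cancel_left _ (by positivity)]
      exact hm
    have hDT : D.map π ≤ (T : Subgroup X).map π := by
      have := @IsPGroup.le_sylow_of_normal 2 _ _ _ (hDn.map π (QuotientGroup.mk'_surjective _)) hDp
        (T.mapSurjective (QuotientGroup.mk'_surjective N₀))
      exact this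
    have hD : D ≤ (T : Subgroup X) ⊔ N₀ := by
      have := map_le_iff_le_comap.mp hDT
      rwa [Subgroup.comap_map_eq, QuotientGroup.ker_mk'] at this
    exact hD.trans (sup_le (le_centralizer_iff.mp inf_le_right) (normalCore_le _))
  -- `C(W) = C(V)`
  have hCW : centralizer (W : Set X) = N₀ := by
    refine le_antisymm (hnorm _ inferInstance (hCV ▸ centralizer_le hWV) fun g hg hodd => ?_)
      (hCV ▸ centralizer_le hWV)
    rw [← hCV]
    refine mem_centralizer_iff.mpr fun v hv => ?_
    obtain ⟨k, hk⟩ := (hQp.to_le (le_trans hVQ inf_le_left)) ⟨v, hv⟩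
    exact (commute_of_fix_omega hVab (by rw [normalizer_eq_top]; trivial) hodd
      (fun w hw h => (mem_centralizer_iff.mp hg w ⟨hw, h⟩).symm) k v hv
      (by simpa using congrArg Subtype.val hk)).symm.eq
  have hcore : ∀ D : Subgroup X, D.Normal → IsPGroup 2 (D.map (prj W)) → D ≤ centralizer (W : Set X) := by
    intro D hDn hDp
    have hle := hnorm (D ⊔ N₀) inferInstance le_sup_right fun g hg hodd => ?_
    · rw [hCW]; exact le_sup_left.trans hle
    rw [← hCW, ← prj_eq_one_iff]
    have hmem : prj W g ∈ D.map (prj W) := by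
      have h1 : (D ⊔ N₀).map (prj W) = D.map (prj W) := by
        rw [Subgroup.map_sup, sup_eq_left]
        rintro _ ⟨n, hn, rfl⟩
        rw [(prj_eq_one_iff W).mpr (hCW.symm ▸ hn)]
        exact one_mem _
      exact h1 ▸ mem_map_of_mem _ hg
    obtain ⟨k, hk⟩ := hDp ⟨_, hmem⟩
    rw [← orderOf_eq_one_iff]
    refine Nat.eq_one_of_dvd_coprimes (Nat.Coprime.pow_left k (Nat.coprime_two_left.mpr hodd)) ?_
      (orderOf_map_dvd (prj W) g)
    exact orderOf_dvd_of_pow_eq_one (by simpa using congrArg Subtype.val hk)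
  -- the setting for the whole group
  set H₀ := (prj W).range
  have hsolH : Cfsg.IsPSolvable 2 ↥H₀ := by
    haveI : Group.IsSolvable ↥H₀ := Group.isSolvable_of_surjective (prj W).rangeRestrict_surjective
    exact Lib.HallHigman.isPSolvable_of_isSolvable 2
  have hH₀core : pCore 2 ↥H₀ = ⊥ := by
    rw [eq_bot_iff]
    intro y hy
    obtain ⟨g, hg⟩ := y.2
    set D := (pCore 2 ↥H₀).comap (prj W).rangeRestrict
    haveI : (pCore 2 ↥H₀).Normal := Cfsg.pCore_normal 2 _
    have hDp : IsPGroup 2 (D.map (prj W)) := by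
      have h1 : D.map (prj W) = (pCore 2 ↥H₀).map H₀.subtype := by
        rw [show prj W = H₀.subtype.comp (prj W).rangeRestrict from rfl, ← Subgroup.map_map,
          map_comap_eq_self_of_surjective (prj W).rangeRestrict_surjective]
      rw [h1]; exact (Lib.Hall.isPGroup_pCore 2).map _
    have hgD : g ∈ D := by
      rw [mem_comap, show (prj W).rangeRestrict g = y from Subtype.ext hg]; exact hy
    rw [mem_bot]
    exact Subtype.ext (hg.symm.trans ((prj_eq_one_iff W).mpr (hcore D inferInstance hDp hgD)))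
  have hfaith0 : H₀ ⊓ centralizer ((iV W).range : Set (Mdl W)) = ⊥ := by
    rw [eq_bot_iff]
    rintro _ ⟨⟨g, rfl⟩, hc⟩
    refine mem_bot.mpr ((prj_eq_one_iff W).mpr (mem_centralizer_iff.mpr fun v hv => ?_))
    exact ((commute_prj_iff W (v := ⟨v, hv⟩)).mp (mem_centralizer_iff.mp hc _ ⟨_, rfl⟩).symm).symm.eq
  have s₀ := setting_of_pPrimeCore (p := 2) (elementary_model W hWel) (range_normalized W) hfaith0
    (Lib.HallHigman.centralizer_pPrimeCore_le hsolH hH₀core)
  -- abelian subgroups of largest order are best offenders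
  have hbest : ∀ (T' : Sylow 2 X) (A : Subgroup X), A ≤ (T' : Subgroup X) → (∀ x ∈ A, ∀ y ∈ A, x * y = y * x) →
      (∀ B : Subgroup X, B ≤ (T' : Subgroup X) → (∀ x ∈ B, ∀ y ∈ B, x * y = y * x) → Nat.card B ≤ Nat.card A) →
      IsBestOffenderOn 2 W A := by
    intro T' A hAT hAc hAmax
    set C := centralizer (W : Set X)
    have hAb : A.map (prj W) ≤ H₀ := map_le_range _ _
    have hm := s₀.abelian_measure (A.map (prj W)) hAb (by
      rintro _ ⟨x, hx, rfl⟩ _ ⟨y, hy, rfl⟩; rw [← map_mul, ← map_mul, hAc x hx y hy])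
      ((T'.2.to_le hAT).map _)
    rw [card_fixV_model] at hm
    have hcardW : Nat.card (iV W).range = Nat.card W :=
      (Nat.card_congr (MonoidHom.ofInjective (SemidirectProduct.inl_injective (φ := act W))).toEquiv).symm
    rw [hcardW] at hm
    have hge : Nat.card W ≤ Nat.card (A.map (prj W)) * Nat.card (fixV W A) := by
      set A₁ := (A ⊓ C) ⊔ W
      have hWT' : W ≤ (T' : Subgroup X) :=
        (hWV.trans (hVQ.trans inf_le_left)).trans (hQp.le_sylow_of_normal T')
      have hAW : ∀ x ∈ A ⊓ C, ∀ v ∈ W, x * v = v * x := fun x hx v hv => (mem_centralizer_iff.mp hx.2 v hv).symm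
      have hA₁ : ∀ x ∈ A₁, ∀ y ∈ A₁, x * y = y * x := by
        have hle : A₁ ≤ centralizer (A₁ : Set X) := by
          refine sup_le ?_ ?_ <;> rw [le_centralizer_iff] <;> refine sup_le ?_ ?_ <;> intro x hx <;>
            refine mem_centralizer_iff.mpr fun y hy => ?_
          · exact hAc y hy.1 x hx.1
          · exact hAW y hy x hx
          · exact (hAW x hx y hy).symm
          · exact hVab y (hWV hy) x (hWV hx)
        exact fun x hx y hy => mem_centralizer_iff.mp (hle hy) x hx
      have hle := hAmax A₁ (sup_le (inf_le_left.trans hAT) hWT') hA₁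
      have h1 := Lib.Coprime.card_sup_mul_card_inf_of_le_normalizer (A := A ⊓ C) (N := W)
        (fun x hx => centralizer_le_normalizer _ hx.2)
      have h2 : Nat.card ((A ⊓ C) ⊓ W : Subgroup X) ≤ Nat.card (fixV W A) := card_le_of_le fun x hx =>
        mem_fixV.mpr ⟨hx.2, fun a ha => hAc a ha x hx.1.1⟩
      have h3 := card_map_prj W A
      refine Nat.le_of_mul_le_mul_left ?_ (Nat.card_pos (α := ↥(A ⊓ C)))
      calc Nat.card ↥(A ⊓ C) * Nat.card W = Nat.card A₁ * Nat.card ((A ⊓ C) ⊓ W : Subgroup X) := h1.symm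
        _ ≤ Nat.card A * Nat.card (fixV W A) := Nat.mul_le_mul hle h2
        _ = _ := by rw [← h3]; ring
    have hel := hm.2 (le_antisymm hm.1 hge)
    refine ⟨fun B hB => ?_, commutator_le.mpr fun x hx y hy => ?_, fun x hx => ?_⟩
    · show Nat.card B * Nat.card (fixV W B) ≤ Nat.card A * Nat.card (fixV W A)
      have hmB := (s₀.abelian_measure (B.map (prj W)) (map_le_range _ _) (by
        rintro _ ⟨x, hx, rfl⟩ _ ⟨y, hy, rfl⟩; rw [← map_mul, ← map_mul, hAc x (hB hx) y (hB hy)])
        ((T'.2.to_le (hB.trans hAT)).map _)).1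
      rw [card_fixV_model, hcardW] at hmB
      have hBC : Nat.card (B ⊓ C : Subgroup X) ≤ Nat.card (A ⊓ C : Subgroup X) :=
        card_le_of_le (inf_le_inf_right _ hB)
      rw [← card_map_prj W B, ← card_map_prj W A]
      calc Nat.card (B.map (prj W)) * Nat.card (B ⊓ C : Subgroup X) * Nat.card (fixV W B)
          = Nat.card (B ⊓ C : Subgroup X) * (Nat.card (B.map (prj W)) * Nat.card (fixV W B)) := by ring
        _ ≤ Nat.card (A ⊓ C : Subgroup X) * (Nat.card (A.map (prj W)) * Nat.card (fixV W A)) :=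
            Nat.mul_le_mul hBC (hmB.trans hge)
        _ = _ := by ring
    · rw [commutatorElement_eq_one_iff_mul_comm.mpr (hAc x hx y hy)]; exact one_mem _
    · rw [← prj_eq_one_iff, map_pow]
      exact hel.2 _ (mem_map_of_mem _ hx)
  -- `L` is generated by best offenders
  set 𝒜 := {A : Subgroup X | A ≤ L ∧ IsBestOffenderOn 2 W A}
  have hgenL : L = sSup 𝒜 := by
    refine le_antisymm ?_ (sSup_le fun A hA => hA.1)
    let 𝒯 : Subgroup X := ⨆ (g : X) (A : maxAbelianSubgroups ↥(T : Subgroup X)),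
      ((A : Subgroup ↥(T : Subgroup X)).map (T : Subgroup X).subtype).map (MulAut.conj g).toMonoidHom
    haveI h𝒯 : 𝒯.Normal := by
      refine ⟨fun x hx h => ?_⟩
      have hle : 𝒯.map (MulAut.conj h).toMonoidHom ≤ 𝒯 := by
        simp only [𝒯, Subgroup.map_iSup]
        refine iSup₂_le fun g A => le_iSup₂_of_le (h * g) A (le_of_eq ?_)
        rw [Subgroup.map_map]
        congr 1
        exact MonoidHom.ext fun y => by simp [mul_assoc]
      exact hle (mem_map_of_mem _ hx)
    have hJ : JA ≤ 𝒯 := by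
      show (sSup (maxAbelianSubgroups ↥(T : Subgroup X))).map (T : Subgroup X).subtype ≤ _
      rw [sSup_eq_iSup', Subgroup.map_iSup]
      refine iSup_le fun A => le_iSup₂_of_le 1 A ?_
      intro y hy
      exact ⟨y, hy, by simp⟩
    refine (normalClosure_le_normal hJ).trans (iSup₂_le fun g A => le_sSup ?_)
    set A₀ := (A : Subgroup ↥(T : Subgroup X)).map (T : Subgroup X).subtype
    have hA₀J : A₀ ≤ JA := map_mono (le_sSup A.2)
    have hA₀c : ∀ x ∈ A₀, ∀ y ∈ A₀, x * y = y * x := by
      rintro _ ⟨a, ha, rfl⟩ _ ⟨b, hb, rfl⟩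
      haveI := A.2.1
      exact congrArg (fun z : (A : Subgroup ↥(T : Subgroup X)) => ((z : ↥(T : Subgroup X)) : X))
        (mul_comm' (⟨a, ha⟩ : (A : Subgroup ↥(T : Subgroup X))) ⟨b, hb⟩)
    refine ⟨?_, hbest (g • T) _ ?_ ?_ ?_⟩
    · rintro _ ⟨y, hy, rfl⟩
      exact hLn.conj_mem y (le_normalClosure (hA₀J hy)) g
    · rintro _ ⟨y, hy, rfl⟩
      exact ⟨y, map_subtype_le _ hy, rfl⟩
    · rintro _ ⟨x, hx, rfl⟩ _ ⟨y, hy, rfl⟩
      rw [← map_mul, ← map_mul, hA₀c x hx y hy]
    · intro B hBT hBc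
      rw [card_map_of_injective (MulAut.conj g).injective, card_map_of_injective (T : Subgroup X).subtype_injective]
      set B' := (B.map (MulAut.conj g⁻¹).toMonoidHom)
      have hB'T : B' ≤ (T : Subgroup X) := by
        rintro _ ⟨b, hb, rfl⟩
        obtain ⟨y, hy, e⟩ := hBT hb
        rw [← e]
        simpa [mul_assoc] using (show y ∈ (T : Subgroup X) from hy)
      have := A.2.2 (B'.subgroupOf (T : Subgroup X)) ⟨⟨fun u v => Subtype.ext (Subtype.ext (by
        obtain ⟨_, ⟨b₁, hb₁, e₁⟩⟩ := (⟨_, u.2⟩ : {x // x ∈ B'.subgroupOf (T : Subgroup X)})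
        obtain ⟨b₁, hb₁, e₁⟩ := (mem_subgroupOf.mp u.2 : _ ∈ B')
        obtain ⟨b₂, hb₂, e₂⟩ := (mem_subgroupOf.mp v.2 : _ ∈ B')
        show _ * _ = _ * _
        rw [← e₁, ← e₂, ← map_mul, ← map_mul, hBc b₁ hb₁ b₂ hb₂]))⟩⟩
      rwa [Lib.Coprime.card_subgroupOf hB'T, card_map_of_injective (MulAut.conj g⁻¹).injective] at this
  obtain ⟨K, s, -, hgen⟩ := exists_setting (p := 2) (V := W) hWel L
    (Lib.GenStruct.PHall.isPSolvable_subgroup (Lib.HallHigman.isPSolvable_of_isSolvable 2) L) hgenL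
    (fun D hDn hDL ⟨k, hk⟩ _ => by
      refine hcore D hDn ?_
      have hp := isPGroup_map_of_relIndex (p := 2) W hDL hk
      rw [show prj W = (SemidirectProduct.inr : _ →* Mdl W).comp
          (QuotientGroup.mk' (centralizer (W : Set X))) from rfl, ← Subgroup.map_map]
      exact hp.map _)
  by_cases hbot : L.map (prj W) = ⊥
  · left
    refine le_trans (fun g hg => ?_) hCW.le
    exact (prj_eq_one_iff W).mp (mem_bot.mp (hbot ▸ mem_map_of_mem _ hg))
  · right
    obtain ⟨n, hn, ⟨e⟩⟩ := s.equiv_symThree hgen hbot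
    haveI : N₀.Normal := normalCore_normal _
    obtain ⟨e'⟩ := quotient_equiv_map (prj W) L N₀ (by rw [prj_ker, hCW])
    exact ⟨n, hn, ⟨e'.trans e⟩⟩

theorem result {X : Type*} [Group X] [Finite X] [Group.IsSolvable X] (hF : Cfsg.fittingSubgroup X = Cfsg.pCore 2 X) (T : Sylow 2 X) : ((Subgroup.centralizer (((T : Subgroup X) ⊓ Subgroup.centralizer ((T : Subgroup X) : Set X) : Subgroup X) : Set X)).normalCore ⊔ Subgroup.normalClosure (Cfsg.thompsonSubgroupAOf (T : Subgroup X) : Set X) ⊔ Subgroup.normalizer (Cfsg.thompsonSubgroupAOf (T : Subgroup X) : Set X) = ⊤) ∧ (Subgroup.normalClosure (Cfsg.thompsonSubgroupAOf (T : Subgroup X) : Set X) ≤ (Subgroup.centralizer (((T : Subgroup X) ⊓ Subgroup.centralizer ((T : Subgroup X) : Set X) : Subgroup X) : Set X)).normalCore ∨ ∃ n : ℕ, 1 ≤ n ∧ Nonempty (↥(Subgroup.normalClosure (Cfsg.thompsonSubgroupAOf (T : Subgroup X) : Set X)) ⧸ ((Subgroup.centralizer (((T : Subgroup X) ⊓ Subgroup.centralizer ((T : Subgroup X) : Set X) : Subgroup X) : Set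 X)).normalCore).subgroupOf (Subgroup.normalClosure (Cfsg.thompsonSubgroupAOf (T : Subgroup X) : Set X)) ≃* (Fin n → Equiv.Perm (Fin 3)))) :=
  main hF T

end Cfsg.Agent.S4302
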