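import Cfsg.Statements.S4347

import Cfsg.Agent.Lib.Struct4.Basic
set_option autoImplicit false
open Cfsg

namespace Cfsg.Agent.S4347

open Cfsg.Agent.Lib.Struct4

/-- Let G be a finite group and p a prime. Say a Sylow p-subgroup Q is redundant when every element of p-power order lies in some Sylow p-subgroup other than Q. Then G has no redundant Sylow p-subgroup if and only if some element of p-power order lies in exactly one Sylow p-subgroup. -/
theorem result {G : Type*} [Group G] [Finite G]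
    (p : ℕ) [Fact p.Prime] :
    (¬ ∃ Q : Sylow p G, ∀ x : G, (∃ k : ℕ, orderOf x = p ^ k) → ∃ P : Sylow p G, P ≠ Q ∧ x ∈ P) ↔
      ∃ x : G, (∃ k : ℕ, orderOf x = p ^ k) ∧ ∃! P : Sylow p G, x ∈ P := by
  constructor
  · intro h
    by_contra hc
    push Not at hc
    refine h ⟨default, fun x hx => ?_⟩
    obtain ⟨k, hk⟩ := hx
    obtain ⟨P, hP⟩ := (IsPGroup.of_card (p := p) (G := Subgroup.zpowers x) (n := k)
      (by rw [Nat.card_zpowers, hk])).exists_le_sylow
    have hxP : x ∈ P := hP (Subgroup.mem_zpowers x)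
    by_contra hne
    push Not at hne
    refine hc x ⟨k, hk⟩ ⟨P, hxP, fun P' hP' => ?_⟩
    rw [by_contra fun h' => hne P' h' hP', by_contra fun h' => hne P h' hxP]
  · rintro ⟨x, ⟨k, hk⟩, P, hxP, huniq⟩ ⟨Q, hQ⟩
    obtain ⟨g, rfl⟩ := MulAction.exists_smul_eq G P Q
    have hk' : orderOf (g * x * g⁻¹) = p ^ k :=
      hk ▸ orderOf_injective (MulAut.conj g).toMonoidHom (MulAut.conj g).injective x
    obtain ⟨P', hne, hP'⟩ := hQ _ ⟨k, hk'⟩
    refine hne ?_
    have : x ∈ g⁻¹ • P' := by
      show x ∈ ((g⁻¹ • P' : Sylow p G) : Subgroup G)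
      rw [mem_normal_smul_sylow]
      simp only [inv_inv]
      exact hP'
    rw [← huniq _ this, smul_inv_smul]

end Cfsg.Agent.S4347
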