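import Cfsg.Statements.S4348

set_option autoImplicit false
open Cfsg

namespace Cfsg.Agent.S4348

/-- Let G be a finite group, p a prime and P a Sylow p-subgroup of G, and let O_p(G) be the largest normal p-subgroup of G. If P/O_p(G) is cyclic, then some element of p-power order of G lies in exactly one Sylow p-subgroup. -/
theorem result {G : Type*} [Group G] [Finite G]
    (p : ℕ) [Fact p.Prime] (P : Sylow p G)
    [hn : ((Cfsg.pCore p G).subgroupOf (P : Subgroup G)).Normal]
    (hc : IsCyclic ((P : Subgroup G) ⧸ (Cfsg.pCore p G).subgroupOf (P : Subgroup G))) :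
    ∃ x : G, (∃ k : ℕ, orderOf x = p ^ k) ∧ ∃! Q : Sylow p G, x ∈ Q := by
  obtain ⟨q, hq⟩ := hc.exists_generator
  obtain ⟨x, rfl⟩ := QuotientGroup.mk'_surjective _ q
  obtain ⟨k, hk⟩ := IsPGroup.iff_orderOf.1 P.isPGroup' x
  refine ⟨x, ⟨k, by rw [Subgroup.orderOf_coe]; exact hk⟩, P, x.2, fun Q hQ => ?_⟩
  have hle : (P : Subgroup G) ≤ (Q : Subgroup G) := by
    intro y hy
    obtain ⟨i, hi⟩ := hq (QuotientGroup.mk' ((Cfsg.pCore p G).subgroupOf (P : Subgroup G)) (⟨y, hy⟩ : (P : Subgroup G)))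
    change (QuotientGroup.mk' _ x) ^ i = QuotientGroup.mk' ((Cfsg.pCore p G).subgroupOf (P : Subgroup G)) (⟨y, hy⟩ : (P : Subgroup G)) at hi
    rw [← map_zpow, QuotientGroup.mk'_eq_mk'] at hi
    obtain ⟨z, hz, hzy⟩ := hi
    have h1 : ((x ^ i * z : (P : Subgroup G)) : G) = y := congrArg Subtype.val hzy
    rw [Subgroup.coe_mul, Subgroup.coe_zpow] at h1
    rw [← h1]
    refine (Q : Subgroup G).mul_mem ((Q : Subgroup G).zpow_mem hQ i) ?_
    have hcore : Cfsg.pCore p G ≤ (Q : Subgroup G) := by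
      refine sSup_le ?_
      rintro N ⟨hN, hp⟩
      obtain ⟨R, hR⟩ := hp.exists_le_sylow
      obtain ⟨g, rfl⟩ := MulAction.exists_smul_eq G R Q
      intro n hn
      rw [Sylow.coe_subgroup_smul, Subgroup.mem_pointwise_smul_iff_inv_smul_mem]
      apply hR
      simpa using hN.conj_mem n hn g⁻¹
    exact hcore hz
  exact Sylow.ext (P.is_maximal' Q.isPGroup' hle)

end Cfsg.Agent.S4348
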