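import Cfsg.Statements.S4349
import Mathlib

set_option autoImplicit false
open Cfsg

namespace Cfsg.Agent.S4349

open Equiv Equiv.Perm

/-- If the conjugates of an involution under powers of a 2-element commute, both lie in a 2-group. -/
theorem isPGroup_sup {G : Type*} [Group G] [Finite G] (x y : G) {k : ℕ} (hx : x ^ (2 ^ k) = 1) (hy : y * y = 1)
    (hc : ∀ i : ℤ, Commute y (x ^ i * y * x ^ (-i))) :
    ∃ P : Sylow 2 G, x ∈ P ∧ y ∈ P := by
  classical
  set S : Set G := Set.range fun i : ℤ => x ^ i * y * x ^ (-i) with hS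
  set N := Subgroup.closure S
  have hcomm : ∀ a ∈ S, ∀ b ∈ S, a * b = b * a := by
    rintro _ ⟨i, rfl⟩ _ ⟨j, rfl⟩
    have h := (hc (j - i)).eq
    have h2 := congrArg (fun g => x ^ i * g * x ^ (-i)) h
    simp only at h2 ⊢
    calc (x ^ i * y * x ^ (-i)) * (x ^ j * y * x ^ (-j))
        = x ^ i * (y * (x ^ (j - i) * y * x ^ (-(j - i)))) * x ^ (-i) := by group
      _ = x ^ i * (x ^ (j - i) * y * x ^ (-(j - i)) * y) * x ^ (-i) := h2
      _ = _ := by group
  have hN : IsPGroup 2 N := by
    intro g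
    refine ⟨1, Subtype.ext ?_⟩
    rw [pow_one]
    haveI := Subgroup.isMulCommutative_closure hcomm
    suffices ∀ (a : G) (ha : a ∈ N), (⟨a, ha⟩ : N) ^ 2 = 1 from congrArg Subtype.val (this g g.2)
    intro a ha
    induction ha using Subgroup.closure_induction with
    | mem a ha =>
      obtain ⟨i, rfl⟩ := ha
      refine Subtype.ext ?_
      show (x ^ i * y * x ^ (-i)) ^ 2 = 1
      rw [sq, show x ^ i * y * x ^ (-i) * (x ^ i * y * x ^ (-i)) = x ^ i * (y * y) * x ^ (-i) by group, hy]
      group
    | one => exact one_pow _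
    | mul a b ha hb iha ihb =>
      have : (⟨a * b, mul_mem ha hb⟩ : N) = ⟨a, ha⟩ * ⟨b, hb⟩ := rfl
      rw [this, Commute.mul_pow (mul_comm' (⟨a, ha⟩ : N) ⟨b, hb⟩), iha, ihb, one_mul]
    | inv a ha iha =>
      have : (⟨a⁻¹, inv_mem ha⟩ : N) = ⟨a, ha⟩⁻¹ := rfl
      rw [this, inv_pow, iha, inv_one]
  have hnorm : Subgroup.zpowers x ≤ Subgroup.normalizer (N : Set G) := by
    rw [Subgroup.zpowers_le, Subgroup.mem_normalizer_iff]
    have key : ∀ j : ℤ, ∀ a ∈ N, x ^ j * a * x ^ (-j) ∈ N := by
      intro j a ha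
      induction ha using Subgroup.closure_induction with
      | mem a ha =>
        obtain ⟨i, rfl⟩ := ha
        refine Subgroup.subset_closure ⟨j + i, ?_⟩
        group
      | one => rw [mul_one, ← zpow_add, add_neg_cancel, zpow_zero]; exact one_mem _
      | mul a b _ _ iha ihb =>
        have : x ^ j * (a * b) * x ^ (-j) = (x ^ j * a * x ^ (-j)) * (x ^ j * b * x ^ (-j)) := by group
        rw [this]; exact mul_mem iha ihb
      | inv a _ iha =>
        have : x ^ j * a⁻¹ * x ^ (-j) = (x ^ j * a * x ^ (-j))⁻¹ := by group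
        rw [this]; exact inv_mem iha
    intro a
    constructor
    · intro ha; simpa using key 1 a ha
    · intro ha
      have := key (-1) _ ha
      simpa [mul_assoc] using this
  have hxp : IsPGroup 2 (Subgroup.zpowers x) := by
    intro g
    refine ⟨k, Subtype.ext ?_⟩
    obtain ⟨g, hg⟩ := g
    obtain ⟨i, rfl⟩ := Subgroup.mem_zpowers_iff.1 hg
    show (x ^ i) ^ (2 ^ k) = 1
    rw [← zpow_natCast, zpow_comm, zpow_natCast, hx, one_zpow]
  obtain ⟨P, hP⟩ := (IsPGroup.to_sup_of_normal_right' hxp hN hnorm).exists_le_sylow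
  refine ⟨P, hP (Subgroup.mem_sup_left (Subgroup.mem_zpowers x)), hP (Subgroup.mem_sup_right ?_)⟩
  exact Subgroup.subset_closure ⟨0, by simp⟩

/-- Two swaps commute if the pairs are equal or disjoint. -/
theorem swap_commute {α : Type*} [DecidableEq α] (a b u v : α) (h1 : u = a → v = b) (h2 : u = b → v = a)
    (h3 : v = a → u = b) (h4 : v = b → u = a) : Commute (swap a b) (swap u v) := by
  by_cases hua : u = a
  · rw [hua, h1 hua]
  by_cases hub : u = b
  · rw [hub, h2 hub, swap_comm b a]
  have hva : v ≠ a := fun h => hub (h3 h)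
  have hvb : v ≠ b := fun h => hua (h4 h)
  show swap a b * swap u v = swap u v * swap a b
  rw [mul_swap_eq_swap_mul, swap_apply_of_ne_of_ne hua hub, swap_apply_of_ne_of_ne hva hvb]

/-- The conditions on a 2-element. -/
def Good {α : Type} (x : Perm α) : Prop :=
  (∀ a b, x a ≠ a → (∀ j : ℤ, (x ^ j) a = a ↔ (x ^ j) b = b) → ∃ j : ℤ, (x ^ j) a = b) ∧
    ∀ a b c, x a = a → x b = b → x c = c → a = b ∨ a = c ∨ b = c

theorem period {α : Type} [Fintype α] {x : Perm α} {k : ℕ} (hx : x ^ (2 ^ k) = 1) (a : α) (ha : x a ≠ a) :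
    ∃ h : ℕ, ∀ j : ℤ, ((x ^ j) a = a ↔ ((2 * h : ℕ) : ℤ) ∣ j) := by
  set d := Function.minimalPeriod (x • ·) a
  have hd : ∀ j : ℤ, (x ^ j) a = a ↔ (d : ℤ) ∣ j := fun j => by
    rw [← Perm.smul_def, MulAction.zpow_smul_eq_iff_minimalPeriod_dvd]
  have h1 : (d : ℤ) ∣ ((2 ^ k : ℕ) : ℤ) := (hd _).1 (by rw [zpow_natCast, hx]; rfl)
  obtain ⟨e, -, he⟩ := (Nat.dvd_prime_pow Nat.prime_two).1 (Int.natCast_dvd_natCast.1 h1)
  rcases e with _ | e
  · exact absurd (by simpa using (hd 1).2 (by rw [he]; simp)) ha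
  · exact ⟨2 ^ e, fun j => by rw [hd, he, pow_succ']⟩

theorem half_unique {α : Type} [Fintype α] {x : Perm α} {k : ℕ} (hx : x ^ (2 ^ k) = 1) (a : α) (ha : x a ≠ a)
    {i j : ℤ} (hi : (x ^ (2 * i)) a = a) (hi' : (x ^ i) a ≠ a) (hj : (x ^ (2 * j)) a = a) (hj' : (x ^ j) a ≠ a) :
    (x ^ i) a = (x ^ j) a := by
  obtain ⟨h, hh⟩ := period hx a ha
  rw [hh] at hi hj
  rw [Ne, hh] at hi' hj'
  push_cast at hi hj hi' hj'
  obtain ⟨s, rfl⟩ := (mul_dvd_mul_iff_left (two_ne_zero' ℤ)).1 hi
  obtain ⟨t, rfl⟩ := (mul_dvd_mul_iff_left (two_ne_zero' ℤ)).1 hj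
  have hs : Odd s := by
    rw [← Int.not_even_iff_odd]; rintro ⟨c, rfl⟩; exact hi' ⟨c, by ring⟩
  have ht : Odd t := by
    rw [← Int.not_even_iff_odd]; rintro ⟨c, rfl⟩; exact hj' ⟨c, by ring⟩
  obtain ⟨c, hc⟩ := hs.sub_odd ht
  have h0 : (x ^ ((h : ℤ) * s - h * t)) a = a := by
    rw [hh]; exact ⟨c, by push_cast; rw [← mul_sub, hc]; ring⟩
  calc (x ^ ((h : ℤ) * s)) a = (x ^ ((h : ℤ) * t)) ((x ^ ((h : ℤ) * s - h * t)) a) := by
        rw [← Perm.mul_apply, ← zpow_add, add_sub_cancel]
    _ = _ := by rw [h0]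

theorem commute_apply {α : Type} {x π : Perm α} (hc : Commute π x) (j : ℤ) (a : α) :
    π ((x ^ j) a) = (x ^ j) (π a) := DFunLike.congr_fun (hc.zpow_right j).eq a

/-- The action of `π` on a moved point. -/
theorem pi_moved {α : Type} [Fintype α] {x π : Perm α} (hg : Good x)
    (hπ : π * π = 1) (hfp : ∀ a, π a ≠ a) (hc : Commute π x) (a : α) (ha : x a ≠ a) :
    ∃ j : ℤ, π a = (x ^ j) a ∧ (x ^ (2 * j)) a = a ∧ (x ^ j) a ≠ a := by
  obtain ⟨j, hj⟩ := hg.1 a (π a) ha fun j => by rw [← commute_apply hc, EmbeddingLike.apply_eq_iff_eq]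
  refine ⟨j, hj.symm, ?_, fun h => hfp a (hj.symm.trans h)⟩
  rw [two_mul, zpow_add, Perm.mul_apply, hj, ← commute_apply hc, hj]
  exact DFunLike.congr_fun hπ a

theorem pi_unique {α : Type} [Fintype α] {x π π' : Perm α} {k : ℕ} (hx : x ^ (2 ^ k) = 1) (hg : Good x)
    (hπ : π * π = 1) (hfp : ∀ a, π a ≠ a) (hc : Commute π x)
    (hπ' : π' * π' = 1) (hfp' : ∀ a, π' a ≠ a) (hc' : Commute π' x) : π = π' := by
  ext a
  by_cases ha : x a = a
  · have h1 : x (π a) = π a := by
      have := DFunLike.congr_fun hc.eq a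
      simp only [Perm.mul_apply, ha] at this; exact this.symm
    have h2 : x (π' a) = π' a := by
      have := DFunLike.congr_fun hc'.eq a
      simp only [Perm.mul_apply, ha] at this; exact this.symm
    rcases hg.2 (π a) (π' a) a h1 h2 ha with h | h | h
    · exact h
    · exact absurd h (hfp a)
    · exact absurd h (hfp' a)
  · obtain ⟨i, e, hi, hi'⟩ := pi_moved hg hπ hfp hc a ha
    obtain ⟨j, e', hj, hj'⟩ := pi_moved hg hπ' hfp' hc' a ha
    rw [e, e']; exact half_unique hx a ha hi hi' hj hj'

theorem sylow_card {α : Type} [Fintype α] [DecidableEq α] (P : Sylow 2 (Perm α)) :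
    Nat.card P = 2 ^ padicValNat 2 (Fintype.card α).factorial := by
  rw [P.card_eq_multiplicity, Nat.card_eq_fintype_card, Fintype.card_perm, Nat.factorization_def _ Nat.prime_two]

theorem exists_fpf {α : Type} [Fintype α] [DecidableEq α] {m : ℕ} (hm : Fintype.card α = 2 * m) (hm0 : m ≠ 0)
    (P : Sylow 2 (Perm α)) : ∃ π : Perm α, π * π = 1 ∧ (∀ a, π a ≠ a) ∧ ∀ g ∈ P, Commute π g := by
  let e : α ≃ Fin m × Bool := Fintype.equivOfCardEq (by simp [hm, mul_comm])
  let π₀ : Perm α := (e.trans ((Equiv.refl (Fin m)).prodCongr (Equiv.swap false true))).trans e.symm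
  have h2 : π₀ * π₀ = 1 := Equiv.ext fun a => by simp [π₀, Prod.map]
  have hfp : ∀ a, π₀ a ≠ a := fun a h => by
    have h' := congrArg (fun u => (e u).2) h
    simp [π₀] at h'
    cases hb : (e a).2 <;> simp [hb] at h'
  have hsupp : π₀.support = Finset.univ := Finset.eq_univ_of_forall fun a => mem_support.2 (hfp a)
  have hct : π₀.cycleType = Multiset.replicate m 2 := by
    have h : ∀ c ∈ π₀.cycleType, c = 2 := fun c hc => by
      have h1 := dvd_of_mem_cycleType hc
      have h3 : orderOf π₀ ∣ 2 := orderOf_dvd_of_pow_eq_one (by rw [sq, h2])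
      have := two_le_of_mem_cycleType hc
      have := Nat.le_of_dvd two_pos (h1.trans h3)
      omega
    rw [Multiset.eq_replicate]
    refine ⟨?_, h⟩
    have h1 := sum_cycleType π₀
    rw [Multiset.eq_replicate.2 ⟨rfl, h⟩, Multiset.sum_replicate, hsupp, Finset.card_univ, hm, smul_eq_mul] at h1
    omega
  set C := Subgroup.centralizer ({π₀} : Set (Perm α))
  obtain ⟨R⟩ : Nonempty (Sylow 2 C) := inferInstance
  have hcard : Nat.card C = 2 ^ m * m.factorial := by
    rw [nat_card_centralizer, hct, Multiset.sum_replicate, Multiset.prod_replicate, hm, smul_eq_mul, mul_comm m 2,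
      Nat.sub_self, Nat.factorial_zero, one_mul, Multiset.toFinset_replicate, if_neg hm0, Finset.prod_singleton,
      Multiset.count_replicate_self]
  have hR : Nat.card ((R : Subgroup C).map C.subtype) = 2 ^ (Nat.card (Perm α)).factorization 2 := by
    rw [Subgroup.card_map_of_injective C.subtype_injective, R.card_eq_multiplicity, hcard]
    simp only [Nat.factorization_def _ Nat.prime_two]
    rw [Nat.card_eq_fintype_card, Fintype.card_perm, hm, padicValNat_factorial_mul,
      padicValNat.mul (by positivity) (Nat.factorial_ne_zero m), padicValNat.prime_pow, add_comm]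
  obtain ⟨g, hg⟩ := MulAction.exists_smul_eq (Perm α) (Sylow.ofCard _ hR) P
  refine ⟨g * π₀ * g⁻¹, ?_, fun a h => ?_, fun u hu => ?_⟩
  · calc g * π₀ * g⁻¹ * (g * π₀ * g⁻¹) = g * (π₀ * π₀) * g⁻¹ := by group
      _ = 1 := by rw [h2]; group
  · refine hfp (g⁻¹ a) ?_
    have := congrArg (fun u => g⁻¹ u) h
    simpa using this
  · rw [← hg] at hu
    change u ∈ ((g • Sylow.ofCard _ hR : Sylow 2 (Perm α)) : Subgroup (Perm α)) at hu
    rw [Sylow.coe_subgroup_smul, Subgroup.mem_pointwise_smul_iff_inv_smul_mem] at hu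
    obtain ⟨c, -, hc⟩ := hu
    have h3 : Commute π₀ (g⁻¹ * u * g) := by
      have h4 : (c : Perm α) = g⁻¹ * u * g := by
        rw [← map_inv, MulAut.smul_def, MulAut.conj_apply, inv_inv] at hc
        exact hc
      rw [← h4]
      exact Subgroup.mem_centralizer_iff.1 c.2 π₀ rfl
    show g * π₀ * g⁻¹ * u = u * (g * π₀ * g⁻¹)
    calc g * π₀ * g⁻¹ * u = g * (π₀ * (g⁻¹ * u * g)) * g⁻¹ := by group
      _ = g * (g⁻¹ * u * g * π₀) * g⁻¹ := by rw [h3.eq]
      _ = _ := by group

theorem key : ∀ (m : ℕ) (α : Type) [Fintype α] [DecidableEq α], Fintype.card α = m →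
    ∀ x : Perm α, Good x → ∀ P Q : Sylow 2 (Perm α), x ∈ P → x ∈ Q → P = Q := by
  intro m
  induction m using Nat.strong_induction_on with
  | _ N ih =>
  intro α _ _ hN x hg P Q hxP hxQ
  classical
  obtain ⟨k, hk⟩ := P.2 ⟨x, hxP⟩
  have hx : x ^ (2 ^ k) = 1 := congrArg Subtype.val hk
  have hfin : ∀ R S : Sylow 2 (Perm α), (R : Subgroup (Perm α)) ≤ S → R = S := fun R S h =>
    Sylow.ext (R.is_maximal' S.2 h).symm
  rcases Nat.even_or_odd' N with ⟨m, rfl | rfl⟩
  · by_cases hm0 : m = 0
    · haveI : IsEmpty α := Fintype.card_eq_zero_iff.1 (by omega)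
      exact hfin P Q fun g _ => by rw [Subsingleton.elim g 1]; exact one_mem _
    obtain ⟨π, hπ, hfp, hcP⟩ := exists_fpf hN hm0 P
    obtain ⟨π', hπ', hfp', hcQ⟩ := exists_fpf hN hm0 Q
    obtain rfl := pi_unique hx hg hπ hfp (hcP x hxP) hπ' hfp' (hcQ x hxQ)
    have hππ : ∀ a, π (π a) = a := fun a => DFunLike.congr_fun hπ a
    let s : Setoid α :=
      { r := fun a b => b = a ∨ b = π a
        iseqv := ⟨fun a => Or.inl rfl, fun {a b} h => by
            rcases h with h | h
            · exact Or.inl h.symm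
            · exact Or.inr (by rw [h, hππ]),
          fun {a b c} h h' => by
            rcases h with h | h <;> rcases h' with h' | h' <;> subst h <;> subst h'
            · exact Or.inl rfl
            · exact Or.inr rfl
            · exact Or.inr rfl
            · exact Or.inl (hππ a)⟩ }
    set C := Subgroup.centralizer ({π} : Set (Perm α))
    have hCcomm : ∀ (g : C) (a : α), (g : Perm α) (π a) = π ((g : Perm α) a) := fun g a =>
      (DFunLike.congr_fun (Subgroup.mem_centralizer_iff.1 g.2 π rfl) a).symm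
    let φ : C →* Perm (Quotient s) := MonoidHom.mk' (fun g => Quotient.congr (g : Perm α) fun a b => by
        show (b = a ∨ b = π a) ↔ ((g : Perm α) b = (g : Perm α) a ∨ (g : Perm α) b = π ((g : Perm α) a))
        rw [← hCcomm, EmbeddingLike.apply_eq_iff_eq, EmbeddingLike.apply_eq_iff_eq])
      fun g h => Equiv.ext fun q => Quotient.inductionOn q fun a => rfl
    have hφ : ∀ (g : C) (a : α), φ g ⟦a⟧ = ⟦(g : Perm α) a⟧ := fun g a => rfl
    haveI : Fintype (Quotient s) := Fintype.ofFinite _
    have hβ : Fintype.card (Quotient s) = m := by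
      have h1 : Function.Bijective fun z : Quotient s × Bool => if z.2 then π z.1.out else z.1.out := by
        refine ⟨fun ⟨q, b⟩ ⟨q', b'⟩ h => ?_, fun a => ?_⟩
        · simp only at h
          have hq : q = q' := by
            rw [← Quotient.out_eq q, ← Quotient.out_eq q']
            refine Quotient.sound ?_
            show q'.out = q.out ∨ q'.out = π q.out
            cases b <;> cases b' <;> simp only [if_true, if_false, Bool.false_eq_true] at h
            · exact Or.inl h.symm
            · exact Or.inr (by rw [h, hππ])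
            · exact Or.inr h.symm
            · exact Or.inl (π.injective h).symm
          subst hq
          cases b <;> cases b' <;> simp only [if_true, if_false, Bool.false_eq_true] at h
          · rfl
          · exact absurd h.symm (hfp _)
          · exact absurd h (hfp _)
          · rfl
        · rcases (Quotient.exact (Quotient.out_eq (⟦a⟧ : Quotient s)) : a = _ ∨ a = _) with h | h
          · exact ⟨(⟦a⟧, false), h.symm⟩
          · exact ⟨(⟦a⟧, true), h.symm⟩
      have h2 := Fintype.card_of_bijective h1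
      rw [Fintype.card_prod, Fintype.card_bool, hN] at h2
      omega
    have hker : Nat.card φ.ker ≤ 2 ^ m := by
      have h1 : Function.Injective fun (g : φ.ker) (q : Quotient s) => decide ((g : Perm α) q.out = q.out) := by
        intro g g' h
        have h2 : ∀ (g : φ.ker) (a : α), (g : Perm α) a = a ∨ (g : Perm α) a = π a := fun g a => by
          have := hφ g.1 a
          rw [show φ g.1 = 1 from g.2] at this
          exact (Quotient.exact this : _ ∨ _)
        have h3 : ∀ q : Quotient s, (g : Perm α) q.out = (g' : Perm α) q.out := fun q => by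
          have := congrFun h q
          simp only [decide_eq_decide] at this
          rcases h2 g q.out with e | e <;> rcases h2 g' q.out with e' | e'
          · rw [e, e']
          · rw [e, this.1 e]
          · rw [e', this.2 e']
          · rw [e, e']
        refine Subtype.ext (Subtype.ext (Equiv.ext fun a => ?_))
        rcases (Quotient.exact (Quotient.out_eq (⟦a⟧ : Quotient s)) : a = _ ∨ a = _) with e | e
        · rw [e]; exact h3 _
        · rw [e, hCcomm g.1, hCcomm g'.1]; exact congrArg π (h3 _)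
      refine (Nat.card_le_card_of_injective _ h1).trans ?_
      rw [Nat.card_eq_fintype_card, Fintype.card_fun, Fintype.card_bool, hβ]
    have hPC : ∀ R : Sylow 2 (Perm α), (∀ g ∈ R, Commute π g) → (R : Subgroup (Perm α)) ≤ C := fun R hR g hgR =>
      Subgroup.mem_centralizer_iff.2 fun _ hh => by rw [Set.mem_singleton_iff] at hh; subst hh; exact hR g hgR
    have him : ∀ R : Sylow 2 (Perm α), (R : Subgroup (Perm α)) ≤ C →
        Nat.card (((R : Subgroup (Perm α)).subgroupOf C).map φ) = 2 ^ (Nat.card (Perm (Quotient s))).factorization 2 := by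
      intro R hR
      set R' := (R : Subgroup (Perm α)).subgroupOf C
      have hR' : IsPGroup 2 R' := R.2.of_equiv (Subgroup.subgroupOfEquivOfLe hR).symm
      obtain ⟨e, he⟩ := IsPGroup.iff_card.1 (hR'.map φ)
      have h1 := (φ.comp R'.subtype).ker.card_mul_index
      rw [Subgroup.index_ker, MonoidHom.range_comp, Subgroup.range_subtype, he,
        Nat.card_congr (Subgroup.subgroupOfEquivOfLe hR).toEquiv, sylow_card, hN] at h1
      have h2 : Nat.card (φ.comp R'.subtype).ker ≤ 2 ^ m := le_trans
        (Nat.card_le_card_of_injective (fun g => (⟨((g : R') : C), g.2⟩ : φ.ker))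
          fun g g' h => Subtype.ext (Subtype.ext (congrArg (fun u : φ.ker => (u : C)) h))) hker
      have h3 : 2 ^ e ∣ Nat.card (Perm (Quotient s)) := he ▸ Subgroup.card_subgroup_dvd_card _
      rw [Nat.card_eq_fintype_card, Fintype.card_perm, hβ] at h3
      rw [he, Nat.factorization_def _ Nat.prime_two, Nat.card_eq_fintype_card, Fintype.card_perm, hβ]
      refine congrArg _ (le_antisymm ((padicValNat_dvd_iff_le (Nat.factorial_ne_zero m)).1 h3) ?_)
      have h4 : 2 ^ padicValNat 2 (2 * m).factorial ≤ 2 ^ m * 2 ^ e := h1 ▸ Nat.mul_le_mul_right _ h2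
      rw [← pow_add, padicValNat_factorial_mul] at h4
      have := (Nat.pow_le_pow_iff_right one_lt_two).1 h4
      omega
    have hP := hPC P hcP
    have hQ := hPC Q hcQ
    let xc : C := ⟨x, hP hxP⟩
    have hmoved : ∀ (a : α) (j : ℤ), x a ≠ a → ((⟦(x ^ j) a⟧ : Quotient s) = ⟦a⟧ ↔ (x ^ (2 * j)) a = a) := by
      intro a j ha
      obtain ⟨i, e, hi, hi'⟩ := pi_moved hg hπ hfp (hcP x hxP) a ha
      refine ⟨fun h => ?_, fun h => Quotient.sound ?_⟩
      · rcases (Quotient.exact h.symm : _ ∨ _) with h | h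
        · rw [two_mul, zpow_add, Perm.mul_apply, h, h]
        · rw [two_mul, zpow_add, Perm.mul_apply, h, ← commute_apply (hcP x hxP), h, hππ]
      · show a = (x ^ j) a ∨ a = π ((x ^ j) a)
        by_cases hj : (x ^ j) a = a
        · exact Or.inl hj.symm
        · right
          rw [← half_unique hx a ha hi hi' h hj, ← e, hππ]
    have hgood : Good (φ xc) := by
      have hj : ∀ (a : α) (j : ℤ), (φ xc ^ j) ⟦a⟧ = ⟦(x ^ j) a⟧ := fun a j => by
        rw [← map_zpow, hφ]; rfl
      refine ⟨fun q q' hq h => ?_, fun q₁ q₂ q₃ h₁ h₂ h₃ => ?_⟩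
      · induction q using Quotient.inductionOn with | h a => ?_
        induction q' using Quotient.inductionOn with | h b => ?_
        simp only [hj] at h
        have ha : x a ≠ a := fun e => hq (by rw [hφ]; exact congrArg _ e)
        have hb : x b ≠ b := fun e => hq (by
          have := (h 1).2 (by rw [zpow_one, e])
          rw [zpow_one] at this
          rw [hφ]; exact this)
        obtain ⟨j, hj'⟩ := hg.1 a b ha fun i => by
          simp only [hmoved _ _ ha, hmoved _ _ hb] at h
          obtain ⟨u, hu⟩ := period hx a ha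
          obtain ⟨v, hv⟩ := period hx b hb
          constructor
          · intro hi
            obtain ⟨c, rfl⟩ := (dvd_trans ⟨(u : ℤ), by push_cast; ring⟩ ((hu i).1 hi) : (2 : ℤ) ∣ i)
            exact (h c).1 hi
          · intro hi
            obtain ⟨c, rfl⟩ := (dvd_trans ⟨(v : ℤ), by push_cast; ring⟩ ((hv i).1 hi) : (2 : ℤ) ∣ i)
            exact (h c).2 hi
        exact ⟨j, by rw [hj, hj']⟩
      · induction q₁ using Quotient.inductionOn with | h a => ?_
        induction q₂ using Quotient.inductionOn with | h b => ?_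
        induction q₃ using Quotient.inductionOn with | h c => ?_
        have hfix : ∀ a b : α, (x a = a ↔ x b = b) → φ xc ⟦a⟧ = ⟦a⟧ → φ xc ⟦b⟧ = ⟦b⟧ →
            (⟦a⟧ : Quotient s) = ⟦b⟧ := by
          intro a b hab ha hb
          rw [hφ] at ha hb
          refine Quotient.sound ?_
          show b = a ∨ b = π a
          by_cases hxa : x a = a
          · have hxb := hab.1 hxa
            have hxπ : x (π a) = π a := by
              have := DFunLike.congr_fun (hcP x hxP).eq a
              simp only [Perm.mul_apply, hxa] at this; exact this.symm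
            rcases hg.2 b a (π a) hxb hxa hxπ with e | e | e
            · exact Or.inl e
            · exact Or.inr e
            · exact absurd e.symm (hfp a)
          · have hxb : x b ≠ b := fun e => hxa (hab.2 e)
            have h2 : ∀ u : α, x u ≠ u → (⟦x u⟧ : Quotient s) = ⟦u⟧ →
                (x ^ (2 : ℤ)) u = u ∧ ∀ i : ℤ, (x ^ i) u = u ↔ (2 : ℤ) ∣ i := by
              intro u hu h
              have h2 : (x ^ (2 : ℤ)) u = u := by
                have := (hmoved u 1 hu).1 (by rw [zpow_one]; exact h)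
                simpa using this
              obtain ⟨w, hw⟩ := period hx u hu
              refine ⟨h2, fun i => ⟨fun hi => dvd_trans ⟨(w : ℤ), by push_cast; ring⟩ ((hw i).1 hi), ?_⟩⟩
              rintro ⟨c, rfl⟩
              exact (hw _).2 (dvd_trans ((hw 2).1 h2) ⟨c, rfl⟩)
            obtain ⟨j, hj'⟩ := hg.1 a b hxa fun i => ((h2 a hxa ha).2 i).trans ((h2 b hxb hb).2 i).symm
            rcases Int.even_or_odd' j with ⟨c, rfl | rfl⟩
            · left
              rw [← hj']
              exact ((h2 a hxa ha).2 _).2 ⟨c, rfl⟩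
            · rcases (Quotient.exact ha.symm : x a = a ∨ x a = π a) with e | e
              · exact absurd e hxa
              · right
                rw [← hj', show 2 * c + 1 = 1 + 2 * c by ring, zpow_add, Perm.mul_apply,
                  ((h2 a hxa ha).2 _).2 ⟨c, rfl⟩, zpow_one, e]
        by_cases hab : x a = a ↔ x b = b
        · exact Or.inl (hfix a b hab h₁ h₂)
        by_cases hac : x a = a ↔ x c = c
        · exact Or.inr (Or.inl (hfix a c hac h₁ h₃))
        · exact Or.inr (Or.inr (hfix b c (by tauto) h₂ h₃))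
    have hPQ := congrArg (fun R : Sylow 2 (Perm (Quotient s)) => (R : Subgroup (Perm (Quotient s))))
      (ih m (by omega) (Quotient s) hβ (φ xc) hgood (Sylow.ofCard _ (him P hP)) (Sylow.ofCard _ (him Q hQ))
        (show φ xc ∈ _ from Subgroup.mem_map_of_mem φ (show x ∈ (P : Subgroup (Perm α)) from hxP))
        (show φ xc ∈ _ from Subgroup.mem_map_of_mem φ (show x ∈ (Q : Subgroup (Perm α)) from hxQ)))
    have hkp : IsPGroup 2 φ.ker := by
      intro g
      refine ⟨1, Subtype.ext (Subtype.ext (Equiv.ext fun a => ?_))⟩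
      rw [pow_one]
      show ((g : C) : Perm α) (((g : C) : Perm α) a) = a
      have h1 := hφ g.1 a
      rw [show φ g.1 = 1 from g.2] at h1
      rcases (Quotient.exact h1 : _ ∨ _) with e | e
      · rw [e, e]
      · rw [e, hCcomm, e, hππ]
    set Q' := (Q : Subgroup (Perm α)).subgroupOf C
    have hS : IsPGroup 2 ((Q' ⊔ φ.ker).map C.subtype) :=
      ((Q.2.of_equiv (Subgroup.subgroupOfEquivOfLe hQ).symm : IsPGroup 2 Q').to_sup_of_normal_right hkp).map _
    have hQS := Q.is_maximal' hS fun g hgQ => ⟨⟨g, hQ hgQ⟩, Subgroup.mem_sup_left hgQ, rfl⟩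
    refine hfin P Q (hQS ▸ ?_)
    intro g hgP
    have hmem : φ ⟨g, hP hgP⟩ ∈ Q'.map φ := by
      simp only [Sylow.coe_ofCard] at hPQ
      exact hPQ ▸ Subgroup.mem_map_of_mem φ (show (⟨g, hP hgP⟩ : C) ∈ (P : Subgroup (Perm α)).subgroupOf C from hgP)
    obtain ⟨q, hq, hqg⟩ := hmem
    refine ⟨⟨g, hP hgP⟩, ?_, rfl⟩
    have h1 : q⁻¹ * (⟨g, hP hgP⟩ : C) ∈ φ.ker := by rw [MonoidHom.mem_ker, map_mul, map_inv, hqg, inv_mul_cancel]
    have := Subgroup.mul_mem_sup hq h1
    rwa [mul_inv_cancel_left] at this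
  · -- a point fixed by the two subgroups
    have hfix : ∀ R : Sylow 2 (Perm α), ∃ c : α, ∀ g ∈ R, g c = c := by
      intro R
      obtain ⟨c, hc⟩ := R.2.nonempty_fixed_point_of_prime_not_dvd_card α (by
        rw [Nat.card_eq_fintype_card, hN]; omega)
      exact ⟨c, fun g hgR => hc ⟨g, hgR⟩⟩
    obtain ⟨c, hcP⟩ := hfix P
    obtain ⟨c', hcQ⟩ := hfix Q
    have hxc := hcP x hxP
    have hcc : c' = c := by
      by_contra hne
      haveI : Fintype (MulAction.fixedPoints (Subgroup.zpowers x) α) := Fintype.ofFinite _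
      have hxp : IsPGroup 2 (Subgroup.zpowers x) := P.2.to_le (Subgroup.zpowers_le.2 hxP)
      have h1 := hxp.card_modEq_card_fixedPoints α
      have h2 : MulAction.fixedPoints (Subgroup.zpowers x) α = ({c, c'} : Finset α) := by
        ext u
        simp only [MulAction.mem_fixedPoints, Finset.coe_insert, Finset.coe_singleton, Set.mem_insert_iff,
          Set.mem_singleton_iff]
        constructor
        · intro h
          have hu : x u = u := h ⟨x, Subgroup.mem_zpowers x⟩
          rcases hg.2 u c c' hu hxc (hcQ x hxQ) with e | e | e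
          · exact Or.inl e
          · exact Or.inr e
          · exact absurd e.symm hne
        · rintro hu ⟨g, hgx⟩
          have hgP : g ∈ P := Subgroup.zpowers_le.2 hxP hgx
          have hgQ : g ∈ Q := Subgroup.zpowers_le.2 hxQ hgx
          rcases hu with rfl | rfl
          · exact hcP g hgP
          · exact hcQ g hgQ
      rw [Nat.card_congr (Equiv.setCongr h2), Nat.card_eq_fintype_card, Nat.card_eq_fintype_card] at h1
      simp [Finset.card_pair (Ne.symm hne), hN, Nat.ModEq] at h1
    subst hcc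
    let St : Subgroup (Perm α) := MulAction.stabilizer (Perm α) c'
    have hst : ∀ g : St, ∀ u : α, u ≠ c' ↔ (g : Perm α) u ≠ c' := fun g u => by
      rw [not_iff_not]
      constructor
      · rintro rfl; exact g.2
      · intro h; exact (g : Perm α).injective (h.trans g.2.symm)
    let ψ : St →* Perm {u : α // u ≠ c'} := MonoidHom.mk' (fun g => (g : Perm α).subtypePerm (fun u => (hst g u).symm))
      fun g h => Equiv.ext fun u => rfl
    have hψ : Function.Injective ψ := fun g h e => Subtype.ext (Equiv.ext fun u => by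
      by_cases hu : u = c'
      · subst hu; exact g.2.trans h.2.symm
      · exact congrArg Subtype.val (DFunLike.congr_fun e ⟨u, hu⟩))
    have hβ : Fintype.card {u : α // u ≠ c'} = 2 * m := by
      rw [Fintype.card_subtype_compl, Fintype.card_subtype_eq, hN]; omega
    have him : ∀ R : Sylow 2 (Perm α), (R : Subgroup (Perm α)) ≤ St →
        Nat.card (((R : Subgroup (Perm α)).subgroupOf St).map ψ) =
          2 ^ (Nat.card (Perm {u : α // u ≠ c'})).factorization 2 := by
      intro R hR
      rw [Subgroup.card_map_of_injective hψ, Nat.card_congr (Subgroup.subgroupOfEquivOfLe hR).toEquiv, sylow_card, hN,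
        Nat.card_eq_fintype_card, Fintype.card_perm, hβ, Nat.factorization_def _ Nat.prime_two,
        padicValNat_factorial_mul_add m one_lt_two]
    have hP : (P : Subgroup (Perm α)) ≤ St := hcP
    have hQ : (Q : Subgroup (Perm α)) ≤ St := hcQ
    have hgood : Good (ψ ⟨x, hP hxP⟩) := by
      have hj : ∀ (a : {u : α // u ≠ c'}) (j : ℤ), (((ψ ⟨x, hP hxP⟩) ^ j) a : α) = (x ^ j) a := fun a j => by
        rw [← map_zpow]; rfl
      refine ⟨fun a b ha h => ?_, fun a b d h₁ h₂ h₃ => ?_⟩
      · obtain ⟨j, hj'⟩ := hg.1 a b (fun e => ha (Subtype.ext e)) fun i => by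
          rw [← hj, ← hj, ← Subtype.ext_iff, ← Subtype.ext_iff]; exact h i
        exact ⟨j, Subtype.ext ((hj a j).trans hj')⟩
      · simp only [Subtype.ext_iff]
        exact hg.2 a b d (congrArg Subtype.val h₁) (congrArg Subtype.val h₂) (congrArg Subtype.val h₃)
    have hPQ := congrArg (fun R : Sylow 2 (Perm {u : α // u ≠ c'}) => (R : Subgroup (Perm {u : α // u ≠ c'})))
      (ih (2 * m) (by omega) _ hβ _ hgood (Sylow.ofCard _ (him P hP)) (Sylow.ofCard _ (him Q hQ))
        (show ψ ⟨x, hP hxP⟩ ∈ _ from Subgroup.mem_map_of_mem ψ (show x ∈ (P : Subgroup (Perm α)) from hxP))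
        (show ψ ⟨x, hP hxP⟩ ∈ _ from Subgroup.mem_map_of_mem ψ (show x ∈ (Q : Subgroup (Perm α)) from hxQ)))
    simp only [Sylow.coe_ofCard] at hPQ
    have := Subgroup.map_injective hψ hPQ
    exact hfin P Q fun g hgP => ((Subgroup.subgroupOf_inj.1 this) ▸ (⟨hgP, hP hgP⟩ : g ∈ (P : Subgroup (Perm α)) ⊓ St) : g ∈ (Q : Subgroup (Perm α)) ⊓ St).1

/-- Let n ≥ 2 and let x be an element of 2-power order of the symmetric group of degree n. Then x lies in exactly one Sylow 2-subgroup if and only if x has at most two fixed points and the nontrivial cycles of x have pairwise different lengths. -/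
theorem result (n : ℕ) (hn : 2 ≤ n)
    (x : Equiv.Perm (Fin n)) (hx : ∃ k : ℕ, orderOf x = 2 ^ k) :
    (∃! P : Sylow 2 (Equiv.Perm (Fin n)), x ∈ P) ↔ (n ≤ x.support.card + 2 ∧ x.cycleType.Nodup) := by
  classical
  obtain ⟨k, hk⟩ := hx
  have hxk : x ^ (2 ^ k) = 1 := by rw [← hk, pow_orderOf_eq_one]
  have hper : ∀ a, x a ≠ a → ∀ j : ℤ, ((x ^ j) a = a ↔ (((x.cycleOf a).support.card : ℕ) : ℤ) ∣ j) := by
    intro a ha j
    have hc : (x.cycleOf a).IsCycle := isCycle_cycleOf x ha
    rw [← cycleOf_zpow_apply_self, ← hc.orderOf, orderOf_dvd_iff_zpow_eq_one]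
    refine ⟨fun h => ?_, fun h => by rw [h]; rfl⟩
    ext u
    by_cases hu : x.cycleOf a u = u
    · exact congrArg Fin.val (Function.IsFixedPt.perm_zpow (show Function.IsFixedPt (x.cycleOf a) u from hu) j)
    · obtain ⟨i, rfl⟩ := hc.exists_zpow_eq (x := a) (by rwa [cycleOf_apply_self]) hu
      rw [← Perm.mul_apply, ← zpow_add, add_comm, zpow_add, Perm.mul_apply, h]; rfl
  constructor
  · rintro ⟨P, hxP, huniq⟩
    have key3 : ∀ a b c : Fin n, a ≠ b → a ≠ c → b ≠ c →
        (∀ i : ℤ, Commute (swap a b) (swap ((x ^ i) a) ((x ^ i) b))) →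
        (∀ i : ℤ, Commute (swap a c) (swap ((x ^ i) a) ((x ^ i) c))) → False := by
      intro a b c hab hac hbc h1 h2
      have hmem : ∀ u v : Fin n, (∀ i : ℤ, Commute (swap u v) (swap ((x ^ i) u) ((x ^ i) v))) → swap u v ∈ P := by
        intro u v h
        obtain ⟨R, hR, hR'⟩ := isPGroup_sup x (swap u v) hxk (swap_mul_self u v) fun i => by
          rw [zpow_neg, mul_swap_eq_swap_mul, mul_inv_cancel_right]; exact h i
        rwa [← huniq R hR]
      obtain ⟨e, he⟩ := P.2 ⟨_, mul_mem (hmem a b h1) (hmem a c h2)⟩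
      have h3 := (isThreeCycle_swap_mul_swap_same hab hac hbc).orderOf
      have h4 := orderOf_dvd_of_pow_eq_one (congrArg Subtype.val he)
      rw [h3] at h4
      exact absurd (Nat.prime_three.dvd_of_dvd_pow h4) (by norm_num)
    refine ⟨?_, ?_⟩
    · by_contra hlt
      have h1 : 2 < (x.supportᶜ).card := by rw [Finset.card_compl, Fintype.card_fin]; omega
      obtain ⟨a, b, c, ha, hb, hc, hab, hac, hbc⟩ := Finset.two_lt_card_iff.1 h1
      simp only [Finset.mem_compl, notMem_support] at ha hb hc
      have hf : ∀ u, x u = u → ∀ i : ℤ, (x ^ i) u = u := fun u hu =>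
        Function.IsFixedPt.perm_zpow (show Function.IsFixedPt x u from hu)
      exact key3 a b c hab hac hbc (fun i => by rw [hf a ha i, hf b hb i]) (fun i => by rw [hf a ha i, hf c hc i])
    · rw [cycleType_def]
      refine Multiset.Nodup.map_on (fun c hc d hd he => ?_) x.cycleFactorsFinset.nodup
      rw [Finset.mem_val] at hc hd
      by_contra hne
      obtain ⟨hc1, hcx⟩ := mem_cycleFactorsFinset_iff.1 hc
      obtain ⟨hd1, hdx⟩ := mem_cycleFactorsFinset_iff.1 hd
      obtain ⟨a, ha⟩ := Finset.card_pos.1 (hc1.two_le_card_support.trans_lt' two_pos)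
      obtain ⟨b, hb⟩ := Finset.card_pos.1 (hd1.two_le_card_support.trans_lt' two_pos)
      have hca := cycle_is_cycleOf ha hc
      have hdb := cycle_is_cycleOf hb hd
      have hxa : x a ≠ a := by rw [← hcx a ha]; exact mem_support.1 ha
      have hxb : x b ≠ b := by rw [← hdx b hb]; exact mem_support.1 hb
      have hsame : ∀ i : ℤ, (x ^ i) a = a ↔ (x ^ i) b = b := fun i => by
        rw [hper a hxa, hper b hxb, ← hca, ← hdb]
        simp only [Function.comp_apply] at he
        rw [he]
      have hdiff : ∀ i : ℤ, (x ^ i) a ≠ b := fun i h => hne (by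
        rw [hca, hdb]; exact (SameCycle.cycleOf_eq (⟨i, h⟩ : x.SameCycle a b)))
      obtain ⟨h, hh⟩ := period hxk a hxa
      have hh1 : (x ^ (h : ℤ)) a ≠ a := fun e => by
        have h1 := (hh h).1 e
        have h2 : h ≠ 0 := fun h0 => by
          obtain ⟨t, ht⟩ := (hh _).1 (by rw [zpow_natCast, hxk]; rfl : (x ^ ((2 ^ k : ℕ) : ℤ)) a = a)
          rw [h0] at ht; simp at ht
        have h3 := Nat.le_of_dvd (Nat.pos_of_ne_zero h2) (Int.natCast_dvd_natCast.1 h1)
        omega
      have hh2 : (x ^ (h : ℤ)) ((x ^ (h : ℤ)) a) = a := by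
        rw [← Perm.mul_apply, ← zpow_add, hh]; exact ⟨1, by push_cast; ring⟩
      refine key3 a ((x ^ (h : ℤ)) a) b hh1.symm (fun e => hdiff 0 (by simpa using e)) (hdiff h) (fun i => ?_) (fun i => ?_)
      · have hcm : ∀ u, (x ^ i) ((x ^ (h : ℤ)) u) = (x ^ (h : ℤ)) ((x ^ i) u) := fun u => by
          rw [← Perm.mul_apply, ← Perm.mul_apply, ← zpow_add, ← zpow_add, add_comm]
        refine swap_commute _ _ _ _ (fun e => ?_) (fun e => ?_) (fun e => ?_) (fun e => ?_)
        · rw [hcm, e]
        · rw [hcm, e, hh2]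
        · rw [hcm] at e
          exact (x ^ (h : ℤ)).injective (e.trans hh2.symm)
        · rw [hcm] at e
          exact (x ^ (h : ℤ)).injective e
      · refine swap_commute _ _ _ _ (fun e => (hsame i).1 e) (fun e => absurd e (hdiff i)) (fun e => ?_) (fun e => (hsame i).2 e)
        exact absurd (by rw [← e, ← Perm.mul_apply, ← zpow_add, neg_add_cancel]; rfl : (x ^ (-i)) a = b) (hdiff _)
  · rintro ⟨hsup, hnd⟩
    have hgood : Good x := by
      refine ⟨fun a b ha h => ?_, fun a b c ha hb hc => ?_⟩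
      · have hb : x b ≠ b := fun e => ha (by simpa using (h 1).2 (by simpa using e))
        have h1 : (x.cycleOf a).support.card = (x.cycleOf b).support.card := by
          refine Nat.dvd_antisymm (Int.natCast_dvd_natCast.1 ?_) (Int.natCast_dvd_natCast.1 ?_)
          · rw [← hper a ha, h, hper b hb]
          · rw [← hper b hb, ← h, hper a ha]
        rw [cycleType_def] at hnd
        have h2 := Multiset.inj_on_of_nodup_map hnd (x.cycleOf a) (Finset.mem_def.1 (cycleOf_mem_cycleFactorsFinset_iff.2 (mem_support.2 ha)))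
          (x.cycleOf b) (Finset.mem_def.1 (cycleOf_mem_cycleFactorsFinset_iff.2 (mem_support.2 hb))) h1
        have h3 : b ∈ (x.cycleOf a).support := by
          rw [h2]; exact mem_support_cycleOf_iff.2 ⟨SameCycle.refl _ _, mem_support.2 hb⟩
        exact (mem_support_cycleOf_iff.1 h3).1
      · by_contra! hne
        have h1 : 2 < (x.supportᶜ).card := Finset.two_lt_card_iff.2 ⟨a, b, c, by simpa using ha, by simpa using hb,
          by simpa using hc, hne.1, hne.2.1, hne.2.2⟩
        rw [Finset.card_compl, Fintype.card_fin] at h1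
        omega
    have hxp : IsPGroup 2 (Subgroup.zpowers x) :=
      IsPGroup.of_card (n := k) (by rw [Nat.card_zpowers, hk])
    obtain ⟨P, hP⟩ := hxp.exists_le_sylow
    exact ⟨P, hP (Subgroup.mem_zpowers x), fun Q hQ => key n (Fin n) (Fintype.card_fin n) x hgood Q P hQ (hP (Subgroup.mem_zpowers x))⟩

end Cfsg.Agent.S4349
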