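import Mathlib
import Cfsg.Statements.S4358
import Mathlib.LinearAlgebra.Matrix.GeneralLinearGroup.Card
import Mathlib.LinearAlgebra.Vandermonde
import Mathlib.LinearAlgebra.Matrix.Transvection
import Mathlib.NumberTheory.Multiplicity
import Mathlib.NumberTheory.Padics.PadicVal.Basic
import Mathlib.GroupTheory.Sylow
import Mathlib.GroupTheory.SpecificGroups.Cyclic
import Mathlib.Algebra.CharP.Basic
import Mathlib.FieldTheory.Finite.Basic

set_option autoImplicit false

open scoped commutatorElement Pointwise

namespace Cfsg.Agent.S4358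

open Matrix
open scoped Pointwise

variable {F : Type*} [Field F]

/-- The monomial matrix with coefficients `d` and shift `j`. -/
def M {p : ℕ} [NeZero p] (d : Fin p → F) (j : Fin p) : Matrix (Fin p) (Fin p) F :=
  Matrix.of fun i k => if k = i + j then d i else 0

section
variable {p : ℕ} [NeZero p]

theorem M_apply (d : Fin p → F) (j i k : Fin p) : M d j i k = if k = i + j then d i else 0 := rfl

theorem M_mul_apply (d : Fin p → F) (j : Fin p) (A : Matrix (Fin p) (Fin p) F) (i k : Fin p) :
    (M d j * A) i k = d i * A (i + j) k := by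
  rw [Matrix.mul_apply, Finset.sum_eq_single (i + j) (fun b _ hb => by simp [M_apply, hb])
    (by simp)]
  simp [M_apply]

theorem mul_M_apply (d : Fin p → F) (j : Fin p) (A : Matrix (Fin p) (Fin p) F) (i k : Fin p) :
    (A * M d j) i k = A i (k - j) * d (k - j) := by
  rw [Matrix.mul_apply, Finset.sum_eq_single (k - j) (fun b _ hb => ?_) (by simp)]
  · simp [M_apply]
  · rw [M_apply, if_neg (fun h => hb (by rw [h, add_sub_cancel_right])), mul_zero]

theorem M_mul (d e : Fin p → F) (j l : Fin p) :
    M d j * M e l = M (fun i => d i * e (i + j)) (j + l) := by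
  ext i k
  rw [M_mul_apply, M_apply, M_apply, add_assoc]
  split_ifs <;> simp

theorem M_one : M (fun _ : Fin p => (1 : F)) 0 = 1 := by
  ext i k
  simp [M_apply, Matrix.one_apply, eq_comm]

theorem M_pow (d : Fin p → F) (j : Fin p) (n : ℕ) :
    M d j ^ n = M (fun i => ∏ l ∈ Finset.range n, d (i + l • j)) (n • j) := by
  induction n with
  | zero => simp [M_one]
  | succ n ih =>
    rw [pow_succ, ih, M_mul, succ_nsmul]
    congr 1
    funext i
    rw [Finset.prod_range_succ]

end

theorem nsmul_bij {p : ℕ} [NeZero p] (hp : p.Prime) {j : Fin p} (hj : j ≠ 0) :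
    Function.Bijective (fun n : Fin p => (n : ℕ) • j) := by
  have ho : addOrderOf j = p := by
    rcases (Nat.dvd_prime hp).mp (by simpa using addOrderOf_dvd_natCard (x := j)) with h | h
    · exact absurd (AddMonoid.addOrderOf_eq_one_iff.mp h) hj
    · exact h
  refine Finite.injective_iff_bijective.mp fun a b h => Fin.ext ?_
  exact nsmul_injOn_Iio_addOrderOf (by simp [ho]) (by simp [ho]) h

theorem card_factorization [Fintype F] {p : ℕ} [hp : Fact p.Prime] (hp2 : p ≠ 2)
    (h1 : p ∣ Fintype.card F - 1) (h2 : ¬ p ^ 2 ∣ Fintype.card F - 1) :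
    (Nat.card (GL (Fin p) F)).factorization p = p + 1 := by
  have hq1 : 1 < Fintype.card F := Fintype.one_lt_card
  rw [Nat.factorization_def _ hp.out, card_GL_field]
  generalize Fintype.card F = q at hq1 h1 h2
  have hpq : ¬ p ∣ q := fun h => hp.out.not_dvd_one (by
    have := Nat.dvd_sub h h1; rwa [Nat.sub_sub_self hq1.le] at this)
  have hodd : Odd p := hp.out.odd_of_ne_two hp2
  have key : ∏ i : Fin p, (q ^ p - q ^ (i : ℕ)) =
      q ^ (∑ i ∈ Finset.range p, i) * ∏ i ∈ Finset.range p, (q ^ (i + 1) - 1) := by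
    rw [Fin.prod_univ_eq_prod_range (fun i => q ^ p - q ^ i) p,
      ← Finset.prod_range_reflect (fun i => q ^ (i + 1) - 1) p, ← Finset.prod_pow_eq_pow_sum,
      ← Finset.prod_mul_distrib]
    refine Finset.prod_congr rfl fun i hi => ?_
    rw [Finset.mem_range] at hi
    rw [Nat.mul_sub, mul_one, ← pow_add, show i + (p - 1 - i + 1) = p by omega]
  have hne : ∀ i, q ^ (i + 1) - 1 ≠ 0 := fun i => by
    have := Nat.one_lt_pow (n := i + 1) (by omega) hq1
    omega
  rw [key, padicValNat.mul (pow_ne_zero _ (by omega)) (Finset.prod_ne_zero_iff.2 fun i _ => hne i),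
    padicValNat.eq_zero_of_not_dvd (fun h => hpq (hp.out.dvd_of_dvd_pow h)), zero_add]
  have hsum : ∀ n : ℕ, n ≤ p → padicValNat p (∏ i ∈ Finset.range n, (q ^ (i + 1) - 1)) =
      n + if n = p then 1 else 0 := by
    intro n
    induction n with
    | zero => intro _; simp [hp.out.ne_zero.symm]
    | succ n ih =>
      intro hn
      have hv : padicValNat p (q - 1) = 1 := by
        have h0 : q - 1 ≠ 0 := by omega
        have h3 := (padicValNat_dvd_iff_le h0 (p := p) (n := 1)).mp (by rwa [pow_one])
        have h4 : ¬ 2 ≤ padicValNat p (q - 1) := fun h => h2 ((padicValNat_dvd_iff_le h0).mpr h)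
        omega
      rw [Finset.prod_range_succ, padicValNat.mul (Finset.prod_ne_zero_iff.2 fun i _ => hne i)
        (hne n), ih (by omega)]
      have := padicValNat.pow_sub_pow (p := p) (x := q) (y := 1) hodd hq1 h1 hpq (n := n + 1)
        (by omega)
      rw [one_pow, hv] at this
      rw [this, if_neg (by omega)]
      by_cases hnp : n + 1 = p
      · rw [if_pos hnp, hnp, padicValNat.self hp.out.one_lt]; omega
      · rw [if_neg hnp, padicValNat.eq_zero_of_not_dvd (fun h => hnp
          (le_antisymm hn (Nat.le_of_dvd (by omega) h)))]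
  rw [hsum p le_rfl, if_pos rfl]

/-- Let p be an odd prime and F a finite field with q elements such that p divides q - 1 but p² does not. Then GL(p, F) has a Sylow p-subgroup Q such that every element of p-power order lies in some Sylow p-subgroup other than Q (a redundant Sylow p-subgroup). -/
theorem result {F : Type*} [Field F] [Fintype F] (p : ℕ) [Fact p.Prime]
    (hp : p ≠ 2) (h1 : p ∣ Fintype.card F - 1) (h2 : ¬ p ^ 2 ∣ Fintype.card F - 1) :
    ∃ Q : Sylow p (Matrix.GeneralLinearGroup (Fin p) F), ∀ x : Matrix.GeneralLinearGroup (Fin p) F,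
      (∃ k : ℕ, orderOf x = p ^ k) → ∃ P : Sylow p (Matrix.GeneralLinearGroup (Fin p) F), P ≠ Q ∧ x ∈ P := by
  classical
  have hp' : p.Prime := Fact.out
  have : NeZero p := ⟨hp'.ne_zero⟩
  have hp3 : 3 ≤ p := by have := hp'.two_le; omega
  obtain ⟨ω, hω⟩ := exists_prime_orderOf_dvd_card' (G := Fˣ) p
    (by rw [Nat.card_units, Nat.card_eq_fintype_card]; exact h1)
  let μ : Subgroup Fˣ := Subgroup.zpowers ω
  have hμc : Nat.card μ = p := by rw [Nat.card_zpowers, hω]
  have hμp : ∀ a : μ, ((a : Fˣ) : F) ^ p = 1 := fun a => by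
    rw [← Units.val_pow_eq_pow_val, ← Subgroup.coe_pow, ← hμc, pow_card_eq_one']; simp
  let c : (Fin p → μ) → Fin p → F := fun d i => ((d i : Fˣ) : F)
  have hc0 : ∀ (d : Fin p → μ) i, c d i ≠ 0 := fun d i => Units.ne_zero _
  -- the monomial group
  let S : Submonoid (GL (Fin p) F) :=
    { carrier := {g | ∃ d : Fin p → μ, ∃ j : Fin p, (g : Matrix (Fin p) (Fin p) F) = M (c d) j}
      one_mem' := ⟨1, 0, by rw [Units.val_one, ← M_one]; simp [c]⟩
      mul_mem' := by
        rintro a b ⟨d, j, ha⟩ ⟨e, l, hb⟩
        exact ⟨fun i => d i * e (i + j), j + l, by rw [Units.val_mul, ha, hb, M_mul]; simp [c]⟩ }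
  let Q₀ : Subgroup (GL (Fin p) F) :=
    { S with
      inv_mem' := fun {g} hg => by
        have h := S.pow_mem hg (orderOf g - 1)
        have e : g⁻¹ = g ^ (orderOf g - 1) :=
          inv_eq_of_mul_eq_one_right (by
            rw [← pow_succ', Nat.sub_add_cancel (orderOf_pos g), pow_orderOf_eq_one])
        show g⁻¹ ∈ S
        rw [e]; exact h }
  have hmk : ∀ (d : Fin p → μ) (j : Fin p),
      ∃ g : GL (Fin p) F, (g : Matrix (Fin p) (Fin p) F) = M (c d) j := by
    intro d j
    refine ⟨⟨M (c d) j, M (fun k => (c d (k - j))⁻¹) (-j), ?_, ?_⟩, rfl⟩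
    · rw [M_mul, add_neg_cancel, ← M_one]
      congr 1; funext i
      rw [add_sub_cancel_right, mul_inv_cancel₀ (hc0 d i)]
    · rw [M_mul, neg_add_cancel, ← M_one]
      congr 1; funext i
      rw [← sub_eq_add_neg, inv_mul_cancel₀ (hc0 d _)]
  choose mk hmk using hmk
  have hQcard : Nat.card Q₀ = p ^ (p + 1) := by
    let f : (Fin p → μ) × Fin p → Q₀ := fun x => ⟨mk x.1 x.2, x.1, x.2, hmk x.1 x.2⟩
    have hf : Function.Bijective f := by
      constructor
      · rintro ⟨d, j⟩ ⟨e, l⟩ h
        have h' : M (c d) j = M (c e) l := by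
          rw [← hmk, ← hmk]; exact congrArg Units.val (congrArg Subtype.val h)
        have hjl : j = l := by
          have := congrFun (congrFun h' 0) (0 + j)
          rw [M_apply, M_apply, if_pos rfl] at this
          by_contra hne
          rw [if_neg (fun h => hne (add_left_cancel h))] at this
          exact hc0 d 0 this
        subst hjl
        refine Prod.ext (funext fun i => Subtype.ext (Units.ext ?_)) rfl
        have := congrFun (congrFun h' i) (i + j)
        rwa [M_apply, M_apply, if_pos rfl, if_pos rfl] at this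
      · rintro ⟨g, d, j, hg⟩
        exact ⟨(d, j), Subtype.ext (Units.ext ((hmk d j).trans hg.symm))⟩
    rw [← Nat.card_eq_of_bijective f hf, Nat.card_prod, Nat.card_fun, Nat.card_fin, hμc, pow_succ]
  let Q : Sylow p (GL (Fin p) F) :=
    Sylow.ofCard Q₀ (by rw [hQcard, card_factorization hp h1 h2])
  refine ⟨Q, fun x hx => ?_⟩
  obtain ⟨k, hk⟩ := hx
  by_cases hxQ : x ∈ Q₀
  swap
  · obtain ⟨P, hP⟩ := (IsPGroup.of_card (p := p) (n := k)
      (by rw [Nat.card_zpowers, hk] : Nat.card (Subgroup.zpowers x) = p ^ k)).exists_le_sylow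
    exact ⟨P, fun h => hxQ (by have := hP (Subgroup.mem_zpowers x); rwa [h] at this),
      hP (Subgroup.mem_zpowers x)⟩
  -- it suffices to find a conjugate of `Q₀` which contains `x` and differs from `Q₀`
  suffices H : ∃ (t : GL (Fin p) F), ∃ z ∈ Q₀, t * z = x * t ∧
      ∃ δ : Fin p → μ, ∀ (e : Fin p → μ) (l : Fin p),
        (t : Matrix (Fin p) (Fin p) F) * M (c δ) 0 ≠ M (c e) l * (t : Matrix (Fin p) (Fin p) F) by
    obtain ⟨t, z, hz, htz, δ, hδ⟩ := H
    refine ⟨t • Q, fun h => ?_, ?_⟩
    · have hmem : t * mk δ 0 * t⁻¹ ∈ ((t • Q : Sylow p (GL (Fin p) F)) : Subgroup _) := by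
        rw [Sylow.coe_subgroup_smul]
        exact ⟨mk δ 0, ⟨δ, 0, hmk δ 0⟩, rfl⟩
      rw [h] at hmem
      obtain ⟨e, l, he⟩ : t * mk δ 0 * t⁻¹ ∈ Q₀ := hmem
      refine hδ e l ?_
      rw [← he, ← Units.val_mul, inv_mul_cancel_right, Units.val_mul, hmk]
    · have e : x = t * z * t⁻¹ := by rw [htz, mul_inv_cancel_right]
      rw [e]
      show t * z * t⁻¹ ∈ ((t • Q : Sylow p (GL (Fin p) F)) : Subgroup _)
      rw [Sylow.coe_subgroup_smul]
      exact ⟨z, hz, rfl⟩
  have hω1 : (ω : F) ≠ 1 := fun h => by
    rw [Units.val_eq_one.mp h, orderOf_one] at hω; omega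
  have hω2 : (ω : F) * ω ≠ 1 := fun h => by
    have : ω ^ 2 = 1 := Units.ext (by rw [sq, Units.val_mul, h, Units.val_one])
    have := Nat.le_of_dvd (by norm_num) (hω ▸ orderOf_dvd_of_pow_eq_one this)
    omega
  let δ : Fin p → (Fin p → μ) := fun i₀ i => if i = i₀ then ⟨ω, Subgroup.mem_zpowers ω⟩ else 1
  have hδs : ∀ i₀, c (δ i₀) i₀ = ω := fun i₀ => by simp [c, δ]
  have hδn : ∀ i₀ i, i ≠ i₀ → c (δ i₀) i = 1 := fun i₀ i h => by simp [c, δ, h]
  obtain ⟨d, j, hd⟩ := hxQ
  by_cases hj : j = 0
  · subst hj
    by_cases hinj : Function.Injective d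
    · -- `x` is conjugate to a cyclic permutation matrix
      let v : Fin p → F := fun i => (c d i)⁻¹
      have hv : Function.Injective v := fun a b h =>
        hinj (Subtype.ext (Units.ext (inv_injective h)))
      let t := GeneralLinearGroup.mkOfDetNeZero (Matrix.vandermonde v)
        (Matrix.det_vandermonde_ne_zero_iff.mpr hv)
      refine ⟨t, mk 1 1, ⟨_, _, hmk 1 1⟩, Units.ext ?_, δ 0, fun e l heq => ?_⟩
      · rw [Units.val_mul, Units.val_mul, hmk, hd]
        ext i m
        rw [mul_M_apply, M_mul_apply, add_zero]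
        show v i ^ ((m - 1 : Fin p) : ℕ) * c 1 (m - 1) = c d i * v i ^ (m : ℕ)
        have h1' : c (1 : Fin p → μ) (m - 1) = 1 := by simp [c]
        rw [h1', mul_one]
        have hvp : v i ^ p = 1 := by simp only [v, inv_pow, c, hμp, inv_one]
        by_cases hm : m = 0
        · subst hm
          rw [zero_sub, Fin.val_zero, pow_zero, mul_one]
          have : ((-1 : Fin p) : ℕ) = p - 1 := by
            rw [Fin.val_neg', Fin.val_one', Nat.mod_eq_of_lt (show 1 < p by omega),
              Nat.mod_eq_of_lt (by omega)]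
          rw [this]
          apply mul_left_cancel₀ (inv_ne_zero (hc0 d i))
          rw [← pow_succ', Nat.sub_add_cancel (by omega), hvp, inv_mul_cancel₀ (hc0 d i)]
        · have : (m : ℕ) = ((m - 1 : Fin p) : ℕ) + 1 := by
            have h0 : (m : ℕ) ≠ 0 := fun h => hm (Fin.ext (by rw [h, Fin.val_zero]))
            have h1'' : ((1 : Fin p) : ℕ) = 1 := by
              rw [Fin.val_one', Nat.mod_eq_of_lt (show 1 < p by omega)]
            rw [Fin.sub_val_of_le (by show ((1 : Fin p) : ℕ) ≤ (m : ℕ); omega), h1'']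
            omega
          rw [this, pow_succ', ← mul_assoc, mul_inv_cancel₀ (hc0 d i), one_mul]
      · have hk : ∀ (i : Fin p) (n : ℕ) (hn : n < p),
            v i ^ n * c (δ 0) ⟨n, hn⟩ = c e i * v (i + l) ^ n := by
          intro i n hn
          have := congrFun (congrFun heq i) ⟨n, hn⟩
          rw [mul_M_apply, M_mul_apply, sub_zero] at this
          exact this
        have e0 := hk 0 0 (by omega)
        have e1 := hk 0 1 (by omega)
        have e2 := hk 0 2 (by omega)
        rw [show (⟨0, _⟩ : Fin p) = 0 from Fin.ext (by simp), hδs, pow_zero, pow_zero, one_mul,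
          mul_one] at e0
        rw [hδn 0 _ (by simp [Fin.ext_iff]), mul_one, pow_one, pow_one] at e1
        rw [hδn 0 _ (by simp [Fin.ext_iff]), mul_one] at e2
        rw [e1, ← e0] at e2
        have : v (0 + l) ≠ 0 := inv_ne_zero (hc0 d _)
        apply hω1
        have h3 : (ω : F) * ω * v (0 + l) ^ 2 = (ω : F) * v (0 + l) ^ 2 := by
          linear_combination e2
        have h4 := mul_right_cancel₀ (pow_ne_zero 2 this) h3
        exact mul_left_cancel₀ ω.ne_zero (h4.trans (mul_one _).symm)
    · -- `x` commutes with a transvection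
      obtain ⟨a, b, hab, hne⟩ : ∃ a b, d a = d b ∧ a ≠ b := by
        simpa [Function.Injective] using hinj
      let t : GL (Fin p) F := ⟨transvection a b 1, transvection a b (-1),
        by rw [transvection_mul_transvection_same _ _ hne, add_neg_cancel, transvection_zero],
        by rw [transvection_mul_transvection_same _ _ hne, neg_add_cancel, transvection_zero]⟩
      have htv : ∀ i m, (t : Matrix (Fin p) (Fin p) F) i m =
          (if i = m then 1 else 0) + if i = a ∧ m = b then 1 else 0 := by
        intro i m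
        show transvection a b (1 : F) i m = _
        simp [transvection, Matrix.one_apply, Matrix.single_apply, eq_comm]
      refine ⟨t, mk d 0, ⟨_, _, hmk d 0⟩, Units.ext ?_, δ a, fun e l heq => ?_⟩
      · rw [Units.val_mul, Units.val_mul, hmk, hd]
        ext i m
        rw [mul_M_apply, M_mul_apply, sub_zero, add_zero, htv]
        by_cases him : i = m
        · subst him; rw [mul_comm]
        · rw [if_neg him, zero_add]
          by_cases h : i = a ∧ m = b
          · obtain ⟨rfl, rfl⟩ := h
            simp [c, hab]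
          · rw [if_neg h]; simp
      · have hka := congrFun (congrFun heq a) a
        have hkb := congrFun (congrFun heq a) b
        rw [mul_M_apply, M_mul_apply, sub_zero, htv, htv, hδs, if_pos rfl,
          if_neg (fun h => hne h.2), add_zero, one_mul] at hka
        rw [mul_M_apply, M_mul_apply, sub_zero, htv, htv, hδn a b hne.symm, if_neg hne,
          if_pos ⟨rfl, rfl⟩, zero_add, mul_one] at hkb
        by_cases hl : l = 0
        · subst hl
          rw [add_zero, if_pos rfl, if_neg (fun h => hne h.2), add_zero, mul_one] at hka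
          rw [add_zero, if_neg hne, if_pos ⟨rfl, rfl⟩, zero_add, mul_one] at hkb
          exact hω1 (hka.trans hkb.symm)
        · have h' : a + l ≠ a := fun h => hl (by simpa using h)
          rw [if_neg h', if_neg (fun h => h' h.1), add_zero, mul_zero] at hka
          exact ω.ne_zero hka
  -- the permutation part is not trivial
  have hbij := nsmul_bij hp' hj
  set X : Matrix (Fin p) (Fin p) F := (x : Matrix (Fin p) (Fin p) F) with hXdef
  let γ : F := ∏ i, c d i
  have hXn : ∀ n : ℕ, X ^ n = M (fun i => ∏ l ∈ Finset.range n, c d (i + l • j)) (n • j) :=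
    fun n => by rw [hd, M_pow]
  have hpj : p • j = 0 := by
    have := card_nsmul_eq_zero' (x := j); simpa using this
  have hXp : X ^ p = γ • (1 : Matrix (Fin p) (Fin p) F) := by
    rw [hXn, hpj]
    ext i m
    rw [M_apply, add_zero, Matrix.smul_apply, Matrix.one_apply, smul_eq_mul]
    by_cases h : i = m
    · subst h
      rw [if_pos rfl, if_pos rfl, mul_one, ← Fin.prod_univ_eq_prod_range (fun l => c d (i + l • j)) p]
      exact Fintype.prod_bijective _ ((AddGroup.addLeft_bijective i).comp hbij) _ _ fun _ => rfl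
    · rw [if_neg (Ne.symm h), if_neg h, mul_zero]
  have hγp : γ ^ p = 1 := by
    rw [← Finset.prod_pow]; exact Finset.prod_eq_one fun i _ => hμp _
  have hjj : j + j ≠ 0 := fun h => by
    have h2 : (2 : ℕ) • j = (0 : ℕ) • j := by rw [zero_nsmul, two_nsmul, h]
    have := hbij.1 (a₁ := (⟨2, by omega⟩ : Fin p)) (a₂ := ⟨0, by omega⟩) h2
    simp at this
  have hpF : (p : F) ≠ 0 := fun h => by
    obtain ⟨r, hr⟩ := CharP.exists F
    have hrp : r ∣ p := (CharP.cast_eq_zero_iff F r p).mp h
    obtain ⟨n, hr', hn⟩ := FiniteField.card F r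
    obtain rfl : r = p := (Nat.prime_dvd_prime_iff_eq hr' hp').mp hrp
    have hd' : r ∣ Fintype.card F := hn ▸ dvd_pow_self r n.ne_zero
    have h1' := Nat.dvd_sub hd' h1
    rw [Nat.sub_sub_self Fintype.card_pos] at h1'
    exact hp'.not_dvd_one h1'
  by_cases hγ : γ = 1
  swap
  · -- `x + 1`
    have hodd : Odd p := hp'.odd_of_ne_two hp
    have hne : 1 + γ ≠ 0 := fun h => by
      have hg : γ = -1 := by linear_combination h
      rw [hg, hodd.neg_one_pow] at hγp
      exact hγ (hg.trans hγp)
    set B := ∑ i ∈ Finset.range p, (-X) ^ i with hB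
    have hmul : (1 + X) * ((1 + γ)⁻¹ • B) = 1 := by
      have := mul_neg_geom_sum (-X) p
      rw [sub_neg_eq_add, hodd.neg_pow, sub_neg_eq_add, hXp, ← hB] at this
      rw [Matrix.mul_smul, this, smul_add, smul_smul, ← add_smul]
      rw [show (1 + γ)⁻¹ + (1 + γ)⁻¹ * γ = 1 by field_simp, one_smul]
    let t : GL (Fin p) F := ⟨1 + X, (1 + γ)⁻¹ • B, hmul, mul_eq_one_comm.mp hmul⟩
    refine ⟨t, x, ⟨d, j, hd⟩, Units.ext ?_, δ 0, fun e l heq => ?_⟩
    · show (1 + X) * X = X * (1 + X)
      rw [add_mul, mul_add, one_mul, mul_one]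
    · have hrow : ∀ i m, (t : Matrix (Fin p) (Fin p) F) i m =
          (if i = m then 1 else 0) + if m = i + j then c d i else 0 := fun i m => by
        show (1 + X) i m = _
        rw [Matrix.add_apply, Matrix.one_apply, hd, M_apply]
      have hij : ∀ i : Fin p, i + j ≠ i := fun i h => hj (by simpa using h)
      have h₁ := congrFun (congrFun heq 0) 0
      have h₂ := congrFun (congrFun heq 0) (0 + j)
      rw [mul_M_apply, M_mul_apply, sub_zero, hrow, hrow, if_pos rfl, if_neg (hij 0).symm,
        add_zero, one_mul, hδs] at h₁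
      rw [mul_M_apply, M_mul_apply, sub_zero, hrow, hrow, if_neg (hij 0).symm, if_pos rfl, zero_add,
        hδn 0 _ (hij 0), mul_one] at h₂
      simp only [zero_add] at h₁ h₂
      by_cases hl : l = 0
      · subst hl
        rw [if_pos rfl, zero_add, if_neg (Ne.symm hj), add_zero, mul_one] at h₁
        rw [if_neg (Ne.symm hj), if_pos (zero_add j).symm, zero_add, ← h₁] at h₂
        exact hω1 (mul_right_cancel₀ (hc0 d 0) (h₂.symm.trans (one_mul _).symm))
      · rw [if_neg hl, zero_add] at h₁
        by_cases hlj : 0 = l + j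
        · rw [if_pos hlj] at h₁
          have hlj' : l ≠ j := fun h => hjj (by rw [hlj, h])
          rw [if_neg hlj', if_neg (fun h => hl (by simpa using h)), add_zero, mul_zero] at h₂
          exact hc0 d 0 h₂
        · rw [if_neg hlj, mul_zero] at h₁
          exact ω.ne_zero h₁
  · -- `1 + s N`, where `N` is the sum of the powers of `x`
    rw [hγ, one_smul] at hXp
    set N := ∑ n ∈ Finset.range p, X ^ n with hN
    have hXN : X * N = N := by
      have h := mul_neg_geom_sum X p
      rw [hXp, sub_self, sub_mul, one_mul, sub_eq_zero] at h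
      exact h.symm
    have hNX : N * X = N := by
      have h : Commute N X := Commute.sum_left _ _ _ fun n _ => (Commute.refl X).pow_left n
      rw [h.eq, hXN]
    have hXmN : ∀ n, X ^ n * N = N := by
      intro n
      induction n with
      | zero => simp
      | succ n ih => rw [pow_succ, mul_assoc, hXN, ih]
    have hNN : N * N = (p : F) • N := by
      nth_rewrite 1 [hN]
      rw [Finset.sum_mul, Finset.sum_congr rfl fun n _ => hXmN n, Finset.sum_const,
        Finset.card_range, Nat.cast_smul_eq_nsmul]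
    have hent : ∀ (i : Fin p) (n : Fin p), N i (i + (n : ℕ) • j) =
        ∏ l ∈ Finset.range (n : ℕ), c d (i + l • j) := by
      intro i n
      rw [hN, Matrix.sum_apply, Finset.sum_eq_single (n : ℕ) (fun b hb hbn => ?_)
        (fun h => absurd (Finset.mem_range.mpr n.2) h), hXn, M_apply, if_pos rfl]
      rw [hXn, M_apply, if_neg]
      intro h
      exact hbn (congrArg Fin.val (hbij.1 (a₁ := ⟨b, Finset.mem_range.mp hb⟩) (a₂ := n)
        (add_left_cancel h).symm))
    have hN1 : ∀ i, N i i = 1 := fun i => by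
      have := hent i 0
      simpa using this
    have hN0 : ∀ i m, N i m ≠ 0 := by
      intro i m
      obtain ⟨n, hn⟩ := hbij.2 (m - i)
      have hm : m = i + (n : ℕ) • j := by rw [show (n : ℕ) • j = m - i from hn]; abel
      rw [hm, hent]
      exact Finset.prod_ne_zero_iff.mpr fun l _ => hc0 d _
    have hcoc : ∀ i m o, N i o = N i m * N m o := by
      intro i m o
      obtain ⟨n, hn⟩ := hbij.2 (m - i)
      have hm : m = i + (n : ℕ) • j := by rw [show (n : ℕ) • j = m - i from hn]; abel
      have := congrFun (congrFun (hXmN (n : ℕ)) i) o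
      rw [hXn, M_mul_apply, ← hm] at this
      rw [← this, hm, hent, ← hm]
    set s : F := ((ω : F) - 1) / p with hs
    set s' : F := ((ω : F)⁻¹ - 1) / p with hs'
    have hss : s + s' + s * s' * p = 0 := by
      rw [hs, hs']; field_simp; ring
    have hmul : (1 + s • N) * (1 + s' • N) = 1 := by
      rw [add_mul, one_mul, mul_add, mul_one, Matrix.mul_smul, Matrix.smul_mul, hNN, smul_smul,
        smul_smul]
      rw [show (1 : Matrix (Fin p) (Fin p) F) + s' • N + (s • N + (s' * s * (p : F)) • N) =
        1 + (s + s' + s * s' * p) • N by rw [add_smul, add_smul, show s * s' * p = s' * s * p by ring]; abel,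
        hss, zero_smul, add_zero]
    let t : GL (Fin p) F := ⟨1 + s • N, 1 + s' • N, hmul, mul_eq_one_comm.mp hmul⟩
    have hs0 : s ≠ 0 := div_ne_zero (sub_ne_zero.mpr hω1) hpF
    refine ⟨t, x, ⟨d, j, hd⟩, Units.ext ?_, δ 0, fun e l heq => ?_⟩
    · show (1 + s • N) * X = X * (1 + s • N)
      rw [add_mul, mul_add, one_mul, mul_one, Matrix.smul_mul, Matrix.mul_smul, hNX, hXN]
    · have hrow : ∀ i m, (t : Matrix (Fin p) (Fin p) F) i m =
          (if i = m then 1 else 0) + s * N i m := fun i m => by
        show (1 + s • N) i m = _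
        simp [Matrix.add_apply, Matrix.one_apply]
      have heq' : ∀ i m, (t : Matrix (Fin p) (Fin p) F) i m * c (δ 0) m =
          c e i * (t : Matrix (Fin p) (Fin p) F) (i + l) m := by
        intro i m
        have := congrFun (congrFun heq i) m
        rwa [mul_M_apply, M_mul_apply, sub_zero] at this
      by_cases hl : l = 0
      · subst hl
        obtain ⟨i, hi0⟩ : ∃ i : Fin p, i ≠ 0 := ⟨⟨1, by omega⟩, by simp [Fin.ext_iff]⟩
        obtain ⟨m, hm0, hmi⟩ : ∃ m : Fin p, m ≠ 0 ∧ m ≠ i := by
          by_cases h : i = ⟨1, by omega⟩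
          · exact ⟨⟨2, by omega⟩, by simp [Fin.ext_iff], by simp [h, Fin.ext_iff]⟩
          · exact ⟨⟨1, by omega⟩, by simp [Fin.ext_iff], Ne.symm h⟩
        have h₀ := heq' i 0
        have h₁ := heq' i m
        rw [add_zero, hrow, if_neg hi0, zero_add, hδs, mul_comm (c e i)] at h₀
        rw [add_zero, hrow, if_neg (Ne.symm hmi), zero_add, hδn 0 m hm0, mul_comm (c e i)] at h₁
        have e0 := mul_left_cancel₀ (mul_ne_zero hs0 (hN0 i 0)) h₀
        have e1 := mul_left_cancel₀ (mul_ne_zero hs0 (hN0 i m)) h₁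
        exact hω1 (e0.trans e1.symm)
      · obtain ⟨i, hi0, hil⟩ : ∃ i : Fin p, i ≠ 0 ∧ i + l ≠ 0 := by
          by_cases h : (⟨1, by omega⟩ : Fin p) + l = 0
          · refine ⟨⟨2, by omega⟩, by simp [Fin.ext_iff], fun h' => ?_⟩
            have := add_right_cancel (h'.trans h.symm)
            simp [Fin.ext_iff] at this
          · exact ⟨⟨1, by omega⟩, by simp [Fin.ext_iff], h⟩
        have him : i + l ≠ i := fun h => hl (by simpa using h)
        have h₀ := heq' i 0
        have h₁ := heq' i i
        have h₂ := heq' i (i + l)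
        rw [hrow, hrow, if_neg hi0, if_neg hil, zero_add, zero_add, hδs, hcoc i (i + l) 0] at h₀
        rw [hrow, hrow, if_pos rfl, if_neg him, hδn 0 i hi0, hN1, mul_one, mul_one, zero_add] at h₁
        rw [hrow, hrow, if_neg him.symm, if_pos rfl, hδn 0 _ hil, hN1, mul_one, mul_one,
          zero_add] at h₂
        have hab : N i (i + l) * N (i + l) i = 1 := by rw [← hcoc, hN1]
        have he' : N i (i + l) * ω = c e i := by
          apply mul_right_cancel₀ (mul_ne_zero hs0 (hN0 (i + l) 0))
          linear_combination h₀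
        rw [← he'] at h₁ h₂
        have ha : N i (i + l) ≠ 0 := hN0 _ _
        have h3 : s = (ω : F) * (1 + s) := mul_left_cancel₀ ha (by linear_combination h₂)
        have h4 : 1 + s = (ω : F) * s := by
          linear_combination h₁ + (ω : F) * s * hab
        apply hω2
        apply mul_right_cancel₀ hs0
        linear_combination (-1 : F) * h3 - (ω : F) * h4

end Cfsg.Agent.S4358
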