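import Cfsg.Statements.S4395
import Cfsg.Agent.S0132
import Cfsg.Agent.Lib.Hall.Schmidt
import Cfsg.Agent.Lib.SchmidtMax.Model
-- import your own Cfsg.Agent.* helpers here

set_option autoImplicit false
universe u
open Cfsg

namespace Cfsg.Agent.S4395

open Subgroup Cfsg.Agent.Lib.SchmidtMax

theorem npc_of_isNilpotent {G : Type*} [Group G] [Finite G] {p : ℕ} [Fact p.Prime]
    (hn : Group.IsNilpotent G) : Cfsg.HasNormalPComplement p G :=
  Lib.Transfer.frobenius_criterion fun Q hQ g _ hgo => by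
    rw [mem_centralizer_iff]
    intro x hx
    refine (Lib.Transfer.commute_of_coprime_orderOf ?_).eq
    obtain ⟨k, hk⟩ := IsPGroup.iff_orderOf.mp hQ ⟨x, hx⟩
    rw [orderOf_mk] at hk
    rw [hk]
    exact (hgo.symm.pow_left k)

/-- An element conjugating `a` into `a * k` with `k` fixed and of coprime order fixes `a`. -/
theorem commute_of_comm_fixed {G : Type*} [Group G] {b a k : G} (hk : b * a * b⁻¹ = a * k)
    (hbk : Commute b k) (hcop : (orderOf b).Coprime (orderOf k)) : Commute b a := by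
  have key : ∀ n : ℕ, b ^ n * a * (b ^ n)⁻¹ = a * k ^ n := by
    intro n
    induction n with
    | zero => simp
    | succ n ih =>
      calc b ^ (n + 1) * a * (b ^ (n + 1))⁻¹ = b * (b ^ n * a * (b ^ n)⁻¹) * b⁻¹ := by rw [pow_succ']; group
        _ = (b * a * b⁻¹) * (b * k ^ n * b⁻¹) := by rw [ih]; group
        _ = a * k * k ^ n := by rw [hk, (hbk.pow_right n).eq, mul_inv_cancel_right]
        _ = a * k ^ (n + 1) := by rw [mul_assoc, pow_succ']
  have h1 := key (orderOf b)
  rw [pow_orderOf_eq_one, one_mul, inv_one, mul_one] at h1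
  have h2 : k = 1 := orderOf_eq_one_iff.1 (Nat.eq_one_of_dvd_coprimes hcop
    (orderOf_dvd_of_pow_eq_one (mul_left_cancel (h1.symm.trans (mul_one a).symm))) dvd_rfl)
  rw [h2, mul_one] at hk
  exact mul_inv_eq_iff_eq_mul.1 hk

/-- In a minimal non-nilpotent `{p,q}`-group with normal Sylow `p`-subgroup the Sylow `q`-subgroups are cyclic. -/
theorem structure_of_minimal {X : Type u} [Group X] [Finite X] {p q r t : ℕ} [hp : Fact p.Prime]
    [hq : Fact q.Prime] (hpq : p ≠ q)
    (hX : ¬ Cfsg.HasNormalPComplement p X ∧ ∀ K : Subgroup X, K ≠ ⊤ → Cfsg.HasNormalPComplement p ↥K)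
    (hcard : Nat.card X = p ^ t * q ^ r) :
    ∃ P : Subgroup X, P.Normal ∧ IsPGroup p P ∧ Nat.card X = Nat.card P * q ^ r ∧
      (∃ y : X, orderOf y = q ^ r) ∧ ¬ Group.IsNilpotent X ∧ ∀ H : Subgroup X, H ≠ ⊤ → Group.IsNilpotent H := by
  obtain ⟨hprop, hnn, hnorm⟩ := S0132.result hX.1 hX.2
  obtain ⟨P₀⟩ := (inferInstance : Nonempty (Sylow p X))
  have hPc : Nat.card P₀ = p ^ t := by
    rw [Sylow.card_eq_multiplicity, hcard, Nat.factorization_mul (pow_ne_zero _ hp.out.ne_zero)
      (pow_ne_zero _ hq.out.ne_zero), Finsupp.add_apply, hp.out.factorization_pow, hq.out.factorization_pow,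
      Finsupp.single_eq_same, Finsupp.single_eq_of_ne (by omega), add_zero]
  refine ⟨P₀, hnorm P₀, P₀.2, by rw [hPc, hcard], ?_, hnn, hprop⟩
  obtain ⟨p', q', hp', hq', hpq', P, Q, x, hP, hQn, -, hx⟩ :=
    Lib.Hall.minimal_non_nilpotent_structure (G := X) ⟨hnn, hprop⟩
  haveI := Fact.mk hp'
  haveI := Fact.mk hq'
  have hp'q : p' = q := by
    by_contra hne
    by_cases he : p' = p
    · subst he
      apply hx
      rw [mem_centralizer_iff]
      intro w hw
      have hdis : Disjoint (P : Subgroup X) (Q : Subgroup X) :=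
        IsPGroup.disjoint_of_ne p' q' hpq' _ _ P.2 Q.2
      exact (Subgroup.commute_of_normal_of_disjoint _ _ (hnorm P) hQn hdis _ _ (hP ▸ mem_zpowers x) hw).symm.eq
    · apply hx
      have h1 : Nat.card P = 1 := by
        rw [Sylow.card_eq_multiplicity, hcard, Nat.factorization_mul (pow_ne_zero _ hp.out.ne_zero)
          (pow_ne_zero _ hq.out.ne_zero), Finsupp.add_apply, hp.out.factorization_pow, hq.out.factorization_pow,
          Finsupp.single_eq_of_ne he, Finsupp.single_eq_of_ne hne, add_zero, pow_zero]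
      have h2 : x ∈ (P : Subgroup X) := hP ▸ mem_zpowers x
      rw [Subgroup.card_eq_one.1 h1, Subgroup.mem_bot] at h2
      rw [h2]; exact one_mem _
  subst hp'q
  refine ⟨x, ?_⟩
  rw [← Nat.card_zpowers, ← hP, Sylow.card_eq_multiplicity, hcard, Nat.factorization_mul
    (pow_ne_zero _ hp.out.ne_zero) (pow_ne_zero _ hp'.ne_zero), Finsupp.add_apply, hp.out.factorization_pow,
    hp'.factorization_pow, Finsupp.single_eq_same, Finsupp.single_eq_of_ne (by omega), zero_add]

/-- Let p ≠ q be primes, r ≥ 1, a the multiplicative order of p modulo q, and a₀ = a when a is odd, a₀ = 3a/2 when a is even. Call a finite group minimal non-p-nilpotent when it has no normal p-complement but every proper subgroup has one. Then there is a minimal non-p-nilpotent group G₀ of order p^a₀ · q^r such that every minimal non-p-nilpotent group of order p^t · q^r (any t) is a quotient of G₀ by a central subgroup. -/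
theorem result (p q r : ℕ) [Fact p.Prime] [Fact q.Prime] (hpq : p ≠ q) (hr : 1 ≤ r) (a a₀ : ℕ)
    (ha : a = orderOf (p : ZMod q)) (ha₀ : a₀ = if a % 2 = 1 then a else 3 * a / 2) :
    ∃ (G₀ : Type u) (_ : Group G₀) (_ : Finite G₀),
      (¬ Cfsg.HasNormalPComplement p G₀ ∧ ∀ K : Subgroup G₀, K ≠ ⊤ → Cfsg.HasNormalPComplement p ↥K) ∧ Nat.card G₀ = p ^ a₀ * q ^ r ∧
      ∀ (X : Type u) [Group X] [Finite X], (¬ Cfsg.HasNormalPComplement p X ∧ ∀ K : Subgroup X, K ≠ ⊤ → Cfsg.HasNormalPComplement p ↥K) →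
        (∃ t : ℕ, Nat.card X = p ^ t * q ^ r) → ∃ φ : G₀ →* X, Function.Surjective φ ∧ φ.ker ≤ Subgroup.center G₀ := by
  classical
  obtain ⟨K, _, _, _, ζ, hζ0, U₀, _, _, C₀, θ₀, hK, hζ, hζ1, hU₀, hCq₀, hθs₀, hθc₀, hker₀, hgen₀, hUcard⟩ :=
    exists_model p q hpq
  haveI : NeZero (q ^ r) := ⟨pow_ne_zero _ (Fact.out : q.Prime).ne_zero⟩
  have hqr : q ∣ q ^ r := dvd_pow_self q (by omega)
  -- move the model to the given universe
  let U : Type u := ULift.{u} U₀
  let e : U ≃* U₀ := MulEquiv.ulift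
  let θ : U →* Multiplicative K := θ₀.comp e.toMonoidHom
  let C : MulAut U := (e.trans C₀).trans e.symm
  have hCk : ∀ (k : ℕ) u, e ((C ^ k) u) = (C₀ ^ k) (e u) := fun k => by
    induction k with
    | zero => intro u; simp
    | succ k ih =>
      intro u
      rw [pow_succ', pow_succ', MulAut.mul_apply, MulAut.mul_apply, ← ih]
      exact e.apply_symm_apply _
  have hCq : C ^ q = 1 := by
    refine MulEquiv.ext fun u => e.injective ?_
    rw [hCk, hCq₀]
    rfl
  have hC : C ^ q ^ r = 1 := by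
    obtain ⟨m, hm⟩ := hqr
    rw [hm, pow_mul, hCq, one_pow]
  have hM : mulAut ζ hζ0 ^ q ^ r = 1 := by
    obtain ⟨m, hm⟩ := hqr
    ext x
    rw [mulAut_pow_apply, hm, pow_mul, hζ, one_pow, one_mul]
    rfl
  have hMq : mulAut ζ hζ0 ^ q = 1 := by
    ext x
    rw [mulAut_pow_apply, hζ, one_mul]
    rfl
  have hθs : Function.Surjective θ := hθs₀.comp e.surjective
  have hθc : ∀ u, θ (C u) = mulAut ζ hζ0 (θ u) := fun u => by
    show θ₀ (e (e.symm (C₀ (e u)))) = _
    rw [e.apply_symm_apply, hθc₀]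
    rfl
  have hker : ∀ u ∈ θ.ker, u ∈ center U ∧ C u = u := fun u hu => by
    obtain ⟨h1, h2⟩ := hker₀ (e u) hu
    refine ⟨mem_center_iff.2 fun g => e.injective ?_, e.injective ?_⟩
    · rw [map_mul, map_mul]; exact mem_center_iff.1 h1 (e g)
    · show e (e.symm (C₀ (e u))) = e u
      rw [e.apply_symm_apply, h2]
  have hgen : ∀ R : Subgroup U, (∀ x, ∃ u ∈ R, θ u = x) → R = ⊤ := fun R hR => by
    have h := hgen₀ (R.map e.toMonoidHom) fun x => by
      obtain ⟨u, hu, hux⟩ := hR x
      exact ⟨e u, ⟨u, hu, rfl⟩, hux⟩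
    refine eq_top_iff.2 fun u _ => ?_
    obtain ⟨w, hw, hwu⟩ := h.symm ▸ mem_top (e u)
    exact e.injective hwu ▸ hw
  have hU : IsPGroup p U := hU₀.of_equiv e.symm
  let G₀ := Semi (q ^ r) C hC
  let B := Semi (q ^ r) (mulAut ζ hζ0) hM
  haveI hG₀fin : Finite G₀ := Finite.of_equiv _ SemidirectProduct.equivProd.symm
  haveI : Finite B := Finite.of_equiv _ SemidirectProduct.equivProd.symm
  obtain ⟨hG₀npc, hG₀nn, hG₀prop⟩ := model_props hpq hr hK hζ0 hζ hζ1 hU C hCq hC θ hθs hθc hker hgen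
  have hKp : IsPGroup p (Multiplicative K) :=
    IsPGroup.of_card (n := orderOf (p : ZMod q)) (by rw [Nat.card_congr Multiplicative.toAdd, hK])
  obtain ⟨-, hBnn, -⟩ := model_props hpq hr hK hζ0 hζ hζ1 hKp (mulAut ζ hζ0) hMq hM (MonoidHom.id _)
    (fun x => ⟨x, rfl⟩) (fun _ => rfl) (fun u hu => by
      rw [MonoidHom.mem_ker, MonoidHom.id_apply] at hu
      subst hu
      exact ⟨one_mem _, map_one _⟩) (fun R hR => eq_top_iff.2 fun x _ => by
      obtain ⟨u, hu, rfl⟩ := hR x
      exact hu)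
  let fB : G₀ →* B := semiMap hC hM θ hθc
  have hfBs : Function.Surjective fB := semiMap_surjective hC hM θ hθc hθs
  have hfBker : ∀ g ∈ fB.ker, g ∈ center G₀ ∧ ∃ u : U, SemidirectProduct.inl u = g := by
    intro g hg
    have hr1 : g.right = 1 := congrArg SemidirectProduct.right hg
    have hl : g.left ∈ θ.ker := congrArg SemidirectProduct.left hg
    have e1 : SemidirectProduct.inl g.left = g := SemidirectProduct.ext (by simp) (by simp [hr1])
    refine ⟨?_, g.left, e1⟩
    obtain ⟨h1, h2⟩ := hker _ hl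
    rw [← e1]
    refine mem_center_iff.2 fun x => ?_
    obtain ⟨k, hk⟩ := exists_ofAdd x.right
    have hfix : (C ^ k) g.left = g.left := by
      clear hk
      induction k with
      | zero => rfl
      | succ k ih => rw [pow_succ', MulAut.mul_apply, ih, h2]
    refine SemidirectProduct.ext ?_ ?_
    · rw [SemidirectProduct.mul_left, SemidirectProduct.mul_left, SemidirectProduct.left_inl,
        SemidirectProduct.right_inl, map_one, MulAut.one_apply, hk, powHom_apply, hfix]
      exact mem_center_iff.1 h1 x.left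
    · rw [SemidirectProduct.mul_right, SemidirectProduct.mul_right, SemidirectProduct.right_inl, mul_one, one_mul]
  have hG₀card : Nat.card G₀ = p ^ a₀ * q ^ r := by
    have : maxExp (orderOf (p : ZMod q)) = a₀ := by rw [ha₀, ha]; rfl
    rw [SemidirectProduct.card, Nat.card_congr e.toEquiv, hUcard, Nat.card_congr Multiplicative.toAdd,
      Nat.card_zmod, this]
  refine ⟨G₀, inferInstance, hG₀fin, ⟨hG₀npc, fun H hH => npc_of_isNilpotent (hG₀prop H hH)⟩, hG₀card, ?_⟩
  intro X _ _ hX hXc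
  obtain ⟨t, hXc⟩ := hXc
  obtain ⟨PX, hPXn, hPXp, hPXc, ⟨y, hy⟩, hXnn, hXprop⟩ := structure_of_minimal hpq hX hXc
  obtain ⟨⟨fX, hfXs, hfXk⟩, -⟩ :=
    exists_hom_base hpq hr hK ζ hζ0 hζ hζ1 hM PX hPXp hPXc y hy hXnn hXprop
  -- a minimal supplement in the fibre product
  let π : G₀ × X →* B := fB.comp (MonoidHom.fst G₀ X)
  let D : Subgroup (G₀ × X) := π.eqLocus (fX.comp (MonoidHom.snd G₀ X))
  have hD : D.map π = ⊤ := eq_top_iff.2 fun b _ => by
    obtain ⟨g, hg⟩ := hfBs b
    obtain ⟨x, hx⟩ := hfXs b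
    exact ⟨(g, x), hg.trans hx.symm, hg⟩
  obtain ⟨H, -, hHmin⟩ := Finite.exists_le_minimal (p := fun H : Subgroup (G₀ × X) => H ≤ D ∧ H.map π = ⊤)
    (a := D) ⟨le_rfl, hD⟩
  obtain ⟨⟨hHD, hHs⟩, hmin⟩ := hHmin
  let πH : H →* B := π.comp H.subtype
  have hπHs : Function.Surjective πH := by
    intro b
    obtain ⟨h, hh, hb⟩ := hHs.symm ▸ mem_top b
    exact ⟨⟨h, hh⟩, hb⟩
  have hker2 : ∀ h : G₀ × X, h ∈ D → π h = 1 → h.1 ∈ fB.ker ∧ h.2 ∈ fX.ker := fun h hh h1 =>
    ⟨h1, (hh.symm.trans h1 : fX h.2 = 1)⟩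
  -- the normal `p`-subgroup of `H`
  let ρ : H →* Multiplicative (ZMod (q ^ r)) := SemidirectProduct.rightHom.comp πH
  have hρs : Function.Surjective ρ := SemidirectProduct.rightHom_surjective.comp hπHs
  have hkerp : IsPGroup p πH.ker := by
    intro h
    obtain ⟨h1, h2⟩ := hker2 (h : H) (hHD h.1.2) h.2
    obtain ⟨u, hu⟩ := (hfBker _ h1).2
    obtain ⟨i, hi⟩ := hU u
    obtain ⟨j, hj⟩ := hfXk ⟨_, h2⟩
    refine ⟨i + j, Subtype.ext (Subtype.ext (Prod.ext ?_ ?_))⟩
    · show ((h : H) : G₀ × X).1 ^ p ^ (i + j) = 1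
      rw [← hu, ← map_pow, pow_add, pow_mul, hi, one_pow, map_one]
    · show ((h : H) : G₀ × X).2 ^ p ^ (i + j) = 1
      have hj' : ((h : H) : G₀ × X).2 ^ p ^ j = 1 := congrArg Subtype.val hj
      rw [add_comm, pow_add, pow_mul, hj', one_pow]
  have hPH : IsPGroup p ρ.ker := by
    intro h
    have hr1 : (πH (h : H)).right = 1 := h.2
    obtain ⟨i, hi⟩ := hKp (πH (h : H)).left
    have e1 : SemidirectProduct.inl (πH (h : H)).left = πH (h : H) :=
      SemidirectProduct.ext (by simp) (by simp [hr1])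
    obtain ⟨j, hj⟩ := hkerp ⟨(h : H) ^ p ^ i, by
      rw [MonoidHom.mem_ker, map_pow πH, ← e1, ← map_pow SemidirectProduct.inl, hi,
        map_one SemidirectProduct.inl]⟩
    refine ⟨i + j, Subtype.ext ?_⟩
    rw [pow_add, pow_mul]
    have := congrArg Subtype.val hj
    simpa using this
  have hHcard : Nat.card H = Nat.card ρ.ker * q ^ r := by
    rw [← Subgroup.card_mul_index ρ.ker, Subgroup.index_ker, MonoidHom.range_eq_top.2 hρs, Subgroup.card_top,
      Nat.card_congr Multiplicative.toAdd, Nat.card_zmod]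
  obtain ⟨i, hi⟩ := hPH.exists_card_eq
  have hcopqr : ∀ i j : ℕ, (q ^ j).Coprime (p ^ i) := fun i j =>
    Nat.Coprime.pow j i ((Nat.coprime_primes (Fact.out : q.Prime) (Fact.out : p.Prime)).2 (Ne.symm hpq))
  obtain ⟨yH, hyH⟩ : ∃ yH : H, orderOf yH = q ^ r := by
    obtain ⟨Q⟩ := (inferInstance : Nonempty (Sylow q H))
    have hQc : Nat.card Q = q ^ r := by
      rw [Sylow.card_eq_multiplicity, hHcard, hi, Nat.factorization_mul (pow_ne_zero _ (Fact.out : p.Prime).ne_zero)
        (pow_ne_zero _ (Fact.out : q.Prime).ne_zero), Finsupp.add_apply, (Fact.out : p.Prime).factorization_pow,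
        (Fact.out : q.Prime).factorization_pow, Finsupp.single_eq_same, Finsupp.single_eq_of_ne (by omega), zero_add]
    have hinj : Function.Injective (ρ.comp (Q : Subgroup H).subtype) := by
      rw [← MonoidHom.ker_eq_bot_iff, eq_bot_iff]
      intro w hw
      have h1 : (w : H) ∈ ρ.ker := hw
      obtain ⟨j, hj⟩ := IsPGroup.iff_orderOf.1 Q.2 w
      obtain ⟨j', hj'⟩ := IsPGroup.iff_orderOf.1 hPH ⟨_, h1⟩
      rw [Subgroup.orderOf_mk] at hj'
      rw [← Subgroup.orderOf_coe] at hj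
      rw [Subgroup.mem_bot]
      exact Subtype.ext (orderOf_eq_one_iff.1 (Nat.eq_one_of_dvd_coprimes (hcopqr j' j) hj.dvd hj'.dvd))
    haveI : IsCyclic Q := isCyclic_of_injective _ hinj
    obtain ⟨g, hg⟩ := IsCyclic.exists_ofOrder_eq_natCard (α := Q)
    exact ⟨g, by rw [Subgroup.orderOf_coe, hg, hQc]⟩
  have hHnn : ¬ Group.IsNilpotent H := fun hn => hBnn (by
    haveI := hn
    exact Group.nilpotent_of_surjective πH hπHs)
  -- proper subgroups of `H` are nilpotent
  have hHprop : ∀ M : Subgroup H, M ≠ ⊤ → Group.IsNilpotent M := by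
    intro M hM'
    have hMB : M.map πH ≠ ⊤ := by
      intro h
      apply hM'
      have := hmin (y := M.map H.subtype) ⟨(Subgroup.map_subtype_le M).trans hHD, by rw [Subgroup.map_map]; exact h⟩
        (Subgroup.map_subtype_le M)
      refine eq_top_iff.2 fun x _ => ?_
      obtain ⟨w, hw, hwx⟩ := this x.2
      exact Subtype.ext hwx ▸ hw
    have hcomm : ∀ b ∈ M, ∀ a ∈ M, ∀ i j : ℕ, orderOf b = q ^ j → orderOf a = p ^ i → Commute b a := by
      intro b hb a ha' i j hbo hao
      have hBc : Commute (πH b) (πH a) := by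
        haveI : Group.IsNilpotent (M.map πH) := by
          obtain ⟨-, -, hBprop⟩ := model_props hpq hr hK hζ0 hζ hζ1 hKp (mulAut ζ hζ0) hMq hM (MonoidHom.id _)
            (fun x => ⟨x, rfl⟩) (fun _ => rfl) (fun u hu => by
              rw [MonoidHom.mem_ker, MonoidHom.id_apply] at hu
              subst hu
              exact ⟨one_mem _, map_one _⟩) (fun R hR => eq_top_iff.2 fun x _ => by
              obtain ⟨u, hu, rfl⟩ := hR x
              exact hu)
          exact hBprop _ hMB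
        exact congrArg Subtype.val (Lib.Transfer.commute_of_coprime_orderOf
          (x := (⟨πH b, ⟨b, hb, rfl⟩⟩ : M.map πH)) (y := ⟨πH a, ⟨a, ha', rfl⟩⟩) (by
            rw [← Subgroup.orderOf_coe, ← Subgroup.orderOf_coe]
            exact ((hcopqr i j).coprime_dvd_left ((orderOf_map_dvd πH b).trans hbo.dvd)).coprime_dvd_right
              ((orderOf_map_dvd πH a).trans hao.dvd))).eq
      let k : H := a⁻¹ * (b * a * b⁻¹)
      have hk : k ∈ πH.ker := by
        rw [MonoidHom.mem_ker, map_mul, map_mul, map_mul, map_inv, map_inv, hBc.eq, mul_inv_cancel_right,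
          inv_mul_cancel]
      obtain ⟨j', hj'⟩ := IsPGroup.iff_orderOf.1 hkerp ⟨k, hk⟩
      rw [Subgroup.orderOf_mk] at hj'
      obtain ⟨hk1, hk2⟩ := hker2 (k : G₀ × X) (hHD k.2) hk
      refine commute_of_comm_fixed (k := k) (by simp [k]) (Subtype.ext (Prod.ext ?_ ?_))
        (by rw [hbo, hj']; exact hcopqr _ _)
      · exact mem_center_iff.1 (hfBker _ hk1).1 _
      · -- the second coordinate
        let x : X := ((b : H) : G₀ × X).2
        have hxne : fX.ker ⊔ zpowers x ≠ ⊤ := fun h => by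
          apply hMB
          have h3 : (⊤ : Subgroup B) ≤ zpowers (fX x) := by
            rw [← Subgroup.map_top_of_surjective fX hfXs, ← h, Subgroup.map_sup, MonoidHom.map_zpowers,
              (Subgroup.map_eq_bot_iff _).2 le_rfl, bot_sup_eq]
          have hbM : fX x ∈ M.map πH := ⟨b, hb, hHD b.2⟩
          exact eq_top_iff.2 (h3.trans (zpowers_le.2 hbM))
        haveI := hXprop _ hxne
        exact congrArg Subtype.val (Lib.Transfer.commute_of_coprime_orderOf
          (x := (⟨x, mem_sup_right (mem_zpowers _)⟩ : ↥(fX.ker ⊔ zpowers x)))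
          (y := ⟨_, mem_sup_left hk2⟩) (by
            rw [Subgroup.orderOf_mk, Subgroup.orderOf_mk]
            refine Nat.Coprime.coprime_dvd_left ?_ (Nat.Coprime.coprime_dvd_right ?_ (hcopqr j' j))
            · rw [← hbo]
              exact orderOf_map_dvd ((MonoidHom.snd G₀ X).comp H.subtype) b
            · rw [← hj']
              exact orderOf_map_dvd ((MonoidHom.snd G₀ X).comp H.subtype) k)).eq
    have hdvd : Nat.card M ∣ p ^ i * q ^ r := by
      rw [← hi, ← hHcard]; exact Subgroup.card_subgroup_dvd_card M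
    refine Lib.Hall.isNilpotent_of_forall_hasNormalPComplement fun ℓ hℓ => ?_
    haveI := Fact.mk hℓ
    refine Lib.Transfer.frobenius_criterion fun W hW g _ hgo => ?_
    rw [mem_centralizer_iff]
    intro w hw
    obtain ⟨j, hj⟩ := IsPGroup.iff_orderOf.1 hW ⟨w, hw⟩
    rw [Subgroup.orderOf_mk] at hj
    have hgd : orderOf g ∣ p ^ i * q ^ r := (orderOf_dvd_natCard g).trans hdvd
    by_cases hℓp : ℓ = p
    · subst hℓp
      obtain ⟨s, -, hs⟩ := (Nat.dvd_prime_pow (Fact.out : q.Prime)).1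
        ((hgo.pow_right i).dvd_of_dvd_mul_left hgd)
      exact (Subtype.ext (hcomm g g.2 w w.2 j s (by rw [Subgroup.orderOf_coe, hs])
        (by rw [Subgroup.orderOf_coe, hj])).eq : g * w = w * g).symm
    by_cases hℓq : ℓ = q
    · subst hℓq
      obtain ⟨s, -, hs⟩ := (Nat.dvd_prime_pow (Fact.out : p.Prime)).1
        ((hgo.pow_right r).dvd_of_dvd_mul_right hgd)
      exact (Subtype.ext (hcomm w w.2 g g.2 s j (by rw [Subgroup.orderOf_coe, hj])
        (by rw [Subgroup.orderOf_coe, hs])).eq : w * g = g * w)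
    have hw1 : w = 1 := by
      rw [← orderOf_eq_one_iff]
      refine Nat.eq_one_of_dvd_coprimes (Nat.Coprime.mul_right
        (Nat.Coprime.pow j i ((Nat.coprime_primes hℓ (Fact.out : p.Prime)).2 hℓp))
        (Nat.Coprime.pow j r ((Nat.coprime_primes hℓ (Fact.out : q.Prime)).2 hℓq))) hj.dvd
        ((orderOf_dvd_natCard w).trans hdvd)
    rw [hw1, one_mul, mul_one]
  obtain ⟨-, hHle⟩ := exists_hom_base hpq hr hK ζ hζ0 hζ hζ1 hM ρ.ker hPH hHcard yH hyH hHnn hHprop
  -- both projections are onto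
  let f₁ : H →* G₀ := (MonoidHom.fst G₀ X).comp H.subtype
  let f₂ : H →* X := (MonoidHom.snd G₀ X).comp H.subtype
  have hf₁ : Function.Surjective f₁ := by
    rw [← MonoidHom.range_eq_top]
    by_contra hne
    haveI := hG₀prop _ hne
    apply hBnn
    refine Group.nilpotent_of_surjective (fB.comp f₁.range.subtype) fun b => ?_
    obtain ⟨h, hh⟩ := hπHs b
    exact ⟨⟨f₁ h, h, rfl⟩, hh⟩
  have hf₂ : Function.Surjective f₂ := by
    rw [← MonoidHom.range_eq_top]
    by_contra hne
    haveI := hXprop _ hne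
    apply hBnn
    refine Group.nilpotent_of_surjective (fX.comp f₂.range.subtype) fun b => ?_
    obtain ⟨h, hh⟩ := hπHs b
    exact ⟨⟨f₂ h, h, rfl⟩, (hHD h.2).symm.trans hh⟩
  have hcards : Nat.card H = Nat.card G₀ := by
    refine le_antisymm ?_ (Nat.card_le_card_of_surjective f₁ hf₁)
    have : maxExp (orderOf (p : ZMod q)) = a₀ := by rw [ha₀, ha]; rfl
    rw [hG₀card, ← this]
    exact hHle
  let E : H ≃* G₀ := MulEquiv.ofBijective f₁ ((Nat.bijective_iff_surjective_and_card f₁).2 ⟨hf₁, hcards⟩)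
  refine ⟨f₂.comp E.symm.toMonoidHom, hf₂.comp E.symm.surjective, fun g hg => (hfBker g ?_).1⟩
  have h2 : ((E.symm g : H) : G₀ × X).2 = 1 := hg
  have h1 : ((E.symm g : H) : G₀ × X).1 = g := E.apply_symm_apply g
  have h3 : fB ((E.symm g : H) : G₀ × X).1 = fX ((E.symm g : H) : G₀ × X).2 := hHD (E.symm g).2
  rw [h1, h2, map_one] at h3
  exact h3

end Cfsg.Agent.S4395
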