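import Cfsg.Statements.S4398
import Cfsg.Agent.S4143
import Cfsg.Agent.Lib.Fusion.MetaTwoGroup
import Cfsg.Agent.Lib.Thompson.MaxClassTwo
import Cfsg.Agent.Lib.Coprime.Action

set_option autoImplicit false
open Cfsg

namespace Cfsg.Agent.S4398

open Subgroup
open scoped commutatorElement


/-- Let S be a finite 2-group of sectional 2-rank at most 2 that contains a subgroup isomorphic to the dihedral group of order 8 or to the quaternion group of order 8. Then S is dihedral of order at least 8, semidihedral of order at least 16 (order 2^(k+4) with an element a of order 2^(k+3) and an involution b with b a b⁻¹ = a^(2^(k+2)−1)), or generalized quaternion of order at least 8. -/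
theorem result {S : Type*} [Group S] [Finite S] (h2 : IsPGroup 2 S) (hr : Cfsg.SectionalPRankLE 2 2 S)
    (hsub : ∃ H : Subgroup S, Nonempty (↥H ≃* DihedralGroup 4) ∨ Nonempty (↥H ≃* QuaternionGroup 2)) :
    ((∃ k : ℕ, Nonempty (S ≃* DihedralGroup (2 ^ (k + 2)))) ∨
      (∃ k : ℕ, Nat.card S = 2 ^ (k + 4) ∧ ∃ a b : S, orderOf a = 2 ^ (k + 3) ∧ orderOf b = 2 ∧ b * a * b⁻¹ = a ^ (2 ^ (k + 2) - 1)) ∨
      (∃ k : ℕ, Nonempty (S ≃* QuaternionGroup (2 ^ (k + 1))))) := by
  classical
  haveI : Fact (Nat.Prime 2) := ⟨Nat.prime_two⟩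
  obtain ⟨H, hH⟩ := hsub
  have hH8 : Nat.card ↥H = 2 ^ 3 := by
    rcases hH with ⟨⟨e⟩⟩ | ⟨⟨e⟩⟩ <;> rw [Nat.card_congr e.toEquiv, Nat.card_eq_fintype_card]
    · rw [DihedralGroup.card]; norm_num
    · rw [QuaternionGroup.card]; norm_num
  have hHna : ¬ IsMulCommutative ↥H := fun h => by
    rcases hH with ⟨⟨e⟩⟩ | ⟨⟨e⟩⟩
    · exact (by decide : ¬ ∀ x y : DihedralGroup 4, x * y = y * x)
        fun x y => e.symm.injective (by rw [map_mul, map_mul, h.is_comm.comm])
    · exact (by decide : ¬ ∀ x y : QuaternionGroup 2, x * y = y * x)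
        fun x y => e.symm.injective (by rw [map_mul, map_mul, h.is_comm.comm])
  -- squares and commutators of `H` are central in `H`
  have hsq : ∀ u : ↥H, ∀ v : ↥H, u ^ 2 * v = v * u ^ 2 := by
    rcases hH with ⟨⟨e⟩⟩ | ⟨⟨e⟩⟩
    · intro u v
      apply e.injective
      rw [map_mul, map_mul, map_pow]
      exact (by decide : ∀ x y : DihedralGroup 4, x ^ 2 * y = y * x ^ 2) _ _
    · intro u v
      apply e.injective
      rw [map_mul, map_mul, map_pow]
      exact (by decide : ∀ x y : QuaternionGroup 2, x ^ 2 * y = y * x ^ 2) _ _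
  have hZc : Nat.card (Subgroup.center ↥H) = 2 := by
    rcases hH with ⟨⟨e⟩⟩ | ⟨⟨e⟩⟩ <;> rw [Nat.card_congr (Subgroup.centerCongr e).toEquiv, Nat.card_eq_fintype_card] <;> decide
  -- `H` is self-centralising
  have hC : Subgroup.centralizer (H : Set S) ≤ H := by
    intro c₀ hc₀
    by_contra hc₀H
    obtain ⟨c, hc, hcH, hc2⟩ : ∃ c ∈ Subgroup.centralizer (H : Set S), c ∉ H ∧ c ^ 2 ∈ H := by
      obtain ⟨k, hk⟩ := h2 c₀
      have hex : ∃ k, c₀ ^ 2 ^ k ∈ H := ⟨k, hk ▸ one_mem H⟩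
      have h0 : Nat.find hex ≠ 0 := fun h => hc₀H (by simpa [h] using Nat.find_spec hex)
      refine ⟨c₀ ^ 2 ^ (Nat.find hex - 1), pow_mem hc₀ _, Nat.find_min hex (by omega), ?_⟩
      rw [← pow_mul, ← pow_succ, show Nat.find hex - 1 + 1 = Nat.find hex by omega]
      exact Nat.find_spec hex
    let K : Subgroup S := H ⊔ Subgroup.zpowers c
    let Z : Subgroup S := (Subgroup.center ↥H).map H.subtype
    have hcomm : ∀ h ∈ H, h * c = c * h := fun h hh => Subgroup.mem_centralizer_iff.mp hc h hh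
    have hZK : ∀ z ∈ Z, ∀ x ∈ K, x * z = z * x := by
      rintro _ ⟨z, hz, rfl⟩ x hx
      suffices h : K ≤ Subgroup.centralizer {(z : S)} from Subgroup.mem_centralizer_singleton_iff.mp (h hx)
      refine sup_le (fun h hh => ?_) (Subgroup.zpowers_le.mpr ?_)
      · exact Subgroup.mem_centralizer_singleton_iff.mpr (congrArg Subtype.val (Subgroup.mem_center_iff.mp hz ⟨h, hh⟩))
      · exact Subgroup.mem_centralizer_singleton_iff.mpr (hcomm z z.2).symm
    haveI hZn : (Z.subgroupOf K).Normal := ⟨fun z hz x => by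
      have h := hZK _ (Subgroup.mem_subgroupOf.mp hz) x x.2
      rw [Subgroup.mem_subgroupOf]
      push_cast
      rw [h, mul_inv_cancel_right]
      exact Subgroup.mem_subgroupOf.mp hz⟩
    have hZmem : ∀ h ∈ H, (∀ v ∈ H, h * v = v * h) → h ∈ Z := fun h hh hc' =>
      ⟨⟨h, hh⟩, Subgroup.mem_center_iff.mpr fun v => Subtype.ext (hc' v v.2).symm, rfl⟩
    have hform : ∀ x ∈ K, ∃ h ∈ H, ∃ i : ℤ, x = h * c ^ i := by
      intro x hx
      have hn : Subgroup.zpowers c ≤ Subgroup.normalizer (H : Set S) :=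
        (Subgroup.zpowers_le.mpr hc).trans (Subgroup.centralizer_le_normalizer _)
      rw [← SetLike.mem_coe, Subgroup.coe_mul_of_right_le_normalizer_left H (Subgroup.zpowers c) hn] at hx
      obtain ⟨h, hh, y, ⟨i, rfl⟩, rfl⟩ := Set.mem_mul.mp hx
      exact ⟨h, hh, i, rfl⟩
    have hexp : ∀ x ∈ K, x ^ 2 ∈ Z := by
      intro x hx
      obtain ⟨h, hh, i, rfl⟩ := hform x hx
      have hc' : Commute h (c ^ i) := (show Commute h c from hcomm h hh).zpow_right i
      rw [hc'.mul_pow]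
      refine mul_mem (hZmem _ (pow_mem hh 2) fun v hv => congrArg Subtype.val (hsq ⟨h, hh⟩ ⟨v, hv⟩)) ?_
      rw [← zpow_natCast, ← zpow_mul, mul_comm, zpow_mul, zpow_natCast]
      exact zpow_mem (hZmem _ hc2 fun v hv =>
        (((show Commute v c from hcomm v hv).pow_right 2).eq).symm) i
    have hq2 : ∀ q : ↥K ⧸ Z.subgroupOf K, q ^ 2 = 1 := fun q => by
      obtain ⟨x, rfl⟩ := QuotientGroup.mk_surjective q
      rw [← QuotientGroup.mk_pow, QuotientGroup.eq_one_iff, Subgroup.mem_subgroupOf]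
      exact hexp _ x.2
    have h4 := hr K (Z.subgroupOf K) ⊤ ⟨⟨fun u v => Subtype.ext (by
      have hi : ∀ z : ↥K ⧸ Z.subgroupOf K, z⁻¹ = z := fun z => inv_eq_of_mul_eq_one_left (by rw [← pow_two, hq2])
      show (u : ↥K ⧸ Z.subgroupOf K) * v = v * u
      calc (u : ↥K ⧸ Z.subgroupOf K) * v = (u.1 * v.1)⁻¹ := (hi _).symm
        _ = v * u := by rw [mul_inv_rev, hi, hi])⟩⟩ fun q _ => hq2 q
    rw [Subgroup.card_top, ← Subgroup.index_eq_card] at h4
    have h5 := (Z.subgroupOf K).card_mul_index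
    have hZK' : Z ≤ K := (Subgroup.map_subtype_le _).trans le_sup_left
    rw [Nat.card_congr (Subgroup.subgroupOfEquivOfLe hZK').toEquiv,
      Subgroup.card_map_of_injective H.subtype_injective, hZc] at h5
    have hlt : H < K := lt_of_le_of_ne le_sup_left fun e =>
      hcH (e ▸ Subgroup.mem_sup_right (Subgroup.mem_zpowers c))
    have h6 := Lib.Thompson.card_mul_p_le h2 hlt
    rw [hH8] at h6
    omega
  obtain ⟨n, hn⟩ := IsPGroup.iff_card.mp h2
  have hcl := S4143.result n hn H hH8 hHna hC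
  have hn3 : 3 ≤ n := by
    have := Subgroup.card_le_card_group H
    rw [hH8, hn] at this
    exact (Nat.pow_le_pow_iff_right (by norm_num)).mp this
  have h4 : (_root_.commutator S).index = 4 := by
    have h := Lib.Thompson.index_lcs_of_maxClass hn hn3 hcl (k := 1) le_rfl (by omega)
    rwa [Subgroup.top_lowerCentralSeries_one] at h
  obtain ⟨a, b, r, hao, hb, hb2, hbr, -, hidx, hr4⟩ :=
    Lib.Thompson.maxClassTwo_structure (m := n - 1) (by omega) (by rw [hn, show n - 1 + 1 = n by omega]) h4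
  haveI : (Subgroup.zpowers a).Normal := Subgroup.normal_of_index_eq_two hidx
  have hab : Lib.Fusion.MetaTwo.Pair a b := by
    refine ⟨fun g => Subgroup.Normal.conj_mem inferInstance a (Subgroup.mem_zpowers a) g, fun g => ?_⟩
    by_cases hg : g ∈ Subgroup.zpowers a
    · obtain ⟨i, hi⟩ := hg
      exact ⟨i, 0, by rw [zpow_zero, mul_one]; exact hi.symm⟩
    · have h : g * b⁻¹ ∈ Subgroup.zpowers a := by
        rw [Subgroup.mul_mem_iff_of_index_two hidx, inv_mem_iff]
        exact iff_of_false hg hb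
      obtain ⟨i, hi⟩ := h
      exact ⟨i, 1, by rw [zpow_one, (show a ^ i = g * b⁻¹ from hi), inv_mul_cancel_right]⟩
  have hexc := Lib.Fusion.MetaTwo.exceptional_of_inverted h2 hab (x := b) (c := a ^ 2 ^ (n - 3))
    (pow_mem (Subgroup.mem_zpowers a) _)
    (by
      rw [← pow_add, Ne, ← orderOf_dvd_iff_pow_eq_one, hao, ← two_mul, ← pow_succ',
        Nat.pow_dvd_pow_iff_le_right (by norm_num : 1 < 2)]
      omega)
    (by
      rw [← pow_add, ← pow_add, ← orderOf_dvd_iff_pow_eq_one, hao,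
        show 2 ^ (n - 3) + 2 ^ (n - 3) + (2 ^ (n - 3) + 2 ^ (n - 3)) = 2 ^ (n - 3) * 2 ^ 2 by ring, ← pow_add]
      exact pow_dvd_pow 2 (by omega))
    (by
      rw [← zpow_natCast, Lib.Thompson.conj_zpow_of_eq hbr, ← zpow_neg, ← mul_inv_eq_one, ← zpow_sub,
        ← orderOf_dvd_iff_zpow_eq_one, hao]
      obtain ⟨k, hk⟩ := hr4
      refine ⟨k, ?_⟩
      rw [show r = 4 * k - 1 by linarith, show n - 1 = n - 3 + 2 by omega, pow_add]
      push_cast
      ring)
    (by
      rw [← pow_two]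
      exact (Subgroup.zpowers_le.mpr (pow_mem (Subgroup.mem_zpowers a) _)) hb2)
  have hp2 : 2 * 2 ^ (n - 1) = 2 ^ n := by rw [← pow_succ']; congr 1; omega
  rcases hexc with ⟨m, ⟨e⟩⟩ | ⟨m, ⟨e⟩⟩ | ⟨k, hk3, hkc, x, y, hx, hy, hxy⟩
  · left
    have h := (Nat.card_congr e.toEquiv).trans DihedralGroup.nat_card
    refine ⟨n - 3, ⟨?_⟩⟩
    rw [show n - 3 + 2 = n - 1 by omega, show 2 ^ (n - 1) = m by omega]
    exact e
  · right; right
    have h : Nat.card S = 4 * m := by
      rcases Nat.eq_zero_or_pos m with rfl | hm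
      · haveI : Finite (QuaternionGroup 0) := Finite.of_equiv _ e.toEquiv
        exact absurd (fun i j h => by
          have h' := QuaternionGroup.a.inj h
          exact h' : Function.Injective fun i : ℤ => (QuaternionGroup.a i : QuaternionGroup 0))
          (not_injective_infinite_finite _)
      · haveI : NeZero m := ⟨by omega⟩
        rw [Nat.card_congr e.toEquiv, Nat.card_eq_fintype_card, QuaternionGroup.card]
    refine ⟨n - 3, ⟨?_⟩⟩
    have hp4 : 4 * 2 ^ (n - 2) = 2 ^ n := by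
      rw [show (4 : ℕ) = 2 ^ 2 by norm_num, ← pow_add]; congr 1; omega
    rw [show n - 3 + 1 = n - 2 by omega, show 2 ^ (n - 2) = m by omega]
    exact e
  · right; left
    refine ⟨k - 3, ?_, x, y, ?_, hy, ?_⟩
    · rw [hkc]; congr 1; omega
    · rw [hx]; congr 1; omega
    · rw [show k - 3 + 2 = k - 1 by omega]; exact hxy

end Cfsg.Agent.S4398
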