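import Cfsg.Statements.S4419
import Cfsg.Agent.Lib.Transfer.Fusion
import Cfsg.Agent.Lib.FitHeight.CornerBasic
import Cfsg.Agent.Lib.Metacyclic.Basic
import Cfsg.Agent.Lib.LocalChar.Core
import Cfsg.Agent.Lib.Balance.Core
import Cfsg.Agent.Lib.Components.Basic

set_option autoImplicit false
open Cfsg

namespace Cfsg.Agent.S4419


open Subgroup

theorem card_frattini_quot_le {Q : Type*} [Group Q] [Finite Q] {p : ℕ} [hp : Fact p.Prime] (hQ : IsPGroup p Q)
    (hm : Cfsg.IsMetacyclic Q) : ∃ k ≤ 2, Nat.card (Q ⧸ frattini Q) = p ^ k := by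
  obtain ⟨k, hk⟩ := (hQ.to_quotient (frattini Q)).exists_card_eq
  refine ⟨k, ?_, hk⟩
  obtain ⟨N, hN, hNc, hQc⟩ := hm
  obtain ⟨⟨a, ha⟩, hga⟩ := hNc.exists_generator
  obtain ⟨b', hgb⟩ := hQc.exists_generator
  obtain ⟨b, rfl⟩ := QuotientGroup.mk_surjective b'
  have hz : ∀ (g : Q) (i : ℤ), ((g ^ i : Q) : Q ⧸ frattini Q) = ((g : Q ⧸ frattini Q)) ^ (i % (p : ℤ)).toNat := by
    intro g i
    have h2 : ((g : Q ⧸ frattini Q)) ^ (p : ℤ) = 1 := by
      rw [zpow_natCast, ← QuotientGroup.mk_pow, QuotientGroup.eq_one_iff]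
      exact Lib.PGroupFrattini.pow_mem_frattini hQ g
    rw [← zpow_natCast, Int.toNat_of_nonneg (Int.emod_nonneg _ (by exact_mod_cast hp.out.ne_zero)),
      QuotientGroup.mk_zpow]
    conv_lhs => rw [← Int.emod_add_mul_ediv i (p : ℤ), zpow_add, zpow_mul, h2, one_zpow, mul_one]
  let f : Fin p × Fin p → Q ⧸ frattini Q := fun s =>
    (a : Q ⧸ frattini Q) ^ (s.1 : ℕ) * (b : Q ⧸ frattini Q) ^ (s.2 : ℕ)
  have hf : Function.Surjective f := by
    intro g
    obtain ⟨g, rfl⟩ := QuotientGroup.mk_surjective g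
    obtain ⟨j, hj⟩ := mem_zpowers_iff.mp (hgb (g : Q ⧸ N))
    have hmem : g * (b ^ j)⁻¹ ∈ N := by
      rw [← QuotientGroup.eq_one_iff, QuotientGroup.mk_mul, QuotientGroup.mk_inv, QuotientGroup.mk_zpow, hj,
        mul_inv_cancel]
    obtain ⟨i, hi⟩ := mem_zpowers_iff.mp (hga ⟨_, hmem⟩)
    have hi' : a ^ i = g * (b ^ j)⁻¹ := by simpa using congrArg Subtype.val hi
    have hlt : ∀ i : ℤ, (i % (p : ℤ)).toNat < p := fun i => by
      have h0 : (0 : ℤ) < p := by exact_mod_cast hp.out.pos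
      have := Int.emod_lt_of_pos i h0
      have := Int.emod_nonneg i h0.ne'
      omega
    refine ⟨(⟨_, hlt i⟩, ⟨_, hlt j⟩), ?_⟩
    change (a : Q ⧸ frattini Q) ^ _ * (b : Q ⧸ frattini Q) ^ _ = _
    rw [← hz, ← hz, ← QuotientGroup.mk_mul, hi', inv_mul_cancel_right]
  have h := Nat.card_le_card_of_surjective f hf
  rw [hk, Nat.card_prod, Nat.card_fin, ← sq] at h
  exact (Nat.pow_le_pow_iff_right hp.out.one_lt).mp h

theorem autPGroup {G : Type*} [Group G] [Finite G] {p : ℕ} [hp : Fact p.Prime] (Q : Subgroup G)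
    (hQ : IsPGroup p Q) (hm : Cfsg.IsMetacyclic Q)
    (hc : Nat.Coprime (Nat.card (G ⧸ Cfsg.pPrimePCore p G)) (p ^ 2 - 1)) :
    Lib.Transfer.AutPGroup p Q := by
  classical
  intro x hx hxo
  by_contra hxC
  have hcopQ : ∀ y : G, (orderOf y).Coprime p → (orderOf y).Coprime (Nat.card Q) := by
    intro y hy
    obtain ⟨k, hk⟩ := hQ.exists_card_eq
    rw [hk]; exact hy.pow_right k
  set σ := Lib.FitHeight.frattiniAct Q ⟨x, hx⟩ with hσ
  have hσne : σ ≠ 1 := by
    intro h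
    exact hxC (Lib.FitHeight.mem_centralizer_of_frattiniAct Q hx (hcopQ x hxo) fun y => by
      rw [← hσ, h]; rfl)
  obtain ⟨q, hq, hqd⟩ := Nat.exists_prime_and_dvd (mt orderOf_eq_one_iff.mp hσne)
  haveI := Fact.mk hq
  set y0 : normalizer (Q : Set G) := ⟨x, hx⟩ with hy0
  have hdvd : orderOf σ ∣ orderOf x := by
    have := orderOf_map_dvd (Lib.FitHeight.frattiniAct Q) y0
    rwa [← Subgroup.orderOf_coe] at this
  obtain ⟨e, hqs⟩ : ∃ e, e = (orderOf x).factorization q := ⟨_, rfl⟩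
  set s := orderOf x / q ^ e with hs
  have hqp : q ≠ p := by
    intro h
    subst h
    exact hq.ne_one (Nat.eq_one_of_dvd_coprimes hxo (hqd.trans hdvd) dvd_rfl)
  have hqn : ¬ q ∣ s := by
    rw [hs, hqs]
    exact Nat.not_dvd_ordCompl hq (orderOf_pos x).ne'
  set τ := Lib.FitHeight.frattiniAct Q (y0 ^ s) with hτ
  have hτne : τ ≠ 1 := by
    intro h
    rw [hτ, map_pow, ← orderOf_dvd_iff_pow_eq_one] at h
    exact hqn (hqd.trans h)
  set y := x ^ s with hy
  have hye : orderOf y ∣ q ^ e := by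
    rw [orderOf_dvd_iff_pow_eq_one, hy, ← pow_mul, hs, hqs, mul_comm,
      Nat.ordProj_mul_ordCompl_eq_self]
    exact pow_orderOf_eq_one x
  have hyN : y ∈ normalizer (Q : Set G) := pow_mem hx s
  have hτeq : τ = Lib.FitHeight.frattiniAct Q ⟨y, hyN⟩ := rfl
  have hyC : y ∉ centralizer (Q : Set G) := by
    intro h
    apply hτne
    rw [hτeq]
    ext z
    obtain ⟨z, rfl⟩ := QuotientGroup.mk_surjective z
    rw [Lib.FitHeight.frattiniAct_mk]
    refine congrArg _ (Subtype.ext ?_)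
    rw [Lib.FitHeight.coe_normAct_apply]
    change y * z * y⁻¹ = z
    rw [← (mem_centralizer_iff.mp h z z.2), mul_inv_cancel_right]
  have hyp : (orderOf y).Coprime p :=
    (((Nat.coprime_primes hq hp.out).mpr hqp).pow_left e).coprime_dvd_left hye
  -- q divides p^2 - 1
  have hqdiv : q ∣ p ^ 2 - 1 := by
    obtain ⟨k, hk2, hk⟩ := card_frattini_quot_le hQ hm
    set V := ↥Q ⧸ frattini ↥Q
    let M := Subgroup.zpowers τ
    have hM : IsPGroup q M := by
      have hd : orderOf τ ∣ q ^ e := by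
        refine Dvd.dvd.trans ?_ hye
        have := orderOf_map_dvd (Lib.FitHeight.frattiniAct Q) (⟨y, hyN⟩ : normalizer (Q : Set G))
        rwa [← hτeq, ← Subgroup.orderOf_coe] at this
      obtain ⟨j, -, hj⟩ := (Nat.dvd_prime_pow hq).mp hd
      exact IsPGroup.of_card (n := j) (by rw [Nat.card_zpowers, hj])
    have hmod := hM.card_modEq_card_fixedPoints V
    let F : Subgroup V := MonoidHom.eqLocus τ.toMonoidHom (MonoidHom.id V)
    have hFeq : (MulAction.fixedPoints M V : Set V) = (F : Set V) := by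
      ext v
      constructor
      · intro h
        exact h ⟨τ, mem_zpowers τ⟩
      · rintro h ⟨g, hg⟩
        have : τ ∈ MulAction.stabilizer (MulAut V) v := h
        exact (zpowers_le.mpr this) hg
    have hcardF : Nat.card (MulAction.fixedPoints M V) = Nat.card F :=
      Nat.card_congr (Equiv.setCongr hFeq)
    obtain ⟨f, hfk, hf⟩ := (Nat.dvd_prime_pow hp.out).mp (hk ▸ F.card_subgroup_dvd_card)
    have hflt : f < k := by
      rcases hfk.lt_or_eq with h | h
      · exact h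
      · exfalso
        apply hτne
        have hF : F = ⊤ := F.eq_top_of_card_eq (by rw [hf, hk, h])
        ext v
        have : v ∈ F := hF ▸ Subgroup.mem_top v
        exact this
    rw [hcardF, hf, hk] at hmod
    have h1 : q ∣ p ^ k - p ^ f := (Nat.modEq_iff_dvd' (Nat.pow_le_pow_right hp.out.pos hfk)).mp hmod.symm
    rw [show p ^ k - p ^ f = p ^ f * (p ^ (k - f) - 1) by
      rw [Nat.mul_sub, mul_one, ← pow_add, Nat.add_sub_cancel' hfk]] at h1
    rcases hq.dvd_mul.mp h1 with h | h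
    · exact absurd ((Nat.prime_dvd_prime_iff_eq hq hp.out).mp (hq.dvd_of_dvd_pow h)) hqp
    · refine h.trans ?_
      have hkf : k - f ∣ 2 := by
        have : k - f = 1 ∨ k - f = 2 := by omega
        rcases this with h' | h' <;> rw [h'] <;> norm_num
      exact Nat.pow_sub_one_dvd_pow_sub_one p hkf
  have hqnd : ¬ q ∣ Nat.card (G ⧸ Cfsg.pPrimePCore p G) := fun h =>
    hq.ne_one (Nat.eq_one_of_dvd_coprimes hc h hqdiv)
  haveI : (Cfsg.pPrimeCore p G).Normal := Lib.Balance.core_normal p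
  haveI : (Cfsg.pCore p (G ⧸ Cfsg.pPrimeCore p G)).Normal := Lib.LocalChar.pCore_normal
  haveI : (Cfsg.pPrimePCore p G).Normal := Subgroup.Normal.comap inferInstance _
  have hy1 : y ∈ Cfsg.pPrimePCore p G := by
    rw [← QuotientGroup.eq_one_iff, ← orderOf_eq_one_iff]
    exact Nat.eq_one_of_dvd_coprimes (((hq.coprime_iff_not_dvd.mpr hqnd).pow_left e))
      ((orderOf_map_dvd (QuotientGroup.mk' _) y).trans hye) (orderOf_dvd_natCard _)
  have hy2 : y ∈ Cfsg.pPrimeCore p G := by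
    rw [← QuotientGroup.eq_one_iff]
    have hmem : (y : G ⧸ Cfsg.pPrimeCore p G) ∈ Cfsg.pCore p (G ⧸ Cfsg.pPrimeCore p G) := hy1
    obtain ⟨j, hj⟩ := (Lib.LocalChar.pCore_isPGroup (p := p) (G := G ⧸ Cfsg.pPrimeCore p G)) ⟨_, hmem⟩
    rw [← orderOf_eq_one_iff]
    refine Nat.eq_one_of_dvd_coprimes (hyp.pow_right j)
      (orderOf_map_dvd (QuotientGroup.mk' _) y) ?_
    rw [orderOf_dvd_iff_pow_eq_one]
    simpa using congrArg Subtype.val hj
  apply hyC
  rw [mem_centralizer_iff]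
  intro z hz
  have hcm : y * z * y⁻¹ * z⁻¹ ∈ Cfsg.pPrimeCore p G := by
    rw [show y * z * y⁻¹ * z⁻¹ = y * (z * y⁻¹ * z⁻¹) by group]
    exact mul_mem hy2 (Normal.conj_mem inferInstance _ (inv_mem hy2) z)
  have hcQ : y * z * y⁻¹ * z⁻¹ ∈ Q := mul_mem ((mem_normalizer_iff.mp hyN z).mp hz) (inv_mem hz)
  have h1 : y * z * y⁻¹ * z⁻¹ = 1 := by
    rw [← orderOf_eq_one_iff]
    obtain ⟨k, hk⟩ := hQ.exists_card_eq
    exact Nat.eq_one_of_dvd_coprimes ((Lib.Components.pPrimeCore_coprime p).pow_right k)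
      ((Subgroup.orderOf_dvd_natCard _ hcm)) (hk ▸ (Subgroup.orderOf_dvd_natCard _ hcQ))
  rw [mul_inv_eq_one, mul_inv_eq_iff_eq_mul] at h1
  exact h1.symm

theorem isMetacyclic_of_equiv {A : Type*} {B : Type*} [Group A] [Group B] (e : A ≃* B)
    (h : ∃ (N : Subgroup A) (_ : N.Normal), IsCyclic N ∧ IsCyclic (A ⧸ N)) : Cfsg.IsMetacyclic B := by
  obtain ⟨N, hN, hNc, hQc⟩ := h
  haveI : (N.map e.toMonoidHom).Normal := hN.map _ e.surjective
  exact ⟨N.map e.toMonoidHom, inferInstance, (e.subgroupMap N).isCyclic.mp hNc,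
    (QuotientGroup.congr N (N.map e.toMonoidHom) e rfl).isCyclic.mp hQc⟩


/-- Let p be a prime and G a finite group whose Sylow p-subgroups are metacyclic (a cyclic normal subgroup with cyclic quotient). Then G has a normal p-complement if and only if the order of G/O_{p′,p}(G) is coprime to p² − 1. -/
theorem result {G : Type*} [Group G] [Finite G] (p : ℕ) [Fact p.Prime] (S : Sylow p G) (hS : Cfsg.IsMetacyclic ↥(S : Subgroup G)) : Cfsg.HasNormalPComplement p G ↔ Nat.Coprime (Nat.card (G ⧸ Cfsg.pPrimePCore p G)) (p ^ 2 - 1) := by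
  constructor
  · rintro ⟨P, N, hN, hNc⟩
    have hNle : N ≤ Cfsg.pPrimeCore p G := by
      refine le_sSup ⟨hN, ?_⟩
      have hidx : N.index = Nat.card ↥(P : Subgroup G) := hNc.symm.index_eq_card
      have hPidx := P.not_dvd_index
      rw [hNc.index_eq_card] at hPidx
      exact ((Fact.out : p.Prime).coprime_iff_not_dvd.mpr hPidx).symm
    haveI : (Cfsg.pPrimeCore p G).Normal := Lib.Balance.core_normal p
    have hpg : IsPGroup p (G ⧸ Cfsg.pPrimeCore p G) := by
      obtain ⟨k, hk⟩ := P.2.exists_card_eq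
      have hd : Nat.card (G ⧸ Cfsg.pPrimeCore p G) ∣ p ^ k := by
        rw [← hk, ← hNc.symm.index_eq_card]
        exact Subgroup.index_dvd_of_le hNle
      obtain ⟨j, -, hj⟩ := (Nat.dvd_prime_pow Fact.out).mp hd
      exact IsPGroup.of_card hj
    have htop : Cfsg.pPrimePCore p G = ⊤ := by
      rw [Cfsg.pPrimePCore, eq_top_iff]
      intro x _
      exact Lib.LocalChar.le_pCore (N := ⊤) inferInstance (hpg.of_equiv Subgroup.topEquiv.symm) (Subgroup.mem_top _)
    rw [htop]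
    have hc1 : Nat.card (G ⧸ (⊤ : Subgroup G)) = 1 := by
      rw [← Subgroup.index_eq_card, Subgroup.index_top]
    rw [hc1]
    exact Nat.coprime_one_left _
  · intro hc
    apply Lib.Transfer.frobenius_criterion
    refine Lib.Transfer.autPGroup_of_sylow S fun Q hQ => ?_
    refine autPGroup Q (S.2.to_le hQ) ?_ hc
    obtain ⟨N, hN, hNc, hQc⟩ := Lib.Metacyclic.isMetacyclic_subgroup hS (Q.subgroupOf (S : Subgroup G))
    exact isMetacyclic_of_equiv (Subgroup.subgroupOfEquivOfLe hQ) ⟨N, hN, hNc, hQc⟩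

end Cfsg.Agent.S4419
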