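import Cfsg.Statements.S4811
import Cfsg.Agent.Lib.Char.RelGraph.Main
-- import your own Cfsg.Agent.* helpers here

set_option autoImplicit false
open Cfsg
open scoped commutatorElement

namespace Cfsg.Agent.S4811

/-- For every finite solvable group G the character degree graph of G (vertices: the primes dividing some irreducible complex character degree; edges: distinct primes whose product divides some degree) has at most two connected components. -/
theorem result {G : Type*} [Group G] [Finite G] [Group.IsSolvable G] : Nat.card ((Cfsg.degreeGraph G).induce (Cfsg.degreePrimes G)).ConnectedComponent ≤ 2 := by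
  classical
  haveI := Fintype.ofFinite G
  by_cases hG : commutator G = ⊥
  · -- abelian: there are no degree primes
    have hempty : IsEmpty ↥(Cfsg.degreePrimes G) := ⟨fun ⟨p, hp, d, ⟨χ, hd⟩, hpd⟩ => by
      have hcomm : ∀ a b : G, a * b = b * a := fun a b => by
        have h : ⁅a, b⁆ ∈ commutator G := by
          rw [commutator_def]
          exact Subgroup.commutator_mem_commutator (Subgroup.mem_top a) (Subgroup.mem_top b)
        rw [hG, Subgroup.mem_bot] at h
        exact commutatorElement_eq_one_iff_mul_comm.1 h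
      have h1 := (Cfsg.Agent.S0187.result (G := G)).1 hcomm χ
      rw [Cfsg.Agent.Lib.Char.apply_one_eq_charDegree
        (Cfsg.Agent.Lib.Char.isCharacter_of_isIrr χ.2), hd] at h1
      have h2 : d = 1 := by exact_mod_cast h1
      exact hp.not_dvd_one (h2 ▸ hpd)⟩
    haveI : IsEmpty ((Cfsg.degreeGraph G).induce (Cfsg.degreePrimes G)).ConnectedComponent :=
      ⟨fun C => hempty.false C.out⟩
    simp
  · have hlt : ⁅commutator G, commutator G⁆ < commutator G :=
      Group.IsSolvable.commutator_lt_of_ne_bot hG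
    have h2 := (Cfsg.Agent.Lib.Char.RelGraph.components (N := commutator G) hlt le_rfl).1
    have hmem : ∀ p : ↥(Cfsg.degreePrimes G), ∃ d ∈ Cfsg.relCharDegrees (commutator G), (p : ℕ) ∣ d := by
      rintro ⟨p, hp, d, ⟨χ, hd⟩, hpd⟩
      refine ⟨d, ⟨χ, ?_, hd⟩, hpd⟩
      by_contra h
      push Not at h
      haveI := Fintype.ofFinite (G ⧸ commutator G)
      obtain ⟨μ, hμ, he⟩ := Cfsg.Agent.Lib.Char.exists_irr_deflation χ.2 (commutator G) h
      have h1 : μ 1 = 1 := (Cfsg.Agent.S0187.result (G := G ⧸ commutator G)).1 (fun a b => by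
        obtain ⟨a, rfl⟩ := QuotientGroup.mk_surjective a
        obtain ⟨b, rfl⟩ := QuotientGroup.mk_surjective b
        rw [← QuotientGroup.mk_mul, ← QuotientGroup.mk_mul, QuotientGroup.eq,
          show (a * b)⁻¹ * (b * a) = ⁅b⁻¹, a⁻¹⁆ by rw [commutatorElement_def]; group, commutator_def]
        exact Subgroup.commutator_mem_commutator (Subgroup.mem_top _) (Subgroup.mem_top _)) ⟨μ, hμ⟩
      rw [← QuotientGroup.mk_one, he, Cfsg.Agent.Lib.Char.apply_one_eq_charDegree
        (Cfsg.Agent.Lib.Char.isCharacter_of_isIrr χ.2), hd] at h1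
      have h2 : d = 1 := by exact_mod_cast h1
      exact hp.not_dvd_one (h2 ▸ hpd)
    choose f hfR hfd using hmem
    let Γ := Cfsg.commonDivisorGraph.induce (Cfsg.relCharDegrees (commutator G))
    let Δ := (Cfsg.degreeGraph G).induce (Cfsg.degreePrimes G)
    have hprime : ∀ {p d : ℕ}, p.Prime → d ∈ Cfsg.relCharDegrees (commutator G) → p ∣ d →
        p ∈ Cfsg.degreePrimes G := fun hp ⟨χ, _, hd⟩ hpd => ⟨hp, _, ⟨χ, hd⟩, hpd⟩
    have hdeg : ∀ {d : ℕ}, d ∈ Cfsg.relCharDegrees (commutator G) → d ∈ Cfsg.charDegrees G :=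
      fun ⟨χ, _, hd⟩ => ⟨χ, hd⟩
    -- primes of one degree are adjacent
    have hsame : ∀ {d : ℕ}, d ∈ Cfsg.relCharDegrees (commutator G) →
        ∀ p q : ↥(Cfsg.degreePrimes G), (p : ℕ) ∣ d → (q : ℕ) ∣ d → Δ.Reachable p q := by
      intro d hd p q hp hq
      by_cases e : p = q
      · subst e; exact SimpleGraph.Reachable.refl _
      · exact SimpleGraph.Adj.reachable (G := Δ) (show (Cfsg.degreeGraph G).Adj p q from
          ⟨fun h => e (Subtype.ext h), p.2.1, q.2.1, d, hdeg hd,
            ((Nat.coprime_primes p.2.1 q.2.1).2 fun h => e (Subtype.ext h)).mul_dvd_of_dvd_of_dvd hp hq⟩)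
    have hwalk : ∀ x y : ↥(Cfsg.relCharDegrees (commutator G)), Γ.Reachable x y →
        ∀ p q : ↥(Cfsg.degreePrimes G), (p : ℕ) ∣ x → (q : ℕ) ∣ y → Δ.Reachable p q := by
      intro x y hxy
      obtain ⟨w⟩ := hxy
      induction w with
      | nil => exact fun p q hp hq => hsame (Subtype.prop _) p q hp hq
      | @cons a b c hadj w ih =>
        intro p q hp hq
        have hg : 1 < Nat.gcd (a : ℕ) b := hadj.2
        obtain ⟨t, ht, htd⟩ := Nat.exists_prime_and_dvd hg.ne'
        have hta := htd.trans (Nat.gcd_dvd_left _ _)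
        exact (hsame a.2 p ⟨t, hprime ht a.2 hta⟩ hp hta).trans
          (ih ⟨t, hprime ht a.2 hta⟩ q (htd.trans (Nat.gcd_dvd_right _ _)) hq)
    refine le_trans ?_ h2
    haveI : Finite ↥(Cfsg.relCharDegrees (commutator G)) := by
      refine ((Set.finite_range fun χ : Cfsg.IrrCharacter G =>
        Cfsg.charDegree (χ : G → ℂ)).subset ?_).to_subtype
      rintro d ⟨χ, -, rfl⟩
      exact ⟨χ, rfl⟩
    refine Nat.card_le_card_of_injective
      (fun C : Δ.ConnectedComponent => Γ.connectedComponentMk ⟨f C.out, hfR C.out⟩) fun C D hCD => ?_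
    rw [← C.out_eq, ← D.out_eq]
    exact SimpleGraph.ConnectedComponent.sound
      (hwalk _ _ (SimpleGraph.ConnectedComponent.exact hCD) _ _ (hfd _) (hfd _))

end Cfsg.Agent.S4811
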