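import Cfsg.Statements.S4888
import Cfsg.Agent.Lib.Block.Normal
import Cfsg.Agent.Lib.Transfer.Tate
import Cfsg.Agent.Lib.PGroupFrattini
import Cfsg.Agent.Lib.CharKernel
import Cfsg.Agent.Lib.Char.Linear
import Mathlib.GroupTheory.FiniteAbelian.Duality
-- import your own Cfsg.Agent.* helpers here

set_option autoImplicit false
open Cfsg

namespace Cfsg.Agent.S4888

open Cfsg.Agent.Lib Cfsg.Agent.Lib.Block
open scoped ComplexConjugate Pointwise

variable {G : Type*} [Group G] [Finite G] {p : ℕ} [Fact p.Prime] {M : Ideal AlgInt}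

/-- The principal block has a defect class meeting the centraliser of each Sylow subgroup. -/
theorem exists_central_defectClass [M.IsPrime] (hM : IsPModular p M) (P : Sylow p G) :
    ∃ g : G, g ∈ Subgroup.centralizer ((P : Subgroup G) : Set G) ∧
      ¬ p ∣ (Subgroup.centralizer ({g} : Set G)).index ∧
      ¬ MemLocalIdeal M (blockCoeff (principalBlock M G) g) ∧ ¬ p ∣ orderOf g := by
  have := Fintype.ofFinite G
  let one : IrrCharacter G := ⟨fun _ => 1, Char.isIrrCharacter_one⟩
  have hB : IsPBlock M (principalBlock M G) := ⟨one, rfl⟩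
  obtain ⟨g, hR, hnot, hω⟩ := exists_isDefectClass hB
  have hidx : ¬ p ∣ (Subgroup.centralizer ({g} : Set G)).index := by
    have h1 := hω one (mem_blockOf_self one)
    rw [← natCast_memLocalIdeal_iff hM]
    simpa [centralChar, one] using h1
  have hreg : ¬ p ∣ orderOf g := regular_of_blockCoeff_ne_zero hM hB fun h0 => hnot (by
    rw [h0, ← Nat.cast_zero, natCast_memLocalIdeal_iff hM]
    exact dvd_zero p)
  obtain ⟨Q⟩ := (inferInstance : Nonempty (Sylow p (Subgroup.centralizer ({g} : Set G))))
  obtain ⟨R, hR'⟩ := (Q.2.map (Subgroup.centralizer ({g} : Set G)).subtype).exists_le_sylow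
  have hRC : (R : Subgroup G) ≤ Subgroup.centralizer ({g} : Set G) := by
    have hcard : Nat.card ((Q : Subgroup _).map (Subgroup.centralizer ({g} : Set G)).subtype) =
        Nat.card (R : Subgroup G) := by
      rw [Subgroup.card_map_of_injective Subtype.val_injective, Q.card_eq_multiplicity,
        R.card_eq_multiplicity, ← (Subgroup.centralizer ({g} : Set G)).card_mul_index,
        Nat.factorization_mul Nat.card_pos.ne' Subgroup.index_ne_zero_of_finite, Finsupp.add_apply,
        Nat.factorization_eq_zero_of_not_dvd hidx, add_zero]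
    rw [← Subgroup.eq_of_le_of_card_ge hR' hcard.ge]
    exact Subgroup.map_subtype_le _
  obtain ⟨c, hc⟩ := MulAction.exists_smul_eq G P R
  refine ⟨c⁻¹ * g * c, ?_, ?_, ?_, ?_⟩
  · rw [Subgroup.mem_centralizer_iff]
    intro x hx
    have hx' : c * x * c⁻¹ ∈ (R : Subgroup G) := by
      rw [← hc, Sylow.coe_subgroup_smul]
      exact ⟨x, hx, rfl⟩
    have h2 := Subgroup.mem_centralizer_iff.1 (hRC hx') g rfl
    calc x * (c⁻¹ * g * c) = c⁻¹ * (c * x * c⁻¹ * g) * c := by group
      _ = c⁻¹ * (g * (c * x * c⁻¹)) * c := by rw [h2]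
      _ = c⁻¹ * g * c * x := by group
  · have e : Subgroup.centralizer ({c⁻¹ * g * c} : Set G) =
        (Subgroup.centralizer ({g} : Set G)).map (MulAut.conj c⁻¹).toMonoidHom := by
      ext y
      simp only [Subgroup.mem_centralizer_iff, Set.mem_singleton_iff, forall_eq, Subgroup.mem_map,
        MulEquiv.coe_toMonoidHom, MulAut.conj_apply, inv_inv]
      constructor
      · intro hy
        refine ⟨c * y * c⁻¹, ?_, by group⟩
        calc g * (c * y * c⁻¹) = c * (c⁻¹ * g * c * y) * c⁻¹ := by group
          _ = c * (y * (c⁻¹ * g * c)) * c⁻¹ := by rw [hy]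
          _ = c * y * c⁻¹ * g := by group
      · rintro ⟨z, hz, rfl⟩
        calc c⁻¹ * g * c * (c⁻¹ * z * c) = c⁻¹ * (g * z) * c := by group
          _ = c⁻¹ * (z * g) * c := by rw [hz]
          _ = _ := by group
    rw [e, Subgroup.index_map_of_bijective (MulAut.conj c⁻¹).bijective]
    exact hidx
  · have h2 := isClassFunction_blockCoeff (principalBlock M G) g c⁻¹
    rw [inv_inv] at h2
    rw [h2]
    exact hnot
  · have h2 := orderOf_conj_eq c⁻¹ g
    rw [inv_inv] at h2
    rw [h2]
    exact hreg

/-- If every character of degree prime to `p` in the principal block is linear, every linear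
character of a Sylow subgroup extends. -/
theorem extends_linear [M.IsPrime] (hM : IsPModular p M) (P : Sylow p G)
    (h : ∀ χ : IrrCharacter G, χ ∈ principalBlock M G → ¬ p ∣ charDegree (χ : G → ℂ) →
      (χ : G → ℂ) 1 = 1) (l : (P : Subgroup G) →* ℂˣ) :
    ∃ L : G →* ℂˣ, ∀ x : (P : Subgroup G), L x = l x := by
  classical
  have := Fintype.ofFinite G
  have := Fintype.ofFinite (P : Subgroup G)
  let one : IrrCharacter G := ⟨fun _ => 1, Char.isIrrCharacter_one⟩
  set B := principalBlock M G with hBdef
  have hB : IsPBlock M B := ⟨one, rfl⟩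
  obtain ⟨g, hgC, hidx, hnot, hreg⟩ := exists_central_defectClass hM P
  let lam : ↥(P : Subgroup G) → ℂ := fun x => (l x : ℂ)
  have hlam : IsIrrCharacter (P : Subgroup G) lam := Char.isIrrCharacter_linear l
  choose m hm using fun χ : IrrCharacter G => Char.classInner_natCast (isCharacter_of_hom' l)
    (Char.isCharacter_restrict (Char.isCharacter_of_isIrr χ.2) (P : Subgroup G))
  by_cases hex : ∃ χ : IrrCharacter G, χ ∈ B ∧ m χ ≠ 0 ∧ ¬ p ∣ charDegree (χ : G → ℂ)
  · obtain ⟨χ, hχB, hmχ, hd⟩ := hex
    have h1 := h χ hχB hd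
    obtain ⟨L, hL⟩ := Char.exists_hom_of_degree_one (Char.isCharacter_of_isIrr χ.2) h1
    refine ⟨L, fun x => Units.ext ?_⟩
    have hres : IsIrrCharacter (P : Subgroup G) (fun x : (P : Subgroup G) => (χ : G → ℂ) x) :=
      Char.isIrrCharacter_of_degree_one
        (Char.isCharacter_restrict (Char.isCharacter_of_isIrr χ.2) _) h1
    have he := Char.classInner_irr hlam hres
    rw [hm χ] at he
    split_ifs at he with heq
    · rw [← hL]
      exact (congrFun heq x).symm
    · exact absurd (by exact_mod_cast he) hmχ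
  exfalso
  push Not at hex
  set V := ∑ χ : IrrCharacter G, if χ ∈ B then (m χ : ℂ) * (χ : G → ℂ) g⁻¹ else 0 with hV
  have hVval : V = ((P : Subgroup G).index : ℂ) * blockCoeff B g := by
    have hexp : ∀ χ : IrrCharacter G, (m χ : ℂ) = (Nat.card (P : Subgroup G) : ℂ)⁻¹ *
        ∑ x : (P : Subgroup G), lam x * conj ((χ : G → ℂ) x) := fun χ => (hm χ).symm
    have hstep : V = (Nat.card (P : Subgroup G) : ℂ)⁻¹ * ∑ x : (P : Subgroup G), lam x *
        ∑ χ : IrrCharacter G, if χ ∈ B then (χ : G → ℂ) g⁻¹ * conj ((χ : G → ℂ) x) else 0 := by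
      simp only [hV, hexp, Finset.mul_sum]
      rw [Finset.sum_comm (f := fun (x : (P : Subgroup G)) (χ : IrrCharacter G) =>
        (Nat.card (P : Subgroup G) : ℂ)⁻¹ * (lam x *
          if χ ∈ B then (χ : G → ℂ) g⁻¹ * conj ((χ : G → ℂ) x) else 0))]
      refine Finset.sum_congr rfl fun χ _ => ?_
      split_ifs with hχ
      · rw [Finset.sum_mul]
        exact Finset.sum_congr rfl fun x _ => by ring
      · simp
    rw [hstep, Finset.sum_eq_single 1]
    · have hlam1 : lam 1 = 1 := by simp [lam]
      rw [hlam1, one_mul, blockCoeff_eq_sum]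
      have e : ∀ χ : IrrCharacter G,
          (if χ ∈ B then (χ : G → ℂ) g⁻¹ * conj ((χ : G → ℂ) ((1 : (P : Subgroup G)) : G)) else 0) =
          if χ ∈ B then (χ : G → ℂ) 1 * conj ((χ : G → ℂ) g) else 0 := fun χ => by
        rw [Char.char_inv (Char.isCharacter_of_isIrr χ.2), Subgroup.coe_one, irr_one_eq_natCast χ,
          Complex.conj_natCast, mul_comm]
      rw [Finset.sum_congr rfl fun χ _ => e χ, ← (P : Subgroup G).index_mul_card, Nat.cast_mul,
        mul_inv, ← mul_assoc, ← mul_assoc,
        mul_inv_cancel₀ (Nat.cast_ne_zero.2 Subgroup.index_ne_zero_of_finite : ((P : Subgroup G).index : ℂ) ≠ 0),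
        one_mul]
    · intro x _ hx1
      rw [weak_orthogonality hM hB (by rwa [orderOf_inv]) ?_, mul_zero]
      obtain ⟨k, hk⟩ := (IsPGroup.iff_orderOf (p := p)).1 P.isPGroup' x
      rw [Subgroup.orderOf_coe, hk]
      refine dvd_pow_self p fun hk0 => hx1 ?_
      rw [hk0, pow_zero] at hk
      exact orderOf_eq_one_iff.1 hk
    · simp
  have hloc : blockCoeff B g ∈ locRing M := intR_eIdem hB g
  have h0 : redC M V = 0 := by
    rw [hV, redC_sum _ fun χ _ => by
      split_ifs
      · exact mul_mem (natCast_mem _ _) (irr_mem_locRing χ _)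
      · exact zero_mem _]
    refine Finset.sum_eq_zero fun χ _ => ?_
    split_ifs with hχ
    · rw [redC_mul (natCast_mem _ _) (irr_mem_locRing χ _)]
      by_cases hmχ : m χ = 0
      · rw [hmχ, Nat.cast_zero, redC_zero, zero_mul]
      refine mul_eq_zero_of_right _ ?_
      have hd := hex χ hχ hmχ
      have hci : (Subgroup.centralizer ({g⁻¹} : Set G)).index =
          (Subgroup.centralizer ({g} : Set G)).index := by
        congr 1
        ext y
        simp only [Subgroup.mem_centralizer_iff, Set.mem_singleton_iff, forall_eq]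
        exact ⟨fun hy => by simpa using (Commute.inv_left (show Commute g⁻¹ y from hy)).eq,
          fun hy => (Commute.inv_left (show Commute g y from hy)).eq⟩
      have hkey : ((Subgroup.centralizer ({g} : Set G)).index : ℂ) * (χ : G → ℂ) g⁻¹ =
          centralChar (χ : G → ℂ) g⁻¹ * (charDegree (χ : G → ℂ) : ℂ) := by
        rw [centralChar, hci, ← irr_one_eq_natCast χ, div_mul_cancel₀ _ (deg_ne_zero χ)]
      have h2 := congrArg (redC M) hkey
      rw [redC_mul (natCast_mem _ _) (irr_mem_locRing χ _),
        redC_mul (centralChar_mem_locRing χ _) (natCast_mem _ _),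
        (redC_eq_zero_iff (natCast_mem (locRing M) _)).2 (natCast_mem_of_dvd hM hd), mul_zero,
        mul_eq_zero, redC_eq_zero_iff (natCast_mem (locRing M) _), natCast_memLocalIdeal_iff hM] at h2
      exact h2.resolve_left hidx
    · exact redC_zero
  rw [hVval, redC_mul (natCast_mem _ _) hloc, mul_eq_zero, redC_eq_zero_iff (natCast_mem (locRing M) _),
    natCast_memLocalIdeal_iff hM, redC_eq_zero_iff hloc] at h0
  exact h0.elim P.not_dvd_index hnot
where
  isCharacter_of_hom' (l : (P : Subgroup G) →* ℂˣ) :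
      IsCharacter (P : Subgroup G) (fun x => (l x : ℂ)) :=
    Char.isCharacter_of_isIrr (Char.isIrrCharacter_linear l)

/-- A group in which every linear character of a Sylow subgroup extends has a normal
`p`-complement. -/
theorem hasNormalPComplement_of_extends (P : Sylow p G)
    (h : ∀ l : (P : Subgroup G) →* ℂˣ, ∃ L : G →* ℂˣ, ∀ x : (P : Subgroup G), L x = l x) :
    HasNormalPComplement p G := by
  set N := pResidual p G
  have : N.Normal := by
    have := Transfer.pResidual_characteristic (p := p) (G := G)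
    infer_instance
  have hfoc : (P : Subgroup G).focalSubgroup ≤ commutator G := by
    refine (Subgroup.closure_le _).2 ?_
    rintro y ⟨-, x, hx, u, rfl⟩
    exact Subgroup.commutator_mem_commutator (Subgroup.mem_top x) (Subgroup.mem_top u)
  have htate : N ⊓ (P : Subgroup G) ≤
      (frattini (P : Subgroup G)).map (P : Subgroup G).subtype := by
    intro x hx
    have hxG : x ∈ commutator G := hfoc (Transfer.pResidual_inf_le_focal P hx)
    refine ⟨⟨x, hx.2⟩, PGroupFrattini.commutator_le_frattini P.2 ?_, rfl⟩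
    by_contra hne
    have hne' : Abelianization.of (⟨x, hx.2⟩ : (P : Subgroup G)) ≠ 1 := fun he =>
      hne ((QuotientGroup.eq_one_iff _).1 he)
    have : Finite (Abelianization (P : Subgroup G)) :=
      inferInstanceAs (Finite ((P : Subgroup G) ⧸ commutator (P : Subgroup G)))
    have : NeZero (Monoid.exponent (Abelianization (P : Subgroup G))) :=
      ⟨Monoid.exponent_ne_zero_of_finite⟩
    have : NeZero (Monoid.exponent (Abelianization (P : Subgroup G)) : ℂ) := NeZero.charZero
    obtain ⟨φ, hφ⟩ := CommGroup.exists_apply_ne_one_of_hasEnoughRootsOfUnity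
      (Abelianization (P : Subgroup G)) ℂ hne'
    obtain ⟨L, hL⟩ := h (φ.comp Abelianization.of)
    exact hφ ((hL ⟨x, hx.2⟩).symm.trans (Abelianization.commutator_subset_ker L hxG))
  have hcomp := Transfer.tate P N htate
  rw [Transfer.hasNormalPComplement_iff, Transfer.pResidual_pResidual, Subgroup.card_top] at hcomp
  exact Transfer.hasNormalPComplement_iff.2 hcomp

/-- Let G be a finite group, p a prime and M a maximal ideal of the algebraic integers containing p. Then all height-zero irreducible characters of the principal p-block of G (equivalently, all its characters of degree prime to p) have the same degree if and only if G has a normal p-complement. -/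
theorem result {G : Type*} [Group G] [Finite G] (p : ℕ) [Fact p.Prime] (M : Ideal Cfsg.AlgInt) (hM : Cfsg.IsPModular p M) : (∃ d : ℕ, ∀ χ : Cfsg.IrrCharacter G, χ ∈ (Cfsg.principalBlock M G) → Cfsg.blockHeight p (Cfsg.principalBlock M G) (χ : G → ℂ) = 0 → Cfsg.charDegree (χ : G → ℂ) = d) ↔ Cfsg.HasNormalPComplement p G := by
  have := hM.2.1.isPrime
  have := Fintype.ofFinite G
  have hp : p.Prime := Fact.out
  let one : IrrCharacter G := ⟨fun _ => 1, Char.isIrrCharacter_one⟩
  have hone : one ∈ principalBlock M G := mem_blockOf_self one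
  have hh : ∀ χ : IrrCharacter G,
      blockHeight p (principalBlock M G) (χ : G → ℂ) = 0 ↔ ¬ p ∣ charDegree (χ : G → ℂ) := by
    intro χ
    have h0 : sInf ((fun ψ : IrrCharacter G => (charDegree (ψ : G → ℂ)).factorization p) ''
        principalBlock M G) = 0 :=
      Nat.sInf_eq_zero.2 (Or.inl ⟨one, hone, by simp [one, charDegree]⟩)
    rw [blockHeight, h0, Nat.sub_zero, Nat.factorization_eq_zero_iff]
    exact ⟨fun h => h.elim (absurd hp) (fun h' => h'.elim id (absurd · (charDegree_pos χ).ne')),
      fun h => Or.inr (Or.inl h)⟩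
  have hdone : charDegree (one : G → ℂ) = 1 := by simp [one, charDegree]
  constructor
  · rintro ⟨d, hd⟩
    have hd1 : d = 1 := by
      rw [← hd one hone ((hh one).2 (by rw [hdone]; exact hp.not_dvd_one)), hdone]
    obtain ⟨P⟩ := (inferInstance : Nonempty (Sylow p G))
    refine hasNormalPComplement_of_extends P (extends_linear hM P fun χ hχ hd' => ?_)
    rw [irr_one_eq_natCast χ, hd χ hχ ((hh χ).2 hd'), hd1, Nat.cast_one]
  · rintro ⟨P, N, hN, hc⟩
    refine ⟨1, fun χ hχ hht => ?_⟩
    have := hN
    have hd := (hh χ).1 hht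
    have hNp : ¬ p ∣ Nat.card N := by
      rw [← hc.index_eq_card]
      exact P.not_dvd_index
    have htriv : ∀ n ∈ N, (χ : G → ℂ) n = (χ : G → ℂ) 1 := fun n hn =>
      trivial_on_of_sameBlock N hM hNp (χ := one) hχ (fun _ _ => rfl) hn
    have := Fintype.ofFinite (G ⧸ N)
    obtain ⟨η, hη, he⟩ := CharKernel.exists_irr_quotient N χ.2 htriv
    have hdvd : charDegree (χ : G → ℂ) ∣ Nat.card (G ⧸ N) :=
      Char.irr_degree_dvd_card hη (by rw [← irr_one_eq_natCast χ, ← he, QuotientGroup.mk_one])
    rw [← Subgroup.index_eq_card, hc.symm.index_eq_card, P.card_eq_multiplicity,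
      Nat.dvd_prime_pow hp] at hdvd
    obtain ⟨i, -, hi⟩ := hdvd
    rcases i with _ | i
    · exact hi
    · exact absurd (hi ▸ dvd_pow_self p (Nat.succ_ne_zero i)) hd

end Cfsg.Agent.S4888
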