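import Cfsg.Statements.S4885
import Cfsg.Agent.S4888
import Cfsg.Agent.Lib.Block.PrincipalSolvable
import Cfsg.Agent.Lib.Transfer.Tate
import Cfsg.Agent.Lib.PGroupFrattini
import Cfsg.Agent.Lib.CharKernel
import Mathlib.GroupTheory.FiniteAbelian.Duality
-- import your own Cfsg.Agent.* helpers here

set_option autoImplicit false
open Cfsg

namespace Cfsg.Agent.S4885

open Cfsg.Agent.Lib Cfsg.Agent.Lib.Block Cfsg.Agent.S4888
open scoped ComplexConjugate Pointwise

variable {G : Type*} [Group G] [Finite G] {p : ℕ} [Fact p.Prime] {M : Ideal AlgInt}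

/-- Every linear character of a Sylow subgroup is trivial on the common kernel of the characters of
degree prime to `p` in the principal block (after S4888's `extends_linear`). -/
theorem linear_trivial_on_kernel [M.IsPrime] (hM : IsPModular p M) (P : Sylow p G)
    (n : ↥(P : Subgroup G)) (hn : ∀ χ : IrrCharacter G, χ ∈ principalBlock M G →
      ¬ p ∣ charDegree (χ : G → ℂ) → (χ : G → ℂ) n = (χ : G → ℂ) 1) (l : (P : Subgroup G) →* ℂˣ) :
    l n = 1 := by
  classical
  have := Fintype.ofFinite G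
  have := Fintype.ofFinite (P : Subgroup G)
  let one : IrrCharacter G := ⟨fun _ => 1, Char.isIrrCharacter_one⟩
  set B := principalBlock M G with hBdef
  have hB : IsPBlock M B := ⟨one, rfl⟩
  obtain ⟨g, hgC, hidx, hnot, hreg⟩ := exists_central_defectClass hM P
  let lam : ↥(P : Subgroup G) → ℂ := fun x => (l x : ℂ)
  have hlam : IsIrrCharacter (P : Subgroup G) lam := Char.isIrrCharacter_linear l
  choose m hm using fun χ : IrrCharacter G => Char.classInner_natCast (isCharacter_of_hom' l)
    (Char.isCharacter_restrict (Char.isCharacter_of_isIrr χ.2) (P : Subgroup G))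
  by_cases hex : ∃ χ : IrrCharacter G, χ ∈ B ∧ m χ ≠ 0 ∧ ¬ p ∣ charDegree (χ : G → ℂ)
  · obtain ⟨χ, hχB, hmχ, hd⟩ := hex
    have hχn := CharKernel.apply_mul_of_mem' (Char.isCharacter_of_isIrr χ.2) (hn χ hχB hd)
    have h1 : ((l n : ℂˣ) : ℂ) * (m χ : ℂ) = (m χ : ℂ) := by
      rw [← hm χ]
      simp only [classInner]
      rw [mul_left_comm, Finset.mul_sum]
      congr 1
      refine Fintype.sum_equiv (Equiv.mulRight n) _ _ fun x => ?_
      rw [Equiv.coe_mulRight, Subgroup.coe_mul, hχn, map_mul, Units.val_mul]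
      ring
    refine Units.ext (mul_right_cancel₀ (Nat.cast_ne_zero.2 hmχ) ?_)
    rw [h1, Units.val_one, one_mul]
  exfalso
  push Not at hex
  set V := ∑ χ : IrrCharacter G, if χ ∈ B then (m χ : ℂ) * (χ : G → ℂ) g⁻¹ else 0 with hV
  have hVval : V = ((P : Subgroup G).index : ℂ) * blockCoeff B g := by
    have hexp : ∀ χ : IrrCharacter G, (m χ : ℂ) = (Nat.card (P : Subgroup G) : ℂ)⁻¹ *
        ∑ x : (P : Subgroup G), lam x * conj ((χ : G → ℂ) x) := fun χ => (hm χ).symm
    have hstep : V = (Nat.card (P : Subgroup G) : ℂ)⁻¹ * ∑ x : (P : Subgroup G), lam x *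
        ∑ χ : IrrCharacter G, if χ ∈ B then (χ : G → ℂ) g⁻¹ * conj ((χ : G → ℂ) x) else 0 := by
      simp only [hV, hexp, Finset.mul_sum]
      rw [Finset.sum_comm (f := fun (x : (P : Subgroup G)) (χ : IrrCharacter G) =>
        (Nat.card (P : Subgroup G) : ℂ)⁻¹ * (lam x *
          if χ ∈ B then (χ : G → ℂ) g⁻¹ * conj ((χ : G → ℂ) x) else 0))]
      refine Finset.sum_congr rfl fun χ _ => ?_
      split_ifs with hχ
      · rw [Finset.sum_mul]
        exact Finset.sum_congr rfl fun x _ => by ring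
      · simp
    rw [hstep, Finset.sum_eq_single 1]
    · have hlam1 : lam 1 = 1 := by simp [lam]
      rw [hlam1, one_mul, blockCoeff_eq_sum]
      have e : ∀ χ : IrrCharacter G,
          (if χ ∈ B then (χ : G → ℂ) g⁻¹ * conj ((χ : G → ℂ) ((1 : (P : Subgroup G)) : G)) else 0) =
          if χ ∈ B then (χ : G → ℂ) 1 * conj ((χ : G → ℂ) g) else 0 := fun χ => by
        rw [Char.char_inv (Char.isCharacter_of_isIrr χ.2), Subgroup.coe_one, irr_one_eq_natCast χ,
          Complex.conj_natCast, mul_comm]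
      rw [Finset.sum_congr rfl fun χ _ => e χ, ← (P : Subgroup G).index_mul_card, Nat.cast_mul,
        mul_inv, ← mul_assoc, ← mul_assoc,
        mul_inv_cancel₀ (Nat.cast_ne_zero.2 Subgroup.index_ne_zero_of_finite : ((P : Subgroup G).index : ℂ) ≠ 0),
        one_mul]
    · intro x _ hx1
      rw [weak_orthogonality hM hB (by rwa [orderOf_inv]) ?_, mul_zero]
      obtain ⟨k, hk⟩ := (IsPGroup.iff_orderOf (p := p)).1 P.isPGroup' x
      rw [Subgroup.orderOf_coe, hk]
      refine dvd_pow_self p fun hk0 => hx1 ?_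
      rw [hk0, pow_zero] at hk
      exact orderOf_eq_one_iff.1 hk
    · simp
  have hloc : blockCoeff B g ∈ locRing M := intR_eIdem hB g
  have h0 : redC M V = 0 := by
    rw [hV, redC_sum _ fun χ _ => by
      split_ifs
      · exact mul_mem (natCast_mem _ _) (irr_mem_locRing χ _)
      · exact zero_mem _]
    refine Finset.sum_eq_zero fun χ _ => ?_
    split_ifs with hχ
    · rw [redC_mul (natCast_mem _ _) (irr_mem_locRing χ _)]
      by_cases hmχ : m χ = 0
      · rw [hmχ, Nat.cast_zero, redC_zero, zero_mul]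
      refine mul_eq_zero_of_right _ ?_
      have hd := hex χ hχ hmχ
      have hci : (Subgroup.centralizer ({g⁻¹} : Set G)).index =
          (Subgroup.centralizer ({g} : Set G)).index := by
        congr 1
        ext y
        simp only [Subgroup.mem_centralizer_iff, Set.mem_singleton_iff, forall_eq]
        exact ⟨fun hy => by simpa using (Commute.inv_left (show Commute g⁻¹ y from hy)).eq,
          fun hy => (Commute.inv_left (show Commute g y from hy)).eq⟩
      have hkey : ((Subgroup.centralizer ({g} : Set G)).index : ℂ) * (χ : G → ℂ) g⁻¹ =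
          centralChar (χ : G → ℂ) g⁻¹ * (charDegree (χ : G → ℂ) : ℂ) := by
        rw [centralChar, hci, ← irr_one_eq_natCast χ, div_mul_cancel₀ _ (deg_ne_zero χ)]
      have h2 := congrArg (redC M) hkey
      rw [redC_mul (natCast_mem _ _) (irr_mem_locRing χ _),
        redC_mul (centralChar_mem_locRing χ _) (natCast_mem _ _),
        (redC_eq_zero_iff (natCast_mem (locRing M) _)).2 (natCast_mem_of_dvd hM hd), mul_zero,
        mul_eq_zero, redC_eq_zero_iff (natCast_mem (locRing M) _), natCast_memLocalIdeal_iff hM] at h2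
      exact h2.resolve_left hidx
    · exact redC_zero
  rw [hVval, redC_mul (natCast_mem _ _) hloc, mul_eq_zero, redC_eq_zero_iff (natCast_mem (locRing M) _),
    natCast_memLocalIdeal_iff hM, redC_eq_zero_iff hloc] at h0
  exact h0.elim P.not_dvd_index hnot
where
  isCharacter_of_hom' (l : (P : Subgroup G) →* ℂˣ) :
      IsCharacter (P : Subgroup G) (fun x => (l x : ℂ)) :=
    Char.isCharacter_of_isIrr (Char.isIrrCharacter_linear l)

/-- The common kernel of the characters of degree prime to `p` in the principal block. -/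
def ker (p : ℕ) (M : Ideal AlgInt) (G : Type*) [Group G] [Finite G] : Subgroup G :=
  ⨅ χ : {χ : IrrCharacter G // χ ∈ principalBlock M G ∧ ¬ p ∣ charDegree (χ : G → ℂ)},
    CharKernel.kerChar (Char.isCharacter_of_isIrr χ.1.2)

instance ker_normal : (ker p M G).Normal :=
  Subgroup.normal_iInf_normal fun χ => CharKernel.kerChar_normal (Char.isCharacter_of_isIrr χ.1.2)

theorem mem_ker {g : G} : g ∈ ker p M G ↔ ∀ χ : IrrCharacter G, χ ∈ principalBlock M G →
    ¬ p ∣ charDegree (χ : G → ℂ) → (χ : G → ℂ) g = (χ : G → ℂ) 1 :=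
  ⟨fun h χ h1 h2 => Subgroup.mem_iInf.1 h ⟨χ, h1, h2⟩,
    fun h => Subgroup.mem_iInf.2 fun χ => h χ.1 χ.2.1 χ.2.2⟩

theorem pPrimeCore_le_ker [M.IsPrime] (hM : IsPModular p M) : pPrimeCore p G ≤ ker p M G := by
  have := Fintype.ofFinite (pPrimeCore p G)
  exact fun g hg => mem_ker.2 fun χ hχ _ => trivial_on_of_sameBlock _ hM (Hall.not_dvd_card_pPrimeCore Fact.out)
    (χ := ⟨fun _ => 1, Char.isIrrCharacter_one⟩) hχ (fun _ _ => rfl) hg

theorem ker_inf_le [M.IsPrime] (hM : IsPModular p M) (P : Sylow p G) :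
    ker p M G ⊓ (P : Subgroup G) ≤ (frattini (P : Subgroup G)).map (P : Subgroup G).subtype := by
  intro x hx
  refine ⟨⟨x, hx.2⟩, PGroupFrattini.commutator_le_frattini P.2 ?_, rfl⟩
  by_contra hne
  have hne' : Abelianization.of (⟨x, hx.2⟩ : (P : Subgroup G)) ≠ 1 := fun he =>
    hne ((QuotientGroup.eq_one_iff _).1 he)
  have : Finite (Abelianization (P : Subgroup G)) :=
    inferInstanceAs (Finite ((P : Subgroup G) ⧸ commutator (P : Subgroup G)))
  have : NeZero (Monoid.exponent (Abelianization (P : Subgroup G))) :=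
    ⟨Monoid.exponent_ne_zero_of_finite⟩
  have : NeZero (Monoid.exponent (Abelianization (P : Subgroup G)) : ℂ) := NeZero.charZero
  obtain ⟨φ, hφ⟩ := CommGroup.exists_apply_ne_one_of_hasEnoughRootsOfUnity
    (Abelianization (P : Subgroup G)) ℂ hne'
  exact hφ (linear_trivial_on_kernel hM P ⟨x, hx.2⟩ (mem_ker.1 hx.1) (φ.comp Abelianization.of))

theorem ker_ne_top [M.IsPrime] (hM : IsPModular p M) (hp : p ∣ Nat.card G) : ker p M G ≠ ⊤ := by
  intro h
  obtain ⟨P⟩ := (inferInstance : Nonempty (Sylow p G))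
  have h1 := ker_inf_le hM P
  rw [h, top_inf_eq] at h1
  have h2 : frattini (P : Subgroup G) = ⊤ := top_unique fun x _ => by
    obtain ⟨y, hy, hxy⟩ := h1 x.2
    exact Subtype.ext hxy ▸ hy
  have : Nontrivial (P : Subgroup G) := by
    rw [← Finite.one_lt_card_iff_nontrivial, P.card_eq_multiplicity]
    exact Nat.one_lt_pow ((Fact.out : p.Prime).factorization_pos_of_dvd Nat.card_pos.ne' hp).ne'
      (Fact.out : p.Prime).one_lt
  obtain ⟨K, hK, -⟩ := (eq_top_or_exists_le_coatom (⊥ : Subgroup (P : Subgroup G))).resolve_left bot_ne_top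
  exact hK.1 (top_unique (h2.ge.trans (by simp only [frattini, Order.radical]; exact iInf₂_le K hK)))

theorem pPrimeCore_quotient_ker [M.IsPrime] (hM : IsPModular p M) : pPrimeCore p (G ⧸ ker p M G) = ⊥ := by
  have hp : p.Prime := Fact.out
  set π := QuotientGroup.mk' (ker p M G)
  set X := (pPrimeCore p (G ⧸ ker p M G)).comap π
  have hXn : X.Normal := inferInstance
  obtain ⟨P⟩ := (inferInstance : Nonempty (Sylow p G))
  have hkey : ∀ x ∈ X, ∀ k, x ^ (p ^ k) ∈ ker p M G → x ∈ ker p M G := by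
    intro x hx k hk
    refine (QuotientGroup.eq_one_iff x).1 ?_
    have h1 : orderOf (π x) ∣ p ^ k := orderOf_dvd_of_pow_eq_one (by
      rw [← map_pow]; exact (QuotientGroup.eq_one_iff _).2 hk)
    have h2 : orderOf (π x) ∣ Nat.card (pPrimeCore p (G ⧸ ker p M G)) := by
      rw [← Subgroup.orderOf_mk (π x) (Subgroup.mem_comap.1 hx)]; exact orderOf_dvd_natCard _
    exact orderOf_eq_one_iff.1 (Nat.eq_one_of_dvd_coprimes
      ((Hall.coprime_card_pPrimeCore p).symm.pow_left k) h1 h2)
  have hXP : X ⊓ (P : Subgroup G) ≤ (frattini (P : Subgroup G)).map (P : Subgroup G).subtype := fun x hx => by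
    obtain ⟨k, hk⟩ := P.2 ⟨x, hx.2⟩
    exact ker_inf_le hM P ⟨hkey x hx.1 k (by
      rw [show x ^ (p ^ k) = 1 from congrArg Subtype.val hk]; exact one_mem _), hx.2⟩
  obtain ⟨S, N, hN, hc⟩ := Transfer.tate P X hXP
  have hNcop : (Nat.card N).Coprime p := by
    rw [← hc.index_eq_card]
    exact (hp.coprime_iff_not_dvd.2 S.not_dvd_index).symm
  have hNle : N.map X.subtype ≤ pPrimeCore p G := by
    refine (Subgroup.map_mono (Hall.le_pPrimeCore hNcop)).trans ?_
    have : ((pPrimeCore p X).map X.subtype).Normal := ConjAct.normal_of_characteristic_of_normal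
    refine Hall.le_pPrimeCore ?_
    rw [Subgroup.card_map_of_injective X.subtype_injective]
    exact Hall.coprime_card_pPrimeCore p
  obtain ⟨j, hj⟩ := IsPGroup.iff_card.1 S.2
  have hidx : N.index = p ^ j := by rw [hc.symm.index_eq_card]; exact hj
  refine eq_bot_iff.2 fun y hy => ?_
  obtain ⟨x, rfl⟩ := QuotientGroup.mk'_surjective _ y
  refine Subgroup.mem_bot.2 ((QuotientGroup.eq_one_iff x).2 (hkey x hy j (pPrimeCore_le_ker hM (hNle ?_))))
  exact ⟨(⟨x, hy⟩ : X) ^ (p ^ j), hidx ▸ N.pow_index_mem _, rfl⟩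

/-- Let p and q be primes dividing the order of the finite group G, and suppose G is p-solvable and q-solvable. Fix maximal ideals of the algebraic integers containing p and q, defining the principal p-block and the principal q-block. If the irreducible characters of degree prime to p in the principal p-block are exactly the irreducible characters of degree prime to q in the principal q-block, then p = q. -/
theorem result {G : Type*} [Group G] [Finite G] (p q : ℕ) [Fact p.Prime] [Fact q.Prime] (hp : p ∣ Nat.card G) (hq : q ∣ Nat.card G) (hps : Cfsg.IsPSolvable p G) (hqs : Cfsg.IsPSolvable q G) (Mp Mq : Ideal Cfsg.AlgInt) (hMp : Cfsg.IsPModular p Mp) (hMq : Cfsg.IsPModular q Mq) (h : ∀ χ : Cfsg.IrrCharacter G, (χ ∈ Cfsg.principalBlock Mp G ∧ ¬ p ∣ Cfsg.charDegree (χ : G → ℂ)) ↔ (χ ∈ Cfsg.principalBlock Mq G ∧ ¬ q ∣ Cfsg.charDegree (χ : G → ℂ))) : p = q := by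
  have := hMp.2.1.isPrime
  have := hMq.2.1.isPrime
  by_contra hpq
  have hK : ker p Mp G = ker q Mq G := by
    ext g
    simp only [mem_ker]
    exact ⟨fun H χ h1 h2 => H χ ((h χ).2 ⟨h1, h2⟩).1 ((h χ).2 ⟨h1, h2⟩).2,
      fun H χ h1 h2 => H χ ((h χ).1 ⟨h1, h2⟩).1 ((h χ).1 ⟨h1, h2⟩).2⟩
  set K := ker p Mp G with hKdef
  have h1 : pPrimeCore p (G ⧸ K) = ⊥ := pPrimeCore_quotient_ker hMp
  have h2 : ∀ (L : Subgroup G) [L.Normal], L = ker q Mq G → pPrimeCore q (G ⧸ L) = ⊥ := by
    rintro L _ rfl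
    exact pPrimeCore_quotient_ker hMq
  have hc := LocalFusion.centralizer_pCore_le_of_isPSolvable
    (PLength.isPSolvable_map (QuotientGroup.mk'_surjective K) hps) h1
  have hbot : pCore p (G ⧸ K) = ⊥ := by
    rw [eq_bot_iff, ← h2 K hK]
    obtain ⟨k, hk⟩ := IsPGroup.iff_card.1 (Hall.isPGroup_pCore (G := G ⧸ K) p)
    refine Hall.le_pPrimeCore ?_
    rw [hk]
    exact ((Nat.coprime_primes Fact.out Fact.out).2 hpq).pow_left k
  refine ker_ne_top hMp hp (top_unique fun g _ => ?_)
  rw [← QuotientGroup.eq_one_iff]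
  have : (g : G ⧸ K) ∈ pCore p (G ⧸ K) := hc (by
    rw [hbot, Subgroup.mem_centralizer_iff]
    intro y hy
    rw [Subgroup.mem_bot.1 hy, one_mul, mul_one])
  rwa [hbot, Subgroup.mem_bot] at this

end Cfsg.Agent.S4885
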