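import Cfsg.Statements.S4886
import Cfsg.Agent.Lib.PQDegree.Induct
import Cfsg.Agent.Lib.Block.PrincipalSolvable
-- import your own Cfsg.Agent.* helpers here

set_option autoImplicit false
open Cfsg

namespace Cfsg.Agent.S4886

open Cfsg.Agent.Lib in
theorem not_dvd_index {G : Type*} [Group G] [Finite G] {p q : ℕ} [Fact p.Prime] [Fact q.Prime] (hpq : p ≠ q)
    {M : Ideal AlgInt} (hM : IsPModular p M) (hps : IsPSolvable p G) (hqs : IsPSolvable q G)
    (h : ∀ χ : IrrCharacter G, χ ∈ principalBlock M G → ¬ p ∣ charDegree (χ : G → ℂ) → ¬ q ∣ charDegree (χ : G → ℂ)) :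
    ¬ q ∣ (pPrimeCore p G).index := by
  haveI := hM.2.1.isPrime
  set K := pPrimeCore p G with hK
  have hH : PQDegree.Hyp p q (G ⧸ K) := fun η hη => by
    have hmem := (Block.mem_principalBlock_iff_trivial hM hps (CharKernel.inflateEquiv K η).1).2
      (CharKernel.inflateEquiv K η).2
    have h1 := h _ hmem
    simp only [charDegree, CharKernel.inflateEquiv_apply, QuotientGroup.mk_one] at h1 hη ⊢
    exact h1 hη
  obtain ⟨P⟩ := (inferInstance : Nonempty (Sylow p (G ⧸ K)))
  have hs := PLength.isPSolvable_map (QuotientGroup.mk'_surjective K) hps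
  obtain ⟨Q, hQ⟩ := PQDegree.normalizer_le _ le_rfl hs
    (PLength.isPSolvable_map (QuotientGroup.mk'_surjective K) hqs) hpq hH P
  have h2 := (S4602.result p q hpq hs).1 ⟨P, Q, Subgroup.le_normalizer.trans hQ⟩
  rwa [show pPrimeCore p (G ⧸ K) = ⊥ from Char2.pPrimeCore_quotient_eq_bot p, Subgroup.index_bot,
    ← Subgroup.index_eq_card] at h2

open Cfsg.Agent.Lib in
theorem degree_not_dvd {G : Type*} [Group G] [Finite G] {p q : ℕ} [Fact p.Prime] [Fact q.Prime]
    {M : Ideal AlgInt} (hM : IsPModular p M) (hps : IsPSolvable p G)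
    (h : ¬ q ∣ (pPrimeCore p G).index) (χ : IrrCharacter G) (hχ : χ ∈ principalBlock M G) :
    ¬ q ∣ charDegree (χ : G → ℂ) := by
  haveI := hM.2.1.isPrime
  obtain ⟨η, hη, he⟩ := CharKernel.exists_irr_quotient (pPrimeCore p G) χ.2
    ((Block.mem_principalBlock_iff_trivial hM hps χ).1 hχ)
  intro hq
  refine h (hq.trans ?_)
  rw [Subgroup.index_eq_card, show charDegree (χ : G → ℂ) = charDegree η by
    simp only [charDegree, ← he, QuotientGroup.mk_one]]
  exact Char.charDegree_dvd_card hη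

/-- Let p ≠ q be primes and G a finite group that is p-solvable and q-solvable. Fix maximal ideals of the algebraic integers containing p and q, defining the principal p-block and the principal q-block. Then every irreducible character of degree prime to p in the principal p-block has degree prime to q and every irreducible character of degree prime to q in the principal q-block has degree prime to p, if and only if some Sylow p-subgroup of G commutes elementwise with some Sylow q-subgroup. -/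
theorem result {G : Type*} [Group G] [Finite G] (p q : ℕ) [Fact p.Prime] [Fact q.Prime] (hpq : p ≠ q) (Mp Mq : Ideal Cfsg.AlgInt) (hMp : Cfsg.IsPModular p Mp) (hMq : Cfsg.IsPModular q Mq) (hps : Cfsg.IsPSolvable p G) (hqs : Cfsg.IsPSolvable q G) : ((∀ χ : Cfsg.IrrCharacter G, χ ∈ Cfsg.principalBlock Mp G → ¬ p ∣ Cfsg.charDegree (χ : G → ℂ) → ¬ q ∣ Cfsg.charDegree (χ : G → ℂ)) ∧ (∀ χ : Cfsg.IrrCharacter G, χ ∈ Cfsg.principalBlock Mq G → ¬ q ∣ Cfsg.charDegree (χ : G → ℂ) → ¬ p ∣ Cfsg.charDegree (χ : G → ℂ))) ↔ ∃ (P : Sylow p G) (Q : Sylow q G), ∀ x ∈ (P : Subgroup G), ∀ y ∈ (Q : Subgroup G), x * y = y * x := by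
  constructor
  · rintro ⟨h1, h2⟩
    obtain ⟨P, Q, hPQ⟩ := (S4602.result p q hpq hps).2 (not_dvd_index hpq hMp hps hqs h1)
    refine ⟨P, Q, fun x hx y hy => ?_⟩
    have hp := not_dvd_index (Ne.symm hpq) hMq hqs hps h2
    have hxK : x ∈ Cfsg.pPrimeCore q G := by
      rw [← QuotientGroup.eq_one_iff]
      obtain ⟨j, hj⟩ := IsPGroup.iff_card.1 P.2
      refine orderOf_eq_one_iff.1 (Nat.eq_one_of_dvd_coprimes
        (((Fact.out : p.Prime).coprime_iff_not_dvd.2 hp).pow_left j) ?_
        (Subgroup.index_eq_card (Cfsg.pPrimeCore q G) ▸ orderOf_dvd_natCard _))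
      refine (orderOf_map_dvd (QuotientGroup.mk' (Cfsg.pPrimeCore q G)) x).trans ?_
      rw [← hj, ← Subgroup.orderOf_mk x hx]
      exact orderOf_dvd_natCard _
    have hd : Disjoint (Cfsg.pPrimeCore q G) (Q : Subgroup G) := by
      obtain ⟨i, hi⟩ := IsPGroup.iff_card.1 Q.2
      refine Subgroup.disjoint_of_coprime_natCard ?_
      rw [hi]
      exact (Lib.Hall.coprime_card_pPrimeCore q).pow_right i
    refine mul_inv_eq_iff_eq_mul.1 (mul_inv_eq_one.1 (Subgroup.disjoint_def.1 hd ?_ ?_))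
    · rw [show x * y * x⁻¹ * y⁻¹ = x * (y * x⁻¹ * y⁻¹) by group]
      exact mul_mem hxK ((Lib.Hall.pPrimeCore_normal q).conj_mem _ (inv_mem hxK) y)
    · exact mul_mem ((Subgroup.mem_normalizer_iff.1 (hPQ hx) y).1 hy) (inv_mem hy)
  · rintro ⟨P, Q, hPQ⟩
    have hn : ∀ {r s : ℕ} {R : Sylow r G} {S : Sylow s G},
        (∀ a ∈ (R : Subgroup G), ∀ b ∈ (S : Subgroup G), a * b = b * a) →
        (R : Subgroup G) ≤ Subgroup.normalizer ((S : Subgroup G) : Set G) := fun h a ha =>
      Subgroup.centralizer_le_normalizer _ (Subgroup.mem_centralizer_iff.2 fun b hb => (h a ha b hb).symm)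
    exact ⟨fun χ hχ _ => degree_not_dvd hMp hps ((S4602.result p q hpq hps).1 ⟨P, Q, hn hPQ⟩) χ hχ,
      fun χ hχ _ => degree_not_dvd hMq hqs ((S4602.result q p (Ne.symm hpq) hqs).1
        ⟨Q, P, hn fun a ha b hb => (hPQ b hb a ha).symm⟩) χ hχ⟩

end Cfsg.Agent.S4886
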