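import Cfsg.Statements.S4997
import Cfsg.Agent.Lib.Vanishing.SylowBound

set_option autoImplicit false
open Cfsg

namespace Cfsg.Agent.S4997

/-- Let p be an odd prime and G a finite solvable group with exactly one conjugacy class consisting of vanishing elements (elements at which some irreducible complex character is zero) of order divisible by p. Let P be a Sylow p-subgroup of G. Then the order of P is at most p times the order of the largest normal p-subgroup of G. -/
theorem result {G : Type*} [Group G] [Finite G] (hsolv : Group.IsSolvable G) (p : ℕ) [Fact p.Prime] (hp : p ≠ 2) (h1 : Set.ncard {C : ConjClasses G | (∀ g ∈ C.carrier, ∃ χ : Cfsg.IrrCharacter G, (χ : G → ℂ) g = 0) ∧ ∃ g ∈ C.carrier, p ∣ orderOf g} = 1) (P : Sylow p G) : Nat.card ↥(P : Subgroup G) ≤ p * Nat.card ↥(Cfsg.pCore p G) := by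
  have H : ∀ a b : G, Lib.Vanishing.Van a → Lib.Vanishing.Van b → p ∣ orderOf a → p ∣ orderOf b →
      orderOf a = orderOf b := by
    intro a b ha hb hda hdb
    obtain ⟨C, hC⟩ := Set.ncard_eq_one.mp h1
    have mem : ∀ x : G, Lib.Vanishing.Van x → p ∣ orderOf x → ConjClasses.mk x = C := by
      intro x hx hd
      refine Set.mem_singleton_iff.mp (hC.subset ⟨fun g hg => ?_, x, ConjClasses.mem_carrier_mk, hd⟩)
      obtain ⟨χ, hχ⟩ := hx
      obtain ⟨c, hc⟩ := isConj_iff.mp
        (ConjClasses.mk_eq_mk_iff_isConj.mp (ConjClasses.mem_carrier_iff_mk_eq.mp hg)).symm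
      exact ⟨χ, by rw [← hc, Lib.Char.isClassFunction_of_isIrr χ.2 x c, hχ]⟩
    obtain ⟨c, hc⟩ := isConj_iff.mp
      (ConjClasses.mk_eq_mk_iff_isConj.mp ((mem a ha hda).trans (mem b hb hdb).symm))
    rw [← hc]
    exact ((MulAut.conj c).orderOf_eq a).symm
  exact Lib.Vanishing.card_sylow_le H P

end Cfsg.Agent.S4997
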