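import Cfsg.Statements.S5125
import Cfsg.Agent.Lib.Fusion.Lcs

set_option autoImplicit false
open Cfsg Cfsg.FusionSystem Cfsg.Agent.Lib.Fusion
open scoped commutatorElement

namespace Cfsg.Agent.S5125

/-- Let F be a saturated fusion system over a finite p-group S and Q a subgroup strongly closed in F. If Q has a subgroup Q₁ that is normal in F, with Q/Q₁ abelian and Aut_F(Q₁) a p-group, then Q is normal in F. -/
theorem result {Ω : Type*} [Group Ω] {S : Subgroup Ω} [Finite S] (p : ℕ) [Fact p.Prime] (hS : IsPGroup p S) (F : Cfsg.FusionSystem S) (hF : F.IsSaturated p) (Q Q₁ : Subgroup Ω) (hQ : F.StronglyClosed Q) (hQ₁Q : Q₁ ≤ Q) (hQ₁ : F.IsNormal Q₁) (hab : ⁅Q, Q⁆ ≤ Q₁) (hAut : IsPGroup p ↥(F.autGroup Q₁)) : F.IsNormal Q := by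
  refine isNormal_of_le_radical hS hF hQ fun P hc hr _ => ?_
  have hQ₁P := le_of_isNormal hS hQ₁ hc hr
  have hPS := hc.1
  have := finite_of_le hPS
  have := finite_of_le hQ₁.1
  have := finite_mulAut hQ₁.1
  have hnQ := le_normalizer_of_stronglyClosed hQ
  refine le_of_centric_radical_aux hS hPS hQ.1 (hPS.trans hnQ) fun g hg hgN => ?_
  obtain ⟨K₀, hK₀, hK₀p, hK₀mem⟩ := chainStabilizer (p := p) (F.autGroup P) 3
    (fun i => if i = 0 then ⊥ else if i = 1 then Q₁.subgroupOf P else if i = 2 then Q.subgroupOf P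
      else ⊤) rfl rfl
    (fun α hα i x hx => by
      rcases i with _ | _ | _ | i
      · simp only [↓reduceIte, Subgroup.mem_bot] at hx ⊢
        rw [hx, map_one]
      · exact map_mem_of_normal hQ₁ ((mem_autGroup hPS).1 hα) x hx
      · exact map_mem_of_stronglyClosed hQ ((mem_autGroup hPS).1 hα) x hx
      · simp)
    (hS.to_le hPS)
  have hres : ∀ α : F.autGroup P, ∃ β : MulAut Q₁, ∀ x : Q₁,
      ((β x : Q₁) : Ω) = ((α : MulAut P) ⟨x, hQ₁P x.2⟩ : P) := fun α =>
    exists_restrict_aut hQ₁P (β := (α : MulAut P))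
      fun x => map_mem_of_normal hQ₁ ((mem_autGroup hPS).1 α.2) _ x.2
  choose r hr' using hres
  let ρ : F.autGroup P →* F.autGroup Q₁ :=
    { toFun := fun α => ⟨r α, (mem_autGroup hQ₁.1).2
        (mem_of_agree hQ₁P ((mem_autGroup hPS).1 α.2) fun x => hr' α x)⟩
      map_one' := by
        ext x
        exact hr' 1 x
      map_mul' := fun α β => by
        ext x
        have h1 : (⟨((r β x : Q₁) : Ω), hQ₁P (r β x).2⟩ : P) =
            (β : MulAut P) ⟨x, hQ₁P x.2⟩ := Subtype.ext (hr' β x)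
        simp only [Subgroup.coe_mul, MulAut.mul_apply]
        rw [hr' (α * β) x, hr' α (r β x), h1]
        rfl }
  -- the automorphisms trivial on `P / (P ∩ Q)` and `(P ∩ Q) / Q₁` form a normal `p`-group
  let M : Subgroup (F.autGroup P) :=
    { carrier := {α | ∀ i ∈ [2, 3], ∀ x : P, (x : Ω) ∈ (if i = 3 then P else Q) →
        (((α : MulAut P) x * x⁻¹ : P) : Ω) ∈ (if i = 3 then Q else Q₁)}
      one_mem' := fun i hi x hx => by simp
      mul_mem' := by
        intro α β hα hβ i hi x hx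
        have h1 := hβ i hi x hx
        have h2 := hα i hi x hx
        have h3 : (((α : MulAut P) ((β : MulAut P) x * x⁻¹) : P) : Ω) ∈
            (if i = 3 then Q else Q₁) := by
          split_ifs at h1 ⊢
          · exact map_mem_of_stronglyClosed hQ ((mem_autGroup hPS).1 α.2) _ h1
          · exact map_mem_of_normal hQ₁ ((mem_autGroup hPS).1 α.2) _ h1
        have h4 := Subgroup.mul_mem _ h3 h2
        simpa [mul_assoc] using h4
      inv_mem' := by
        intro α hα i hi x hx
        have hy : ((((α : MulAut P))⁻¹ x : P) : Ω) ∈ (if i = 3 then P else Q) := by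
          split_ifs at hx ⊢
          · exact ((((α : MulAut P))⁻¹ x) : P).2
          · exact map_mem_of_stronglyClosed hQ ((mem_autGroup hPS).1 (α⁻¹).2) _ hx
        have h1 := Subgroup.inv_mem _ (hα i hi _ hy)
        simpa using h1 }
  have hM : M.Normal := by
    constructor
    intro α hα γ i hi x hx
    have hy : ((((γ : MulAut P))⁻¹ x : P) : Ω) ∈ (if i = 3 then P else Q) := by
      split_ifs at hx ⊢
      · exact ((((γ : MulAut P))⁻¹ x) : P).2
      · exact map_mem_of_stronglyClosed hQ ((mem_autGroup hPS).1 (γ⁻¹).2) _ hx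
    have h1 := hα i hi _ hy
    have h2 : (((γ : MulAut P) ((α : MulAut P) (((γ : MulAut P))⁻¹ x) * (((γ : MulAut P))⁻¹ x)⁻¹)
        : P) : Ω) ∈ (if i = 3 then Q else Q₁) := by
      split_ifs at h1 ⊢
      · exact map_mem_of_stronglyClosed hQ ((mem_autGroup hPS).1 γ.2) _ h1
      · exact map_mem_of_normal hQ₁ ((mem_autGroup hPS).1 γ.2) _ h1
    simpa using h2
  have hker : ρ.ker ⊓ M ≤ K₀ := by
    rintro α ⟨hα1, hα2⟩
    refine (hK₀mem α).2 fun i hi x hx => ?_
    rcases i with _ | _ | _ | i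
    · simp only [zero_add, one_ne_zero, ↓reduceIte, Subgroup.mem_subgroupOf] at hx
      simp only [↓reduceIte, Subgroup.mem_bot, mul_inv_eq_one]
      have h1 := hr' α ⟨x, hx⟩
      have h2 : r α = 1 := congrArg Subtype.val (MonoidHom.mem_ker.1 hα1)
      rw [h2, MulAut.one_apply] at h1
      exact Subtype.ext h1.symm
    · have h1 : (x : Ω) ∈ Q := hx
      simpa [Subgroup.mem_subgroupOf] using hα2 2 (by simp) x (by simpa using h1)
    · simpa [Subgroup.mem_subgroupOf] using hα2 3 (by simp) x (by simp)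
    · omega
  have hMp : IsPGroup p M := by
    rintro ⟨α, hα⟩
    obtain ⟨k, hk⟩ := hAut (ρ α)
    obtain ⟨j, hj⟩ := hK₀p ⟨α ^ p ^ k,
      hker ⟨MonoidHom.mem_ker.2 (by rw [map_pow, hk]), pow_mem hα _⟩⟩
    refine ⟨k + j, Subtype.ext ?_⟩
    have := congrArg Subtype.val hj
    simp only [SubmonoidClass.coe_pow, OneMemClass.coe_one] at this ⊢
    rw [pow_add, pow_mul]
    exact this
  refine mem_of_induced_inn (hc.2 P (isConj_refl hPS)) hPS ⟨hQ.1 hg, hgN⟩
    (mem_inn_of_radical hr hM hMp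
      (α := ⟨conjAut P hgN, autInducedBy_le_autGroup hPS (conjAut_mem_autInducedBy (hQ.1 hg) hgN)⟩)
      fun i hi x hx => ?_)
  have hval : ((conjAut P hgN x * x⁻¹ : P) : Ω) = ⁅g, (x : Ω)⁆ := by
    simp [commutatorElement_def]
  rw [hval]
  split_ifs at hx ⊢
  · exact commutator_mem_of_normalizes hg (hnQ (hPS x.2))
  · exact hab (Subgroup.commutator_mem_commutator hg hx)

end Cfsg.Agent.S5125
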