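import Cfsg.Statements.S5178
import Cfsg.Agent.Lib.LocalP2.ExtraIndexPMain
-- import your own Cfsg.Agent.* helpers here

set_option autoImplicit false
universe u
open Cfsg
open scoped commutatorElement
set_option linter.style.haveILetI false

namespace Cfsg.Agent.S5178

/-- Let p be an odd prime, S a finite p-group containing an extraspecial subgroup Q of index p, and F a saturated fusion system over S whose largest subgroup normal in F is trivial. Then the centre of S equals the centre of Q. -/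
theorem result {Ω : Type u} [Group Ω] {S : Subgroup Ω} [Finite S] (p : ℕ) [Fact p.Prime] (hp : Odd p) (hS : IsPGroup p S)
    (Q : Subgroup Ω) (hQS : Q ≤ S) (hQ : Cfsg.IsExtraspecial p ↥Q) (hQi : (Q.subgroupOf S).index = p)
    (F : Cfsg.FusionSystem S) (hF : F.IsSaturated p) (hO : F.core = ⊥) :
    S ⊓ Subgroup.centralizer (S : Set Ω) = Q ⊓ Subgroup.centralizer (Q : Set Ω) := by
  haveI : Finite Q := Nat.finite_of_card_ne_zero fun h0 => by
    have := Nat.card_congr (Subgroup.subgroupOfEquivOfLe hQS).toEquiv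
    rw [h0] at this
    exact Nat.card_pos.ne' this
  have hodd : p ≠ 2 := fun e => by rw [e] at hp; exact absurd hp (by decide)
  obtain ⟨⟨-, -, hQcomm⟩, hQc⟩ := hQ
  set zQ : Subgroup Ω := Q ⊓ Subgroup.centralizer (Q : Set Ω) with hzQdef
  set Z : Subgroup Ω := S ⊓ Subgroup.centralizer (S : Set Ω) with hZdef
  have hzQ : zQ = (Subgroup.center Q).map Q.subtype := by
    ext w
    simp only [hzQdef, Subgroup.mem_inf, Subgroup.mem_map, Subgroup.mem_center_iff,
      Subgroup.mem_centralizer_iff, Subgroup.coe_subtype, SetLike.mem_coe]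
    constructor
    · rintro ⟨hw, hc⟩
      exact ⟨⟨w, hw⟩, fun g => Subtype.ext (hc g g.2), rfl⟩
    · rintro ⟨v, hv, rfl⟩
      exact ⟨v.2, fun g hg => congrArg Subtype.val (hv ⟨g, hg⟩)⟩
  have hcardQ : Nat.card zQ = p := by
    rw [hzQ, Subgroup.card_map_of_injective Q.subtype_injective, hQc]
  have hQcomm' : ∀ a ∈ Q, ∀ b ∈ Q, a * b * a⁻¹ * b⁻¹ ∈ zQ := fun a ha b hb => by
    rw [hzQ]
    refine ⟨⁅(⟨a, ha⟩ : Q), ⟨b, hb⟩⁆, hQcomm ▸ ?_, rfl⟩
    rw [_root_.commutator_def]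
    exact Subgroup.commutator_mem_commutator (Subgroup.mem_top _) (Subgroup.mem_top _)
  by_cases hZQ : Z ≤ Q
  · have hle : Z ≤ zQ := fun w hw => ⟨hZQ hw, fun q hq => hw.2 q (hQS hq)⟩
    haveI : Finite zQ := Nat.finite_of_card_ne_zero (by rw [hcardQ]; exact (Fact.out : p.Prime).ne_zero)
    refine Subgroup.eq_of_le_of_card_ge hle ?_
    rw [hcardQ]
    haveI : Finite Z := Lib.Fusion.finite_of_le (inf_le_left : Z ≤ S)
    obtain ⟨k, hk⟩ := IsPGroup.iff_card.1 (hS.to_le (inf_le_left : Z ≤ S))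
    have hQ1 : Nontrivial S := by
      haveI : Nontrivial zQ := Finite.one_lt_card_iff_nontrivial.1
        (hcardQ.symm ▸ (Fact.out : p.Prime).one_lt)
      obtain ⟨w, hw⟩ := exists_ne (1 : zQ)
      exact ⟨⟨⟨w, hQS w.2.1⟩, 1, fun e => hw (Subtype.ext (congrArg Subtype.val e :))⟩⟩
    haveI := hS.center_nontrivial
    rw [hk]
    refine Nat.le_self_pow (fun e => ?_) p
    rw [e, pow_zero] at hk
    obtain ⟨w, hw⟩ := exists_ne (1 : Subgroup.center S)
    have hwZ : ((w : S) : Ω) ∈ Z := ⟨(w : S).2, fun g hg =>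
      congrArg Subtype.val (Subgroup.mem_center_iff.1 w.2 ⟨g, hg⟩)⟩
    rw [(Subgroup.card_eq_one.1 hk : Z = ⊥), Subgroup.mem_bot] at hwZ
    exact hw (Subtype.ext (Subtype.ext hwZ))
  exfalso
  obtain ⟨c, hcZ, hcQ⟩ := SetLike.not_le_iff_exists.1 hZQ
  set cS : ↥S := ⟨c, hcZ.1⟩ with hcS
  haveI hcn : (Subgroup.zpowers cS).Normal := ⟨fun x hx g => by
    obtain ⟨i, rfl⟩ := Subgroup.mem_zpowers_iff.1 hx
    have : g * cS = cS * g := Subtype.ext (hcZ.2 g g.2)
    rw [(Commute.zpow_right this i).eq, mul_inv_cancel_right]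
    exact hx⟩
  have hgen : ∀ g : ↥S, ∃ q ∈ Q, ∃ i : ℤ, (g : Ω) = q * c ^ i := by
    intro g
    have htop : Q.subgroupOf S ⊔ Subgroup.zpowers cS = ⊤ := by
      have hlt : Q.subgroupOf S < Q.subgroupOf S ⊔ Subgroup.zpowers cS :=
        lt_of_le_of_ne le_sup_left fun e => hcQ (by
          have : cS ∈ Q.subgroupOf S := e.symm ▸ Subgroup.mem_sup_right (Subgroup.mem_zpowers cS)
          exact this)
      rw [← Subgroup.index_eq_one]
      refine ((Nat.dvd_prime (Fact.out : p.Prime)).1 (hQi ▸ Subgroup.index_dvd_of_le hlt.le)).resolve_right ?_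
      intro e
      refine hlt.ne (Subgroup.eq_of_le_of_card_ge hlt.le (le_of_eq ?_))
      have h1 := (Q.subgroupOf S).card_mul_index
      have h2 := (Q.subgroupOf S ⊔ Subgroup.zpowers cS).card_mul_index
      rw [e, ← h1, hQi] at h2
      exact Nat.eq_of_mul_eq_mul_right (Fact.out : p.Prime).pos h2
    obtain ⟨q, hq, y, hy, hqy⟩ :=
      Subgroup.mem_sup_of_normal_right.1 (htop ▸ Subgroup.mem_top g : g ∈ Q.subgroupOf S ⊔ _)
    obtain ⟨i, rfl⟩ := Subgroup.mem_zpowers_iff.1 hy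
    exact ⟨q, hq, i, by rw [← hqy]; simp [hcS]⟩
  have hcc : ∀ (i : ℤ), ∀ g ∈ S, g * c ^ i = c ^ i * g := fun i g hg =>
    (Commute.zpow_right (hcZ.2 g hg) i).eq
  have hcomm : ∀ g ∈ S, ∀ h ∈ S, g * h * g⁻¹ * h⁻¹ ∈ zQ := fun g hg h hh => by
    obtain ⟨q, hq, i, hgq⟩ := hgen ⟨g, hg⟩
    obtain ⟨r, hr, j, hhr⟩ := hgen ⟨h, hh⟩
    simp only at hgq hhr
    subst hgq hhr
    have e1 := hcc i r (hQS hr)
    have e2 := hcc j q (hQS hq)
    have e : q * c ^ i * (r * c ^ j) * (q * c ^ i)⁻¹ * (r * c ^ j)⁻¹ = q * r * q⁻¹ * r⁻¹ := by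
      calc q * c ^ i * (r * c ^ j) * (q * c ^ i)⁻¹ * (r * c ^ j)⁻¹
          = q * (c ^ i * r) * c ^ j * (c ^ i)⁻¹ * q⁻¹ * (c ^ j)⁻¹ * r⁻¹ := by group
        _ = q * r * (c ^ j * q⁻¹) * (c ^ j)⁻¹ * r⁻¹ := by rw [← e1]; group
        _ = q * r * q⁻¹ * r⁻¹ := by rw [← hcc j q⁻¹ (S.inv_mem (hQS hq))]; group
    rw [e]
    exact hQcomm' q hq r hr
  have hzle : zQ ≤ Z := fun w hw => by
    refine ⟨hQS hw.1, fun g hg => ?_⟩
    obtain ⟨q, hq, i, hgq⟩ := hgen ⟨g, hg⟩
    simp only at hgq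
    subst hgq
    rw [mul_assoc, ← hcc i w (hQS hw.1), ← mul_assoc, hw.2 q hq, mul_assoc]
  haveI hQn : (Q.subgroupOf S).Normal := ⟨fun x hx g => by
    rw [Subgroup.mem_subgroupOf] at hx ⊢
    have h1 := Q.mul_mem (hcomm g g.2 x x.2).1 hx
    rw [inv_mul_cancel_right] at h1
    simpa using h1⟩
  have hcardZ : Nat.card Z = p ^ 2 := by
    let χ : ↥Z →* ↥S ⧸ Q.subgroupOf S :=
      (QuotientGroup.mk' (Q.subgroupOf S)).comp (Subgroup.inclusion (inf_le_left : Z ≤ S))
    have hk : χ.ker = zQ.subgroupOf Z := by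
      ext w
      rw [MonoidHom.mem_ker, MonoidHom.comp_apply, QuotientGroup.mk'_apply,
        QuotientGroup.eq_one_iff, Subgroup.mem_subgroupOf, Subgroup.mem_subgroupOf]
      exact ⟨fun h => ⟨h, fun q hq => w.2.2 q (hQS hq)⟩, fun h => h.1⟩
    have hi : χ.ker.index = p := by
      have hd : χ.ker.index ∣ p := by
        rw [Subgroup.index_ker]
        refine (Subgroup.card_subgroup_dvd_card _).trans ?_
        rw [← Subgroup.index_eq_card, hQi]
      refine ((Nat.dvd_prime (Fact.out : p.Prime)).1 hd).resolve_left fun e => hcQ ?_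
      rw [Subgroup.index_eq_one, hk, Subgroup.subgroupOf_eq_top] at e
      exact (e hcZ).1
    rw [← χ.ker.card_mul_index, hi, hk, Nat.card_congr (Subgroup.subgroupOfEquivOfLe hzle).toEquiv,
      hcardQ, sq]
  have hnonab : ∃ g ∈ S, ∃ h ∈ S, g * h ≠ h * g := by
    by_contra hno
    simp only [not_exists, not_and, not_not] at hno
    have hb : commutator Q = ⊥ := by
      rw [_root_.commutator_def, eq_bot_iff, Subgroup.commutator_le]
      intro a _ b _
      rw [Subgroup.mem_bot, commutatorElement_eq_one_iff_mul_comm]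
      exact Subtype.ext (hno a (hQS a.2) b (hQS b.2))
    rw [hb] at hQcomm
    rw [← hQcomm, Subgroup.card_bot] at hQc
    exact (Fact.out : p.Prime).ne_one hQc.symm
  obtain ⟨W, hW1, hW⟩ := Lib.LocalP2.ExtraIndexP.Data.exists_normal
    (⟨hS, rfl, hzle, hcardQ, hcardZ, hcomm, hnonab⟩ : Lib.LocalP2.ExtraIndexP.Data p S Z zQ) hodd hF
  exact hW1 (le_bot_iff.1 (hO ▸ le_sSup hW : W ≤ (⊥ : Subgroup Ω)))

end Cfsg.Agent.S5178
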