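import Cfsg.Statements.S5179
import Cfsg.Agent.Lib.LocalP2.ExtraInside
-- import your own Cfsg.Agent.* helpers here

set_option autoImplicit false
universe u
open Cfsg Cfsg.FusionSystem Cfsg.Agent.Lib.Fusion
open scoped commutatorElement

namespace Cfsg.Agent.S5179

/-- Let p be an odd prime, S a finite p-group of order at least p⁶ containing an extraspecial subgroup Q of index p, and F a saturated fusion system over S whose largest subgroup normal in F is trivial. Then no proper subgroup of Q is essential in F: an essential subgroup of F contained in Q equals Q. -/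
theorem result {Ω : Type u} [Group Ω] {S : Subgroup Ω} [Finite S] (p : ℕ) [Fact p.Prime] (hp : Odd p) (hS : IsPGroup p S)
    (Q : Subgroup Ω) (hQS : Q ≤ S) (hQ : Cfsg.IsExtraspecial p ↥Q) (hQi : (Q.subgroupOf S).index = p)
    (h6 : p ^ 6 ≤ Nat.card S)
    (F : Cfsg.FusionSystem S) (hF : F.IsSaturated p) (hO : F.core = ⊥)
    (E : Subgroup Ω) (hEQ : E ≤ Q) (hE : F.IsEssential p E) : E = Q := by
  haveI : Finite Q := Nat.finite_of_card_ne_zero fun h0 => by
    have := Nat.card_congr (Subgroup.subgroupOfEquivOfLe hQS).toEquiv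
    rw [h0] at this
    exact Nat.card_pos.ne' this
  have hodd : p ≠ 2 := fun e => by rw [e] at hp; exact absurd hp (by decide)
  obtain ⟨⟨-, -, hQcomm⟩, hQc⟩ := hQ
  set zQ : Subgroup Ω := Q ⊓ Subgroup.centralizer (Q : Set Ω) with hzQdef
  have hzQ : zQ = (Subgroup.center Q).map Q.subtype := by
    ext w
    simp only [hzQdef, Subgroup.mem_inf, Subgroup.mem_map, Subgroup.mem_center_iff,
      Subgroup.mem_centralizer_iff, Subgroup.coe_subtype, SetLike.mem_coe]
    constructor
    · rintro ⟨hw, hc⟩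
      exact ⟨⟨w, hw⟩, fun g => Subtype.ext (hc g g.2), rfl⟩
    · rintro ⟨v, hv, rfl⟩
      exact ⟨v.2, fun g hg => congrArg Subtype.val (hv ⟨g, hg⟩)⟩
  have hcardQ : Nat.card zQ = p := by
    rw [hzQ, Subgroup.card_map_of_injective Q.subtype_injective, hQc]
  have hQcomm' : ∀ a ∈ Q, ∀ b ∈ Q, a * b * a⁻¹ * b⁻¹ ∈ zQ := fun a ha b hb => by
    rw [hzQ]
    refine ⟨⁅(⟨a, ha⟩ : Q), ⟨b, hb⟩⁆, hQcomm ▸ ?_, rfl⟩
    rw [_root_.commutator_def]
    exact Subgroup.commutator_mem_commutator (Subgroup.mem_top _) (Subgroup.mem_top _)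
  haveI : Finite zQ := Nat.finite_of_card_ne_zero (by rw [hcardQ]; exact (Fact.out : p.Prime).ne_zero)
  have hzc : ∀ w ∈ zQ, ∀ g ∈ Q, g * w = w * g := fun w hw g hg => hw.2 g hg
  have hzQQ : zQ ≤ Q := fun w hw => hw.1
  have hzE : zQ ≤ E := fun w hw =>
    hE.1.2 E (isConj_refl hE.1.1) ⟨hQS hw.1, fun a ha => hw.2 a (hEQ ha)⟩
  haveI := finite_of_le hE.1.1
  have hprime := (Fact.out : p.Prime)
  by_cases hab : ∀ a ∈ E, ∀ b ∈ E, a * b = b * a
  · have hrel := Lib.LocalP2.ExtraIndexP.relIndex_le_of_abelian hS hF hE hab hQS hEQ hcardQ hzQQ hzc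
      hQcomm'
    rcases (Nat.dvd_prime hprime).1 hrel with h1 | hp'
    · exact le_antisymm hEQ (Subgroup.relIndex_eq_one.1 h1)
    exfalso
    obtain ⟨g0, hg0, hg0E⟩ : ∃ g ∈ Q, g ∉ E := by
      by_contra hno
      simp only [not_exists, not_and, not_not] at hno
      rw [Subgroup.relIndex_eq_one.2 hno] at hp'
      exact hprime.ne_one hp'.symm
    let χ : E →* zQ := MonoidHom.mk'
      (fun a => ⟨g0 * (a : Ω) * g0⁻¹ * (a : Ω)⁻¹, hQcomm' g0 hg0 a (hEQ a.2)⟩) fun a b => by
      refine Subtype.ext ?_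
      simp only [Subgroup.coe_mul]
      have h1 := hzc _ (hQcomm' g0 hg0 b (hEQ b.2)) a (hEQ a.2)
      calc g0 * ((a : Ω) * b) * g0⁻¹ * ((a : Ω) * b)⁻¹
          = g0 * a * g0⁻¹ * ((g0 * b * g0⁻¹ * (b : Ω)⁻¹)) * (a : Ω)⁻¹ := by group
        _ = g0 * a * g0⁻¹ * ((a : Ω)⁻¹ * (g0 * b * g0⁻¹ * (b : Ω)⁻¹)) := by
            rw [mul_assoc, show (g0 * b * g0⁻¹ * (b : Ω)⁻¹) * (a : Ω)⁻¹ =
              (a : Ω)⁻¹ * (g0 * b * g0⁻¹ * (b : Ω)⁻¹) by
                rw [eq_inv_mul_iff_mul_eq, ← mul_assoc, h1, mul_inv_cancel_right]]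
        _ = (g0 * a * g0⁻¹ * (a : Ω)⁻¹) * (g0 * b * g0⁻¹ * (b : Ω)⁻¹) := by group
    have hk : χ.ker ≤ zQ.subgroupOf E := by
      intro a ha
      rw [MonoidHom.mem_ker, ← Subtype.coe_inj] at ha
      change g0 * (a : Ω) * g0⁻¹ * (a : Ω)⁻¹ = 1 at ha
      rw [mul_inv_eq_one, mul_inv_eq_iff_eq_mul] at ha
      refine ⟨hEQ a.2, fun q hq => ?_⟩
      have hle : E.subgroupOf Q < (Subgroup.centralizer ({(a : Ω)} : Set Ω)).subgroupOf Q := by
        refine lt_of_le_of_ne (fun x hx => ?_) fun e => hg0E ?_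
        · exact Subgroup.mem_centralizer_singleton_iff.2 (hab _ hx _ a.2)
        · have : (⟨g0, hg0⟩ : Q) ∈ E.subgroupOf Q :=
            e.symm ▸ Subgroup.mem_centralizer_singleton_iff.2 ha
          exact this
      have htop : (Subgroup.centralizer ({(a : Ω)} : Set Ω)).subgroupOf Q = ⊤ := by
        rw [← Subgroup.index_eq_one]
        refine ((Nat.dvd_prime hprime).1 (hp' ▸ Subgroup.index_dvd_of_le hle.le)).resolve_right ?_
        intro e
        refine hle.ne (Subgroup.eq_of_le_of_card_ge hle.le (le_of_eq ?_))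
        have h1 := (E.subgroupOf Q).card_mul_index
        have h2 := ((Subgroup.centralizer ({(a : Ω)} : Set Ω)).subgroupOf Q).card_mul_index
        rw [e, ← h1, show (E.subgroupOf Q).index = p from hp'] at h2
        exact Nat.eq_of_mul_eq_mul_right hprime.pos h2
      exact Subgroup.mem_centralizer_singleton_iff.1
        ((Subgroup.subgroupOf_eq_top.1 htop) hq : q ∈ Subgroup.centralizer ({(a : Ω)} : Set Ω))
    have hcE : Nat.card E ∣ p * p := by
      rw [← χ.ker.card_mul_index, Subgroup.index_ker]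
      refine mul_dvd_mul ((Subgroup.card_dvd_of_le hk).trans ?_) ?_
      · rw [Nat.card_congr (Subgroup.subgroupOfEquivOfLe hzE).toEquiv, hcardQ]
      · exact hcardQ ▸ Subgroup.card_subgroup_dvd_card _
    have hcQ : Nat.card Q = Nat.card E * p := by
      rw [← (E.subgroupOf Q).card_mul_index, show (E.subgroupOf Q).index = p from hp',
        Nat.card_congr (Subgroup.subgroupOfEquivOfLe hEQ).toEquiv]
    have hcS : Nat.card S = Nat.card Q * p := by
      rw [← (Q.subgroupOf S).card_mul_index, hQi,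
        Nat.card_congr (Subgroup.subgroupOfEquivOfLe hQS).toEquiv]
    rw [hcS, hcQ] at h6
    have hle := Nat.le_of_dvd (Nat.mul_pos hprime.pos hprime.pos) hcE
    have h7 : p ^ 6 ≤ p * p * p * p := h6.trans
      (Nat.mul_le_mul_right p (Nat.mul_le_mul_right p hle))
    have h8 : p * p * p * p < p ^ 6 := by
      rw [show p * p * p * p = p ^ 4 by ring]
      exact Nat.pow_lt_pow_right hprime.one_lt (by norm_num)
    omega
  simp only [not_forall] at hab
  obtain ⟨a, ha, b, hb, hne⟩ := hab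
  refine le_antisymm hEQ ?_
  let D : ℕ → Subgroup E := fun i => if i = 0 then ⊥ else if i = 1 then zQ.subgroupOf E else ⊤
  refine le_of_chain hS hE.1 (isRadical_of_essential hS hE) hQS (hEQ.trans Subgroup.le_normalizer)
    2 D rfl rfl (fun α _ i x hx => ?_) (fun g hg hgN i hi x hx => ?_)
  · by_cases h0 : i = 0
    · subst h0
      simp only [D, if_true, Subgroup.mem_bot] at hx ⊢
      rw [hx, map_one]
    by_cases h1 : i = 1
    · subst h1
      simp only [D, one_ne_zero, if_true, if_false, Subgroup.mem_subgroupOf] at hx ⊢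
      set c := a * b * a⁻¹ * b⁻¹ with hc
      have hcQ : c ∈ zQ := hQcomm' a (hEQ ha) b (hEQ hb)
      have hc1 : c ≠ 1 := fun e => hne (by rwa [hc, mul_inv_eq_one, mul_inv_eq_iff_eq_mul] at e)
      have hgen : zQ = Subgroup.zpowers c := by
        refine (Subgroup.eq_of_le_of_card_ge (Subgroup.zpowers_le.2 hcQ) ?_).symm
        rcases (Nat.dvd_prime hprime).1
          (hcardQ ▸ Subgroup.card_dvd_of_le (Subgroup.zpowers_le.2 hcQ)) with h | h
        · exact absurd (Subgroup.zpowers_eq_bot.1 (Subgroup.card_eq_one.1 h)) hc1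
        · rw [h, hcardQ]
      rw [hgen] at hx
      obtain ⟨k, hk⟩ := Subgroup.mem_zpowers_iff.1 hx
      have hx' : x = (⟨a, ha⟩ * ⟨b, hb⟩ * (⟨a, ha⟩ : E)⁻¹ * (⟨b, hb⟩ : E)⁻¹) ^ k :=
        Subtype.ext (by simp only [Subgroup.coe_zpow, Subgroup.coe_mul, Subgroup.coe_inv]; exact hk.symm)
      rw [hx', map_zpow, map_mul, map_mul, map_mul, map_inv, map_inv, Subgroup.coe_zpow]
      exact zQ.zpow_mem (hQcomm' _ (hEQ (α _).2) _ (hEQ (α _).2)) _
    · simp only [D, h0, h1, if_false, Subgroup.mem_top]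
  · interval_cases i
    · simp only [D, zero_add, one_ne_zero, if_true, if_false, Subgroup.mem_subgroupOf] at hx
      simp only [D, if_true, Subgroup.mem_bot, mul_inv_eq_one]
      exact Subtype.ext (by rw [conjAut_apply, hzc _ hx g hg, mul_inv_cancel_right])
    · simp only [D, one_ne_zero, if_true, if_false, Subgroup.mem_subgroupOf, Subgroup.coe_mul,
        Subgroup.coe_inv, conjAut_apply]
      exact hQcomm' g hg x (hEQ x.2)

end Cfsg.Agent.S5179
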