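import Cfsg.Statements.S5185
import Cfsg.Agent.Lib.Fusion.Normal
import Cfsg.Agent.Lib.Classical.Simple

set_option autoImplicit false
universe u
open Cfsg

namespace Cfsg.Agent.S5185

open Cfsg.FusionSystem Cfsg.Agent.Lib.Fusion

theorem sl2_le {p : ℕ} [Fact p.Prime] (A : Subgroup (Matrix.SpecialLinearGroup (Fin 2) (ZMod p)))
    (h01 : ∀ h : (0 : Fin 2) ≠ 1, Matrix.SpecialLinearGroup.transvection h (1 : ZMod p) ∈ A)
    (h10 : ∀ h : (1 : Fin 2) ≠ 0, Matrix.SpecialLinearGroup.transvection h (1 : ZMod p) ∈ A) : A = ⊤ := by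
  rw [eq_top_iff, ← Lib.Classical.SL_eq_closure_transvections, Subgroup.closure_le]
  have hpow : ∀ (i j : Fin 2) (h : i ≠ j) (n : ℕ), Matrix.SpecialLinearGroup.transvection h (n : ZMod p) =
      Matrix.SpecialLinearGroup.transvection h (1 : ZMod p) ^ n := by
    intro i j h n
    apply Subtype.ext
    rw [Matrix.SpecialLinearGroup.coe_pow]
    induction n with
    | zero => simp [Matrix.SpecialLinearGroup.transvection_coe]
    | succ n ih =>
      rw [pow_succ, ← ih]
      simp only [Matrix.SpecialLinearGroup.transvection_coe, Nat.cast_succ]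
      rw [add_mul, one_mul, mul_add, mul_one, Matrix.single_mul_single_of_ne _ _ _ _ h.symm, add_zero,
        add_assoc, add_comm (Matrix.single i j (1 : ZMod p)), add_comm (n : ZMod p), Matrix.single_add]
      abel
  rintro _ ⟨i, j, h, c, rfl⟩
  rw [← ZMod.natCast_zmod_val c, hpow]
  refine pow_mem ?_ _
  fin_cases i <;> fin_cases j
  · exact absurd rfl h
  · exact h01 h
  · exact h10 h
  · exact absurd rfl h

section Linear

variable {p : ℕ} [Fact p.Prime] {M : Type*} [AddCommGroup M] [Module (ZMod p) M]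

theorem unipotent_of_pow {X : Module.End (ZMod p) M} {U V : M} (hU : X U = U)
    (hind : ∀ s t : ZMod p, s • U + t • V = 0 → s = 0 ∧ t = 0) {a c : ZMod p} (hV : X V = a • U + c • V)
    (hX : (X ^ p) V = V) : c = 1 := by
  have hn : ∀ n : ℕ, ∃ b : ZMod p, (X ^ n) V = b • U + c ^ n • V := by
    intro n
    induction n with
    | zero => exact ⟨0, by simp⟩
    | succ n ih =>
      obtain ⟨b, hb⟩ := ih
      refine ⟨b + c ^ n * a, ?_⟩
      rw [pow_succ' X, Module.End.mul_apply, hb, map_add, map_smul, map_smul, hU, hV, smul_add, smul_smul, smul_smul,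
        pow_succ, add_smul]
      abel
  obtain ⟨b, hb⟩ := hn p
  rw [hX, ZMod.pow_card] at hb
  have h := hind b (c - 1) (by rw [sub_smul, one_smul, ← add_sub_assoc, ← hb, sub_self])
  exact sub_eq_zero.1 h.2

theorem unipotent_pow {X : Module.End (ZMod p) M} {U V : M} (hU : X U = U) {a : ZMod p} (hV : X V = a • U + V) (n : ℕ) :
    (X ^ n) U = U ∧ (X ^ n) V = ((n : ZMod p) * a) • U + V := by
  induction n with
  | zero => simp
  | succ n ih =>
    refine ⟨?_, ?_⟩
    · rw [pow_succ', Module.End.mul_apply, ih.1, hU]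
    · rw [pow_succ', Module.End.mul_apply, ih.2, map_add, map_smul, hU, hV, Nat.cast_succ, add_mul, one_mul, add_smul]
      abel

end Linear

theorem exists_sl2 {p : ℕ} [Fact p.Prime] {M : Type*} [AddCommGroup M] [Module (ZMod p) M] [Finite M]
    (hcardM : Nat.card M = p ^ 2) {Γ : Type*} [Group Γ] [Finite Γ] (Φ : Γ ≃ (M ≃ₗ[ZMod p] M))
    (hΦ : ∀ a b, Φ (a * b) = (Φ b).trans (Φ a)) (A : Subgroup Γ)
    (hcore : pCore p A = ⊥) (hp : p ∣ Nat.card A) :
    ∃ K : Subgroup A, Nonempty (K ≃* Matrix.SpecialLinearGroup (Fin 2) (ZMod p)) := by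
  have hpr : p.Prime := Fact.out
  let L : Γ →* Module.End (ZMod p) M :=
    { toFun := fun γ => (Φ γ).toLinearMap
      map_one' := by
        have h : ∀ m, (Φ 1) m = m := fun m => by
          apply (Φ 1).injective
          have := congrArg (fun f : M ≃ₗ[ZMod p] M => f m) (hΦ 1 1)
          simpa using this.symm
        ext m; simp [h]
      map_mul' := fun a b => by ext m; simp [hΦ] }
  have hL : Function.Injective L := fun α β h => Φ.injective (LinearEquiv.toLinearMap_injective h)
  obtain ⟨⟨x, hxA⟩, hx⟩ := exists_prime_orderOf_dvd_card' p hp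
  rw [Subgroup.orderOf_mk] at hx
  have hx1 : x ≠ 1 := fun h => hpr.one_lt.ne (by rw [← hx, h, orderOf_one])
  -- a fixed point
  obtain ⟨U, hU, hU0⟩ : ∃ u : M, L x u = u ∧ u ≠ 0 := by
    letI : MulAction Γ M := { smul := fun γ m => L γ m, one_smul := fun m => by simp [HSMul.hSMul, SMul.smul], mul_smul := fun a b m => by simp [HSMul.hSMul, SMul.smul, map_mul] }
    have hact : ∀ (γ : Γ) (m : M), γ • m = L γ m := fun γ m => rfl
    have hZ : IsPGroup p (Subgroup.zpowers x) := IsPGroup.of_card (n := 1) (by rw [Nat.card_zpowers, hx, pow_one])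
    have h1 : (0 : M) ∈ MulAction.fixedPoints (Subgroup.zpowers x) M := fun g =>
      ((hact g 0).trans (map_zero _) : (g : Γ) • (0 : M) = 0)
    obtain ⟨b, hb, hb1⟩ := hZ.exists_fixed_point_of_prime_dvd_card_of_fixed_point M
      (hcardM ▸ dvd_pow_self p two_ne_zero) h1
    exact ⟨b, (hact x b).symm.trans (hb ⟨x, Subgroup.mem_zpowers x⟩), hb1.symm⟩
  set Y := L x
  have hYU : Y U = U := hU
  have hind : ∀ V : M, (∀ s : ZMod p, V ≠ s • U) → ∀ s t : ZMod p, s • U + t • V = 0 → s = 0 ∧ t = 0 := by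
    intro V hV s t hst
    by_cases ht : t = 0
    · subst ht
      rw [zero_smul, add_zero] at hst
      exact ⟨(smul_eq_zero.1 hst).resolve_right hU0, rfl⟩
    · exfalso
      refine hV (-(t⁻¹ * s)) ?_
      have h := congrArg (fun m => t⁻¹ • m) hst
      simp only [smul_add, smul_smul, smul_zero, inv_mul_cancel₀ ht, one_smul] at h
      rw [neg_smul]
      exact eq_neg_of_add_eq_zero_right h
  let f : ∀ V : M, (Fin 2 → ZMod p) →ₗ[ZMod p] M := fun V =>
    (LinearMap.proj 0).smulRight U + (LinearMap.proj 1).smulRight V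
  have hf : ∀ V (a : Fin 2 → ZMod p), f V a = a 0 • U + a 1 • V := fun V a => rfl
  have hbij : ∀ V : M, (∀ s : ZMod p, V ≠ s • U) → Function.Bijective (f V) := by
    intro V hV
    have hinj : Function.Injective (f V) := (injective_iff_map_eq_zero (f V)).2 fun a ha => by
      obtain ⟨h0, h1⟩ := hind V hV (a 0) (a 1) ha
      funext i
      fin_cases i
      · exact h0
      · exact h1
    refine hinj.bijective_of_nat_card_le ?_
    rw [hcardM, Nat.card_fun, Nat.card_zmod, Nat.card_fin]
  have huni : ∀ V : M, (∀ s : ZMod p, V ≠ s • U) → ∃ a : ZMod p, a ≠ 0 ∧ Y V = a • U + V := by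
    intro V hV
    obtain ⟨w, hw⟩ := (hbij V hV).2 (Y V)
    rw [hf] at hw
    have hc : w 1 = 1 := unipotent_of_pow hYU (hind V hV) hw.symm (by
      rw [← map_pow, orderOf_dvd_iff_pow_eq_one.1 hx.dvd, map_one]
      rfl)
    rw [hc, one_smul] at hw
    refine ⟨w 0, fun h0 => hx1 (hL ?_), hw.symm⟩
    rw [map_one]
    refine LinearMap.ext fun m => ?_
    obtain ⟨a, rfl⟩ := (hbij V hV).2 m
    rw [h0, zero_smul, zero_add] at hw
    rw [hf, map_add, map_smul, map_smul, hYU, ← hw]
    rfl
  -- a conjugate with another fixed line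
  obtain ⟨β, hβA, hV⟩ : ∃ β : Γ, β ∈ A ∧ ∀ s : ZMod p, L β U ≠ s • U := by
    by_contra hcon
    push_neg at hcon
    let N : Subgroup A :=
      { carrier := {α | L α U = U ∧ ∀ m, ∃ s : ZMod p, L α m = s • U + m}
        one_mem' := ⟨by simp, fun m => ⟨0, by simp⟩⟩
        mul_mem' := by
          rintro a b ⟨ha, ha'⟩ ⟨hb, hb'⟩
          refine ⟨?_, fun m => ?_⟩
          · rw [Subgroup.coe_mul, map_mul, Module.End.mul_apply, hb, ha]
          · obtain ⟨s, hs⟩ := hb' m
            obtain ⟨t, ht⟩ := ha' m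
            refine ⟨s + t, ?_⟩
            rw [Subgroup.coe_mul, map_mul, Module.End.mul_apply, hs, map_add, map_smul, ha, ht, add_smul]
            abel
        inv_mem' := by
          rintro a ⟨ha, ha'⟩
          have hinv : ∀ m, L (a⁻¹ : A) (L a m) = m := fun m => by
            rw [← Module.End.mul_apply, ← map_mul, Subgroup.coe_inv, inv_mul_cancel, map_one]; rfl
          have hU' : L (a⁻¹ : A) U = U := by conv_lhs => rw [← ha, hinv]
          refine ⟨hU', fun m => ?_⟩
          obtain ⟨t, ht⟩ := ha' m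
          refine ⟨-t, ?_⟩
          have h := hinv m
          rw [ht, map_add, map_smul, hU'] at h
          rw [neg_smul, eq_neg_add_iff_add_eq]
          exact h }
    have hNn : N.Normal := by
      refine ⟨fun a ha b => ?_⟩
      obtain ⟨c, hc⟩ := hcon (b⁻¹ : A) (b⁻¹ : A).2
      have hb : ∀ m, L b (L (b⁻¹ : A) m) = m := fun m => by
        rw [← Module.End.mul_apply, ← map_mul, Subgroup.coe_inv, mul_inv_cancel, map_one]; rfl
      refine ⟨?_, fun m => ?_⟩
      · rw [Subgroup.coe_mul, Subgroup.coe_mul, map_mul, map_mul, Module.End.mul_apply, Module.End.mul_apply, hc,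
          map_smul, ha.1, ← hc, hb]
      · obtain ⟨t, ht⟩ := ha.2 (L (b⁻¹ : A) m)
        obtain ⟨d, hd⟩ := hcon b b.2
        refine ⟨t * d, ?_⟩
        rw [Subgroup.coe_mul, Subgroup.coe_mul, map_mul, map_mul, Module.End.mul_apply, Module.End.mul_apply, ht,
          map_add, map_smul, hb, hd, smul_smul]
    have hNp : IsPGroup p N := by
      rintro ⟨a, ha, ha'⟩
      refine ⟨1, Subtype.ext (Subtype.ext (hL ?_))⟩
      show L ((a : Γ) ^ p ^ 1) = L 1
      rw [pow_one, map_pow, map_one]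
      refine LinearMap.ext fun m => ?_
      obtain ⟨s, hs⟩ := ha' m
      rw [(unipotent_pow ha hs p).2, ZMod.natCast_self, zero_mul, zero_smul, zero_add]
      rfl
    have hxN : (⟨x, hxA⟩ : A) ∈ N := by
      refine ⟨hYU, fun m => ?_⟩
      by_cases hm : ∃ s : ZMod p, m = s • U
      · obtain ⟨s, rfl⟩ := hm
        exact ⟨0, by rw [zero_smul, zero_add, map_smul]; exact congrArg (s • ·) hYU⟩
      · push_neg at hm
        obtain ⟨a, -, ha⟩ := huni m hm
        exact ⟨a, ha⟩
    have h := le_pCore (p := p) hNn hNp hxN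
    rw [hcore, Subgroup.mem_bot] at h
    exact hx1 (congrArg Subtype.val h)
  set V := L β U
  obtain ⟨a, ha, hYV⟩ := huni V hV
  have hxpow : ∀ c : ZMod p, ∃ α ∈ A, L α U = U ∧ L α V = c • U + V := fun c => by
    refine ⟨x ^ (c * a⁻¹).val, pow_mem hxA _, ?_⟩
    rw [map_pow]
    obtain ⟨h1, h2⟩ := unipotent_pow hYU hYV (c * a⁻¹).val
    rw [ZMod.natCast_zmod_val, inv_mul_cancel_right₀ ha] at h2
    exact ⟨h1, h2⟩
  set Y' := L (β * x * β⁻¹)
  have hY'V : Y' V = V := by
    show L (β * x * β⁻¹) (L β U) = L β U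
    rw [← Module.End.mul_apply, ← map_mul, inv_mul_cancel_right, map_mul, Module.End.mul_apply]
    exact congrArg _ hYU
  obtain ⟨w, hw⟩ := (hbij V hV).2 (Y' U)
  rw [hf] at hw
  have hswap : ∀ s t : ZMod p, s • V + t • U = 0 → s = 0 ∧ t = 0 := fun s t h =>
    (hind V hV t s (by rw [add_comm]; exact h)).symm
  have hc : w 0 = 1 := unipotent_of_pow hY'V hswap (a := w 1) (c := w 0) (by rw [← hw, add_comm]) (by
    rw [← map_pow, conj_pow, orderOf_dvd_iff_pow_eq_one.1 hx.dvd, mul_one, mul_inv_cancel, map_one]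
    rfl)
  have hw1 : w 1 ≠ 0 := by
    intro h0
    rw [hc, h0, zero_smul, add_zero, one_smul] at hw
    have h1 : Y' = 1 := by
      refine LinearMap.ext fun m => ?_
      obtain ⟨z, rfl⟩ := (hbij V hV).2 m
      rw [hf, map_add, map_smul, map_smul, ← hw, hY'V]
      rfl
    have h2 : β * x * β⁻¹ = 1 := hL (h1.trans (map_one L).symm)
    exact hx1 (conj_eq_one_iff.1 h2)
  rw [hc, one_smul] at hw
  have hypow : ∀ c : ZMod p, ∃ α ∈ A, L α V = V ∧ L α U = c • V + U := fun c => by
    refine ⟨(β * x * β⁻¹) ^ (c * (w 1)⁻¹).val, pow_mem (A.mul_mem (A.mul_mem hβA hxA) (A.inv_mem hβA)) _, ?_⟩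
    rw [map_pow]
    obtain ⟨h1, h2⟩ := unipotent_pow hY'V (a := w 1) (by rw [← hw, add_comm]) (c * (w 1)⁻¹).val
    rw [ZMod.natCast_zmod_val, inv_mul_cancel_right₀ hw1] at h2
    exact ⟨h1, h2⟩
  let e : (Fin 2 → ZMod p) ≃ₗ[ZMod p] M := LinearEquiv.ofBijective (f V) (hbij V hV)
  let ρ₀ : Matrix.SpecialLinearGroup (Fin 2) (ZMod p) → (M ≃ₗ[ZMod p] M) :=
    fun g => e.symm.trans ((Matrix.SpecialLinearGroup.toLin' g).trans e)
  let ρ : Matrix.SpecialLinearGroup (Fin 2) (ZMod p) →* Γ :=
    { toFun := fun g => Φ.symm (ρ₀ g)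
      map_one' := hL (by
        refine LinearMap.ext fun m => ?_
        show (Φ (Φ.symm (ρ₀ 1))) m = L 1 m
        rw [Φ.apply_symm_apply, map_one L]
        simp [ρ₀])
      map_mul' := fun g h => hL (by
        refine LinearMap.ext fun m => ?_
        show (Φ (Φ.symm (ρ₀ (g * h)))) m = L (Φ.symm (ρ₀ g) * Φ.symm (ρ₀ h)) m
        rw [Φ.apply_symm_apply, map_mul L, Module.End.mul_apply]
        show _ = (Φ (Φ.symm (ρ₀ g))) ((Φ (Φ.symm (ρ₀ h))) m)
        rw [Φ.apply_symm_apply, Φ.apply_symm_apply]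
        simp [ρ₀]) }
  have hρ : ∀ g z, L (ρ g) (e z) = e ((g : Matrix (Fin 2) (Fin 2) (ZMod p)).mulVec z) := fun g z => by
    show (Φ (Φ.symm (ρ₀ g))) (e z) = _
    rw [Φ.apply_symm_apply]
    show e (Matrix.SpecialLinearGroup.toLin' g (e.symm (e z))) = _
    rw [e.symm_apply_apply]
    rfl
  have hρi : Function.Injective ρ := by
    intro g h hgh
    refine Subtype.ext (Matrix.ext_of_mulVec_single fun i => e.injective ?_)
    rw [← hρ, ← hρ, hgh]
  have heU : e ![1, 0] = U := by show f V _ = _; rw [hf]; simp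
  have heV : e ![0, 1] = V := by show f V _ = _; rw [hf]; simp
  have hmem : ∀ g (α : Γ), α ∈ A → L (ρ g) U = L α U → L (ρ g) V = L α V → ρ g ∈ A := by
    intro g α hα h1 h2
    rw [show ρ g = α from hL (LinearMap.ext fun m => by
      obtain ⟨z, rfl⟩ := (hbij V hV).2 m
      rw [hf, map_add, map_add, map_smul, map_smul, map_smul, map_smul, h1, h2])]
    exact hα
  have htop : A.comap ρ = ⊤ := by
    refine sl2_le _ (fun h => ?_) (fun h => ?_)
    · obtain ⟨α, hα, h1, h2⟩ := hxpow 1
      refine hmem _ α hα ?_ ?_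
      · rw [h1, ← heU, hρ]
        congr 1
        ext i; fin_cases i <;> simp [Matrix.mulVec, dotProduct, Matrix.SpecialLinearGroup.transvection_coe, Matrix.single_apply]
      · rw [h2, one_smul, ← heU, ← heV, hρ, ← map_add]
        congr 1
        ext i; fin_cases i <;> simp [Matrix.mulVec, dotProduct, Matrix.SpecialLinearGroup.transvection_coe, Matrix.single_apply]
    · obtain ⟨α, hα, h1, h2⟩ := hypow 1
      refine hmem _ α hα ?_ ?_
      · rw [h2, one_smul, ← heU, ← heV, hρ, ← map_add]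
        congr 1
        ext i; fin_cases i <;> simp [Matrix.mulVec, dotProduct, Matrix.SpecialLinearGroup.transvection_coe, Matrix.single_apply]
      · rw [h1, ← heV, hρ]
        congr 1
        ext i; fin_cases i <;> simp [Matrix.mulVec, dotProduct, Matrix.SpecialLinearGroup.transvection_coe, Matrix.single_apply]
  have hρA : ∀ g, ρ g ∈ A := fun g => (htop.ge (Subgroup.mem_top g) : g ∈ A.comap ρ)
  exact ⟨(ρ.codRestrict A hρA).range, ⟨(MonoidHom.ofInjective (fun g h hgh => hρi (congrArg Subtype.val hgh))).symm⟩⟩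

theorem exists_sl2_group {p : ℕ} [Fact p.Prime] {H : Type*} [CommGroup H] [Finite H] (hcard : Nat.card H = p ^ 2)
    (hexp : ∀ h : H, h ^ p = 1) (A : Subgroup (MulAut H)) (hcore : pCore p A = ⊥) (hp : p ∣ Nat.card A) :
    ∃ K : Subgroup A, Nonempty (K ≃* Matrix.SpecialLinearGroup (Fin 2) (ZMod p)) := by
  letI : Module (ZMod p) (Additive H) := AddCommGroup.zmodModule (fun m => congrArg Additive.ofMul (hexp m.toMul))
  haveI : Finite (Additive H) := Finite.of_equiv _ Additive.ofMul
  let Φ₀ : MulAut H ≃ (Additive H ≃ₗ[ZMod p] Additive H) :=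
    { toFun := fun α => (MulEquiv.toAdditive α).toLinearEquiv (fun c m => ZMod.map_smul (MulEquiv.toAdditive α) c m)
      invFun := fun f => MulEquiv.toAdditive.symm f.toAddEquiv
      left_inv := fun α => MulEquiv.ext fun z => rfl
      right_inv := fun f => LinearEquiv.ext fun z => rfl }
  have hΦ : ∀ α β : MulAut H, Φ₀ (α * β) = (Φ₀ β).trans (Φ₀ α) := fun α β => by ext z; simp [Φ₀]
  exact exists_sl2 (M := Additive H) hcard Φ₀ hΦ A hcore hp


/-- Let F be a saturated fusion system over a finite p-group S and H an essential subgroup of order p². Then H is elementary abelian (isomorphic to C_p × C_p) and its F-automorphism group contains a subgroup isomorphic to SL(2,p). -/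
theorem result {Ω : Type u} [Group Ω] {S : Subgroup Ω} [Finite S] (p : ℕ) [Fact p.Prime] (hS : IsPGroup p S)
    (F : Cfsg.FusionSystem S) (hF : F.IsSaturated p) (H : Subgroup Ω) (hH : F.IsEssential p H) (hcard : Nat.card H = p ^ 2) :
    Cfsg.IsElementaryAbelian p H ∧
      ∃ K : Subgroup ↥(F.autGroup H), Nonempty (↥K ≃* Matrix.SpecialLinearGroup (Fin 2) (ZMod p)) := by
  obtain ⟨hcent, hfn, hNorm, E, hE⟩ := id hH
  have hHS := hcent.1
  haveI := finite_of_le hHS
  haveI := finite_mulAut hHS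
  have hpr : p.Prime := Fact.out
  letI : CommGroup H := { (inferInstance : Group H) with mul_comm := (IsPGroup.isMulCommutative_of_card_eq_prime_sq hcard).is_comm.comm }
  have hInn : Inn H = ⊥ := by
    refine eq_bot_iff.2 ?_
    rintro _ ⟨g, rfl⟩
    refine Subgroup.mem_bot.2 (MulEquiv.ext fun z => ?_)
    show g * z * g⁻¹ = z
    rw [mul_comm g z, mul_inv_cancel_right]
  have hcore : pCore p (F.autGroup H) = ⊥ := by
    have h := (isRadical_of_essential hS hH).2
    rw [hInn] at h
    exact (Subgroup.map_eq_bot_iff_of_injective _ (Subgroup.subtype_injective _)).1 h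
  have hp : p ∣ Nat.card (F.autGroup H) := hE.1.trans (Subgroup.card_quotient_dvd_card _)
  have hncyc : ¬ IsCyclic H := by
    intro hc
    haveI := hc
    obtain ⟨P⟩ : Nonempty (Sylow p (F.autGroup H)) := inferInstance
    have hcomm : ∀ a b : F.autGroup H, a * b = b * a := fun a b => Subtype.ext (MulEquiv.ext fun z => by
      obtain ⟨m, hm⟩ := MonoidHom.map_cyclic ((a : MulAut H).toMonoidHom)
      obtain ⟨n, hn⟩ := MonoidHom.map_cyclic ((b : MulAut H).toMonoidHom)
      show (a : MulAut H) ((b : MulAut H) z) = (b : MulAut H) ((a : MulAut H) z)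
      rw [show (a : MulAut H) ((b : MulAut H) z) = ((b : MulAut H) z) ^ m from hm _,
        show (b : MulAut H) z = z ^ n from hn _,
        show (b : MulAut H) ((a : MulAut H) z) = ((a : MulAut H) z) ^ n from hn _,
        show (a : MulAut H) z = z ^ m from hm _, ← zpow_mul, ← zpow_mul, mul_comm])
    have hPn : (P : Subgroup (F.autGroup H)).Normal := ⟨fun y hy g => by rwa [hcomm g y, mul_inv_cancel_right]⟩
    have h := le_pCore (p := p) hPn P.isPGroup'
    rw [hcore, le_bot_iff] at h
    have h2 := P.dvd_card_of_dvd_card hp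
    rw [h, Subgroup.card_bot] at h2
    exact hpr.one_lt.ne' (Nat.dvd_one.1 h2)
  have hexp : ∀ z : H, z ^ p = 1 := by
    intro z
    obtain ⟨k, hk, hzk⟩ := (Nat.dvd_prime_pow hpr).1 (hcard ▸ orderOf_dvd_natCard z)
    have hk2 : k ≠ 2 := by
      rintro rfl
      exact hncyc (isCyclic_of_orderOf_eq_card z (by rw [hzk, hcard]))
    refine orderOf_dvd_iff_pow_eq_one.1 ?_
    rw [hzk]
    calc p ^ k ∣ p ^ 1 := pow_dvd_pow p (by omega)
      _ = p := pow_one p
  exact ⟨⟨inferInstance, fun z hz => congrArg Subtype.val (hexp ⟨z, hz⟩)⟩, exists_sl2_group hcard hexp _ hcore hp⟩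

end Cfsg.Agent.S5185
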