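import Cfsg.Statements.S5187
import Cfsg.Agent.Lib.FusionEssential.AbelianTwo

set_option autoImplicit false
universe u
open Cfsg

namespace Cfsg.Agent.S5187

/-- Let F be a saturated fusion system over a finite p-group S and H an abelian essential subgroup that can be generated by two elements (its Frattini quotient has order at most p²). Then H is elementary abelian of order p², or p ≤ 3 and H is homocyclic of rank two, that is isomorphic to C_{pᵏ} × C_{pᵏ} for some k. -/
theorem result {Ω : Type u} [Group Ω] {S : Subgroup Ω} [Finite S] (p : ℕ) [Fact p.Prime] (hS : IsPGroup p S)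
    (F : Cfsg.FusionSystem S) (hF : F.IsSaturated p) (H : Subgroup Ω) (hH : F.IsEssential p H) (hab : IsMulCommutative ↥H) (hrk : (frattini ↥H).index ≤ p ^ 2) :
    (Cfsg.IsElementaryAbelian p H ∧ Nat.card H = p ^ 2) ∨
      (p ≤ 3 ∧ ∃ k : ℕ, Nonempty (↥H ≃* Multiplicative (ZMod (p ^ k) × ZMod (p ^ k)))) := by
  open Cfsg.Agent.Lib.FusionEssential Cfsg.Agent.Lib.Fusion Cfsg.FusionSystem in
  classical
  have hHS := hH.1.1
  have := finite_of_le hHS
  have hHp : IsPGroup p H := hS.to_le hHS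
  letI : CommGroup H := { (inferInstance : Group H) with mul_comm := fun a b => hab.1.1 a b }
  have hpr := (Fact.out : p.Prime)
  have hinn : Inn H = ⊥ := by
    refine MonoidHom.range_eq_bot_iff.2 (MonoidHom.ext fun g => MulEquiv.ext fun x => ?_)
    show g * x * g⁻¹ = x
    rw [mul_comm g x, mul_inv_cancel_right]
  obtain ⟨n, hn⟩ := IsPGroup.iff_card.1 hHp
  have hexp : ∃ m : ℕ, ∀ x : H, x ^ p ^ m = 1 := ⟨n, fun x => hn ▸ pow_card_eq_one'⟩
  set m := Nat.find hexp with hm
  have hmspec : ∀ x : H, x ^ p ^ m = 1 := Nat.find_spec hexp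
  have hV : Nat.card (torsion p H 1) ≤ p ^ 2 := card_socle_le hHp hrk
  obtain ⟨k, hk⟩ : ∃ k, m = k + 1 := by
    refine Nat.exists_eq_succ_of_ne_zero fun h0 => ?_
    obtain ⟨α, -, hα⟩ := exists_pPower_not_inn hS hH
    refine hα ?_
    have h1 : (α : MulAut H) = 1 := MulEquiv.ext fun x => by
      have h : ∀ y : H, y = 1 := fun y => by simpa [h0] using hmspec y
      rw [h ((α : MulAut H) x), h ((1 : MulAut H) x)]
    rw [h1]
    exact one_mem _
  rw [hk] at hmspec
  set D := (powMonoidHom (p ^ k) : H →* H).range with hD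
  have hDV : D ≤ torsion p H 1 := by
    rintro _ ⟨x, rfl⟩
    show (x ^ p ^ k) ^ p ^ 1 = 1
    rw [← pow_mul, pow_one, ← pow_succ]
    exact hmspec x
  have hDne : D ≠ ⊥ := fun h => by
    have h2 : m ≤ k := Nat.find_min' hexp fun x => Subgroup.mem_bot.1 (h ▸ (⟨x, rfl⟩ : x ^ p ^ k ∈ D))
    omega
  obtain ⟨e, he⟩ := IsPGroup.iff_card.1 (hHp.to_subgroup D)
  have he0 : e ≠ 0 := fun h => hDne (Subgroup.card_eq_one.1 (by rw [he, h, pow_zero]))
  by_cases he1 : e = 1
  · exfalso
    have hDc : Nat.card D = p := by rw [he, he1, pow_one]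
    have hstep := refined_step (p := p) hDV hDc.le (by rw [hDc, ← sq]; exact hV)
    refine not_essential_of_chain hS hH (refined p D) (fun α _ i x hx =>
      refined_invariant (fun φ y hy => ?_) α i x hx) (fun i => inferInstance) (fun i => (hstep i).2)
      (fun i => (hstep i).1) (k := 2 * (k + 1)) ?_ ?_
    · obtain ⟨z, rfl⟩ := hy
      exact ⟨φ z, (map_pow φ z _).symm⟩
    · rw [refined, if_pos (by omega), show 2 * (k + 1) / 2 = k + 1 by omega]
      exact eq_top_iff.2 fun x _ => hmspec x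
    · rw [refined, if_pos rfl]
      exact (Subgroup.eq_bot_iff_forall _).2 fun x hx => by simpa [mem_torsion] using hx
  have hDeq : D = torsion p H 1 := Subgroup.eq_of_le_of_card_ge hDV
    (hV.trans (by rw [he]; exact Nat.pow_le_pow_right hpr.pos (by omega)))
  have hVc : Nat.card (torsion p H 1) = p ^ 2 :=
    le_antisymm hV (by rw [← hDeq, he]; exact Nat.pow_le_pow_right hpr.pos (by omega))
  by_cases hk0 : k = 0
  · left
    have hx1 : ∀ x : H, x ^ p = 1 := fun x => by simpa [hk0] using hmspec x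
    refine ⟨⟨hab, fun a ha => congrArg Subtype.val (hx1 ⟨a, ha⟩)⟩, ?_⟩
    rw [← hVc, show torsion p H 1 = ⊤ from eq_top_iff.2 fun x _ => by rw [mem_torsion, pow_one]; exact hx1 x,
      Subgroup.card_top]
  right
  refine ⟨?_, k + 1, ?_⟩
  · by_contra hp3
    have hp5 : 5 ≤ p := by
      rcases (show p = 4 ∨ 5 ≤ p by omega) with h | h
      · exact absurd (h ▸ hpr) (by norm_num)
      · exact h
    have hsurj : ∀ x ∈ torsion p H 1, ∃ h : H, h ^ p = x := by
      intro x hx
      rw [← hDeq] at hx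
      obtain ⟨y, rfl⟩ := hx
      refine ⟨y ^ p ^ (k - 1), ?_⟩
      show (y ^ p ^ (k - 1)) ^ p = y ^ p ^ k
      rw [← pow_mul, ← pow_succ, Nat.sub_add_cancel (Nat.one_le_iff_ne_zero.2 hk0)]
    set A := F.autGroup H with hA
    have : Finite (MulAut H) := finite_mulAut hHS
    let K : Subgroup A :=
      { carrier := {α | ∀ x ∈ torsion p H 1, (α : MulAut H) x = x}
        mul_mem' := fun {a b} ha hb x hx => by
          show (a : MulAut H) ((b : MulAut H) x) = x
          rw [hb x hx, ha x hx]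
        one_mem' := fun x _ => rfl
        inv_mem' := fun {a} ha x hx => by
          show (a : MulAut H).symm x = x
          rw [MulEquiv.symm_apply_eq, ha x hx] }
    have hKn : K.Normal := ⟨fun a ha b x hx => by
      show (b : MulAut H) ((a : MulAut H) ((b : MulAut H)⁻¹ x)) = x
      rw [ha _ (by rw [mem_torsion] at hx ⊢; rw [← map_pow, hx, map_one])]
      exact (b : MulAut H).apply_symm_apply x⟩
    have hKp : IsPGroup p K := by
      refine IsPGroup.of_card (n := (Nat.card K).primeFactorsList.length)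
        (Nat.eq_prime_pow_of_unique_prime_dvd Nat.card_pos.ne' fun {q} hq hqd => ?_)
      have := Fact.mk hq
      obtain ⟨α, hα⟩ := exists_prime_orderOf_dvd_card' q hqd
      by_contra hne
      have hq1 : ((α : A) : MulAut H) ^ q = 1 := by
        rw [← Subgroup.coe_pow, ← Subgroup.coe_pow, ← hα, pow_orderOf_eq_one]; rfl
      have h1 : α = 1 := Subtype.ext (Subtype.ext
        (eq_one_of_fix_socle hHp ((Nat.coprime_primes hq hpr).2 hne) hq1 α.2))
      rw [h1, orderOf_one] at hα
      exact hq.one_lt.ne hα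
    obtain ⟨α, ⟨i, hi⟩, hα⟩ := exists_pPower_not_inn hS hH
    obtain ⟨j, -, hj⟩ := (Nat.dvd_prime_pow hpr).1 (orderOf_dvd_of_pow_eq_one hi)
    have hpd : p ∣ Nat.card A := by
      refine dvd_trans ?_ (orderOf_dvd_natCard α)
      rw [hj]
      refine dvd_pow_self p fun h => hα ?_
      have hα1 : α = 1 := orderOf_eq_one_iff.1 (by rw [hj, h, pow_zero])
      rw [hα1]
      exact one_mem _
    obtain ⟨β, hβ⟩ := exists_prime_orderOf_dvd_card' (G := A) p hpd
    have hβp : (β : MulAut H) ^ p = 1 := by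
      rw [← Subgroup.coe_pow, ← hβ, pow_orderOf_eq_one]; rfl
    have hmem := mem_inn_of_radical (isRadical_of_essential hS hH) hKn hKp
      (show β ∈ K from eq_on_socle hp5 hHp hV hsurj hβp)
    rw [hinn, Subgroup.mem_bot] at hmem
    rw [show β = 1 from Subtype.ext hmem, orderOf_one] at hβ
    exact hpr.one_lt.ne hβ
  · obtain ⟨v, hv, hv1⟩ : ∃ v ∈ D, v ≠ 1 := by
      by_contra! h
      exact hDne ((Subgroup.eq_bot_iff_forall _).2 h)
    have hord : orderOf v = p := orderOf_eq_prime (by simpa [mem_torsion] using hDV hv) hv1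
    obtain ⟨w, hw, hwv⟩ : ∃ w ∈ D, w ∉ Subgroup.zpowers v := by
      by_contra! h
      have h1 := Subgroup.card_le_of_le (show D ≤ Subgroup.zpowers v from h)
      rw [Nat.card_zpowers, hord, hDeq, hVc] at h1
      exact h1.not_gt (lt_self_pow₀ hpr.one_lt (by norm_num))
    have hwp : w ^ (p : ℤ) = 1 := by rw [zpow_natCast]; simpa [mem_torsion] using hDV hw
    obtain ⟨a, rfl⟩ := hv
    obtain ⟨b, rfl⟩ := hw
    refine exists_equiv_of_homocyclic hmspec hV (a := a) (b := b) fun i j hij => ?_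
    have hj : (p : ℤ) ∣ j := by
      by_contra hj
      obtain ⟨s, t, hst⟩ := ((Nat.prime_iff_prime_int.1 hpr).coprime_iff_not_dvd).2 hj
      refine hwv ⟨-(i * t), ?_⟩
      have h1 : (b ^ p ^ k) ^ j = (a ^ p ^ k) ^ (-i) := by
        rw [zpow_neg]; exact eq_inv_of_mul_eq_one_right hij
      show (a ^ p ^ k) ^ (-(i * t)) = b ^ p ^ k
      calc (a ^ p ^ k) ^ (-(i * t)) = ((b ^ p ^ k) ^ j) ^ t := by rw [h1, ← zpow_mul, neg_mul]
        _ = ((b ^ p ^ k) ^ (p : ℤ)) ^ s * ((b ^ p ^ k) ^ j) ^ t := by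
          rw [show (b ^ p ^ k) ^ (p : ℤ) = 1 from hwp, one_zpow, one_mul]
        _ = b ^ p ^ k := by
          rw [← zpow_mul, ← zpow_mul, ← zpow_add, show (p : ℤ) * s + j * t = 1 by rw [← hst]; ring, zpow_one]
    refine ⟨?_, hj⟩
    obtain ⟨t, rfl⟩ := hj
    rw [zpow_mul, show (b ^ p ^ k) ^ (p : ℤ) = 1 from hwp, one_zpow, mul_one] at hij
    rw [← hord]
    exact orderOf_dvd_iff_zpow_eq_one.2 hij

end Cfsg.Agent.S5187
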