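import Cfsg.Statements.S5188
import Cfsg.Agent.Lib.FusionEssential.OrderFourth
import Cfsg.Agent.S5187

set_option autoImplicit false
universe u
open Cfsg

namespace Cfsg.Agent.S5188

/-- Let F be a saturated fusion system over a finite p-group S and H an essential subgroup of order p⁴. Then H is isomorphic to one of: C_p⁴ or C_{p²} × C_p × C_p (any p); C_{p²} × C_{p²} with p ∈ {2, 3}; p^{1+2}_+ × C_p with p odd (the direct product of an extraspecial group of order p³ and exponent p with a group of order p); Q₈ × C₂ (p = 2); or the non-abelian group of order p⁴ of exponent p² whose centre is cyclic of order p² (the central product of an extraspecial group of order p³ with a cyclic group of order p²; for p = 2 this is D₈ ∘ C₄). -/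
theorem result {Ω : Type u} [Group Ω] {S : Subgroup Ω} [Finite S] (p : ℕ) [Fact p.Prime] (hS : IsPGroup p S)
    (F : Cfsg.FusionSystem S) (hF : F.IsSaturated p) (H : Subgroup Ω) (hH : F.IsEssential p H) (hcard : Nat.card H = p ^ 4) :
    Cfsg.IsElementaryAbelian p H ∨
      Nonempty (↥H ≃* Multiplicative (ZMod (p ^ 2) × ZMod p × ZMod p)) ∨
      ((p = 2 ∨ p = 3) ∧ Nonempty (↥H ≃* Multiplicative (ZMod (p ^ 2) × ZMod (p ^ 2)))) ∨
      (Odd p ∧ ∃ (E : Type) (_ : Group E) (_ : Finite E), Cfsg.IsExtraspecial p E ∧ Nat.card E = p ^ 3 ∧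
        (∀ x : E, x ^ p = 1) ∧ Nonempty (↥H ≃* E × Multiplicative (ZMod p))) ∨
      (p = 2 ∧ Nonempty (↥H ≃* QuaternionGroup 2 × Multiplicative (ZMod 2))) ∨
      (¬ IsMulCommutative ↥H ∧ (∀ x ∈ H, x ^ (p ^ 2) = 1) ∧ IsCyclic ↥(Subgroup.center ↥H) ∧
        Nat.card (Subgroup.center ↥H) = p ^ 2) := by
  open Cfsg.Agent.Lib.FusionEssential in
  classical
  have hHS := hH.1.1
  have := Cfsg.Agent.Lib.Fusion.finite_of_le hHS
  have hHp : IsPGroup p H := hS.to_le hHS
  have hp := (Fact.out : p.Prime)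
  by_cases hab : IsMulCommutative ↥H
  swap
  · rcases fourth_dichotomy hHp hcard hab with h | h | h | ⟨h1, h2, h3⟩
    · exact (not_essential_of_four hS hH h).elim
    · exact Or.inr (Or.inr (Or.inr (Or.inl h)))
    · exact Or.inr (Or.inr (Or.inr (Or.inr (Or.inl h))))
    · exact Or.inr (Or.inr (Or.inr (Or.inr (Or.inr
        ⟨hab, fun x hx => congrArg Subtype.val (h1 ⟨x, hx⟩), h2, h3⟩))))
  letI : CommGroup H := { (inferInstance : Group H) with mul_comm := fun a b => hab.1.1 a b }
  set f : H →* H := powMonoidHom p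
  have hmul := card_mul_ker f
  obtain ⟨r, hr⟩ := IsPGroup.iff_card.1 (hHp.to_subgroup f.ker)
  have hr4 : r ≤ 4 := by
    have h := Subgroup.card_le_card_group f.ker
    rw [hr, hcard] at h
    exact (Nat.pow_le_pow_iff_right hp.one_lt).1 h
  rcases (show r = 4 ∨ r = 3 ∨ r ≤ 2 by omega) with h | h | h
  · left
    have htop : f.ker = ⊤ := Subgroup.eq_top_of_card_eq _ (by rw [hr, hcard, h])
    refine ⟨hab, fun a ha => ?_⟩
    have h1 : f ⟨a, ha⟩ = 1 := MonoidHom.mem_ker.1 (by rw [htop]; exact Subgroup.mem_top _)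
    exact congrArg Subtype.val h1
  · exact Or.inr (Or.inl (equiv_of_socle_cube hHp hcard (hr.trans (by rw [h]))))
  have hidx : (frattini ↥H).index ≤ p ^ 2 := by
    have h1 : f.range ≤ frattini ↥H := by
      rintro _ ⟨x, rfl⟩
      exact Cfsg.Agent.Lib.PGroupFrattini.pow_mem_frattini hHp x
    refine (Nat.le_of_dvd (Nat.pos_of_ne_zero Subgroup.FiniteIndex.index_ne_zero)
      (Subgroup.index_dvd_of_le h1)).trans ?_
    have h2 : f.range.index = Nat.card f.ker := by
      have h3 := Subgroup.card_mul_index f.range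
      rw [← hmul, mul_comm (Nat.card f.ker)] at h3
      exact Nat.eq_of_mul_eq_mul_left Nat.card_pos h3
    rw [h2, hr]
    exact Nat.pow_le_pow_right hp.pos h
  rcases Cfsg.Agent.S5187.result p hS F hF H hH hab hidx with ⟨-, h2⟩ | ⟨h3, k, ⟨e⟩⟩
  · exact absurd (Nat.pow_right_injective hp.two_le (hcard.symm.trans h2)) (by norm_num)
  have : NeZero (p ^ k) := ⟨(pow_pos hp.pos k).ne'⟩
  have hk : k = 2 := by
    have h := Nat.card_congr e.toEquiv
    rw [hcard, Nat.card_congr Multiplicative.toAdd, Nat.card_prod, Nat.card_zmod, ← pow_add] at h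
    have := Nat.pow_right_injective hp.two_le h
    omega
  subst hk
  refine Or.inr (Or.inr (Or.inl ⟨?_, ⟨e⟩⟩))
  have := hp.two_le
  omega

end Cfsg.Agent.S5188
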