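import Cfsg.Statements.S5193
import Mathlib
import Cfsg.Agent.Lib.LocalP2.FusionCenterModel
-- import your own Cfsg.Agent.* helpers here

set_option autoImplicit false
open Cfsg Cfsg.Agent

namespace Cfsg.Agent.S5193

/-- Glauberman's Theorem for fusion systems. Let F be a saturated fusion system over a finite p-group S, let J(S) be the subgroup generated by the abelian subgroups of S of largest order, and let N be the normalizer fusion system of J(S) in F (a fusion system over N_S(J(S)) = S). Then every p-th power of an element of Z(S) that lies in the centre of N lies in the centre of F; and if p is odd, or if the symmetric group of degree 4 is not involved in any model of the normalizer system of a fully normalized F-centric subgroup (F is S₄-free), then the centre of N equals the centre of F. -/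
theorem result {Ω : Type*} [Group Ω] {S : Subgroup Ω} [Finite S] (p : ℕ) [Fact p.Prime] (hS : IsPGroup p S) (F : Cfsg.FusionSystem S) (hF : F.IsSaturated p) (N : Cfsg.FusionSystem (Cfsg.FusionSystem.normalizerIn S (Cfsg.thompsonSubgroupAOf S))) (hN : F.IsNormalizerSystem (Cfsg.thompsonSubgroupAOf S) N) : Subgroup.closure ((fun z : Ω => z ^ p) '' ((S ⊓ Subgroup.centralizer (S : Set Ω) : Subgroup Ω) : Set Ω)) ⊓ N.center ≤ F.center ∧ (p ≠ 2 ∨ F.IsSectionFree p (Equiv.Perm (Fin 4)) → N.center = F.center) := by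
  classical
  set Z := S ⊓ Subgroup.centralizer (S : Set Ω) with hZdef
  have hJS : (Cfsg.thompsonSubgroupAOf S) ≤ S := Lib.LocalP2.thompson_le S
  have := Lib.Fusion.finite_of_le hJS
  have hNJ : Cfsg.FusionSystem.normalizerIn S (Cfsg.thompsonSubgroupAOf S) = S := by
    refine le_antisymm (Lib.Fusion.normalizerIn_le S (Cfsg.thompsonSubgroupAOf S)) fun g hg => ⟨hg, ?_⟩
    refine Lib.Fusion.mem_normalizer_of_conj_mem fun x hx => ?_
    have := Lib.LocalP2.thompson_map_iso (Lib.Fusion.conjAut S (Subgroup.le_normalizer hg))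
      (x := ⟨x, hJS hx⟩) hx
    simpa using this
  have : Finite (Cfsg.FusionSystem.normalizerIn S (Cfsg.thompsonSubgroupAOf S)) := Lib.Fusion.finite_of_le (Lib.Fusion.normalizerIn_le S (Cfsg.thompsonSubgroupAOf S))
  have hSJ : IsPGroup p (Cfsg.FusionSystem.normalizerIn S (Cfsg.thompsonSubgroupAOf S)) := hS.to_le (Lib.Fusion.normalizerIn_le S (Cfsg.thompsonSubgroupAOf S))
  have hNs : N.IsSaturated p :=
    Lib.Fusion.normalizerSystem_saturated hS hF Lib.LocalP2.thompson_fullyNormalized N hN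
  have hZN : ∀ {x : Ω}, x ∈ Cfsg.FusionSystem.normalizerIn S (Cfsg.thompsonSubgroupAOf S) ⊓
      Subgroup.centralizer ((Cfsg.FusionSystem.normalizerIn S (Cfsg.thompsonSubgroupAOf S) : Subgroup Ω) : Set Ω) ↔ x ∈ Z := by
    intro x; rw [hNJ]
  -- the centre of `N` is fixed by `Aut_F((Cfsg.thompsonSubgroupAOf S))`
  have hJfix : ∀ x ∈ N.center, ∀ α ∈ F.autGroup (Cfsg.thompsonSubgroupAOf S), ∀ u : (Cfsg.thompsonSubgroupAOf S), (u : Ω) = x → ((α u : (Cfsg.thompsonSubgroupAOf S)) : Ω) = x := by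
    intro x hx α hα u hu
    have hα' := (Lib.Fusion.mem_autGroup hJS).1 hα
    have hmem : (Cfsg.thompsonSubgroupAOf S).subtype.comp α.toMonoidHom ∈ N.Hom (Cfsg.thompsonSubgroupAOf S) := by
      rw [hN (Cfsg.thompsonSubgroupAOf S)]
      refine ⟨hα', Lib.Fusion.le_normalizerIn hJS, fun y => Lib.Fusion.le_normalizerIn hJS (α y).2, ?_⟩
      refine ⟨_, Lib.Fusion.restrict_mem (sup_le le_rfl le_rfl) hα', fun y => rfl, ?_⟩
      refine le_antisymm ?_ fun y hy => ?_
      · rintro _ ⟨v, -, rfl⟩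
        exact (α _).2
      · refine ⟨Subgroup.inclusion le_sup_left (α.symm ⟨y, hy⟩), (α.symm ⟨y, hy⟩).2, ?_⟩
        show ((α (α.symm ⟨y, hy⟩) : (Cfsg.thompsonSubgroupAOf S)) : Ω) = y
        rw [MulEquiv.apply_symm_apply]
    subst hu
    exact ((Lib.LocalP2.mem_center_iff_fixed hSJ hNs).1 hx).2 (Cfsg.thompsonSubgroupAOf S) _ hmem u.2
  refine ⟨?_, fun hp2 => le_antisymm ?_ ?_⟩
  · rintro x ⟨hx, hxN⟩
    obtain ⟨z, hz, rfl⟩ : ∃ z ∈ Z, z ^ p = x := by
      clear hxN
      induction hx using Subgroup.closure_induction with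
      | mem w hw => exact hw
      | one => exact ⟨1, Z.one_mem, one_pow p⟩
      | mul a b _ _ iha ihb =>
        obtain ⟨u, hu, rfl⟩ := iha
        obtain ⟨v, hv, rfl⟩ := ihb
        exact ⟨u * v, Z.mul_mem hu hv, (Commute.mul_pow (Subgroup.mem_centralizer_iff.1 hv.2 u hu.1) p)⟩
      | inv a _ iha =>
        obtain ⟨u, hu, rfl⟩ := iha
        exact ⟨u⁻¹, Z.inv_mem hu, inv_pow u p⟩
    exact (Lib.LocalP2.mem_center_iff_fixed hS hF).2
      ⟨Z.pow_mem hz p, Lib.LocalP2.fixed_pow_of_fix_thompson hS hF hz (hJfix _ hxN)⟩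
  · intro x hx
    have hxZ := hZN.1 ((Lib.LocalP2.mem_center_iff_fixed hSJ hNs).1 hx).1
    exact (Lib.LocalP2.mem_center_iff_fixed hS hF).2
      ⟨hxZ, Lib.LocalP2.fixed_of_fix_thompson_free hS hF hp2 hxZ (hJfix x hx)⟩
  · intro x hx
    obtain ⟨hxZ, hfix⟩ := (Lib.LocalP2.mem_center_iff_fixed hS hF).1 hx
    refine (Lib.LocalP2.mem_center_iff_fixed hSJ hNs).2 ⟨hZN.2 hxZ, fun P φ hφ hxP => ?_⟩
    rw [hN P] at hφ
    exact hfix P φ hφ.1 hxP

end Cfsg.Agent.S5193
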