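import Cfsg.Statements.S5194
import Mathlib
import Cfsg.Agent.Lib.LocalP2.FusionCenterModel
-- import your own Cfsg.Agent.* helpers here

set_option autoImplicit false
open Cfsg Cfsg.Agent

namespace Cfsg.Agent.S5194

/-- Thompson's normal p-complement Theorem for fusion systems. Let F be a saturated fusion system over a finite p-group S such that p is odd or F is S₄-free (the symmetric group of degree 4 is not involved in any model of the normalizer system of a fully normalized F-centric subgroup), and let J(S) be the subgroup generated by the abelian subgroups of S of largest order. If the centralizer fusion system of Z(S) in F is the inner fusion system of C_S(Z(S)) = S and the normalizer fusion system of J(S) in F is the inner fusion system of N_S(J(S)) = S, then F is the inner fusion system of S. -/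
theorem result {Ω : Type*} [Group Ω] {S : Subgroup Ω} [Finite S] (p : ℕ) [Fact p.Prime] (hS : IsPGroup p S) (F : Cfsg.FusionSystem S) (hF : F.IsSaturated p) (hp : p ≠ 2 ∨ F.IsSectionFree p (Equiv.Perm (Fin 4))) (hC : ∀ C : Cfsg.FusionSystem (Cfsg.FusionSystem.centralizerIn S (S ⊓ Subgroup.centralizer (S : Set Ω))), F.IsCentralizerSystem (S ⊓ Subgroup.centralizer (S : Set Ω)) C → ∀ P : Subgroup Ω, C.Hom P = (Cfsg.innerFusionSystem (Cfsg.FusionSystem.centralizerIn S (S ⊓ Subgroup.centralizer (S : Set Ω)))).Hom P) (hN : ∀ N : Cfsg.FusionSystem (Cfsg.FusionSystem.normalizerIn S (Cfsg.thompsonSubgroupAOf S)), F.IsNormalizerSystem (Cfsg.thompsonSubgroupAOf S) N → ∀ P : Subgroup Ω, N.Hom P = (Cfsg.innerFusionSystem (Cfsg.FusionSystem.normalizerIn S (Cfsg.thompsonSubgroupAOf S))).Hom P) : ∀ P : Subgroup Ω, F.Hom P = (Cfsg.innerFusionSystem S).Hom P := by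
  classical
  set J := Cfsg.thompsonSubgroupAOf S with hJdef
  set Z := S ⊓ Subgroup.centralizer (S : Set Ω) with hZdef
  have hJS : J ≤ S := Lib.LocalP2.thompson_le S
  have hZS : Z ≤ S := inf_le_left
  have := Lib.Fusion.finite_of_le hJS
  -- the two systems
  let N := Lib.Fusion.extSystem F (Cfsg.FusionSystem.normalizerIn S J) J ⊤ (Lib.Fusion.normalizerIn_le S J) hJS
    fun g hg => ⟨hg.2, Subgroup.mem_top _⟩
  have hNsys : F.IsNormalizerSystem J N := by
    intro P
    ext φ
    show (φ ∈ F.Hom P ∧ _ ∧ _ ∧ Lib.Fusion.ExtendsOver F J ⊤ φ) ↔ _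
    rw [Lib.Fusion.extendsOver_top_iff]
    rfl
  have hfix : ∀ z ∈ Z, Lib.LocalP2.Fixed F z := by
    intro z hz
    refine Lib.LocalP2.fixed_of_fix_thompson_free hS hF hp hz fun α hα u hu => ?_
    have hα' := (Lib.Fusion.mem_autGroup hJS).1 hα
    have hmem : J.subtype.comp α.toMonoidHom ∈ N.Hom J := ⟨hα', Lib.Fusion.le_normalizerIn hJS,
      fun y => Lib.Fusion.le_normalizerIn hJS (α y).2, _, Lib.Fusion.restrict_mem (sup_le le_rfl le_rfl) hα',
      fun y => rfl, α, Subgroup.mem_top _, fun y => rfl⟩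
    rw [hN N hNsys J] at hmem
    obtain ⟨-, g, hg, hgα⟩ := hmem
    show (J.subtype.comp α.toMonoidHom) u = z
    rw [hgα u, hu, Subgroup.mem_centralizer_iff.1 hz.2 g hg.1, mul_inv_cancel_right]
  have hcent : F.IsCentral Z := by
    have := Lib.LocalP2.isCentral_closure hS hF (W := (Z : Set Ω)) fun w hw => ⟨hw, hfix w hw⟩
    rwa [Subgroup.closure_eq] at this
  have hCS : Cfsg.FusionSystem.centralizerIn S Z = S :=
    le_antisymm inf_le_left fun g hg => ⟨hg, Subgroup.mem_centralizer_iff.2 fun z hz =>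
      (Subgroup.mem_centralizer_iff.1 hz.2 g hg).symm⟩
  let C := Lib.Fusion.extSystem F (Cfsg.FusionSystem.centralizerIn S Z) Z ⊥ (Lib.Fusion.centralizerIn_le S Z) hZS
    fun g hg => by
      refine ⟨Lib.Fusion.centralizer_le_normalizer' Z hg.2, Subgroup.mem_bot.2 ?_⟩
      ext x
      rw [Lib.Fusion.conjAut_apply, ← (Lib.Fusion.mem_centralizerIn.1 hg).2 _ x.2, mul_inv_cancel_right]
      rfl
  have hCsys : F.IsCentralizerSystem Z C := by
    intro P
    ext φ
    show (φ ∈ F.Hom P ∧ _ ∧ _ ∧ Lib.Fusion.ExtendsOver F Z ⊥ φ) ↔ _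
    rw [Lib.Fusion.extendsOver_bot_iff]
    rfl
  intro P
  ext φ
  refine ⟨fun hφ => ?_, fun ⟨hP, g, hg, h⟩ => Lib.Fusion.conj_map_mem hP hg h⟩
  have hmem : φ ∈ C.Hom P := ⟨hφ, hCS.symm ▸ Lib.Fusion.src_le hφ, fun x => hCS.symm ▸ Lib.Fusion.val_mem hφ x,
    (Lib.Fusion.isCentral_iff.1 hcent).2 P φ hφ⟩
  rw [hC C hCsys P] at hmem
  obtain ⟨hP, g, hg, h⟩ := hmem
  exact ⟨Lib.Fusion.src_le hφ, g, hg.1, h⟩

end Cfsg.Agent.S5194
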