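import Cfsg.Statements.S5195
import Mathlib
import Cfsg.Agent.Lib.LocalP2.FusionInner
-- import your own Cfsg.Agent.* helpers here

set_option autoImplicit false
open Cfsg Cfsg.Agent

namespace Cfsg.Agent.S5195

open Cfsg.FusionSystem Cfsg.Agent.Lib.Fusion Cfsg.Agent.Lib.LocalP2

universe u

theorem aux (p : ℕ) [Fact p.Prime] : ∀ (n : ℕ) {Ω : Type u} [Group Ω] {S : Subgroup Ω} [Finite S],
    Nat.card S = n → IsPGroup p S → ∀ F : Cfsg.FusionSystem S, F.IsSaturated p → (p ≠ 2 ∨ S4Model F) →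
    (∀ Q : Subgroup Ω, Q ≤ S → Q ≠ ⊥ → (Q.subgroupOf S).Characteristic → IsPGroup p (F.autGroup Q)) →
    ∀ P : Subgroup Ω, F.Hom P = (Cfsg.innerFusionSystem S).Hom P := by
  intro n
  induction n using Nat.strong_induction_on with
  | _ n ih => ?_
  intro Ω _ S _ hn hS F hF hp h
  classical
  refine eq_inner_of_pgroups hS hF fun P hP => ?_
  obtain ⟨hPc, -, hPn⟩ := centric_radical_of_top_or_essential hS hF hP
  by_cases hS1 : S = ⊥
  · have hP1 : P = ⊥ := le_bot_iff.1 (hS1 ▸ hPc.1)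
    intro α
    refine ⟨0, Subtype.ext (MulEquiv.ext fun x => ?_)⟩
    have hsub : Subsingleton P := by rw [hP1]; infer_instance
    exact Subsingleton.elim _ _
  have : Nontrivial S := (Subgroup.nontrivial_iff_ne_bot S).2 hS1
  set Zs : Subgroup S := Subgroup.center S with hZs
  set Z : Subgroup Ω := Zs.map S.subtype with hZ
  have hZS : Z ≤ S := Subgroup.map_subtype_le _
  have hZc : ∀ z ∈ Z, z ∈ S ⊓ Subgroup.centralizer (S : Set Ω) := by
    rintro _ ⟨z, hz, rfl⟩
    exact ⟨z.2, Subgroup.mem_centralizer_iff.2 fun g hg =>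
      congrArg Subtype.val (Subgroup.mem_center_iff.1 hz ⟨g, hg⟩)⟩
  -- the automizer of `J(S)` fixes the centre
  have hJS := thompson_le S
  have := finite_of_le hJS
  obtain ⟨z₀, hz₀, hz₀1⟩ := (Subgroup.nontrivial_iff_exists_ne_one Zs).1 hS.center_nontrivial
  have hz₀J : (z₀ : Ω) ∈ thompsonSubgroupAOf S :=
    mem_thompson_of_central (hZc _ ⟨z₀, hz₀, rfl⟩) le_rfl z₀.2
  have hJne : thompsonSubgroupAOf S ≠ ⊥ := fun hb => hz₀1 (Subtype.ext (Subgroup.mem_bot.1 (hb ▸ hz₀J)))
  have hJchar : ((thompsonSubgroupAOf S).subgroupOf S).Characteristic := by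
    rw [thompsonSubgroupAOf, Subgroup.subgroupOf, Subgroup.comap_map_eq_self_of_injective S.subtype_injective]
    exact Subgroup.characteristic_iff_map_eq.2 fun e => Lib.Thompson.map_thompsonSubgroupA e
  have hJp := h _ hJS hJne hJchar
  have hJn : F.IsFullyNormalized (thompsonSubgroupAOf S) := thompson_fullyNormalized
  have hfixJ : ∀ z ∈ Z, ∀ α ∈ F.autGroup (thompsonSubgroupAOf S), ∀ x : thompsonSubgroupAOf S,
      (x : Ω) = z → ((α x : thompsonSubgroupAOf S) : Ω) = z := by
    intro z hz α hα x hx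
    rw [autGroup_eq_of_isPGroup (fullyNormalized_props hS hF hJn).1 hJp] at hα
    obtain ⟨g, hg, hgα⟩ := exists_of_mem_autInducedBy hα
    rw [hgα, hx, Subgroup.mem_centralizer_iff.1 (hZc z hz).2 g hg.1, mul_inv_cancel_right]
  have hfix : ∀ z ∈ Z, Fixed F z := by
    intro z hz
    refine fixed_of_fix_thompson_two hS hF ?_ (hZc z hz) (hfixJ z hz)
    by_cases h2 : p = 2
    · subst h2
      exact Or.inr ⟨rfl, noTransvection_of_S4Model hS (hp.resolve_left fun h => h rfl)⟩
    · exact Or.inl h2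
  have hcent : F.IsCentral Z := by
    have := isCentral_closure hS hF (W := (Z : Set Ω)) fun w hw => ⟨hZc w hw, hfix w hw⟩
    rwa [Subgroup.closure_eq] at this
  have hcl : F.StronglyClosed Z := stronglyClosed_of_isNormal (isNormal_of_isCentral hcent)
  -- the factor system
  let θ : S →* S ⧸ Zs := QuotientGroup.mk' Zs
  have hker : ∀ s : S, θ s = 1 ↔ (s : Ω) ∈ Z := fun s =>
    ⟨fun hs => ⟨s, (QuotientGroup.eq_one_iff s).1 hs, rfl⟩,
      fun ⟨w, hw, he⟩ => (QuotientGroup.eq_one_iff s).2 (Subtype.ext he ▸ hw)⟩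
  have hθ : θ.range = (⊤ : Subgroup (S ⧸ Zs)) := MonoidHom.range_eq_top.2 (QuotientGroup.mk'_surjective Zs)
  let E := factorSystem F hcl θ hker ⊤ hθ
  have hEs : E.IsSaturated p := saturated_of_surjectiveMorphism hS hF
    (isSurjectiveMorphism_of_factor hS hF hcl (isFactorSystem_factorSystem hcl θ hker ⊤ hθ))
  have hlt : Nat.card (⊤ : Subgroup (S ⧸ Zs)) < n := by
    rw [Subgroup.card_top, ← hn, Subgroup.card_eq_card_quotient_mul_card_subgroup Zs]
    exact lt_mul_of_one_lt_right Nat.card_pos (Finite.one_lt_card_iff_nontrivial.2 hS.center_nontrivial)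
  have hE : ∀ P' : Subgroup (S ⧸ Zs), E.Hom P' = (Cfsg.innerFusionSystem ⊤).Hom P' := by
    refine ih _ hlt rfl ((hS.to_quotient Zs).to_subgroup ⊤) E hEs
      (hp.imp_right (S4Model_factor hcl hker hfix hθ)) fun Q' hQ' hQ'ne hQ'c => ?_
    set Q := preimageAlong θ Q' with hQdef
    have hQS : Q ≤ S := preimageAlong_le θ Q'
    have := finite_of_le hQS
    have hZQ : Z ≤ Q := kernel_le_preimage hker hZS Q'
    have hQ'cc : Q'.Characteristic := by
      rw [Subgroup.characteristic_iff_comap_eq]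
      intro e
      have := Subgroup.characteristic_iff_comap_eq.1 hQ'c
        (Subgroup.topEquiv.trans (e.trans Subgroup.topEquiv.symm))
      ext x
      exact SetLike.ext_iff.1 this ⟨x, Subgroup.mem_top x⟩
    have hQp : IsPGroup p (F.autGroup Q) := by
      refine h Q hQS (fun hb => hz₀1 (Subtype.ext ?_)) ?_
      · exact Subgroup.mem_bot.1 (hb ▸ hZQ ⟨z₀, hz₀, rfl⟩)
      · rw [show Q.subgroupOf S = Q'.comap θ from Subgroup.comap_map_eq_self_of_injective S.subtype_injective _,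
          Subgroup.characteristic_iff_comap_eq]
        intro e
        have hmap : Zs.map e.toMonoidHom = Zs :=
          (Subgroup.characteristic_iff_map_eq.1 (inferInstance : (Subgroup.center S).Characteristic)) e
        let e' : S ⧸ Zs ≃* S ⧸ Zs := QuotientGroup.congr Zs Zs e hmap
        rw [Subgroup.comap_comap, show θ.comp e.toMonoidHom = e'.toMonoidHom.comp θ from rfl,
          ← Subgroup.comap_comap, Subgroup.characteristic_iff_comap_eq.1 hQ'cc e']
    intro α'
    obtain ⟨-, φ, hφ, b₁, b₂, b₃, be⟩ := (mem_autGroup hQ').1 α'.2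
    have hself : ∀ x, φ x ∈ Q := fun x => mem_preimageAlong.2 ⟨b₂ x, by
      rw [← be x]
      exact ((α' : MulAut Q') ⟨_, b₃ x⟩).2⟩
    obtain ⟨β, hβ, hβv⟩ := exists_aut_of_self_map hφ hself
    have hpow : ∀ (j : ℕ) (x : Q), ((α' : MulAut Q') ^ j) ⟨θ ⟨x, hQS x.2⟩, b₃ x⟩ =
        ⟨θ ⟨(β ^ j) x, hQS ((β ^ j) x).2⟩, b₃ _⟩ := by
      intro j
      induction j with
      | zero => intro x; simp
      | succ j ihj =>
        intro x
        simp only [pow_succ', MulAut.mul_apply, ihj]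
        exact Subtype.ext ((be ((β ^ j) x)).trans (congrArg θ (Subtype.ext (hβv ((β ^ j) x)).symm)))
    obtain ⟨k, hk⟩ := hQp ⟨β, hβ⟩
    refine ⟨k, Subtype.ext (MulEquiv.ext fun y => ?_)⟩
    obtain ⟨x, hx⟩ := exists_lift (hθ.symm ▸ le_top : Q' ≤ θ.range) y
    obtain rfl : y = ⟨_, b₃ x⟩ := Subtype.ext hx.symm
    have hk' : β ^ p ^ k = 1 := congrArg Subtype.val hk
    rw [SubmonoidClass.coe_pow, hpow, OneMemClass.coe_one, MulAut.one_apply]
    simp [hk']
  -- lift
  have hZP : Z ≤ P := fun z hz => centralizer_le_of_isCentric hPc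
    (mem_centralizerIn.2 ⟨hZS hz, fun x hx => (Subgroup.mem_centralizer_iff.1 (hZc z hz).2 x (hPc.1 hx))⟩)
  refine isPGroup_aut_of_inner_mod (T := Z) hS hPc.1 hZP θ (fun s hs => (hker s).1 hs)
    (fun α hα x hx => ?_) (fun α hα => ⟨1, S.one_mem, fun x hx => ?_⟩) fun α hα => ?_
  · have := hfix _ hx P _ ((mem_autGroup hPc.1).1 hα) x.2
    exact (show ((α x : P) : Ω) = x from this) ▸ hx
  · have := hfix _ hx P _ ((mem_autGroup hPc.1).1 hα) x.2
    simpa using this
  · have hle : preimageAlong θ (imageAlong θ P) ≤ P :=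
      (preimage_imageAlong_le hker P).trans (sup_le le_rfl hZP)
    obtain ⟨φ', hφ'⟩ := exists_induced hcl hker (imageAlong_le_range θ P)
      (restrict_mem hle ((mem_autGroup hPc.1).1 hα))
    have hmem : φ' ∈ E.Hom (imageAlong θ P) := ⟨le_top, _, restrict_mem hle ((mem_autGroup hPc.1).1 hα), hφ'⟩
    rw [hE] at hmem
    obtain ⟨-, g, -, hg⟩ := hmem
    obtain ⟨s, rfl⟩ := QuotientGroup.mk'_surjective Zs g
    refine ⟨s, fun x => ?_⟩
    obtain ⟨b₁, b₂, b₃, be⟩ := hφ'
    have hx : (x : Ω) ∈ preimageAlong θ (imageAlong θ P) :=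
      mem_preimageAlong.2 ⟨hPc.1 x.2, ⟨x, hPc.1 x.2⟩, x.2, rfl⟩
    exact (be ⟨x, hx⟩).symm.trans (hg _)


/-- A strengthened Frobenius normal p-complement criterion for fusion systems. Let F be a saturated fusion system over a finite p-group S such that p is odd or F is S₄-free (the symmetric group of degree 4 is not involved in any model of the normalizer system of a fully normalized F-centric subgroup). If Aut_F(Q) is a p-group for every nontrivial characteristic subgroup Q of S, then F is the inner fusion system of S. -/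
theorem result {Ω : Type*} [Group Ω] {S : Subgroup Ω} [Finite S] (p : ℕ) [Fact p.Prime] (hS : IsPGroup p S) (F : Cfsg.FusionSystem S) (hF : F.IsSaturated p) (hp : p ≠ 2 ∨ F.IsSectionFree p (Equiv.Perm (Fin 4))) (h : ∀ Q : Subgroup Ω, Q ≤ S → Q ≠ ⊥ → (Q.subgroupOf S).Characteristic → IsPGroup p (F.autGroup Q)) : ∀ P : Subgroup Ω, F.Hom P = (Cfsg.innerFusionSystem S).Hom P := by
  exact aux p _ rfl hS F hF (hp.imp_right (Lib.LocalP2.S4Model_of_sectionFree hS hF)) h

end Cfsg.Agent.S5195
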