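import Cfsg.Statements.S5196
import Cfsg.Agent.Lib.LocalP2.FusionFix
-- import your own Cfsg.Agent.* helpers here

set_option autoImplicit false
universe u
open Cfsg Cfsg.Agent Cfsg.FusionSystem Cfsg.Agent.Lib.Fusion Cfsg.Agent.Lib.LocalP2

namespace Cfsg.Agent.S5196

/-- Let p be an odd prime and W a positive characteristic p-functor: W assigns to every finite p-group Q (in a fixed universe) a subgroup W(Q), nontrivial when Q is, carried to W(R) by every isomorphism Q ≅ R; assume also Z(Q) ≤ W(Q) for every finite p-group Q. Suppose W satisfies the local condition: for every finite group G with Sylow p-subgroup P, O_p(G) ∩ Z(G) = O_p(G) ∩ Z(N_G(W(P))). Then W controls weak closure of elements in every saturated fusion system F over a finite p-group S: the centre of the normalizer fusion system of W(S) in F equals the centre of F. (For p = 2 no functor satisfies the local condition, so p is taken odd.) -/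
theorem result {p : ℕ} [Fact p.Prime] (hp : p ≠ 2) (W : ∀ (Q : Type u) [Group Q], Subgroup Q) (hW1 : ∀ (Q : Type u) [Group Q] [Finite Q], IsPGroup p Q → Nontrivial Q → W Q ≠ ⊥) (hW2 : ∀ (Q R : Type u) [Group Q] [Group R] [Finite Q], IsPGroup p Q → ∀ φ : Q ≃* R, (W Q).map φ.toMonoidHom = W R) (hWZ : ∀ (Q : Type u) [Group Q] [Finite Q], IsPGroup p Q → Subgroup.center Q ≤ W Q) (hC : ∀ (G : Type u) [Group G] [Finite G] (P : Sylow p G), Cfsg.pCore p G ⊓ Subgroup.center G = Cfsg.pCore p G ⊓ (Subgroup.center ↥(Subgroup.normalizer (((W ↥(P : Subgroup G)).map (P : Subgroup G).subtype : Subgroup G) : Set G))).map (Subgroup.normalizer (((W ↥(P : Subgroup G)).map (P : Subgroup G).subtype : Subgroup G) : Set G)).subtype) {Ω : Type u} [Group Ω] {S : Subgroup Ω} [Finite S] (hS : IsPGroup p S) (F : Cfsg.FusionSystem S) (hF : F.IsSaturated p) (N : Cfsg.FusionSystem (Cfsg.FusionSystem.normalizerIn S ((W ↥S).map S.subtype))) (hN : F.IsNormalizerSystem ((W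 ↥S).map S.subtype) N) : N.center = F.center   := by
  have hwS : (W ↥S).map S.subtype ≤ S := Subgroup.map_subtype_le _
  have := finite_of_le hwS
  have hsf := subFunctor_wOn hW1 hW2
  have hSN : S ≤ normalizerIn S ((W ↥S).map S.subtype) := fun g hg => ⟨hg, hsf.normalizer_le hS le_rfl ⟨hg, Subgroup.le_normalizer hg⟩⟩
  have hZw : ∀ z ∈ S, (∀ g ∈ S, g * z = z * g) → z ∈ ((W ↥S).map S.subtype) := fun z hz h =>
    ⟨⟨z, hz⟩, hWZ ↥S hS (Subgroup.mem_center_iff.2 fun g => Subtype.ext (h g g.2)), rfl⟩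
  have hcen : ∀ {T : Subgroup Ω} {M : Cfsg.FusionSystem T} {Q : Subgroup Ω}, M.IsCentral Q →
      ∀ x ∈ Q, ∀ g ∈ T, g * x = x * g := by
    intro T M Q hQ x hx g hg
    obtain ⟨ψ, -, hψT, hψQ⟩ := hQ.2 T _ (M.conj_mem le_rfl hg)
    have h1 := hψT ⟨x, hQ.1 hx⟩
    have h2 : ψ (Subgroup.inclusion le_sup_left (⟨x, hQ.1 hx⟩ : T)) = x := hψQ ⟨x, hx⟩
    rw [h2] at h1
    exact mul_inv_eq_iff_eq_mul.1 (h1.symm : g * x * g⁻¹ = x)
  apply le_antisymm
  · refine sSup_le fun Q hQ x hx => ?_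
    have hxS : x ∈ S := normalizerIn_le _ _ (hQ.1 hx)
    have hxc : ∀ g ∈ S, g * x = x * g := fun g hg => hcen hQ x hx g (hSN hg)
    have hloc : Loc F (fixSys F hxS hxc) ((W ↥S).map S.subtype) := by
      intro P φ hφ
      have hφN : φ ∈ N.Hom P := by rw [hN P]; exact hφ
      obtain ⟨ψ, hψ, hψP, hψQ⟩ := hQ.2 P φ hφN
      have hle : P ⊔ Subgroup.zpowers x ≤ P ⊔ Q := sup_le_sup_left (Subgroup.zpowers_le.2 hx) P
      rw [hN] at hψ
      exact ⟨hφ.1, src_le hφ.1, val_mem hφ.1, extendsOver_bot_iff.2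
        ⟨_, restrict_mem hle hψ.1, hψP, fun y => hψQ ⟨y, Subgroup.zpowers_le.2 hx y.2⟩⟩⟩
    have hle := le_of_loc p hsf (adm_fix W hW2 hWZ hC) _ _ S F _ rfl rfl hS hF (fixSys_adm F hxS hxc) hloc
    refine (le_sSup ?_ : Subgroup.zpowers x ≤ F.center) (Subgroup.mem_zpowers x)
    exact isCentral_iff.2 ⟨Subgroup.zpowers_le.2 hxS, fun P φ hφ => (hle P hφ).2.2.2⟩
  · refine sSup_le fun Q hQ => le_sSup ⟨hQ.1.trans hSN, fun P φ hφ => ?_⟩
    rw [hN] at hφ
    obtain ⟨hφF, hPN, hφv, ψ, hψ, hψP, hψw⟩ := hφ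
    have hQw : Q ≤ ((W ↥S).map S.subtype) := fun x hx => hZw x (hQ.1 hx) (hcen hQ x hx)
    obtain ⟨χ, hχ, hχψ, hχQ⟩ := hQ.2 _ ψ hψ
    have hle : P ⊔ Q ≤ P ⊔ ((W ↥S).map S.subtype) := sup_le_sup_left hQw P
    refine ⟨ψ.comp (Subgroup.inclusion hle), ?_, hψP, fun x => ?_⟩
    · rw [hN]
      refine mem_normalizerHom_of_self_map (sup_le hPN (hQ.1.trans hSN)) hwS (restrict_mem hle hψ)
        (fun x => hSN (val_mem (restrict_mem hle hψ) x)) (sup_le hle le_sup_right) hψ (fun x => rfl) fun v => ?_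
      exact hψw.le ⟨Subgroup.inclusion le_sup_right v, v.2, rfl⟩
    · exact (hχψ (Subgroup.inclusion hle (Subgroup.inclusion le_sup_right x))).symm.trans (hχQ x)


end Cfsg.Agent.S5196
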