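import Cfsg.Statements.S5201
import Cfsg.Agent.Lib.Fusion.EnvelopeChain
import Cfsg.Agent.Lib.Fusion.CentralizerOfNormal
import Cfsg.Agent.S5202

set_option autoImplicit false
open Cfsg Cfsg.FusionSystem Cfsg.Agent.Lib.Fusion
open scoped commutatorElement

namespace Cfsg.Agent.S5201

/-- A reduction to normal subsystems. Let F be a saturated fusion system over a finite p-group S and E a normal subsystem of F over T whose centralizer in S lies in T (every subgroup Y of C_S(T) with E contained in the centralizer fusion system of Y in F satisfies Y ≤ T), and suppose Aut_F(T)/Aut_E(T) is p-solvable. Then F and E have the same residual limit: if F∞ is the residual limit of F (reached by alternately passing to the p-residual and the p'-residual subsystem until nothing changes) and E∞ that of E, then F∞ and E∞ have the same maps. -/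
theorem result {Ω : Type*} [Group Ω] {S : Subgroup Ω} [Finite S] (p : ℕ) [Fact p.Prime] (hS : IsPGroup p S) (F : Cfsg.FusionSystem S) (hF : F.IsSaturated p) {T : Subgroup Ω} (E : Cfsg.FusionSystem T) (hE : E.IsNormalIn F p) (hCE : ∀ Y : Subgroup Ω, Y ≤ Cfsg.FusionSystem.centralizerIn S T → (∀ C : Cfsg.FusionSystem (Cfsg.FusionSystem.centralizerIn S Y), F.IsCentralizerSystem Y C → E.IsSubsystemOf C) → Y ≤ T) [hn : ((E.autGroup T).subgroupOf (F.autGroup T)).Normal] (hsolv : Cfsg.IsPSolvable p (↥(F.autGroup T) ⧸ (E.autGroup T).subgroupOf (F.autGroup T))) {U V : Subgroup Ω} (Finf : Cfsg.FusionSystem U) (hFinf : Finf.IsResidualLimitOf F p) (Einf : Cfsg.FusionSystem V) (hEinf : Einf.IsResidualLimitOf E p) : ∀ P : Subgroup Ω, Finf.Hom P = Einf.Hom P := by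
  obtain ⟨F₀, hF₀, hEF₀, hAut, hlim⟩ := Cfsg.Agent.S5202.result p hS F hF E hE hsolv
  obtain ⟨-, hlimeq⟩ := hlim Finf hFinf
  have hEI := hE.1.2.2
  have hT : F.StronglyClosed T := hEI.2.1
  have hTS := hT.1
  have hTn : S ≤ Subgroup.normalizer (T : Set Ω) := by
    have := finite_of_le hTS
    exact le_normalizer_of_stronglyClosed hT
  have hQ : (T ⊔ centralizerIn S T : Subgroup Ω) ≤ S := sup_le hTS (centralizerIn_le S T)
  have := finite_of_le hQ
  have := finite_of_le hTS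
  have hQp : IsPGroup p (T ⊔ centralizerIn S T : Subgroup Ω) := hS.to_le hQ
  have hF₀I := hF₀.1.2.2
  have hTc : F₀.StronglyClosed T :=
    ⟨le_sup_left, fun R hR φ hφ => hT.2 R hR φ (hF₀I.1 R hφ)⟩
  have hEI₀ : E.IsInvariantIn F₀ := isInvariantIn_of_strongInvariant hQp hF₀.1.1 hEF₀ hTc
    fun P Q₁ P' hPQ hQ φ hφ hφQ ψ hψ a ha χ hχ =>
      IsInvariantIn.strongInvariant hEI P Q₁ P' hPQ hQ φ hφ hφQ ψ (hF₀I.1 Q₁ hψ) a ha χ hχ
  -- the centralizer system of `T`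
  have hK : ∀ g ∈ centralizerIn S T, ∃ h : g ∈ Subgroup.normalizer (T : Set Ω),
      conjAut T h ∈ (⊥ : Subgroup (MulAut T)) := fun g hg => by
    refine ⟨centralizer_le_normalizer' T hg.2, Subgroup.mem_bot.2 (MulEquiv.ext fun x => Subtype.ext ?_)⟩
    rw [conjAut_apply, ← (mem_centralizerIn.1 hg).2 x x.2, mul_inv_cancel_right]
    rfl
  let C := extSystem F (centralizerIn S T) T ⊥ (centralizerIn_le S T) hTS hK
  have hC : F.IsCentralizerSystem T C := fun R => Set.ext fun φ => by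
    show (φ ∈ F.Hom R ∧ R ≤ centralizerIn S T ∧ (∀ x, φ x ∈ centralizerIn S T) ∧
      ExtendsOver F T ⊥ φ) ↔ _
    rw [extendsOver_bot_iff]
    rfl
  have hfoc : C.focalSubgroup ≤ T :=
    (CentralizerOfNormal.focal_centralized hS hE hC).trans <| hCE _ (sSup_le fun X hX => hX.1)
      fun C' hC' P φ hφ => by
        rw [hC' P]
        exact CentralizerOfNormal.sSup_centralized hS hE P hφ
  have hhyp : F₀.hyperfocalSubgroup p ≤ T := by
    refine hyperfocal_le fun P hP α hα _ x => ?_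
    obtain ⟨ψ, hψ, hψe⟩ := approxMod hQp hF₀.1.1 hTc ((mem_autGroup hP).1 hα)
    obtain ⟨δ, hδ, hδe⟩ := exists_aut_of_self_map (restrict_mem (le_sup_right : T ≤ P ⊔ T) hψ)
      fun t => map_mem_of_stronglyClosed hTc hψ _ t.2
    obtain ⟨β, hβ, hβT, hβC⟩ := hE.2 δ (hAut ▸ hδ)
    let θ : ↥(P ⊔ T) →* Ω := ((T ⊔ centralizerIn S T : Subgroup Ω).subtype.comp (β⁻¹ : MulAut (T ⊔ centralizerIn S T : Subgroup Ω)).toMonoidHom).comp
      (ψ.codRestrict (T ⊔ centralizerIn S T : Subgroup Ω) (val_mem hψ))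
    have hθ : θ ∈ F.Hom (P ⊔ T) :=
      F.comp_mem (hF₀I.1 _ hψ) ((mem_autGroup hQ).1 (inv_mem hβ)) (val_mem hψ)
    have hθT : ∀ t : T, θ (Subgroup.inclusion le_sup_right t) = t := fun t => by
      show (((β⁻¹ : MulAut (T ⊔ centralizerIn S T : Subgroup Ω)) ⟨ψ _, _⟩ : (T ⊔ centralizerIn S T : Subgroup Ω)) : Ω) = t
      rw [show (⟨ψ (Subgroup.inclusion le_sup_right t), val_mem hψ _⟩ : (T ⊔ centralizerIn S T : Subgroup Ω)) =
        β (Subgroup.inclusion le_sup_left t) from Subtype.ext ((hδe t).symm.trans (hβT t).symm),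
        MulAut.inv_apply_self]
      rfl
    set y := Subgroup.inclusion (le_sup_left : P ≤ P ⊔ T) x
    have hθmod : (ψ y)⁻¹ * θ y ∈ T := by
      set u : (T ⊔ centralizerIn S T : Subgroup Ω) := (β⁻¹ : MulAut (T ⊔ centralizerIn S T : Subgroup Ω)) ⟨ψ y, val_mem hψ y⟩
      obtain ⟨c, hc, t, ht, hct⟩ := mem_sup_of_normalizes ((centralizerIn_le S T).trans hTn)
        (show (u : Ω) ∈ centralizerIn S T ⊔ T by rw [sup_comm]; exact u.2)
      have h1 : (c : Ω)⁻¹ * (β ⟨c, Subgroup.mem_sup_right hc⟩ : Ω) ∈ T :=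
        (hβC ⟨c, Subgroup.mem_sup_right hc⟩ hc).1
      have hu : u = ⟨c, Subgroup.mem_sup_right hc⟩ * ⟨t, Subgroup.mem_sup_left ht⟩ :=
        Subtype.ext hct.symm
      have h2 : ψ y = (β u : Ω) := by simp [u]
      have h3 : (β ⟨t, Subgroup.mem_sup_left ht⟩ : Ω) ∈ T := hβT ⟨t, ht⟩ ▸ (δ _).2
      show (ψ y)⁻¹ * (u : Ω) ∈ T
      rw [h2, hu, map_mul, Subgroup.coe_mul, Subgroup.coe_mul, mul_inv_rev,
        show (β ⟨t, _⟩ : Ω)⁻¹ * (β ⟨c, _⟩ : Ω)⁻¹ * (c * t) =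
          (β ⟨t, Subgroup.mem_sup_left ht⟩ : Ω)⁻¹ *
            (((c : Ω)⁻¹ * (β ⟨c, Subgroup.mem_sup_right hc⟩ : Ω))⁻¹ * t) by group]
      exact T.mul_mem (T.inv_mem h3) (T.mul_mem (T.inv_mem h1) ht)
    obtain ⟨c, hc, t, ht, hct⟩ := mem_sup_of_normalizes ((centralizerIn_le S T).trans hTn)
      (show (x : Ω) ∈ centralizerIn S T ⊔ T by rw [sup_comm]; exact hP x.2)
    have hcX : c ∈ P ⊔ T := by
      have := (P ⊔ T).mul_mem (Subgroup.mem_sup_left x.2) ((P ⊔ T).inv_mem (Subgroup.mem_sup_right ht))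
      rwa [← hct, mul_inv_cancel_right] at this
    let R := (P ⊔ T) ⊓ centralizerIn S T
    have hRle : R ⊔ T ≤ P ⊔ T := sup_le inf_le_left le_sup_right
    let φ : R →* Ω := θ.comp (Subgroup.inclusion inf_le_left)
    have hφ : φ ∈ C.Hom R := by
      rw [hC R]
      refine ⟨restrict_mem _ hθ, inf_le_right, fun z => mem_centralizerIn.2 ⟨val_mem hθ _, fun w hw => ?_⟩,
        θ.comp (Subgroup.inclusion hRle), restrict_mem hRle hθ, fun z => rfl, fun z => hθT z⟩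
      show w * θ _ = θ _ * w
      rw [show w = θ (Subgroup.inclusion le_sup_right (⟨w, hw⟩ : T)) from (hθT ⟨w, hw⟩).symm,
        ← map_mul, ← map_mul]
      exact congrArg θ (Subtype.ext ((mem_centralizerIn.1 z.2.2).2 w hw))
    have hcT : c⁻¹ * θ ⟨c, hcX⟩ ∈ T :=
      hfoc (Subgroup.subset_closure ⟨R, φ, ⟨c, hcX, hc⟩, hφ, rfl⟩)
    have hy : θ y = θ ⟨c, hcX⟩ * t := by
      rw [show y = ⟨c, hcX⟩ * Subgroup.inclusion le_sup_right ⟨t, ht⟩ from Subtype.ext hct.symm,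
        map_mul, hθT]
    have h1 : (x : Ω)⁻¹ * θ y ∈ T := by
      rw [hy, ← hct, show (c * t)⁻¹ * (θ ⟨c, hcX⟩ * t) = t⁻¹ * (c⁻¹ * θ ⟨c, hcX⟩) * t by group]
      exact T.mul_mem (T.mul_mem (T.inv_mem ht) hcT) ht
    have h4 := T.mul_mem (T.mul_mem h1 (T.inv_mem hθmod)) (hψe x)
    simpa [y, mul_assoc] using h4
  have hEidx : E.HasPPowerIndexIn F₀ p := by
    refine ⟨hEF₀, hhyp, fun P hP => ?_⟩
    rintro _ ⟨γ, -, rfl⟩
    obtain ⟨δ, hδ, φ₀, hφ₀, he⟩ :=
      hEI₀.2.2.2 P hP _ ((mem_autGroup (hP.trans le_sup_left)).1 γ.2)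
    refine (mem_autGroup hP).2 (mem_of_comp hφ₀ ((mem_autGroup le_rfl).1 (hAut ▸ hδ))
      (val_mem hφ₀) fun z => ?_)
    exact he z (val_mem hφ₀ z)
  obtain ⟨W, L, hL⟩ := LimitPrime.exists_limit hQp hF₀.1.1
  intro P
  rw [← hlimeq L hL P]
  exact (ResidualLimit.limit_eq hQp hF₀.1.1 le_sup_left hE.1.1 hEidx hL hEinf P).symm

end Cfsg.Agent.S5201
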