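import Cfsg.Statements.S5212
import Cfsg.Agent.Lib.Fusion.MetaTwoFusion

set_option autoImplicit false
open Cfsg Cfsg.FusionSystem Cfsg.Agent.Lib.Fusion
open scoped commutatorElement

namespace Cfsg.Agent.S5212

/-- Let S be a finite metacyclic 2-group that is not homocyclic abelian (a direct product of cyclic groups of one common order), not dihedral, not semidihedral and not generalized quaternion. Then every saturated fusion system over S is the inner fusion system of S. -/
theorem result {Ω : Type*} [Group Ω] {S : Subgroup Ω} [Finite S] (hS : IsPGroup 2 S) (F : Cfsg.FusionSystem S) (hF : F.IsSaturated 2) (hm : Cfsg.IsMetacyclic ↥S) (hh : ¬ ∃ n k : ℕ, Nonempty (↥S ≃* Multiplicative (Fin k → ZMod (2 ^ n)))) (hd : ¬ ∃ m : ℕ, Nonempty (↥S ≃* DihedralGroup m)) (hq : ¬ ∃ m : ℕ, Nonempty (↥S ≃* QuaternionGroup m)) (hsd : ¬ Cfsg.IsQuasiDihedral ↥S) : ∀ P : Subgroup Ω, F.Hom P = (Cfsg.innerFusionSystem S).Hom P := by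
  intro P
  have : Fact (Nat.Prime 2) := ⟨Nat.prime_two⟩
  have hne : ¬ MetaTwo.Exceptional S := by
    rintro (h | h | h)
    · exact hd h
    · exact hq h
    · exact hsd h
  have hN : F.IsNormal S := isNormal_of_metacyclic hS hF stronglyClosed_self hm hne
  have hA : Inn S = F.autGroup S := by
    have := finite_mulAut (le_refl S)
    exact ((fullyAutomized_inn hS hF).eq_of_le (inn_le_autGroup le_rfl) le_rfl
      ((isPGroup_mulAut_of_metacyclic hS hm hne hh).to_subgroup _)).symm
  ext φ
  constructor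
  · intro hφ
    have hPS := src_le hφ
    obtain ⟨α, hα, hαe⟩ := extend_of_normal hN hPS hφ
    obtain ⟨g, hg⟩ := hA.ge hα
    refine ⟨hPS, g, g.2, fun x => ?_⟩
    rw [← hαe x, ← hg]
    rfl
  · rintro ⟨hP, g, hg, hge⟩
    exact conj_map_mem hP hg hge

end Cfsg.Agent.S5212
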