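import Cfsg.Statements.S5220
import Cfsg.Agent.Lib.LocalP2.FusionAgemoGen
-- import your own Cfsg.Agent.* helpers here

set_option autoImplicit false
open Cfsg Cfsg.FusionSystem Cfsg.Agent.Lib.LocalP2 Cfsg.Agent.Lib.Fusion

namespace Cfsg.Agent.S5220

/-- Let F be a saturated fusion system over a nontrivial finite p-group S, let J(S) be the subgroup generated by the abelian subgroups of S of largest order, and let V be the subgroup generated by the p-th powers of the elements of Z(S). Then F is generated by the centralizer fusion system of V and the normalizer fusion system of J(S): every fusion system over S containing the maps of both contains every map of F. -/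
theorem result {Ω : Type*} [Group Ω] {S : Subgroup Ω} [Finite S] (p : ℕ) [Fact p.Prime] (hS : IsPGroup p S) (F : Cfsg.FusionSystem S) (hF : F.IsSaturated p) (hS1 : S ≠ ⊥) (C : Cfsg.FusionSystem (Cfsg.FusionSystem.centralizerIn S (Cfsg.powerClosure p 1 (S ⊓ Subgroup.centralizer (S : Set Ω))))) (hC : F.IsCentralizerSystem (Cfsg.powerClosure p 1 (S ⊓ Subgroup.centralizer (S : Set Ω))) C) (N : Cfsg.FusionSystem (Cfsg.FusionSystem.normalizerIn S (Cfsg.thompsonSubgroupAOf S))) (hN : F.IsNormalizerSystem (Cfsg.thompsonSubgroupAOf S) N) (E : Cfsg.FusionSystem S) (hCE : C.IsSubsystemOf E) (hNE : N.IsSubsystemOf E) : F.IsSubsystemOf E := by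
  have key := le_of_agemo_center_of_thompson hS hF (E := E) (fun P φ hφ hZP hfix => hCE P ?_)
    fun P φ hφ => hNE P (by rw [hN P]; exact hφ)
  · exact key
  rw [hC P]
  have hsub : ∀ y ∈ S, y ∈ centralizerIn S (powerClosure p 1 (S ⊓ Subgroup.centralizer (S : Set Ω))) := by
    refine fun y hy => ⟨hy, ?_⟩
    have hle : powerClosure p 1 (S ⊓ Subgroup.centralizer (S : Set Ω)) ≤ Subgroup.centralizer {y} :=
      (Subgroup.closure_le _).2 fun _ ⟨x, hx, e⟩ => e ▸ Subgroup.pow_mem _
        (Subgroup.mem_centralizer_singleton_iff.2 (Subgroup.mem_centralizer_iff.1 hx.2 y hy).symm) _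
    exact Subgroup.mem_centralizer_iff.2 fun u hu => Subgroup.mem_centralizer_singleton_iff.1 (hle hu)
  refine ⟨hφ, fun x hx => hsub x (src_le hφ hx), fun x => hsub _ (val_mem hφ x),
    φ.comp (Subgroup.inclusion (sup_le le_rfl hZP)), restrict_mem _ hφ, fun x => rfl, fun x => ?_⟩
  exact hfix ⟨x, hZP x.2⟩ x.2

end Cfsg.Agent.S5220
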