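import Cfsg.Statements.S5270
import Cfsg.Agent.Lib.LocalP2.MaxClassUpper
import Cfsg.Agent.Lib.Fusion.Alperin
-- import your own Cfsg.Agent.* helpers here

set_option autoImplicit false
open Cfsg Cfsg.FusionSystem Cfsg.Agent.Lib.Fusion

namespace Cfsg.Agent.S5270

/-- Let p ≥ 5 be a prime, S a finite p-group of maximal class of order p^n with n ≥ 4, and F a saturated fusion system over S. If some map of F defined on the second centre Z₂(S) with image Z₂(S) does not carry Z(S) into itself, then the centralizer C_S(Z₂(S)) is an F-essential subgroup. -/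
theorem result {Ω : Type*} [Group Ω] {S : Subgroup Ω} [Finite S] (p : ℕ) [Fact p.Prime] (hS : IsPGroup p ↥S) (n : ℕ) (hn : Nat.card S = p ^ n) (h4 : 4 ≤ n) (hmax : Subgroup.lowerCentralSeries S (n - 2) ≠ ⊥) (F : Cfsg.FusionSystem S) (hF : F.IsSaturated p) (hp : 5 ≤ p) (φ : ↥((Subgroup.upperCentralSeries ↥S 2).map S.subtype) →* Ω) (hφ : φ ∈ F.Hom ((Subgroup.upperCentralSeries ↥S 2).map S.subtype)) (hφZ : φ.range = ((Subgroup.upperCentralSeries ↥S 2).map S.subtype)) (hmove : ∃ (z : Ω) (hz : z ∈ ((Subgroup.upperCentralSeries ↥S 2).map S.subtype)), z ∈ ((Subgroup.center ↥S).map S.subtype) ∧ φ ⟨z, hz⟩ ∉ ((Subgroup.center ↥S).map S.subtype)) : F.IsEssential p (S ⊓ Subgroup.centralizer (((Subgroup.upperCentralSeries ↥S 2).map S.subtype) : Set Ω)) := by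
  have hn3 : 3 ≤ n := by omega
  have hc : Group.nilpotencyClass ↥S = n - 1 :=
    Lib.LocalP2.class_eq_of_lcs_ne_bot hn hn3 fun e => hmax (by
      rw [← Subgroup.top_subtype_lowerCentralSeries, e, Subgroup.map_bot])
  revert φ
  set W : Subgroup Ω := (Subgroup.upperCentralSeries ↥S 2).map S.subtype with hW
  intro φ hφ hφZ hmove
  set Z : Subgroup Ω := (Subgroup.center ↥S).map S.subtype with hZ
  have hcW : Nat.card (Subgroup.upperCentralSeries ↥S 2) = p ^ 2 :=
    Lib.LocalP2.card_ucs_of_maxClass hn hn3 hc (by omega)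
  have hcZ : Nat.card (Subgroup.center ↥S) = p := by
    rw [← Subgroup.upperCentralSeries_one, Lib.LocalP2.card_ucs_of_maxClass hn hn3 hc (by omega),
      pow_one]
  have hWS : W ≤ S := Subgroup.map_subtype_le _
  have hcWΩ : Nat.card W = p ^ 2 := by
    rw [hW, Subgroup.card_map_of_injective S.subtype_injective, hcW]
  obtain ⟨w, hw2, hwZ⟩ : ∃ w ∈ Subgroup.upperCentralSeries ↥S 2, w ∉ Subgroup.center ↥S := by
    refine SetLike.not_le_iff_exists.1 fun hle => ?_
    have h1 := Subgroup.card_le_of_le hle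
    rw [hcW, hcZ, sq] at h1
    nlinarith
  have hcomm : ∀ a ∈ W, ∀ b ∈ W, a * b = b * a := fun a ha b hb =>
    congrArg Subtype.val
      (IsPGroup.commutative_of_card_eq_prime_sq (p := p) (G := W) hcWΩ ⟨a, ha⟩ ⟨b, hb⟩)
  set C : Subgroup Ω := S ⊓ Subgroup.centralizer (W : Set Ω) with hC
  have hCS : C ≤ S := inf_le_left
  have hWC : W ≤ C := le_inf hWS fun a ha b hb => hcomm b hb a ha
  have hmemC : ∀ (g : ↥S), (g : Ω) ∈ C ↔ g * w = w * g := by
    intro g
    constructor
    · intro hg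
      exact Subtype.ext (hg.2 (w : Ω) ⟨w, hw2, rfl⟩).symm
    · intro hg
      refine ⟨g.2, ?_⟩
      rintro _ ⟨v, hv, rfl⟩
      have hle : Subgroup.upperCentralSeries ↥S 2 ≤ Subgroup.zpowers w ⊔ Subgroup.center ↥S := by
        have hsub : Subgroup.zpowers w ⊔ Subgroup.center ↥S ≤ Subgroup.upperCentralSeries ↥S 2 :=
          sup_le (Subgroup.zpowers_le.2 hw2) (by
            rw [← Subgroup.upperCentralSeries_one]
            exact Subgroup.upperCentralSeries_mono _ (by norm_num))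
        refine (Subgroup.eq_of_le_of_card_ge hsub ?_).ge
        have hlt : Subgroup.center ↥S < Subgroup.zpowers w ⊔ Subgroup.center ↥S :=
          lt_of_le_of_ne le_sup_right fun e => hwZ (e ▸ Subgroup.mem_sup_left
            (Subgroup.mem_zpowers w))
        have h1 := Lib.Thompson.card_mul_p_le hS hlt
        rw [hcW, sq]
        rwa [hcZ] at h1
      have hcen : Subgroup.zpowers w ⊔ Subgroup.center ↥S ≤
          Subgroup.centralizer ({g} : Set ↥S) :=
        sup_le (Subgroup.zpowers_le.2 (Subgroup.mem_centralizer_singleton_iff.2 hg.symm))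
          (Subgroup.center_le_centralizer _)
      exact congrArg Subtype.val (Subgroup.mem_centralizer_singleton_iff.1 (hcen (hle hv)))
  have hCne : ¬ S ≤ C := fun h => hwZ (Subgroup.mem_center_iff.2 fun g => (hmemC g).1 (h g.2))
  have hidx : (C.subgroupOf S).index ∣ p := by
    have hmem : ∀ g : ↥S, g * w * g⁻¹ * w⁻¹ ∈ Subgroup.center ↥S := fun g => by
      have h1 := Subgroup.mem_upperCentralSeries_succ_iff.1 hw2 g
      rw [Subgroup.upperCentralSeries_one] at h1
      have h2 := (Subgroup.center ↥S).inv_mem h1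
      rwa [commutatorElement_inv, commutatorElement_def] at h2
    let χ : ↥S →* Subgroup.center ↥S :=
      MonoidHom.mk' (fun g => ⟨g * w * g⁻¹ * w⁻¹, hmem g⟩) fun a b => by
        refine Subtype.ext ?_
        have h1 := Subgroup.mem_center_iff.1 (hmem b) a
        calc a * b * w * (a * b)⁻¹ * w⁻¹
            = (a * (b * w * b⁻¹ * w⁻¹)) * w * a⁻¹ * w⁻¹ := by group
          _ = (b * w * b⁻¹ * w⁻¹) * (a * w * a⁻¹ * w⁻¹) := by rw [h1]; group
          _ = (a * w * a⁻¹ * w⁻¹) * (b * w * b⁻¹ * w⁻¹) :=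
            (Subgroup.mem_center_iff.1 (hmem b) _).symm
    have hker : χ.ker = C.subgroupOf S := by
      ext g
      rw [MonoidHom.mem_ker, Subgroup.mem_subgroupOf, hmemC, ← Subtype.coe_inj]
      change g * w * g⁻¹ * w⁻¹ = 1 ↔ _
      simp only [mul_inv_eq_iff_eq_mul, one_mul]
    rw [← hker, Subgroup.index_ker]
    exact hcZ ▸ Subgroup.card_subgroup_dvd_card _
  have hnormW : ∀ g ∈ S, ∀ a ∈ W, g * a * g⁻¹ ∈ W := by
    rintro g hg _ ⟨v, hv, rfl⟩
    exact ⟨(⟨g, hg⟩ : ↥S) * v * (⟨g, hg⟩ : ↥S)⁻¹,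
      Subgroup.Normal.conj_mem inferInstance v hv _, rfl⟩
  have := finite_of_le hWS
  have := finite_of_le hCS
  have hNW : S ≤ Subgroup.normalizer (W : Set Ω) := fun g hg =>
    mem_normalizer_of_conj_mem (hnormW g hg)
  have hNC : S ≤ Subgroup.normalizer (C : Set Ω) := fun g hg => by
    refine mem_normalizer_of_conj_mem fun x hx => ⟨S.mul_mem (S.mul_mem hg hx.1) (S.inv_mem hg), ?_⟩
    intro a ha
    have hb : g⁻¹ * a * g ∈ W := by simpa using hnormW g⁻¹ (S.inv_mem hg) a ha
    calc a * (g * x * g⁻¹) = g * ((g⁻¹ * a * g) * x) * g⁻¹ := by group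
      _ = g * (x * (g⁻¹ * a * g)) * g⁻¹ := by rw [hx.2 _ hb]
      _ = g * x * g⁻¹ * a := by group
  have hfn : ∀ P : Subgroup Ω, P ≤ S → S ≤ Subgroup.normalizer (P : Set Ω) →
      F.IsFullyNormalized P := fun P hP hN => by
    refine ⟨hP, fun Q _ => ?_⟩
    rw [show normalizerIn S P = S from inf_eq_left.2 hN]
    exact Subgroup.card_le_of_le (normalizerIn_le S Q)
  have hfnC := hfn C hCS hNC
  have hCC : centralizerIn S C ≤ C := fun g hg => ⟨hg.1, fun a ha => hg.2 a (hWC ha)⟩
  have hcent : F.IsCentric C := by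
    by_contra h
    exact centralizerIn_not_le (fullyNormalized_fullyCentralized hS hF hfnC) h hCC
  obtain ⟨β, hβ, hβW⟩ : ∃ β ∈ F.autGroup C,
      ∀ (a : Ω) (ha : a ∈ W), ((β ⟨a, hWC ha⟩ : C) : Ω) = φ ⟨a, ha⟩ := by
    obtain ⟨ψ, hψ, hψe⟩ := (fullyNormalized_props hS hF (hfn W hWS hNW)).2.2 W φ hφ hφZ
    have hCe : C ≤ extender S W φ := fun g hg => centralizerIn_le_extender S W φ hg
    set η : ↥C →* Ω := ψ.comp (Subgroup.inclusion hCe) with hη
    have hηv : ∀ x : C, η x ∈ C := by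
      intro x
      refine ⟨val_mem hψ _, ?_⟩
      intro b hb
      obtain ⟨⟨a, ha⟩, rfl⟩ : b ∈ φ.range := hφZ.symm ▸ hb
      have hae : a ∈ extender S W φ := hCe (hWC ha)
      rw [← hψe a ha hae]
      change ψ ⟨a, hae⟩ * ψ (Subgroup.inclusion hCe x) = ψ (Subgroup.inclusion hCe x) * ψ ⟨a, hae⟩
      rw [← map_mul, ← map_mul]
      congr 1
      exact Subtype.ext (x.2.2 a ha)
    have hinj : Function.Injective (η.codRestrict C hηv) := fun a b hab =>
      Subgroup.inclusion_injective hCe (F.injective_of_mem hψ (congrArg Subtype.val hab))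
    let β : MulAut C := MulEquiv.ofBijective (η.codRestrict C hηv)
      (Finite.injective_iff_bijective.1 hinj)
    refine ⟨β, (mem_autGroup hCS).2 (mem_of_agree hCe hψ fun x => rfl), fun a ha => ?_⟩
    exact hψe a ha (hCe (hWC ha))
  have hN := inn_subgroupOf_normal C (F.autGroup C)
  have hlt : C < S := lt_of_le_of_ne hCS fun e => hCne e.ge
  obtain ⟨hT, hT1, -⟩ := centric_setup hS hF hlt hfnC hcent hN
  have := finite_mulAut hCS
  set π := QuotientGroup.mk' ((Inn C).subgroupOf (F.autGroup C)) with hπ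
  set T := ((autInducedBy S C).subgroupOf (F.autGroup C)).map π with hTdef
  have hTcard : Nat.card T ∣ p := by
    let Φ : ↥S →* F.autGroup C ⧸ (Inn C).subgroupOf (F.autGroup C) :=
      π.comp ((actHom hNC).codRestrict (F.autGroup C) fun g =>
        autInducedBy_le_autGroup hCS (mem_autInducedBy.2 ⟨g, g.2, fun x => actHom_apply hNC g x⟩))
    have hr : T ≤ Φ.range := by
      rintro _ ⟨a, ha, rfl⟩
      obtain ⟨g, hg, hga⟩ := exists_of_mem_autInducedBy (Subgroup.mem_subgroupOf.1 ha)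
      refine ⟨⟨g, hg.1⟩, congrArg π (Subtype.ext (MulEquiv.ext fun x => Subtype.ext ?_))⟩
      exact (actHom_apply hNC ⟨g, hg.1⟩ x).trans (hga x).symm
    have hk : C.subgroupOf S ≤ Φ.ker := by
      intro g hg
      rw [MonoidHom.mem_ker]
      change π _ = 1
      rw [hπ, QuotientGroup.mk'_apply, QuotientGroup.eq_one_iff, Subgroup.mem_subgroupOf]
      refine ⟨⟨g, hg⟩, MulEquiv.ext fun x => Subtype.ext ?_⟩
      exact (actHom_apply hNC g x).symm
    refine dvd_trans (Subgroup.card_dvd_of_le hr) (dvd_trans ?_ hidx)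
    rw [← Subgroup.index_ker]
    exact Subgroup.index_dvd_of_le hk
  have hTnn : Subgroup.normalizer (T : Set (F.autGroup C ⧸ (Inn C).subgroupOf (F.autGroup C))) ≠
      ⊤ := by
    intro htop
    have hTn : T.Normal := Subgroup.normalizer_eq_top_iff.1 htop
    have hRn : ((autInducedBy S C).subgroupOf (F.autGroup C)).Normal := by
      have h1 : ((autInducedBy S C).subgroupOf (F.autGroup C)) = T.comap π := by
        rw [hTdef, Subgroup.comap_map_eq_self]
        rw [hπ, QuotientGroup.ker_mk']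
        exact fun x hx => inn_le_autInducedBy hCS hx
      rw [h1]
      exact hTn.comap π
    obtain ⟨z, hz, hzZ, hzφ⟩ := hmove
    apply hzφ
    have hzC : z ∈ C := hWC hz
    rw [← hβW z hz]
    set y : Ω := ((β ⟨z, hzC⟩ : C) : Ω) with hy
    obtain ⟨z', hz', rfl⟩ := hzZ
    refine ⟨⟨y, hCS (β _).2⟩, Subgroup.mem_center_iff.2 fun g => Subtype.ext ?_, rfl⟩
    have hgN : (g : Ω) ∈ Subgroup.normalizer (C : Set Ω) := hNC g.2
    have hmem := hRn.conj_mem ⟨_, autInducedBy_le_autGroup hCS (conjAut_mem_autInducedBy g.2 hgN)⟩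
      (conjAut_mem_autInducedBy g.2 hgN) ⟨β, hβ⟩⁻¹
    obtain ⟨h, hhS, hh⟩ := exists_of_mem_autInducedBy (Subgroup.mem_subgroupOf.1 hmem)
    have h1 := hh ⟨_, hzC⟩
    have h2 : h * (z' : Ω) * h⁻¹ = z' := by
      have h3 := congrArg Subtype.val (Subgroup.mem_center_iff.1 hz' ⟨h, hhS.1⟩)
      simp only [Subgroup.coe_mul] at h3
      rw [h3, mul_inv_cancel_right]
    change ((β⁻¹ (conjAut C hgN (β⁻¹⁻¹ ⟨_, hzC⟩)) : C) : Ω) = _ at h1
    simp only [inv_inv, Subgroup.coe_subtype] at h1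
    rw [h2] at h1
    have h4 : β⁻¹ (conjAut C hgN (β ⟨_, hzC⟩)) = ⟨(z' : Ω), hzC⟩ := Subtype.ext h1
    have h5 := congrArg (fun u => ((β u : C) : Ω)) h4
    simp only [MulAut.apply_inv_self, conjAut_apply] at h5
    rw [← hy, mul_inv_eq_iff_eq_mul] at h5
    exact h5
  have hcontrol : ControlsNormalizers T
      (Subgroup.normalizer (T : Set (F.autGroup C ⧸ (Inn C).subgroupOf (F.autGroup C)))) := by
    intro Q hQT hQ
    have hQT' : Q = T := by
      refine Subgroup.eq_of_le_of_card_ge hQT ?_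
      have h1 : Nat.card Q = p := ((Nat.dvd_prime (Fact.out : p.Prime)).1
        ((Subgroup.card_dvd_of_le hQT).trans hTcard)).resolve_left
          fun e => hQ (Subgroup.card_eq_one.1 e)
      rw [h1]
      exact Nat.le_of_dvd (Fact.out : p.Prime).pos hTcard
    rw [hQT']
  have hp' : p ∣ Nat.card (F.autGroup C ⧸ (Inn C).subgroupOf (F.autGroup C)) := by
    have h1 : Nat.card T = p := ((Nat.dvd_prime (Fact.out : p.Prime)).1 hTcard).resolve_left
      fun e => hT1 (Subgroup.card_eq_one.1 e)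
    exact h1 ▸ T.card_subgroup_dvd_card
  exact ⟨hcent, hfnC, hN, _, isStronglyPEmbedded_of_controls hT hp' hTnn hcontrol⟩

end Cfsg.Agent.S5270
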