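import Cfsg.Statements.S5271
import Cfsg.Agent.Lib.LocalP2.WeakEmbedMain
-- import your own Cfsg.Agent.* helpers here

set_option autoImplicit false
open Cfsg Cfsg.FusionSystem Cfsg.Agent.Lib.Fusion Cfsg.Agent.Lib.LocalP2

namespace Cfsg.Agent.S5271

/-- A nilpotency criterion for fusion systems. Let F be a saturated fusion system over a finite p-group S of order at least p². Call a subgroup Q of S weakly embedded in F when there is a subgroup P of S strongly closed in F such that both the product QP and the intersection Q ∩ P are strongly closed in F. Then F is the inner fusion system of S if and only if there is a subgroup D of S with 1 < D < S such that every subgroup of S of the same order as D is weakly embedded in F and, for every fully normalized subgroup H of S of that order, the normalizer fusion system of H in F is the inner fusion system of N_S(H). -/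
theorem result {Ω : Type*} [Group Ω] {S : Subgroup Ω} [Finite S] (p : ℕ) [Fact p.Prime] (hS : IsPGroup p ↥S) (F : Cfsg.FusionSystem S) (hF : F.IsSaturated p) (hcard : p ^ 2 ≤ Nat.card S) : (∀ P : Subgroup Ω, F.Hom P = (Cfsg.innerFusionSystem S).Hom P) ↔ ∃ D : Subgroup Ω, ⊥ < D ∧ D < S ∧ (∀ Q : Subgroup Ω, Q ≤ S → Nat.card ↥Q = Nat.card ↥D → ∃ P : Subgroup Ω, F.StronglyClosed P ∧ F.StronglyClosed (Q ⊔ P) ∧ F.StronglyClosed (Q ⊓ P)) ∧ (∀ H : Subgroup Ω, F.IsFullyNormalized H → Nat.card ↥H = Nat.card ↥D → ∀ N : Cfsg.FusionSystem (Cfsg.FusionSystem.normalizerIn S H), F.IsNormalizerSystem H N → ∀ P : Subgroup Ω, N.Hom P = (Cfsg.innerFusionSystem (Cfsg.FusionSystem.normalizerIn S H)).Hom P) := by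
  have hp : p.Prime := Fact.out
  obtain ⟨n, hn⟩ := IsPGroup.iff_card.1 hS
  have hn2 : 2 ≤ n := (Nat.pow_le_pow_iff_right hp.one_lt).1 (hn ▸ hcard)
  constructor
  · intro hin
    have hconjS : ∀ {P : Subgroup Ω} {φ : P →* Ω}, φ ∈ F.Hom P → ∃ g ∈ S, ∀ x : P, φ x = g * x * g⁻¹ :=
      fun {P φ} hφ => (hin P ▸ hφ : φ ∈ (innerFusionSystem S).Hom P).2
    -- a subgroup of index `p` is normal in `S`
    have hmax : ∀ H : Subgroup Ω, H ≤ S → Nat.card H = p ^ (n - 1) → S ≤ Subgroup.normalizer (H : Set Ω) := by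
      intro H hH hc
      have hne : H ≠ S := fun h => by
        subst h
        have := Nat.pow_right_injective hp.two_le (hc.symm.trans hn)
        omega
      have hlt : H < normalizerIn S H := lt_normalizer_inf hS (lt_of_le_of_ne hH hne)
      have := finite_of_le (normalizerIn_le S H)
      obtain ⟨i, hi⟩ := IsPGroup.iff_card.1 (hS.to_le (normalizerIn_le S H))
      have h1 : Nat.card H < Nat.card (normalizerIn S H) := by
        by_contra hle
        exact hlt.ne (Agent.Lib.Fusion.eq_of_le_of_natCard_le hlt.le (not_lt.1 hle))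
      rw [hc, hi] at h1
      have h2 := (Nat.pow_lt_pow_iff_right hp.one_lt).1 h1
      have heq : normalizerIn S H = S := Agent.Lib.Fusion.eq_of_le_of_natCard_le (normalizerIn_le S H)
        (by rw [hn, hi]; exact Nat.pow_le_pow_right hp.pos (by omega))
      exact fun g hg => (heq.ge hg).2
    obtain ⟨Dw, hDc⟩ := Sylow.exists_subgroup_card_pow_prime (G := S) p
      (hn ▸ Nat.pow_dvd_pow p (Nat.sub_le n 1))
    have hDc' : Nat.card (Dw.map S.subtype) = p ^ (n - 1) :=
      (Subgroup.card_map_of_injective S.subtype_injective).trans hDc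
    refine ⟨Dw.map S.subtype, bot_lt_iff_ne_bot.2 fun h => ?_,
      lt_of_le_of_ne (Subgroup.map_subtype_le _) fun h => ?_, fun Q hQ hQc => ?_, fun H hH hHc N hN P => ?_⟩
    · rw [h, Subgroup.card_bot] at hDc'
      exact (Nat.one_lt_pow (by omega) hp.one_lt).ne hDc'
    · rw [h, hn] at hDc'
      have := Nat.pow_right_injective hp.two_le hDc'
      omega
    · have hsc : F.StronglyClosed Q := ⟨hQ, fun R hR φ hφ x => by
        obtain ⟨g, hg, hgφ⟩ := hconjS hφ
        rw [hgφ]
        exact conj_mem_of_mem_normalizer (hmax Q hQ (hQc.trans hDc') hg) (hR x.2)⟩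
      exact ⟨Q, hsc, by rwa [sup_idem], by rwa [inf_idem]⟩
    · rw [hN P]
      refine Set.Subset.antisymm ?_ ?_
      · rintro φ ⟨hφ, hP, -, -⟩
        obtain ⟨g, hg, hgφ⟩ := hconjS hφ
        exact ⟨hP, g, ⟨hg, hmax H hH.1 (hHc.trans hDc') hg⟩, hgφ⟩
      · intro φ hφ
        rw [← hN P]
        exact conj_map_mem hφ.1 hφ.2.choose_spec.1 hφ.2.choose_spec.2
  · rintro ⟨D, hD1, hDS, hWE, hN⟩
    have := finite_of_le hDS.le
    obtain ⟨k, hk⟩ := IsPGroup.iff_card.1 (hS.to_le hDS.le)
    have hkn : k < n := by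
      refine (Nat.pow_lt_pow_iff_right hp.one_lt).1 ?_
      rw [← hk, ← hn]
      by_contra hle
      exact hDS.ne (Agent.Lib.Fusion.eq_of_le_of_natCard_le hDS.le (not_lt.1 hle))
    refine WeakEmbed.inner_of_weaklyEmb hS hF (k := k) (hn ▸ Nat.pow_le_pow_right hp.pos hkn)
      (fun Q hQ hQc => hWE Q hQ (hQc.trans hk.symm)) fun H hH hHc => ?_
    have key : ∀ P : Subgroup Ω, ∀ φ ∈ F.normalizerHom H P,
        ∃ g ∈ normalizerIn S H, ∀ x : P, φ x = g * x * g⁻¹ := fun P φ hφ => by
      have h2 : φ ∈ (normSys F H hH.1).Hom P := by rwa [normSys_isNormalizerSystem hH.1 P]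
      rw [hN H hH (hHc.trans hk.symm) _ (normSys_isNormalizerSystem hH.1) P] at h2
      exact h2.2
    refine ⟨fun P φ hφ => ?_, key⟩
    obtain ⟨g, hg, hgφ⟩ := key P φ hφ
    exact ⟨src_le hφ.1, g, hg.1, hgφ⟩

end Cfsg.Agent.S5271
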