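import Cfsg.Statements.S5294
import Cfsg.Agent.Lib.Fusion.NormSplit
import Cfsg.Agent.Lib.LocalP2.FusionCenterApp

set_option autoImplicit false
universe u
open Cfsg Cfsg.FusionSystem Cfsg.Agent.Lib.Fusion
open scoped commutatorElement

namespace Cfsg.Agent.S5294

/-- Let F be a saturated fusion system over a finite p-group S whose centre Z(S) lies in the largest subgroup O_p(F) normal in F. Then the centre Z(F) of F is a direct factor of Z(S): there is a subgroup K of Z(S) with Z(F) ∩ K = 1 and Z(F)K = Z(S). -/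
theorem result {Ω : Type u} [Group Ω] {S : Subgroup Ω} [Finite S] (p : ℕ) [Fact p.Prime] (hS : IsPGroup p S)
    (F : Cfsg.FusionSystem S) (hF : F.IsSaturated p) (hZ : (S ⊓ Subgroup.centralizer (S : Set Ω)) ≤ F.core) :
    ∃ K : Subgroup Ω, K ≤ (S ⊓ Subgroup.centralizer (S : Set Ω)) ∧ F.center ⊓ K = ⊥ ∧ F.center ⊔ K = (S ⊓ Subgroup.centralizer (S : Set Ω)) := by
  classical
  set Z := S ⊓ Subgroup.centralizer (S : Set Ω) with hZdef
  have := finite_of_le (inf_le_left : Z ≤ S)
  have hQn := isNormal_core (F := F)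
  have hQS : F.core ≤ S := hQn.1
  have := finite_of_le hQS
  have := finite_mulAut hQS
  have hQfn : F.IsFullyNormalized F.core := by
    refine ⟨hQS, fun R hR => ?_⟩
    obtain ⟨φ, hφ, hr⟩ := hR
    have : R = F.core := by
      rw [← hr]
      refine le_antisymm ?_ fun y hy => ?_
      · rintro _ ⟨x, rfl⟩
        exact map_mem_of_normal hQn hφ x x.2
      · obtain ⟨α, -, hα⟩ := extend_of_normal hQn le_rfl hφ
        obtain ⟨x, hx⟩ := α.surjective ⟨y, hy⟩
        exact ⟨x, (hα x).symm.trans (congrArg Subtype.val hx)⟩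
    rw [this]
  let A := F.autGroup F.core
  obtain ⟨-, T, hT⟩ := (fullyNormalized_props hS hF hQfn).1
  let centerRes : MulAut F.core →* MulAut (Subgroup.center F.core) :=
    { toFun := fun α =>
        { toFun := fun v => ⟨α v, Subgroup.mem_center_iff.2 fun g => by
            obtain ⟨h, rfl⟩ := α.surjective g
            rw [← map_mul, ← map_mul, Subgroup.mem_center_iff.1 v.2 h]⟩
          invFun := fun v => ⟨α.symm v, Subgroup.mem_center_iff.2 fun g => by
            obtain ⟨h, rfl⟩ := α.symm.surjective g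
            rw [← map_mul, ← map_mul, Subgroup.mem_center_iff.1 v.2 h]⟩
          left_inv := fun v => Subtype.ext (α.symm_apply_apply _)
          right_inv := fun v => Subtype.ext (α.apply_symm_apply _)
          map_mul' := fun v w => Subtype.ext (map_mul α _ _) }
      map_one' := rfl
      map_mul' := fun _ _ => rfl }
  let φ : A →* MulAut (Subgroup.center F.core) := centerRes.comp A.subtype
  let ι : Z →* Subgroup.center F.core := MonoidHom.mk'
    (fun z => ⟨⟨z, hZ z.2⟩, Subgroup.mem_center_iff.2 fun g =>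
      Subtype.ext (Subgroup.mem_centralizer_iff.1 z.2.2 g (hQS g.2))⟩) fun _ _ => rfl
  let _ : CommGroup Z :=
    { (inferInstance : Group Z) with
      mul_comm := fun a b => Subtype.ext (Subgroup.mem_centralizer_iff.1 b.2.2 a a.2.1) }
  let _ : CommGroup (Subgroup.center F.core) :=
    { (inferInstance : Group (Subgroup.center F.core)) with
      mul_comm := fun a b => Subtype.ext ((Subgroup.mem_center_iff.1 b.2) a.1) }
  have hTfix : ∀ t ∈ (T : Subgroup A), ∀ z, φ t (ι z) = ι z := by
    intro t ht z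
    rw [hT, Subgroup.mem_subgroupOf] at ht
    obtain ⟨g, hg, hgt⟩ := mem_autInducedBy.1 ht
    refine Subtype.ext (Subtype.ext ((hgt _).trans ?_))
    show g * (z : Ω) * g⁻¹ = z
    rw [Subgroup.mem_centralizer_iff.1 z.2.2 g hg, mul_inv_cancel_right]
  obtain ⟨N, hNfix, hNpow, -, -⟩ := exists_norm φ (T : Subgroup A) ι hTfix
  have hmp : ¬ p ∣ (T : Subgroup A).index := T.not_dvd_index
  have hCZ : F.center ≤ Z := fun z hz => ((Lib.LocalP2.mem_center_iff_fixed hS hF).1 hz).1
  have hNc : ∀ z : Z, (z : Ω) ∈ F.center → N z = ι z ^ (T : Subgroup A).index := fun z hz =>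
    hNpow z fun a => Subtype.ext (Subtype.ext
      (((Lib.LocalP2.mem_center_iff_fixed hS hF).1 hz).2 _ _ ((mem_autGroup hQS).1 a.2) (hZ z.2)))
  have hfixC : ∀ v : Subgroup.center F.core, (∀ a, φ a v = v) → ((v : F.core) : Ω) ∈ F.center := by
    intro v hv
    have hval : ∀ a : A, ((((a : MulAut F.core) v : F.core)) : Ω) = (v : F.core) := fun a =>
      congrArg (fun w : Subgroup.center F.core => ((w : F.core) : Ω)) (hv a)
    refine (Lib.LocalP2.mem_center_iff_fixed hS hF).2 ⟨⟨hQS (v : F.core).2, ?_⟩, ?_⟩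
    · refine Subgroup.mem_centralizer_iff.2 fun g hg => ?_
      have hgN : g ∈ Subgroup.normalizer (F.core : Set Ω) :=
        le_normalizer_of_stronglyClosed (stronglyClosed_of_isNormal hQn) hg
      have h1 := hval ⟨conjAut F.core hgN,
        autInducedBy_le_autGroup hQS (conjAut_mem_autInducedBy hg hgN)⟩
      rw [conjAut_apply] at h1
      nth_rw 2 [← h1]
      group
    · intro P ψ hψ hvP
      obtain ⟨χ, -, hχP, κ, hκ, hχQ⟩ := isNormal_aut hQn hψ
      rw [← hχP ⟨_, hvP⟩]
      exact (hχQ (v : F.core)).trans (hval ⟨κ, hκ⟩)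
  have hZp : IsPGroup p Z := hS.to_le inf_le_left
  refine ⟨N.ker.map Z.subtype, Subgroup.map_subtype_le _, eq_bot_iff.2 ?_,
    le_antisymm (sup_le hCZ (Subgroup.map_subtype_le _)) fun z hz => ?_⟩
  · rintro _ ⟨hx, z, hz', rfl⟩
    rw [SetLike.mem_coe, MonoidHom.mem_ker, hNc z hx] at hz'
    have h1 : z ^ (T : Subgroup A).index = 1 :=
      Subtype.ext (by simpa [ι] using congrArg (fun v : Subgroup.center F.core => ((v : F.core) : Ω)) hz')
    obtain ⟨k, hk⟩ := hZp z
    have h2 : z = 1 := eq_one_of_pGroup_coprime ⟨k, hk⟩ h1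
      ((Fact.out : p.Prime).coprime_iff_not_dvd.2 hmp).symm
    rw [Subgroup.mem_bot, h2]
    rfl
  · have hw : (((N ⟨z, hz⟩ : Subgroup.center F.core) : F.core) : Ω) ∈ F.center :=
      hfixC _ fun a => hNfix a _
    obtain ⟨c, hc, hcm⟩ := exists_pow_root hZp hmp (F.center.subgroupOf Z)
      (w := ⟨_, hCZ hw⟩) hw
    refine (show (c : Ω) * ((c⁻¹ * ⟨z, hz⟩ : Z) : Ω) = z by simp) ▸
      Subgroup.mul_mem_sup hc ⟨c⁻¹ * ⟨z, hz⟩, ?_, rfl⟩
    rw [SetLike.mem_coe, MonoidHom.mem_ker, map_mul, map_inv, hNc c hc, ← map_pow, hcm,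
      inv_mul_eq_one]
    rfl

end Cfsg.Agent.S5294
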