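import Cfsg.Statements.S5299
import Cfsg.Agent.Lib.Fusion.LocalModel
import Cfsg.Agent.Lib.Fusion.Involves

set_option autoImplicit false
universe u
open Cfsg Cfsg.FusionSystem Cfsg.Agent.Lib.Fusion
open scoped commutatorElement

namespace Cfsg.Agent.S5299

/-- Let F be a saturated fusion system over a finite p-group S, H a finite group and Q a p-subgroup of H. If Q is not involved in S (no section of S is isomorphic to Q), then F is H-free: H is involved in no model of the normalizer system of a fully normalized centric subgroup. -/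
theorem result {Ω : Type u} [Group Ω] {S : Subgroup Ω} [Finite S] (p : ℕ) [Fact p.Prime] (hS : IsPGroup p S)
    (F : Cfsg.FusionSystem S) (hF : F.IsSaturated p) (H : Type*) [Group H] [Finite H] (Q : Subgroup H) (hQ : IsPGroup p Q)
    (hfree : ¬ Cfsg.Involves (↥Q) (↥S)) : F.IsSectionFree p H := by
  intro Q₀ _ _ N hN L _ ι hL hinv
  obtain ⟨hfin, hr, ⟨T, hT⟩, -⟩ := hL
  have h1 := involves_sylow hQ T (involves_subgroup (U := Q) hinv)
  let e : (T : Subgroup L) ≃* ↥(Cfsg.FusionSystem.normalizerIn S Q₀) :=
    (MulEquiv.subgroupCongr hT).trans (MonoidHom.ofInjective hr.1).symm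
  exact hfree (involves_mono ((Subgroup.inclusion (normalizerIn_le S Q₀)).comp e.toMonoidHom)
    ((Subgroup.inclusion_injective (normalizerIn_le S Q₀)).comp e.injective) h1)

end Cfsg.Agent.S5299
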