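import Cfsg.Statements.S5330
import Cfsg.Agent.Lib.Fusion.NormSplit
import Cfsg.Agent.Lib.LocalP2.FusionCenterApp
import Cfsg.Agent.Lib.Fusion.Chain

set_option autoImplicit false
open Cfsg Cfsg.FusionSystem Cfsg.Agent.Lib.Fusion
open scoped commutatorElement

namespace Cfsg.Agent.S5330

/-- Let F be a saturated fusion system over a finite abelian p-group S. Then S is the internal direct product of the centre of the system and the focal subgroup: Z(F) ∩ foc(F) = 1 and Z(F)·foc(F) = S. -/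
theorem result {Ω : Type*} [Group Ω] {S : Subgroup Ω} [Finite S] (p : ℕ) [Fact p.Prime] (hS : IsPGroup p S) (F : Cfsg.FusionSystem S) (hF : F.IsSaturated p) (hab : ∀ x ∈ S, ∀ y ∈ S, x * y = y * x) : F.center ⊓ F.focalSubgroup = ⊥ ∧ F.center ⊔ F.focalSubgroup = S := by
  classical
  have hSn : F.IsNormal S := isNormal_of_abelian hS hF stronglyClosed_self hab
  have := finite_mulAut (le_refl S)
  let _ : CommGroup S :=
    { (inferInstance : Group S) with
      mul_comm := fun a b => Subtype.ext (hab a a.2 b b.2) }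
  let φ : F.autGroup S →* MulAut S := (F.autGroup S).subtype
  have hsyl := fullyAutomized_inn hS hF
  have hinn : Inn S = ⊥ := eq_bot_iff.2 (by
    rintro _ ⟨g, rfl⟩
    rw [Subgroup.mem_bot]
    ext x
    simp [mul_comm g x])
  have hmp : ¬ p ∣ (⊥ : Subgroup (F.autGroup S)).index := by
    have h1 := hsyl.2.2
    rw [hinn, Subgroup.relIndex_bot_left] at h1
    rwa [Subgroup.index_bot]
  obtain ⟨N, hNfix, hNpow, hNM, hNtr⟩ := exists_norm φ ⊥ (MonoidHom.id S)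
    (fun t ht z => by rw [Subgroup.mem_bot] at ht; rw [ht, map_one]; rfl)
  have hfoc : ∀ y ∈ F.focalSubgroup, ∃ hy : y ∈ S, N ⟨y, hy⟩ = 1 := by
    intro y hy
    induction hy using Subgroup.closure_induction with
    | mem y hy =>
      obtain ⟨P, ψ, x, hψ, rfl⟩ := hy
      have hPS := src_le hψ
      obtain ⟨α, hα, hαe⟩ := extend_of_normal hSn hPS hψ
      refine ⟨S.mul_mem (S.inv_mem (hPS x.2)) (val_mem hψ x), ?_⟩
      have h1 : (⟨(x : Ω)⁻¹ * ψ x, S.mul_mem (S.inv_mem (hPS x.2)) (val_mem hψ x)⟩ : S) =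
          (Subgroup.inclusion hPS x)⁻¹ * α (Subgroup.inclusion hPS x) :=
        Subtype.ext (by simp [hαe])
      have h2 : N (α (Subgroup.inclusion hPS x)) = N (Subgroup.inclusion hPS x) :=
        hNtr ⟨α, hα⟩ _ _ rfl rfl
      rw [h1, map_mul, map_inv, h2, inv_mul_cancel]
    | one => exact ⟨S.one_mem, map_one N⟩
    | mul a b _ _ ha hb =>
      obtain ⟨ha', ha⟩ := ha
      obtain ⟨hb', hb⟩ := hb
      exact ⟨S.mul_mem ha' hb', by
        rw [show (⟨a * b, S.mul_mem ha' hb'⟩ : S) = ⟨a, ha'⟩ * ⟨b, hb'⟩ from rfl, map_mul, ha, hb, mul_one]⟩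
    | inv a _ ha =>
      obtain ⟨ha', ha⟩ := ha
      exact ⟨S.inv_mem ha', by
        rw [show (⟨a⁻¹, S.inv_mem ha'⟩ : S) = ⟨a, ha'⟩⁻¹ from rfl, map_inv, ha, inv_one]⟩
  have hker : ∀ z : S, N z = 1 → (z : Ω) ∈ F.focalSubgroup := by
    intro z hz
    have h1 := hNM (F.focalSubgroup.subgroupOf S) (fun a x =>
      Subgroup.subset_closure ⟨S, _, x, (mem_autGroup le_rfl).1 a.2, rfl⟩) z
    rw [hz, mul_one, Subgroup.inv_mem_iff, MonoidHom.id_apply] at h1
    obtain ⟨c, hc, hcm⟩ := exists_pow_root hS hmp _ h1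
    have h2 : c * z⁻¹ = 1 := by
      have h3 : (c * z⁻¹) ^ (⊥ : Subgroup (F.autGroup S)).index = 1 := by
        rw [mul_pow, hcm, inv_pow, mul_inv_cancel]
      obtain ⟨k, hk⟩ := hS (c * z⁻¹)
      exact eq_one_of_pGroup_coprime ⟨k, hk⟩ h3 ((Fact.out : p.Prime).coprime_iff_not_dvd.2 hmp).symm
    rw [← mul_inv_eq_one.1 h2]
    exact hc
  have hNc : ∀ z : S, (z : Ω) ∈ F.center → N z = z ^ (⊥ : Subgroup (F.autGroup S)).index :=
    fun z hz => hNpow z fun a => Subtype.ext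
      (((Lib.LocalP2.mem_center_iff_fixed hS hF).1 hz).2 _ _ ((mem_autGroup le_rfl).1 a.2) z.2)
  have hCS : F.center ≤ S := (isCentral_center (F := F)).1
  refine ⟨eq_bot_iff.2 ?_, le_antisymm (sup_le hCS fun y hy => (hfoc y hy).1) fun y hy => ?_⟩
  · rintro y ⟨hyc, hyf⟩
    obtain ⟨hyS, hy1⟩ := hfoc y hyf
    rw [hNc ⟨y, hyS⟩ hyc] at hy1
    obtain ⟨k, hk⟩ := hS ⟨y, hyS⟩
    have h2 := eq_one_of_pGroup_coprime ⟨k, hk⟩ hy1 ((Fact.out : p.Prime).coprime_iff_not_dvd.2 hmp).symm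
    exact Subgroup.mem_bot.2 (congrArg Subtype.val h2)
  · have hw : ((N ⟨y, hy⟩ : S) : Ω) ∈ F.center := by
      refine (Lib.LocalP2.mem_center_iff_fixed hS hF).2 ⟨⟨(N ⟨y, hy⟩).2,
        Subgroup.mem_centralizer_iff.2 fun g hg => hab g hg _ (N ⟨y, hy⟩).2⟩, ?_⟩
      intro P ψ hψ hvP
      obtain ⟨α, hα, hαe⟩ := extend_of_normal hSn (src_le hψ) hψ
      rw [← hαe ⟨_, hvP⟩]
      exact congrArg Subtype.val (hNfix ⟨α, hα⟩ ⟨y, hy⟩)
    obtain ⟨c, hc, hcm⟩ := exists_pow_root hS hmp (F.center.subgroupOf S) (w := N ⟨y, hy⟩) hw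
    refine (show (c : Ω) * ((c⁻¹ * ⟨y, hy⟩ : S) : Ω) = y by simp) ▸
      Subgroup.mul_mem_sup hc (hker _ ?_)
    rw [map_mul, map_inv, hNc c hc, hcm, inv_mul_cancel]

end Cfsg.Agent.S5330
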