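import Cfsg.Statements.S5522
import Cfsg.Agent.Lib.Golay.Classes
-- import your own Cfsg.Agent.* helpers here

set_option autoImplicit false
open Cfsg

namespace Cfsg.Agent.S5522

open Cfsg
open Cfsg.Agent.Lib.Golay
open scoped Pointwise

theorem m11_facts : (m11Syl2Gens ++ m11Syl3Gens).all (inStab [d0] 1) = true ∧
    groupOK m11Syl2 m11Syl2Gens = true ∧ chainOK 0 m11Syl2Chain = true ∧
    chainSize m11Syl2Chain = 2 ^ 4 ∧ m11Syl2.flatten.length = 2 ^ 4 ∧
    chainInOK m11Syl2Gens m11Syl2Prog m11Syl2Chain = true ∧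
    groupOK m11Syl3 m11Syl3Gens = true ∧ chainOK 0 m11Syl3Chain = true ∧
    chainSize m11Syl3Chain = 3 ^ 2 ∧ m11Syl3.flatten.length = 3 ^ 2 ∧
    chainInOK m11Syl3Gens m11Syl3Prog m11Syl3Chain = true := by
  refine ⟨?_, ?_, ?_, ?_, ?_, ?_, ?_, ?_, ?_, ?_, ?_⟩ <;> decide +kernel

theorem cert2 : SylowCert gM11 2 4 m11Syl2 m11Syl2Gens m11Syl2Chain where
  sub g hg := (inStab_spec (List.all_eq_true.1 m11_facts.1 g (List.mem_append_left _ hg))).1
  group := m11_facts.2.1
  chain := m11_facts.2.2.1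
  size := m11_facts.2.2.2.1
  len := m11_facts.2.2.2.2.1
  inP := chainIn_spec m11_facts.2.2.2.2.2.1
  dvd := by rw [gM11_card]; decide
  ndvd := by rw [gM11_card]; decide

theorem cert3 : SylowCert gM11 3 2 m11Syl3 m11Syl3Gens m11Syl3Chain where
  sub g hg := (inStab_spec (List.all_eq_true.1 m11_facts.1 g (List.mem_append_right _ hg))).1
  group := m11_facts.2.2.2.2.2.2.1
  chain := m11_facts.2.2.2.2.2.2.2.1
  size := m11_facts.2.2.2.2.2.2.2.2.1
  len := m11_facts.2.2.2.2.2.2.2.2.2.1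
  inP := chainIn_spec m11_facts.2.2.2.2.2.2.2.2.2.2
  dvd := by rw [gM11_card]; decide
  ndvd := by rw [gM11_card]; decide

theorem out_fixed (C : List (List ℕ)) (p : ℕ)
    (h : C.flatten.all (fun q => valid q && (!powId p q || fixMask q &&& (FULL ^^^ d0) != 0)) = true)
    {k : ℕ} {gens : List ℕ} {L : List (ℕ × List ℕ)} [Fact p.Prime]
    (hc : SylowCert gM11 p k C gens L) {g : Equiv.Perm GolayPt} (hg : g ∈ gM11)
    (hgp : g ^ p = 1) : ∃ x, x ∉ toSet d0 ∧ g x = x := by
  obtain ⟨c, hcG, q, hq, he⟩ := hc.exists_conj hg (n := 1) (by rw [pow_one]; exact hgp)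
  have h2 := List.all_eq_true.1 h q hq
  simp only [Bool.and_eq_true, Bool.or_eq_true, Bool.not_eq_true', bne_iff_ne, ne_eq] at h2
  have hp1 : powId p q = true := powId_of_pow h2.1 (by rw [he, conj_pow, hgp]; simp)
  rcases h2.2 with h3 | h3
  · rw [hp1] at h3; exact Bool.noConfusion h3
  obtain ⟨i, hi⟩ := Nat.exists_testBit_of_ne_zero h3
  rw [Nat.testBit_and, Bool.and_eq_true] at hi
  have hi24 : i < 24 := by
    by_contra hcon
    rw [Nat.testBit_lt_two_pow (lt_of_lt_of_le (Nat.xor_lt_two_pow (n := 24) (by norm_num)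
      (lt_dodList (mem_dodList.2 (by decide +kernel)))) (Nat.pow_le_pow_right (by norm_num)
      (not_lt.1 hcon)))] at hi
    exact Bool.noConfusion hi.2
  have hin : pt i ∈ fixedPts (toPerm q) := by
    rw [fixedPts_toPerm h2.1, mem_toSet, ix_pt hi24]; exact hi.1
  rw [he, fixedPts_conj, ← Finset.inv_smul_mem_iff] at hin
  refine ⟨c⁻¹ (pt i), fun hd => ?_, mem_fixedPts.1 hin⟩
  have hout : pt i ∉ toSet d0 := by
    rw [← toSet_compl', mem_toSet, ix_pt hi24]; exact hi.2
  apply hout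
  have := apply_mem_of_smul ((mem_stabM.1 hcG).2.1 d0 (by simp)) hd
  simpa using this

theorem fix_tests :
    m11Syl2.flatten.all (fun q => valid q && (!powId 2 q || fixMask q &&& (FULL ^^^ d0) != 0)) = true ∧
    m11Syl3.flatten.all (fun q => valid q && (!powId 3 q || fixMask q &&& (FULL ^^^ d0) != 0)) = true := by
  constructor <;> decide +kernel


/-- The Mathieu group M₁₁, realised as the stabiliser of one point of the dodecad of squares inside the stabiliser M₁₂ of that dodecad in M₂₄, acts on the twelve coordinate positions outside the dodecad of squares (its 3-transitive action of degree 12); in this action every element of prime order fixes a point, i.e. the action is elusive. -/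
theorem result (g : Equiv.Perm Cfsg.GolayPt) (hg : g ∈ Cfsg.Spor.M11) (hord : (orderOf g).Prime) :
    ∃ x : Cfsg.GolayPt, x ∉ Cfsg.Spor.squareDodecad ∧ g x = x := by
  have hM : Spor.M11 = gM11 := by rw [gM11_eq, ← d0_eq]; rfl
  have hg' : g ∈ gM11 := hM ▸ hg
  rw [d0_eq]
  have hpow : g ^ orderOf g = 1 := pow_orderOf_eq_one g
  have hdvd : orderOf g ∣ 7920 := by
    rw [← gM11_card]
    have := orderOf_dvd_natCard (⟨g, hg'⟩ : gM11)
    rwa [← Subgroup.orderOf_coe] at this
  have : Fact (orderOf g).Prime := ⟨hord⟩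
  have hcases : orderOf g = 2 ∨ orderOf g = 3 ∨ orderOf g = 5 ∨ orderOf g = 11 := by
    have hle : orderOf g ∣ 2 ^ 4 * 3 ^ 2 * 5 * 11 := hdvd
    rcases (Nat.Prime.dvd_mul hord).1 hle with h | h
    · rcases (Nat.Prime.dvd_mul hord).1 h with h | h
      · rcases (Nat.Prime.dvd_mul hord).1 h with h | h
        · exact Or.inl ((Nat.prime_dvd_prime_iff_eq hord Nat.prime_two).1 (hord.dvd_of_dvd_pow h))
        · exact Or.inr (Or.inl ((Nat.prime_dvd_prime_iff_eq hord Nat.prime_three).1
            (hord.dvd_of_dvd_pow h)))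
      · exact Or.inr (Or.inr (Or.inl ((Nat.prime_dvd_prime_iff_eq hord Nat.prime_five).1 h)))
    · exact Or.inr (Or.inr (Or.inr ((Nat.prime_dvd_prime_iff_eq hord (by norm_num)).1 h)))
  rcases hcases with h | h | h | h
  · have : Fact (Nat.Prime 2) := ⟨Nat.prime_two⟩
    exact out_fixed _ 2 fix_tests.1 cert2 hg' (h ▸ hpow)
  · have : Fact (Nat.Prime 3) := ⟨Nat.prime_three⟩
    exact out_fixed _ 3 fix_tests.2 cert3 hg' (h ▸ hpow)
  all_goals
    have hinv : ∀ x, g x ∉ toSet d0 ↔ x ∉ toSet d0 := fun x => not_congr (by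
      conv_lhs => rw [← (mem_stabM.1 hg').2.1 d0 (by simp)]
      exact Finset.smul_mem_smul_finset_iff g)
    let τ : Equiv.Perm {x // x ∉ toSet d0} := g.subtypePerm hinv
    have hτ : τ ^ (orderOf g) ^ 1 = 1 := by
      ext x
      rw [pow_one, Equiv.Perm.subtypePerm_pow]
      simp [hpow]
    have hcard : ¬ orderOf g ∣ Fintype.card {x // x ∉ toSet d0} := by
      rw [Fintype.card_subtype_compl, Fintype.card_coe, card_toSet, h]; decide +kernel
    obtain ⟨x, hx⟩ := Equiv.Perm.exists_fixed_point_of_prime hcard hτ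
    exact ⟨x, x.2, congrArg Subtype.val hx⟩

end Cfsg.Agent.S5522
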