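import Cfsg.Statements.S5726

set_option autoImplicit false
open Cfsg

namespace Cfsg.Agent.S5726

/-- If a finite group acts faithfully and transitively on a set with p^k elements, p a prime and k ≥ 1, then some element of order p fixes no point. -/
theorem result {G Ω : Type*} [Group G] [Finite G] [MulAction G Ω] [FaithfulSMul G Ω] [Fintype Ω] (htr : MulAction.IsPretransitive G Ω)
    (p k : ℕ) (hp : p.Prime) (hk : 1 ≤ k) (hΩ : Fintype.card Ω = p ^ k) :
    ∃ g : G, orderOf g = p ∧ ∀ ω : Ω, g • ω ≠ ω := by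
  classical
  have : Fact p.Prime := ⟨hp⟩
  have := htr
  obtain ⟨P⟩ : Nonempty (Sylow p G) := inferInstance
  have hne : Nonempty Ω := Fintype.card_pos_iff.mp (hΩ ▸ pow_pos hp.pos k)
  obtain ⟨a⟩ := hne
  have hPt : MulAction.IsPretransitive (P : Subgroup G) Ω := by
    rw [MulAction.isPretransitive_iff_orbit_eq_univ a]
    refine Set.eq_of_subset_of_ncard_le (Set.subset_univ _) ?_ (Set.toFinite _)
    rw [Set.ncard_univ, Nat.card_eq_fintype_card, hΩ, ← Nat.card_coe_set_eq]
    obtain ⟨j, hj⟩ := P.2.card_orbit a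
    rw [hj]
    have hidx : (MulAction.stabilizer G a).index = p ^ k := by
      rw [MulAction.index_stabilizer_of_transitive, Nat.card_eq_fintype_card, hΩ]
    have hjdef : ((MulAction.stabilizer G a).subgroupOf P).index = p ^ j := by
      rw [← hj, show (MulAction.stabilizer G a).subgroupOf P = MulAction.stabilizer (P : Subgroup G) a from rfl]
      rw [MulAction.index_stabilizer, Nat.card_coe_set_eq]
    have hdvd : p ^ k ∣ (P : Subgroup G).index * p ^ j := by
      rw [← hidx, ← hjdef, mul_comm]
      have h1 := Subgroup.relIndex_mul_index (inf_le_right : MulAction.stabilizer G a ⊓ (P : Subgroup G) ≤ P)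
      rw [Subgroup.inf_relIndex_right] at h1
      show _ ∣ (MulAction.stabilizer G a).relIndex P * (P : Subgroup G).index
      rw [h1]
      exact Subgroup.index_dvd_of_le inf_le_left
    exact Nat.le_of_dvd (pow_pos hp.pos j)
      (((hp.coprime_iff_not_dvd.mpr P.not_dvd_index).pow_left k).dvd_of_dvd_mul_left hdvd)
  have hPnt : Nontrivial (P : Subgroup G) := by
    rw [← Finite.one_lt_card_iff_nontrivial]
    by_contra hle
    have h1 : Subsingleton (P : Subgroup G) := Finite.card_le_one_iff_subsingleton.mp (by omega)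
    have h2 : Fintype.card Ω ≤ 1 := by
      rw [Fintype.card_le_one_iff]
      intro x y
      obtain ⟨g, hg⟩ := MulAction.exists_smul_eq (P : Subgroup G) x y
      rw [← hg, Subsingleton.elim g 1, one_smul]
    have := Nat.one_lt_pow (by omega : k ≠ 0) hp.one_lt
    omega
  have := P.2.center_nontrivial
  obtain ⟨⟨z, hzc⟩, hz⟩ := exists_ne (1 : Subgroup.center (P : Subgroup G))
  obtain ⟨n, hn⟩ := (P.2 z)
  obtain ⟨w, hwc, hw⟩ : ∃ w : (P : Subgroup G), w ∈ Subgroup.center _ ∧ orderOf w = p := by
    have hz1 : z ≠ 1 := fun h => hz (Subtype.ext h)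
    have hd : p ∣ orderOf z := by
      obtain ⟨m, -, hm⟩ := (Nat.dvd_prime_pow hp).mp (orderOf_dvd_of_pow_eq_one hn)
      rcases m with _ | m
      · exact absurd (orderOf_eq_one_iff.mp (by rw [hm, pow_zero])) hz1
      · exact hm ▸ dvd_pow_self p (by omega)
    exact ⟨z ^ (orderOf z / p), pow_mem hzc _,
      by rw [orderOf_pow_of_dvd (Nat.div_pos (Nat.le_of_dvd (orderOf_pos z) hd) hp.pos).ne'
        (Nat.div_dvd_of_dvd hd), Nat.div_div_self hd (orderOf_pos z).ne']⟩
  refine ⟨(w : G), by rw [Subgroup.orderOf_coe]; exact hw, fun ω hω => ?_⟩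
  have : w = 1 := by
    refine eq_of_smul_eq_smul (α := Ω) fun x => ?_
    obtain ⟨g, rfl⟩ := MulAction.exists_smul_eq (P : Subgroup G) ω x
    rw [one_smul, ← mul_smul, ← Subgroup.mem_center_iff.mp hwc g, mul_smul]
    exact congrArg (g • ·) hω
  rw [this, orderOf_one] at hw
  exact hp.one_lt.ne hw

end Cfsg.Agent.S5726
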