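import Cfsg.Statements.S5727
import Mathlib.GroupTheory.Sylow
import Mathlib.GroupTheory.Index
import Mathlib.GroupTheory.GroupAction.Quotient
import Mathlib.GroupTheory.PGroup
import Cfsg.Agent.Lib.Perm.Basic

set_option autoImplicit false
open Cfsg

namespace Cfsg.Agent.S5727

open MulAction

/-- If a finite group acts faithfully and transitively on a set with m·p elements, where p is a prime and 1 ≤ m ≤ p, then some element of order p fixes no point. -/
theorem result {G Ω : Type*} [Group G] [Finite G] [MulAction G Ω] [FaithfulSMul G Ω] [Fintype Ω] (htr : MulAction.IsPretransitive G Ω)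
    (p m : ℕ) (hp : p.Prime) (hm : 1 ≤ m) (hmp : m ≤ p) (hΩ : Fintype.card Ω = m * p) :
    ∃ g : G, orderOf g = p ∧ ∀ ω : Ω, g • ω ≠ ω := by
  classical
  have hp' : Fact p.Prime := ⟨hp⟩
  have := htr
  have : Fintype G := Fintype.ofFinite G
  obtain ⟨ω₀⟩ : Nonempty Ω := Fintype.card_pos_iff.mp (by rw [hΩ]; exact Nat.mul_pos hm hp.pos)
  obtain ⟨S⟩ : Nonempty (Sylow p G) := inferInstance
  obtain ⟨P, hPg, hPi⟩ : ∃ P : Subgroup G, IsPGroup p P ∧ ¬ p ∣ P.index :=
    ⟨S, S.2, S.not_dvd_index⟩
  -- every orbit of the Sylow subgroup has size a positive power of `p`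
  have hpow : ∀ ω : Ω, ∃ k, Nat.card (orbit P ω) = p ^ (k + 1) := by
    intro ω
    obtain ⟨k, hk⟩ := IsPGroup.card_orbit hPg (α := Ω) ω
    cases k with
    | succ k => exact ⟨k, hk⟩
    | zero =>
      exfalso
      have hfix : P ≤ stabilizer G ω := by
        intro g hg
        rw [pow_zero, Nat.card_eq_one_iff_unique] at hk
        have := hk.1.elim ⟨g • ω, ⟨⟨g, hg⟩, rfl⟩⟩ ⟨ω, mem_orbit_self ω⟩
        exact congrArg Subtype.val this
      refine hPi ?_
      refine (?_ : p ∣ (stabilizer G ω).index).trans (Subgroup.index_dvd_of_le hfix)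
      rw [index_stabilizer_of_transitive, Nat.card_eq_fintype_card, hΩ]
      exact dvd_mul_left p m
  by_cases hlarge : ∃ ω : Ω, Nat.card (orbit P ω) ≠ p
  · -- a regular central element
    obtain ⟨ω, hω⟩ := hlarge
    obtain ⟨k, hk⟩ := hpow ω
    have hle : Nat.card (orbit P ω) ≤ m * p := by
      rw [← hΩ, ← Nat.card_eq_fintype_card]
      exact Nat.card_le_card_of_injective _ Subtype.val_injective
    have hk1 : 1 ≤ k := by
      by_contra h
      exact hω (by rw [hk, show k = 0 by omega, pow_one])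
    have hall : orbit P ω = Set.univ := by
      refine Set.eq_of_subset_of_ncard_le (Set.subset_univ _) ?_ (Set.toFinite _)
      rw [Set.ncard_univ, ← Nat.card_coe_set_eq, Nat.card_eq_fintype_card, hΩ, hk]
      calc m * p ≤ p * p := Nat.mul_le_mul_right p hmp
        _ = p ^ 2 := (sq p).symm
        _ ≤ p ^ (k + 1) := Nat.pow_le_pow_right hp.pos (by omega)
    have : Nontrivial P := by
      by_contra h
      rw [not_nontrivial_iff_subsingleton] at h
      have hc : Nat.card (orbit P ω) ≤ 1 :=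
        Finite.card_le_one_iff_subsingleton.mpr ⟨fun a b => by
          obtain ⟨_, ga, rfl⟩ := a; obtain ⟨_, gb, rfl⟩ := b; rw [Subsingleton.elim ga gb]⟩
      rw [hk] at hc
      exact absurd hc (not_le.mpr (Nat.one_lt_pow (by omega) hp.one_lt))
    have hZ := hPg.center_nontrivial
    have hdvd : p ∣ Nat.card (Subgroup.center P) := by
      obtain ⟨n, hn, hn'⟩ := (hPg.to_subgroup (Subgroup.center P)).nontrivial_iff_card.mp hZ
      exact hn' ▸ dvd_pow_self p (by omega)
    obtain ⟨z, hz⟩ := exists_prime_orderOf_dvd_card' p hdvd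
    refine ⟨((z : P) : G), by rw [Subgroup.orderOf_coe, Subgroup.orderOf_coe, hz], fun ω' hω' => ?_⟩
    have hz1 : ((z : P) : G) = 1 := by
      refine eq_of_smul_eq_smul (α := Ω) fun v => ?_
      obtain ⟨a, ha⟩ : ω' ∈ orbit P ω := hall ▸ Set.mem_univ _
      obtain ⟨b, hb⟩ : v ∈ orbit P ω := hall ▸ Set.mem_univ _
      have hc : ((z : P) : G) * ((b * a⁻¹ : P) : G) = ((b * a⁻¹ : P) : G) * ((z : P) : G) :=
        congrArg Subtype.val (Subgroup.mem_center_iff.mp z.2 (b * a⁻¹)).symm
      have hv : v = ((b * a⁻¹ : P) : G) • ω' := by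
        rw [← hb, ← ha]; show b • ω = (b * a⁻¹) • a • ω
        rw [← mul_smul, inv_mul_cancel_right]
      rw [one_smul, hv, ← mul_smul, hc, mul_smul, hω']
    have : orderOf z = 1 := orderOf_eq_one_iff.mpr (Subtype.ext (Subtype.ext hz1))
    exact hp.ne_one (hz.symm.trans this)
  push Not at hlarge
  have hmp' : m < p ∨ m = p := lt_or_eq_of_le hmp
  -- each point stabiliser is normal of index `p`
  have hidx : ∀ ω : Ω, (stabilizer P ω).index = p := fun ω => by
    rw [index_stabilizer, ← Nat.card_coe_set_eq, hlarge]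
  have hnormal : ∀ ω : Ω, (stabilizer P ω).Normal := fun ω =>
    Subgroup.normal_of_index_eq_minFac_card (by
      have h := (stabilizer P ω).index_dvd_card
      rw [hidx] at h
      obtain ⟨n, hn⟩ := hPg.exists_card_eq
      have hn0 : n ≠ 0 := fun e => by
        rw [e, pow_zero] at hn
        exact hp.ne_one (Nat.dvd_one.mp (hn ▸ h))
      rw [hn, hp.pow_minFac hn0, hidx])
  by_cases hd : ∃ g : P, g ≠ 1 ∧ ∀ ω : Ω, g • ω ≠ ω
  · obtain ⟨g, hg1, hg⟩ := hd
    refine ⟨(g : G), ?_, hg⟩
    refine orderOf_eq_prime ?_ (fun e => hg1 (Subtype.ext e))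
    refine eq_of_smul_eq_smul (α := Ω) fun ω => ?_
    have := hnormal ω
    have h := Subgroup.pow_index_mem (stabilizer P ω) g
    rw [hidx ω] at h
    rw [one_smul]
    exact h
  -- otherwise count the fixed points
  exfalso
  push Not at hd
  have hfix : ∀ g : P, g ≠ 1 → p ≤ (Finset.univ.filter fun ω : Ω => g • ω = ω).card := by
    intro g hg
    obtain ⟨ω, hω⟩ := hd g hg
    refine (hlarge ω).symm.le.trans ?_
    rw [Nat.card_coe_set_eq, ← Set.ncard_coe_finset]
    refine Set.ncard_le_ncard (fun v hv => ?_) (Set.toFinite _)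
    obtain ⟨b, rfl⟩ := hv
    have := (hnormal ω).conj_mem g hω b⁻¹
    rw [inv_inv] at this
    simp only [Finset.coe_filter, Finset.mem_univ, true_and, Set.mem_ofPred_eq]
    have h2 : (b⁻¹ * g * b) • ω = ω := this
    rw [mul_smul, mul_smul, inv_smul_eq_iff] at h2
    exact h2
  have hst : ∀ ω : Ω, (Finset.univ.filter fun g : P => g • ω = ω).card * p = Nat.card P := by
    intro ω
    have h := (stabilizer P ω).card_mul_index
    rw [hidx ω] at h
    rw [← h, Nat.card_eq_fintype_card, Fintype.card_subtype]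
    rfl
  have hdc : (∑ g : P, (Finset.univ.filter fun ω : Ω => g • ω = ω).card) * p = m * p * Nat.card P := by
    simp_rw [Finset.card_filter]
    rw [Finset.sum_comm, Finset.sum_mul]
    simp_rw [← Finset.card_filter, hst]
    rw [Finset.sum_const, Finset.card_univ, hΩ, smul_eq_mul]
  have hlow : m * p + (Nat.card P - 1) * p ≤
      ∑ g : P, (Finset.univ.filter fun ω : Ω => g • ω = ω).card := by
    rw [← Finset.add_sum_erase _ _ (Finset.mem_univ (1 : P))]
    refine Nat.add_le_add (by simp [hΩ]) ?_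
    refine le_trans ?_ (Finset.card_nsmul_le_sum _ _ p fun g hg => hfix g (Finset.ne_of_mem_erase hg))
    rw [Finset.card_erase_of_mem (Finset.mem_univ _), Finset.card_univ, smul_eq_mul, Nat.card_eq_fintype_card]
  have hP : 1 ≤ Nat.card P := Nat.card_pos
  have h2 := hp.two_le
  rw [mul_comm m p, mul_assoc] at hdc
  have hsum := Nat.eq_of_mul_eq_mul_right hp.pos (hdc.trans (mul_comm p (m * Nat.card P)))
  rw [hsum] at hlow
  have hPp : p ≤ Nat.card P := by
    obtain ⟨k, hk⟩ := hpow ω₀
    refine (hlarge ω₀).symm.le.trans ?_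
    exact Nat.le_of_dvd Nat.card_pos (Dvd.intro (Nat.card (stabilizer P ω₀)) (by
      rw [← Nat.card_prod, Nat.card_congr (orbitProdStabilizerEquivGroup _ _)]))
  obtain ⟨c, hc⟩ := Nat.exists_eq_add_of_le hP
  rw [hc, Nat.add_sub_cancel_left] at hlow
  rw [hc] at hPp
  rcases Nat.eq_or_lt_of_le hmp with e | e
  · subst e
    nlinarith
  · nlinarith

end Cfsg.Agent.S5727
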