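import Cfsg.Statements.S5728
import Mathlib.FieldTheory.Finite.GaloisField
import Mathlib.GroupTheory.OrderOfElement

set_option autoImplicit false
open Cfsg

namespace Cfsg.Agent.S5728

/-- The affine map with the given coefficients. -/
def aff {R : Type*} [Field R] (c : R) (hc : c ≠ 0) (d : R) : Equiv.Perm R where
  toFun y := c * y + d
  invFun y := c⁻¹ * (y - d)
  left_inv y := by field_simp; ring
  right_inv y := by field_simp; ring

theorem aff_mem {R : Type*} [Field R] (c : R) (hc : c ≠ 0) (d : R) :
    aff c hc d ∈ Cfsg.affineGroup R := ⟨Units.mk0 c hc, d, fun _ => rfl⟩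

theorem mem_prime_field {p : ℕ} [Fact p.Prime] {F : Type*} [Field F] [Algebra (ZMod p) F] [CharP F p]
    {x : F} (h : x ^ p = x) : ∃ a : ZMod p, algebraMap (ZMod p) F a = x := by
  rw [← Subfield.mem_bot_iff_pow_eq_self, ← ZMod.fieldRange_castHom_eq_bot p] at h
  obtain ⟨a, ha⟩ := h
  exact ⟨a, by rw [← ha]; congr 1; exact Subsingleton.elim _ _⟩

theorem pow_apply_linear {R : Type*} [Field R] {σ : Equiv.Perm R} {a : R} (h : ∀ y, σ y = a * y) :
    ∀ (n : ℕ) y, (σ ^ n) y = a ^ n * y
  | 0, y => by simp
  | n + 1, y => by rw [pow_succ', Equiv.Perm.mul_apply, pow_apply_linear h n y, h, pow_succ', mul_assoc]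

/-- An elusive transitive action. Let p = 2^s − 1 be a prime and let F be the field with p² elements. Inside the group of affine maps x ↦ a·x + b of F (a ≠ 0), consider the subgroup of maps with both coefficients in the prime field. Then every element of prime order of the affine group is conjugate, within the affine group, to an element of that subgroup; equivalently, in the transitive action of the affine group on the cosets of that subgroup (of degree p(p + 1)) every element of prime order fixes a point. -/
theorem result (p s : ℕ) [Fact p.Prime] (hs : p = 2 ^ s - 1)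
    (g : Equiv.Perm (GaloisField p 2)) (hg : g ∈ Cfsg.affineGroup (GaloisField p 2)) (hord : (orderOf g).Prime) :
    ∃ x ∈ Cfsg.affineGroup (GaloisField p 2), ∃ a b : ZMod p, a ≠ 0 ∧
      ∀ y : GaloisField p 2, (x * g * x⁻¹) y = algebraMap (ZMod p) (GaloisField p 2) a * y + algebraMap (ZMod p) (GaloisField p 2) b := by
  obtain ⟨a, b, hab⟩ := hg
  let F := GaloisField p 2
  have : Fintype F := Fintype.ofFinite F
  by_cases ha : (a : F) = 1
  · by_cases hb : b = 0
    · exfalso
      have : g = 1 := Equiv.ext fun y => by rw [hab, ha, hb]; simp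
      rw [this, orderOf_one] at hord
      exact Nat.not_prime_one hord
    · refine ⟨aff b⁻¹ (inv_ne_zero hb) 0, aff_mem _ _ _, 1, 1, one_ne_zero, fun y => ?_⟩
      show b⁻¹ * g (b⁻¹⁻¹ * (y - 0)) + 0 = _
      rw [hab, ha, map_one]
      field_simp
      ring
  · have h1 : (1 : F) - a ≠ 0 := sub_ne_zero.mpr (Ne.symm ha)
    set c := (1 - (a : F))⁻¹ * b with hc
    set x := aff (1 : F) one_ne_zero (-c) with hx
    have hlin : ∀ y, (x * g * x⁻¹) y = a * y := by
      intro y
      show 1 * g (1⁻¹ * (y - -c)) + -c = _
      rw [hab, hc]
      field_simp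
      ring
    set r := orderOf g with hr
    have har : (a : F) ^ r = 1 := by
      have h := pow_apply_linear hlin r 1
      rw [conj_pow, pow_orderOf_eq_one, mul_one, mul_inv_cancel] at h
      simpa using h.symm
    have har' : orderOf (a : F) = r := orderOf_eq_prime (hp := ⟨hord⟩) har ha
    have hcard : orderOf (a : F) ∣ p ^ 2 - 1 := by
      apply orderOf_dvd_of_pow_eq_one
      have := FiniteField.pow_card_sub_one_eq_one (a : F) a.ne_zero
      rwa [← Nat.card_eq_fintype_card, GaloisField.card p 2 (by norm_num)] at this
    rw [har'] at hcard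
    have hp2 := (Fact.out : p.Prime).two_le
    have key : (a : F) ^ p = a := by
      have hfac : p ^ 2 - 1 = (p - 1) * 2 ^ s := by
        have hs' : 2 ^ s = p + 1 := by have := Nat.one_le_two_pow (n := s); omega
        rw [hs']
        cases p with
        | zero => omega
        | succ q => simp only [Nat.add_sub_cancel]; rw [show (q + 1) ^ 2 = q * (q + 1 + 1) + 1 by ring]; omega
      rw [hfac] at hcard
      rcases hord.dvd_mul.mp hcard with h | h
      · obtain ⟨t, ht⟩ := h
        calc (a : F) ^ p = (a : F) ^ (r * t + 1) := congrArg ((a : F) ^ ·) (by omega)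
          _ = a := by rw [pow_succ, pow_mul, har, one_pow, one_mul]
      · have hr2 : r = 2 := (Nat.prime_dvd_prime_iff_eq hord Nat.prime_two).mp (hord.dvd_of_dvd_pow h)
        rw [hr2, sq_eq_one_iff] at har
        rcases har with e | e
        · exact absurd e ha
        · rw [e]
          refine Odd.neg_one_pow ?_
          rcases (Fact.out : p.Prime).eq_two_or_odd' with e2 | e2
          · exfalso
            cases s with
            | zero => simp at hs; omega
            | succ k => rw [pow_succ] at hs; omega
          · exact e2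
    obtain ⟨a', ha'⟩ := mem_prime_field key
    refine ⟨x, aff_mem _ _ _, a', 0, fun e => ?_, fun y => ?_⟩
    · rw [e, map_zero] at ha'
      exact a.ne_zero ha'.symm
    · rw [hlin, ha', map_zero, add_zero]

end Cfsg.Agent.S5728
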