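import Cfsg.Statements.S5904


set_option autoImplicit false
open scoped Pointwise
open Cfsg

namespace Cfsg.Agent.S5904

/-- Let Ω be a finite set with more than two elements and O ⊆ Ω a subset with exactly as many elements as its complement. Then the setwise stabilizer of O in the symmetric group on Ω is not a maximal subgroup (it is properly contained in the stabilizer of the partition {O, Ω ∖ O}, which is proper). -/
theorem result {Ω : Type*} [Fintype Ω] [DecidableEq Ω] (hΩ : 2 < Fintype.card Ω)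
    (O : Set Ω) (hO : Nat.card O = Nat.card ↥Oᶜ) :
    ¬ IsCoatom (MulAction.stabilizer (Equiv.Perm Ω) O) := by
  classical
  intro hc
  refine hc.1 ?_
  have hcard : Set.ncard O = Set.ncard Oᶜ := by rw [← Nat.card_coe_set_eq, hO, Nat.card_coe_set_eq]
  have hsum := Set.ncard_add_ncard_compl O
  rw [Nat.card_eq_fintype_card] at hsum
  obtain ⟨a, ha⟩ : O.Nonempty := Set.nonempty_of_ncard_ne_zero (by omega)
  obtain ⟨a', ha', hne⟩ := Set.exists_ne_of_one_lt_ncard (s := O) (by omega) a
  obtain ⟨b, hb⟩ : Oᶜ.Nonempty := Set.nonempty_of_ncard_ne_zero (by omega)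
  let e : O ≃ (Oᶜ : Set Ω) := Fintype.equivOfCardEq (by
    rw [← Nat.card_eq_fintype_card, ← Nat.card_eq_fintype_card]; exact hO)
  let f : Ω → Ω := fun x => if h : x ∈ O then (e ⟨x, h⟩ : Ω) else (e.symm ⟨x, h⟩ : Ω)
  have hin : ∀ x (hx : x ∈ O), f x = (e ⟨x, hx⟩ : Ω) := fun x hx => dif_pos hx
  have hout : ∀ x (hx : x ∉ O), f x = (e.symm ⟨x, hx⟩ : Ω) := fun x hx => dif_neg hx
  have hinv : Function.Involutive f := by
    intro x
    by_cases hx : x ∈ O
    · rw [hin x hx, hout _ (e ⟨x, hx⟩).2]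
      simp
    · rw [hout x hx, hin _ (e.symm ⟨x, hx⟩).2]
      simp
  let s : Equiv.Perm Ω := hinv.toPerm f
  have hs : ∀ x, s x ∈ O ↔ x ∉ O := by
    intro x
    show f x ∈ O ↔ x ∉ O
    by_cases hx : x ∈ O
    · rw [hin x hx]
      exact iff_of_false (e ⟨x, hx⟩).2 (not_not.2 hx)
    · rw [hout x hx]
      exact iff_of_true (e.symm ⟨x, hx⟩).2 hx
  let K : Subgroup (Equiv.Perm Ω) :=
    { carrier := {g | ∀ x y : Ω, (x ∈ O ↔ y ∈ O) ↔ (g x ∈ O ↔ g y ∈ O)}
      one_mem' := fun x y => Iff.rfl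
      mul_mem' := fun {g h} hg hh x y => (hh x y).trans (hg (h x) (h y))
      inv_mem' := fun {g} hg x y => by simpa using (hg (g⁻¹ x) (g⁻¹ y)).symm }
  have hlt : MulAction.stabilizer (Equiv.Perm Ω) O < K := by
    refine lt_of_le_not_ge (fun g hg x y => ?_) (fun hle => ?_)
    · rw [MulAction.mem_stabilizer_set] at hg
      exact (iff_congr (hg x) (hg y)).symm
    · have hsK : s ∈ K := fun x y => by rw [hs, hs]; tauto
      have := (MulAction.mem_stabilizer_set.1 (hle hsK) a).2 ha
      exact ((hs a).1 this) ha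
  exfalso
  have hK := hc.2 K hlt
  have h := (show Equiv.swap a b ∈ K from hK ▸ Subgroup.mem_top _) a a'
  rw [Equiv.swap_apply_left, Equiv.swap_apply_of_ne_of_ne hne (fun (h : a' = b) => hb (h ▸ ha'))] at h
  exact hb ((h.1 (iff_of_true ha ha')).2 ha')

end Cfsg.Agent.S5904
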