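import Cfsg.Statements.S5894
import Mathlib
import Cfsg.Agent.S5904

set_option autoImplicit false
open Cfsg
open scoped Pointwise

namespace Cfsg.Agent.S5894

/-- For every m ≥ 2 the symmetric group on 2m letters has a maximal subgroup M of index 2m together with a maximal subgroup H of M that is not second maximal: some maximal subgroup K of the symmetric group contains H without H being maximal in K. (One may take M the stabiliser of a letter, H ≅ S_m × S_{m−1} inside it, and K ≅ S_m ≀ S₂ the stabiliser of a partition into two m-sets, with H < S_m × S_m < K.) So the prime-index hypothesis in the second-maximality criterion cannot be relaxed to any even index ≥ 4. -/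
theorem result (m : ℕ) (hm : 2 ≤ m) :
    ∃ M H K : Subgroup (Equiv.Perm (Fin (2 * m))), IsCoatom M ∧ M.index = 2 * m ∧ H ≤ M ∧ IsCoatom (H.subgroupOf M) ∧
      IsCoatom K ∧ H ≤ K ∧ ¬ IsCoatom (H.subgroupOf K) := by
  classical
  let a : Fin (2 * m) := ⟨0, by omega⟩
  let B : Set (Fin (2 * m)) := {x | m ≤ x.val}
  let M := MulAction.stabilizer (Equiv.Perm (Fin (2 * m))) a
  let L := MulAction.stabilizer (Equiv.Perm (Fin (2 * m))) B
  let H := M ⊓ L
  have hM : IsCoatom M := by
    have h := Equiv.Perm.isCoatom_stabilizer (s := ({a} : Set (Fin (2 * m)))) (Set.singleton_nonempty a)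
      ⟨⟨1, by omega⟩, by simp [a, Fin.ext_iff]⟩ (by rw [Set.ncard_singleton, Nat.card_fin]; omega)
    rwa [MulAction.stabilizer_singleton] at h
  have hMi : M.index = 2 * m := by
    rw [MulAction.index_stabilizer_of_transitive, Nat.card_fin]
  let e : {x : Fin (2 * m) // x ≠ a} → Fin (2 * m) := Subtype.val
  let φ : Equiv.Perm {x : Fin (2 * m) // x ≠ a} →* Equiv.Perm (Fin (2 * m)) := Equiv.Perm.ofSubtype
  have hφM : φ.range = M := by
    apply le_antisymm
    · rintro _ ⟨g, rfl⟩
      exact Equiv.Perm.ofSubtype_apply_of_not_mem g (by simp)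
    · intro g hg
      have hga : g a = a := hg
      refine ⟨g.subtypePerm (fun x => ?_), Equiv.Perm.ofSubtype_subtypePerm _ ?_⟩
      · exact ⟨fun h h' => h (by rw [h', hga]), fun h h' => h (g.injective (by rw [h', hga]))⟩
      · intro x hx h'; exact hx (h' ▸ hga)
  let B' : Set {x : Fin (2 * m) // x ≠ a} := {x | m ≤ x.1.val}
  have haB : a ∉ B := by simp [a, B]; omega
  have hφH : (MulAction.stabilizer (Equiv.Perm {x : Fin (2 * m) // x ≠ a}) B') = H.comap φ := by
    ext g
    have hgM : φ g ∈ M := hφM ▸ ⟨g, rfl⟩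
    show _ ↔ φ g ∈ M ⊓ L
    simp only [Subgroup.mem_inf, hgM, true_and]
    show _ ↔ φ g ∈ MulAction.stabilizer (Equiv.Perm (Fin (2 * m))) B
    simp only [MulAction.mem_stabilizer_set]
    constructor
    · intro h x
      by_cases hx : x = a
      · subst hx
        have : φ g a = a := hgM
        simp [Equiv.Perm.smul_def, this]
      · have := h ⟨x, hx⟩
        simp only [Equiv.Perm.smul_def, φ, Equiv.Perm.ofSubtype_apply_of_mem (p := fun y => y ≠ a) g hx] at *
        exact this
    · intro h x
      have := h x.1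
      simp only [Equiv.Perm.smul_def, φ, Equiv.Perm.ofSubtype_apply_coe] at *
      exact this
  have hB' : IsCoatom (MulAction.stabilizer (Equiv.Perm {x : Fin (2 * m) // x ≠ a}) B') := by
    refine Equiv.Perm.isCoatom_stabilizer ⟨⟨⟨m, by omega⟩, by simp [a, Fin.ext_iff]; omega⟩, by simp [B']⟩
      ⟨⟨⟨1, by omega⟩, by simp [a, Fin.ext_iff]⟩, by simp [B']; omega⟩ ?_
    have hc : Nat.card {x : Fin (2 * m) // x ≠ a} = 2 * m - 1 := by
      rw [Nat.card_eq_fintype_card, Fintype.card_subtype_compl, Fintype.card_subtype_eq, Fintype.card_fin]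
    rw [hc]
    omega
  have hHM : IsCoatom (H.subgroupOf M) := by
    constructor
    · intro htop
      refine hB'.1 (eq_top_iff.2 fun g _ => ?_)
      rw [hφH]
      exact (Subgroup.subgroupOf_eq_top.1 htop) (hφM ▸ ⟨g, rfl⟩)
    · intro N hN
      have hlt : MulAction.stabilizer (Equiv.Perm {x : Fin (2 * m) // x ≠ a}) B' <
          (N.map M.subtype).comap φ := by
        rw [hφH]
        obtain ⟨hle, hne⟩ := lt_iff_le_and_ne.1 hN
        refine lt_of_le_not_ge (Subgroup.comap_mono fun x hx => ⟨⟨x, hx.1⟩, hle hx, rfl⟩) fun h => ?_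
        refine hne (le_antisymm hle fun x hx => ?_)
        obtain ⟨g, hg⟩ := (hφM.ge x.2)
        have hmem : g ∈ H.comap φ := h (show φ g ∈ N.map M.subtype from ⟨x, hx, hg.symm⟩)
        show (x : Equiv.Perm (Fin (2 * m))) ∈ H
        rw [← hg]; exact hmem
      have htop := hB'.2 _ hlt
      refine eq_top_iff.2 fun x _ => ?_
      obtain ⟨g, hg⟩ := (hφM.ge x.2)
      obtain ⟨y, hy, hyx⟩ : φ g ∈ N.map M.subtype := (htop ▸ Subgroup.mem_top g : g ∈ (N.map M.subtype).comap φ)
      rw [hg] at hyx
      exact (Subtype.ext hyx : y = x) ▸ hy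
  have hLtop : L ≠ ⊤ := by
    intro h
    have := (MulAction.mem_stabilizer_set.1 (h ▸ Subgroup.mem_top (Equiv.swap a ⟨m, by omega⟩) :
      Equiv.swap a (⟨m, by omega⟩ : Fin (2 * m)) ∈ L)) a
    rw [Equiv.Perm.smul_def, Equiv.swap_apply_left] at this
    exact haB (this.1 (by simp [B]))
  obtain ⟨K, hK, hLK⟩ := (eq_top_or_exists_le_coatom L).resolve_left hLtop
  refine ⟨M, H, K, hM, hMi, inf_le_left, hHM, hK, inf_le_right.trans hLK, fun hc => ?_⟩
  have hlt : H.subgroupOf K < L.subgroupOf K := by
    refine lt_of_le_not_ge (Subgroup.comap_mono inf_le_right) fun h => ?_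
    have hs : Equiv.swap a (⟨1, by omega⟩ : Fin (2 * m)) ∈ L := by
      show Equiv.swap a (⟨1, by omega⟩ : Fin (2 * m)) ∈ MulAction.stabilizer (Equiv.Perm (Fin (2 * m))) B
      rw [MulAction.mem_stabilizer_set]
      intro x
      rw [Equiv.Perm.smul_def]
      rcases eq_or_ne x a with rfl | h1
      · rw [Equiv.swap_apply_left]; simp [B, a]; omega
      · rcases eq_or_ne x ⟨1, by omega⟩ with rfl | h2
        · rw [Equiv.swap_apply_right]; simp [B, a]; omega
        · rw [Equiv.swap_apply_of_ne_of_ne h1 h2]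
    have hswap : (Equiv.swap a (⟨1, by omega⟩ : Fin (2 * m))) a = a :=
      (h (x := ⟨_, hLK hs⟩) (Subgroup.mem_subgroupOf.2 hs)).1
    rw [Equiv.swap_apply_left] at hswap
    simp [a, Fin.ext_iff] at hswap
  have hLtop' := Subgroup.subgroupOf_eq_top.1 (hc.2 _ hlt)
  have hLK' : L = K := le_antisymm hLK hLtop'
  -- L is not a coatom (see the imprimitive group containing it)
  exact Cfsg.Agent.S5904.result (Ω := Fin (2 * m)) (by simp; omega) B (by
    have hBc : Nat.card ↥B = m := by
      refine (Nat.card_congr ⟨fun x => (⟨x.1.val - m, by have := x.1.isLt; omega⟩ : Fin m),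
        fun i => ⟨⟨i.val + m, by omega⟩, by simp [B]⟩, fun x => ?_, fun i => ?_⟩).trans (Nat.card_fin m)
      · refine Subtype.ext (Fin.ext ?_); have : m ≤ x.1.val := x.2; simp; omega
      · exact Fin.ext (by simp)
    have h' := Set.ncard_add_ncard_compl B
    rw [Nat.card_fin, ← Nat.card_coe_set_eq, ← Nat.card_coe_set_eq, hBc] at h'
    omega) (show IsCoatom L from hLK' ▸ hK)

end Cfsg.Agent.S5894
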