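import Cfsg.Statements.S5914
import Mathlib

set_option autoImplicit false
open Cfsg

namespace Cfsg.Agent.S5914

section
variable {G : Type*} [Group G]

theorem decompose [Finite G] [Nontrivial G] (hc : ∀ H : Subgroup G, H.Characteristic → H = ⊥ ∨ H = ⊤) :
    ∃ N : Subgroup G, IsSimpleGroup N ∧ ∃ n : ℕ, 1 ≤ n ∧ Nonempty (G ≃* (Fin n → N)) := by
  classical
  obtain ⟨N, ⟨hNn, hN1⟩, hmin⟩ := Set.Finite.exists_minimalFor (fun N : Subgroup G => Nat.card N)
    {N | N.Normal ∧ N ≠ ⊥} (Set.toFinite _) ⟨⊤, inferInstance, top_ne_bot⟩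
  replace hmin : ∀ L : Subgroup G, L.Normal → L ≠ ⊥ → Nat.card N ≤ Nat.card L := fun L h1 h2 =>
    (le_total (Nat.card N) (Nat.card L)).elim id fun h => hmin (j := L) ⟨h1, h2⟩ h
  let 𝒦 : Set (Subgroup G) :=
    {K | K.Normal ∧ ∃ n : ℕ, ∃ f : (Fin n → N) →* G, Function.Injective f ∧ f.range = K}
  have hbot : (⊥ : Subgroup G) ∈ 𝒦 := ⟨inferInstance, 0, 1, fun x y _ => funext fun i => i.elim0, MonoidHom.range_one⟩
  obtain ⟨K, ⟨hKn, n, f, hf, hfK⟩, hmax⟩ := Set.Finite.exists_maximalFor (fun K : Subgroup G => Nat.card K) 𝒦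
    (Set.toFinite _) ⟨⊥, hbot⟩
  haveI := hKn
  have hle : ∀ θ : G ≃* G, N.map θ.toMonoidHom ≤ K := by
    intro θ
    by_contra hnot
    set M := N.map θ.toMonoidHom with hM
    haveI : M.Normal := hNn.map _ θ.surjective
    have hdis : Disjoint K M := by
      rw [disjoint_iff]
      by_contra hne
      have h1 := hmin (K ⊓ M) inferInstance hne
      have h2 : Nat.card M = Nat.card N :=
        (Nat.card_congr (N.equivMapOfInjective _ θ.injective).toEquiv).symm
      exact hnot (Subgroup.eq_of_le_of_card_ge inf_le_right (h2.trans_le h1) ▸ inf_le_left)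
    have hcomm : ∀ x ∈ K, ∀ y ∈ M, Commute x y := fun x hx y hy =>
      Subgroup.commute_of_normal_of_disjoint K M hKn inferInstance hdis x y hx hy
    have hfm : ∀ x, f x ∈ K := fun x => hfK ▸ ⟨x, rfl⟩
    have hθm : ∀ y : N, θ y ∈ M := fun y => ⟨y, y.2, rfl⟩
    let g : (Fin (n + 1) → N) →* G :=
      { toFun := fun x => f (fun i => x i.succ) * θ (x 0)
        map_one' := by
          show f (fun _ => 1) * θ ((1 : N) : G) = 1
          rw [show (fun _ : Fin n => (1 : N)) = 1 from rfl, map_one, OneMemClass.coe_one, map_one, mul_one]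
        map_mul' := fun x y => by
          show f (fun i => x i.succ * y i.succ) * θ ((x 0 : G) * (y 0 : G)) = _
          rw [show (fun i : Fin n => x i.succ * y i.succ) = (fun i => x i.succ) * (fun i => y i.succ) from rfl,
            map_mul, map_mul]
          exact (hcomm _ (hfm _) _ (hθm _)).mul_mul_mul_comm _ _ }
    have hinj : Function.Injective g := by
      rw [injective_iff_map_eq_one]
      intro x hx
      have h1 : f (fun i => x i.succ) = (θ (x 0 : G))⁻¹ := eq_inv_of_mul_eq_one_left hx
      have h2 : θ (x 0 : G) = 1 := Subgroup.mem_bot.1 (hdis.le_bot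
        ⟨by rw [← inv_inv (θ (x 0 : G)), ← h1]; exact K.inv_mem (hfm _), hθm _⟩)
      rw [h2, inv_one] at h1
      have h3 := (injective_iff_map_eq_one f).1 hf _ h1
      funext i
      refine Fin.cases ?_ (fun j => congrFun h3 j) i
      exact Subtype.ext (θ.map_eq_one_iff.1 h2)
    have hrange : g.range = K ⊔ M := by
      refine le_antisymm ?_ (sup_le ?_ ?_)
      · rintro _ ⟨x, rfl⟩
        exact mul_mem (Subgroup.mem_sup_left (hfm _)) (Subgroup.mem_sup_right (hθm _))
      · rw [← hfK]
        rintro _ ⟨x, rfl⟩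
        exact ⟨Fin.cons 1 x, by simp [g]⟩
      · rintro _ ⟨y, hy, rfl⟩
        refine ⟨Fin.cons ⟨y, hy⟩ 1, ?_⟩
        show f (fun i => (Fin.cons (⟨y, hy⟩ : N) (1 : Fin n → N) : Fin (n + 1) → N) i.succ) * θ _ = θ.toMonoidHom y
        simp only [Fin.cons_succ, Fin.cons_zero, Pi.one_apply]
        rw [show (fun _ : Fin n => (1 : N)) = 1 from rfl, map_one, one_mul]
        rfl
    have hmem : K ⊔ M ∈ 𝒦 := ⟨inferInstance, n + 1, g, hinj, hrange⟩
    exact hnot (Subgroup.eq_of_le_of_card_ge le_sup_left (hmax hmem (Subgroup.card_le_of_le le_sup_left)) ▸ le_sup_right)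
  let T : Subgroup G := ⨆ θ : G ≃* G, N.map θ.toMonoidHom
  have hT : T = ⊤ := by
    refine (hc T ?_).resolve_left fun h => hN1 ?_
    · rw [Subgroup.characteristic_iff_map_le]
      intro φ
      rw [Subgroup.map_iSup, iSup_le_iff]
      intro θ
      rw [Subgroup.map_map]
      exact le_iSup (fun θ : G ≃* G => N.map θ.toMonoidHom) (θ.trans φ)
    · rw [eq_bot_iff, ← h]
      exact le_trans (le_of_eq (Subgroup.map_id N).symm) (le_iSup (fun θ : G ≃* G => N.map θ.toMonoidHom) (MulEquiv.refl G))
  have hK : K = ⊤ := top_le_iff.1 (hT ▸ iSup_le hle)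
  have hsurj : Function.Surjective f := MonoidHom.range_eq_top.1 (hfK.trans hK)
  let e : (Fin n → N) ≃* G := MulEquiv.ofBijective f ⟨hf, hsurj⟩
  have hn : 1 ≤ n := by
    by_contra h
    obtain rfl : n = 0 := by omega
    obtain ⟨x, hx⟩ := exists_ne (1 : G)
    obtain ⟨y, rfl⟩ := hsurj x
    exact hx (by rw [Subsingleton.elim y 1, map_one])
  haveI : Nontrivial N := (Subgroup.nontrivial_iff_ne_bot N).2 hN1
  refine ⟨N, ⟨fun L hL => ?_⟩, n, hn, ⟨e.symm⟩⟩
  by_contra hLne
  push Not at hLne
  let i₀ : Fin n := ⟨0, hn⟩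
  let ι : N →* (Fin n → N) := MonoidHom.mulSingle (fun _ : Fin n => N) i₀
  haveI : (L.map (e.toMonoidHom.comp ι)).Normal := by
    refine ⟨fun m hm g => ?_⟩
    obtain ⟨l, hl, rfl⟩ := hm
    obtain ⟨y, rfl⟩ := hsurj g
    refine ⟨y i₀ * l * (y i₀)⁻¹, hL.conj_mem l hl _, ?_⟩
    show f (Pi.mulSingle i₀ _) = f y * f (Pi.mulSingle i₀ l) * (f y)⁻¹
    rw [← map_inv, ← map_mul, ← map_mul]
    congr 1
    funext j
    by_cases hj : j = i₀
    · subst hj; simp
    · simp [hj]
  have hinj' : Function.Injective (e.toMonoidHom.comp ι) := e.injective.comp (Pi.mulSingle_injective (M := fun _ : Fin n => N) i₀)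
  have hne : L.map (e.toMonoidHom.comp ι) ≠ ⊥ := by
    rw [Ne, Subgroup.map_eq_bot_iff_of_injective _ hinj']; exact hLne.1
  have h1 := hmin _ inferInstance hne
  rw [← Nat.card_congr (L.equivMapOfInjective _ hinj').toEquiv] at h1
  exact hLne.2 (Subgroup.eq_top_of_card_eq L (le_antisymm (Subgroup.card_le_card_group L) h1))

theorem pow_charSimple {S : Type*} [Group S] [IsSimpleGroup S] {n : ℕ} (H : Subgroup (Fin n → S))
    (hH : H.Characteristic) : H = ⊥ ∨ H = ⊤ := by
  classical
  haveI := hH
  refine or_iff_not_imp_left.2 fun hne => ?_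
  have hmap : ∀ φ : (Fin n → S) ≃* (Fin n → S), ∀ x ∈ H, φ x ∈ H := fun φ x hx =>
    (Subgroup.characteristic_iff_map_le.1 hH φ) ⟨x, hx, rfl⟩
  obtain ⟨j, s, hs, hsH⟩ : ∃ j s, s ≠ 1 ∧ Pi.mulSingle (M := fun _ : Fin n => S) j s ∈ H := by
    obtain ⟨h, hh, hh1⟩ := H.bot_or_exists_ne_one.resolve_left hne
    obtain ⟨i, hi⟩ : ∃ i, h i ≠ 1 := by
      by_contra! hall
      exact hh1 (funext hall)
    by_cases hcom : ∀ x y : S, x * y = y * x
    · by_cases hone : ∀ j, j = i
      · refine ⟨i, h i, hi, ?_⟩
        convert hh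
        funext j
        obtain rfl := hone j
        simp
      push Not at hone
      obtain ⟨j, hj⟩ := hone
      refine ⟨j, h i, hi, ?_⟩
      let φ : (Fin n → S) ≃* (Fin n → S) :=
        { toFun := fun x => x * Pi.mulSingle j (x i)
          invFun := fun x => x * Pi.mulSingle j (x i)⁻¹
          left_inv := fun x => by
            funext k
            by_cases hk : k = j
            · subst hk; simp [hj.symm]
            · simp [hk, hj.symm]
          right_inv := fun x => by
            funext k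
            by_cases hk : k = j
            · subst hk; simp [hj.symm]
            · simp [hk, hj.symm]
          map_mul' := fun x y => by
            funext k
            by_cases hk : k = j
            · subst hk
              simp only [Pi.mul_apply, Pi.mulSingle_eq_same]
              rw [mul_assoc (x k) (y k), ← mul_assoc (y k) (x i), hcom (y k) (x i)]
              simp only [mul_assoc]
            · simp [hk] }
      have := mul_mem (inv_mem hh) (hmap φ h hh)
      simpa [φ] using this
    · push Not at hcom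
      obtain ⟨x, y, hxy⟩ := hcom
      obtain ⟨t, ht⟩ : ∃ t, t * h i ≠ h i * t := by
        by_contra! hall
        have hc : h i ∈ Subgroup.center S := Subgroup.mem_center_iff.2 hall
        rcases Subgroup.Normal.eq_bot_or_eq_top (inferInstance : (Subgroup.center S).Normal) with e | e
        · rw [e, Subgroup.mem_bot] at hc; exact hi hc
        · exact hxy ((Subgroup.mem_center_iff.1 (e ▸ Subgroup.mem_top y)) x)
      refine ⟨i, t * h i * t⁻¹ * (h i)⁻¹, fun e => ht (mul_inv_eq_iff_eq_mul.1 (mul_inv_eq_one.1 e)), ?_⟩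
      have := mul_mem ((inferInstance : H.Normal).conj_mem h hh (Pi.mulSingle i t)) (inv_mem hh)
      convert this using 1
      funext k
      by_cases hk : k = i
      · subst hk; simp
      · simp [hk]
  let L := H.comap (MonoidHom.mulSingle (fun _ : Fin n => S) j)
  haveI : L.Normal := (inferInstance : H.Normal).comap _
  have hL : L = ⊤ := (Subgroup.Normal.eq_bot_or_eq_top ‹L.Normal›).resolve_left fun e =>
    hs (Subgroup.mem_bot.1 (e ▸ (hsH : s ∈ L)))
  refine eq_top_iff.2 fun x _ => Subgroup.pi_mem_of_mulSingle_mem x fun k => ?_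
  have h1 : Pi.mulSingle (M := fun _ : Fin n => S) j (x k) ∈ H := (hL ▸ Subgroup.mem_top (x k) : x k ∈ L)
  let σ : (Fin n → S) ≃* (Fin n → S) :=
    { toFun := fun y => y ∘ Equiv.swap j k
      invFun := fun y => y ∘ Equiv.swap j k
      left_inv := fun y => funext fun i => by simp
      right_inv := fun y => funext fun i => by simp
      map_mul' := fun _ _ => rfl }
  have h2 := hmap σ _ h1
  convert h2 using 1
  funext i
  show _ = Pi.mulSingle (M := fun _ : Fin n => S) j (x k) (Equiv.swap j k i)
  by_cases hi : i = k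
  · subst hi; simp
  · rw [Pi.mulSingle_eq_of_ne hi, Pi.mulSingle_eq_of_ne]
    intro e
    exact hi (by rw [← Equiv.swap_apply_self j k i, e, Equiv.swap_apply_left])

end


/-- A non-trivial finite group G is characteristically simple (its only characteristic subgroups are 1 and G) if and only if G is isomorphic to a direct power S^n (n ≥ 1) of some simple group S (possibly cyclic of prime order). -/
theorem result {G : Type*} [Group G] [Finite G] [Nontrivial G] :
    (∀ H : Subgroup G, H.Characteristic → H = ⊥ ∨ H = ⊤) ↔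
    ∃ (S : Type) (_ : Group S) (_ : IsSimpleGroup S) (n : ℕ), 1 ≤ n ∧ Nonempty (G ≃* (Fin n → S)) := by
  classical
  constructor
  · intro hc
    obtain ⟨N, hN, n, hn, ⟨e⟩⟩ := decompose hc
    let q : N ≃ {i : ℕ // i < Nat.card N} := (Finite.equivFin N).trans Fin.equivSubtype
    letI grp : Group {i : ℕ // i < Nat.card N} := q.symm.group
    let me : N ≃* {i : ℕ // i < Nat.card N} := (q.symm.mulEquiv).symm
    haveI := hN
    exact ⟨{i : ℕ // i < Nat.card N}, grp, me.symm.isSimpleGroup, n, hn,
      ⟨e.trans (MulEquiv.piCongrRight fun _ => me)⟩⟩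
  · rintro ⟨S, _, _, n, -, ⟨e⟩⟩ H hH
    have hchar : (H.map e.toMonoidHom).Characteristic := by
      rw [Subgroup.characteristic_iff_map_le]
      intro φ
      rw [Subgroup.map_map]
      have h1 := Subgroup.characteristic_iff_map_le.1 hH ((e.trans φ).trans e.symm)
      rintro _ ⟨x, hx, rfl⟩
      exact ⟨_, h1 ⟨x, hx, rfl⟩, by simp⟩
    rcases pow_charSimple _ hchar with h | h
    · exact Or.inl ((Subgroup.map_eq_bot_iff_of_injective _ e.injective).1 h)
    · refine Or.inr (Subgroup.map_injective (f := e.toMonoidHom) e.injective ?_)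
      rw [h, Subgroup.map_top_of_surjective _ e.surjective]

end Cfsg.Agent.S5914
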