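import Cfsg.Statements.S5895
import Mathlib
import Cfsg.Agent.S5914

set_option autoImplicit false
open Cfsg

namespace Cfsg.Agent.S5895

section
variable {A : Type} [CommGroup A]

/-- `C` leaves only the two trivial subgroups invariant -/
def Irr (C : Subgroup (MulAut A)) : Prop :=
  ∀ W : Subgroup A, (∀ c ∈ C, ∀ w ∈ W, c w ∈ W) → W = ⊥ ∨ W = ⊤

/-- the subgroup of the semidirect product given by an invariant subgroup -/
def semi (C : Subgroup (MulAut A)) (H : Subgroup C) (W : Subgroup A) (hW : ∀ c ∈ H, ∀ w ∈ W, (c : MulAut A) w ∈ W) :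
    Subgroup (A ⋊[C.subtype] C) where
  carrier := {g | g.left ∈ W ∧ g.right ∈ H}
  one_mem' := ⟨one_mem W, one_mem H⟩
  mul_mem' := fun {g h} hg hh => ⟨mul_mem hg.1 (hW _ hg.2 _ hh.1), mul_mem hg.2 hh.2⟩
  inv_mem' := fun {g} hg => ⟨hW _ (inv_mem hg.2) _ (inv_mem hg.1), inv_mem hg.2⟩

theorem exists_example [Finite A] [Nontrivial A] (hA : ∀ W : Subgroup A, W.Characteristic → W = ⊥ ∨ W = ⊤)
    (h2 : ¬ Irr (⊥ : Subgroup (MulAut A))) :
    ∃ (G : Type) (_ : Group G) (_ : Finite G) (M H K : Subgroup G), IsCoatom M ∧ M.index = Nat.card A ∧ H ≤ M ∧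
      IsCoatom (H.subgroupOf M) ∧ IsCoatom K ∧ H ≤ K ∧ ¬ IsCoatom (H.subgroupOf K) := by
  classical
  haveI : Finite (MulAut A) := Finite.of_injective (fun e : MulAut A => (e : A → A)) DFunLike.coe_injective
  have htop : Irr (⊤ : Subgroup (MulAut A)) := fun W hW => hA W (Subgroup.characteristic_iff_map_le.2 fun φ => by
    rintro _ ⟨w, hw, rfl⟩; exact hW φ (Subgroup.mem_top _) w hw)
  obtain ⟨C, hC, hmin⟩ := Set.Finite.exists_minimalFor (fun C : Subgroup (MulAut A) => Nat.card C) {C | Irr C}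
    (Set.toFinite _) ⟨⊤, htop⟩
  have hC1 : C ≠ ⊥ := fun e => h2 (e ▸ hC)
  haveI : Nontrivial C := (Subgroup.nontrivial_iff_ne_bot C).2 hC1
  obtain ⟨H₀, hH₀, -⟩ := (IsCoatomic.eq_top_or_exists_le_coatom (⊥ : Subgroup C)).resolve_left bot_ne_top
  have hred : ¬ Irr (H₀.map C.subtype) := by
    intro h
    have hle : Nat.card ↥(H₀.map C.subtype) ≤ Nat.card C := Subgroup.card_le_of_le (Subgroup.map_subtype_le H₀)
    have h3 : Nat.card C ≤ Nat.card ↥(H₀.map C.subtype) := hmin h hle
    rw [← Nat.card_congr (H₀.equivMapOfInjective _ C.subtype_injective).toEquiv] at h3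
    exact hH₀.1 (Subgroup.eq_top_of_card_eq H₀ (le_antisymm (Subgroup.card_le_card_group H₀) h3))
  obtain ⟨W, hW, hW1, hW2⟩ : ∃ W : Subgroup A, (∀ c ∈ H₀.map C.subtype, ∀ w ∈ W, c w ∈ W) ∧ W ≠ ⊥ ∧ W ≠ ⊤ := by
    by_contra! h
    exact hred fun W hW => or_iff_not_imp_left.2 fun h1 => h W hW h1
  let G := A ⋊[C.subtype] C
  haveI : Finite G := Finite.of_equiv _ SemidirectProduct.equivProd.symm
  let M : Subgroup G := (SemidirectProduct.inr : C →* G).range
  let K : Subgroup G := H₀.comap SemidirectProduct.rightHom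
  let H : Subgroup G := H₀.map SemidirectProduct.inr
  have hMmem : ∀ g : G, g ∈ M ↔ g.left = 1 := fun g => by
    refine ⟨?_, fun h => ⟨g.right, SemidirectProduct.ext (by rw [h]; rfl) rfl⟩⟩
    rintro ⟨c, rfl⟩; rfl
  have hHmem : ∀ g : G, g ∈ H ↔ g.left = 1 ∧ g.right ∈ H₀ := fun g => by
    refine ⟨?_, fun h => ⟨g.right, h.2, SemidirectProduct.ext (by rw [h.1]; rfl) rfl⟩⟩
    rintro ⟨c, hc, rfl⟩; exact ⟨rfl, hc⟩
  have hMcard : Nat.card M = Nat.card C :=
    (Nat.card_congr (MonoidHom.ofInjective SemidirectProduct.inr_injective).toEquiv).symm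
  have hidx : M.index = Nat.card A := by
    have h := M.card_mul_index
    rw [SemidirectProduct.card, hMcard, mul_comm (Nat.card A)] at h
    exact Nat.eq_of_mul_eq_mul_left Nat.card_pos h
  refine ⟨G, inferInstance, inferInstance, M, H, K, ?_, hidx, ?_, ?_, ?_, ?_, ?_⟩
  · refine ⟨fun h => ?_, fun L hL => ?_⟩
    · obtain ⟨a, ha⟩ := exists_ne (1 : A)
      exact ha ((hMmem (SemidirectProduct.inl a)).1 (h ▸ Subgroup.mem_top _))
    · set W' := L.comap (SemidirectProduct.inl : A →* G) with hW'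
      have hinv : ∀ c ∈ C, ∀ w ∈ W', c w ∈ W' := by
        intro c hc w hw
        have hm : ∀ x : C, SemidirectProduct.inr x ∈ L := fun x => hL.le ⟨x, rfl⟩
        have e := SemidirectProduct.inl_aut (φ := C.subtype) ⟨c, hc⟩ w
        show SemidirectProduct.inl (C.subtype ⟨c, hc⟩ w) ∈ L
        rw [e]
        exact mul_mem (mul_mem (hm _) hw) (hm _)
      rcases hC W' hinv with h | h
      · exfalso
        obtain ⟨g, hg, hgM⟩ := SetLike.exists_of_lt hL
        have h1 : g.left ∈ W' := by
          show SemidirectProduct.inl g.left ∈ L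
          have : SemidirectProduct.inl g.left = g * (SemidirectProduct.inr g.right)⁻¹ := by
            rw [eq_mul_inv_iff_mul_eq, SemidirectProduct.inl_left_mul_inr_right]
          rw [this]
          exact mul_mem hg (inv_mem (hL.le ⟨_, rfl⟩))
        rw [h, Subgroup.mem_bot] at h1
        exact hgM ((hMmem g).2 h1)
      · rw [eq_top_iff]
        intro g _
        rw [← SemidirectProduct.inl_left_mul_inr_right g]
        exact mul_mem (show g.left ∈ W' from h ▸ Subgroup.mem_top _) (hL.le ⟨_, rfl⟩)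
  · rintro _ ⟨c, -, rfl⟩; exact ⟨c, rfl⟩
  · let e : C ≃* M := MonoidHom.ofInjective SemidirectProduct.inr_injective
    have he : H.subgroupOf M = H₀.map e.toMonoidHom := by
      ext x
      obtain ⟨c, rfl⟩ := e.surjective x
      rw [Subgroup.mem_subgroupOf, hHmem, Subgroup.mem_map_equiv, MulEquiv.symm_apply_apply]
      exact ⟨fun h => h.2, fun h => ⟨rfl, h⟩⟩
    rw [he]
    exact ((e.mapSubgroup).isCoatom_iff H₀).2 hH₀
  · refine ⟨fun h => hH₀.1 ?_, fun L hL => ?_⟩
    · rw [eq_top_iff]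
      intro c _
      exact (show (SemidirectProduct.inr c : G) ∈ K from h ▸ Subgroup.mem_top _)
    · have hker : (SemidirectProduct.rightHom : G →* C).ker ≤ L := le_trans (fun x hx => by
        show SemidirectProduct.rightHom x ∈ H₀
        rw [show SemidirectProduct.rightHom x = 1 from hx]; exact one_mem _) hL.le
      have hlt : H₀ < L.map SemidirectProduct.rightHom := by
        refine lt_of_le_of_ne ?_ fun e => hL.ne ?_
        · intro c hc
          exact ⟨SemidirectProduct.inr c, hL.le (by show SemidirectProduct.rightHom _ ∈ H₀; simpa using hc), by simp⟩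
        · show H₀.comap _ = L
          rw [e, Subgroup.comap_map_eq_self hker]
      have := hH₀.2 _ hlt
      rw [← Subgroup.comap_map_eq_self hker, this, Subgroup.comap_top]
  · rintro _ ⟨c, hc, rfl⟩
    exact hc
  · intro hco
    let U : Subgroup G := semi C H₀ W fun c hc w hw => hW _ ⟨c, hc, rfl⟩ w hw
    have hlt : H.subgroupOf K < U.subgroupOf K := by
      obtain ⟨w, hw, hw1⟩ := W.bot_or_exists_ne_one.resolve_left hW1
      refine lt_of_le_of_ne (fun x hx => ?_) fun e => hw1 ?_
      · rw [Subgroup.mem_subgroupOf, hHmem] at hx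
        exact ⟨by show (x : G).left ∈ W; rw [hx.1]; exact one_mem W, hx.2⟩
      · have hK : (SemidirectProduct.inl w : G) ∈ K := by
          show SemidirectProduct.rightHom _ ∈ H₀; simp
        have h1 : (⟨_, hK⟩ : K) ∈ U.subgroupOf K := ⟨hw, one_mem H₀⟩
        rw [← e, Subgroup.mem_subgroupOf, hHmem] at h1
        exact h1.1
    have h1 := hco.2 _ hlt
    obtain ⟨a, ha⟩ : ∃ a : A, a ∉ W := by
      by_contra! h; exact hW2 (eq_top_iff.2 fun a _ => h a)
    have hK : (SemidirectProduct.inl a : G) ∈ K := by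
      show SemidirectProduct.rightHom _ ∈ H₀; simp
    have h2 : (⟨_, hK⟩ : K) ∈ U.subgroupOf K := h1 ▸ Subgroup.mem_top _
    exact ha h2.1

end


/-- For every prime p and every d ≥ 2 there is a finite group G with a maximal subgroup M of index p^d and a maximal subgroup H of M that is not second maximal in G: some maximal subgroup K of G contains H without H being maximal in K. (One may take G the affine group V ⋊ GL(V) of V = 𝔽_p^d, M = GL(V), H the stabiliser in M of a line W of V, and K = V ⋊ H, with H < W ⋊ H < K.) So the prime-index hypothesis in the second-maximality criterion cannot be relaxed to prime-power index. -/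
theorem result (p d : ℕ) (hp : p.Prime)
    (hd : 2 ≤ d) :
    ∃ (G : Type) (_ : Group G) (_ : Finite G) (M H K : Subgroup G), IsCoatom M ∧ M.index = p ^ d ∧ H ≤ M ∧
      IsCoatom (H.subgroupOf M) ∧ IsCoatom K ∧ H ≤ K ∧ ¬ IsCoatom (H.subgroupOf K) := by
  classical
  haveI : Fact p.Prime := ⟨hp⟩
  let S := Multiplicative (ZMod p)
  haveI : IsSimpleGroup S := isSimpleGroup_of_prime_card (p := p) (by simp [S])
  let A := Fin d → S
  haveI : NeZero d := ⟨by omega⟩
  have hirr : ¬ Irr (⊥ : Subgroup (MulAut A)) := by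
    intro h
    let W : Subgroup A := (MonoidHom.mulSingle (fun _ : Fin d => S) (⟨0, by omega⟩ : Fin d)).range
    obtain ⟨s, hs⟩ := exists_ne (1 : S)
    rcases h W (fun c hc w hw => by rw [Subgroup.mem_bot.1 hc]; exact hw) with e | e
    · have : Pi.mulSingle (M := fun _ : Fin d => S) (⟨0, by omega⟩ : Fin d) s ∈ (⊥ : Subgroup A) := e ▸ ⟨s, rfl⟩
      exact hs (by simpa using Subgroup.mem_bot.1 this)
    · obtain ⟨t, ht⟩ := (e ▸ Subgroup.mem_top _ :
        Pi.mulSingle (M := fun _ : Fin d => S) (⟨1, by omega⟩ : Fin d) s ∈ W)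
      have := congrFun ht (⟨1, by omega⟩ : Fin d)
      simp [Fin.ext_iff] at this
      exact hs this.symm
  obtain ⟨G, i₁, i₂, M, H, K, h1, h2, h⟩ :=
    exists_example (A := A) (fun W hW => Agent.S5914.pow_charSimple W hW) hirr
  exact ⟨G, i₁, i₂, M, H, K, h1, h2.trans (by simp [A, S]), h⟩

end Cfsg.Agent.S5895
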